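import Mathlib

/-!
# Generic freeness: basic lemmas (helper28)

`FreeAt f M`: the module `M` becomes free after inverting `f`.
-/

set_option autoImplicit false
universe u v w

namespace Groth.Agent.Lib.Helper28.GenFree

open TensorProduct nonZeroDivisors

section FreeAt

variable {R : Type u} [CommRing R]

/-- `M` becomes free after inverting `f`. -/
def FreeAt (f : R) (M : Type v) [AddCommGroup M] [Module R M] : Prop :=
  Module.Free (Localization.Away f) (Localization.Away f ⊗[R] M)

variable {M : Type v} [AddCommGroup M] [Module R M] {N : Type w} [AddCommGroup N] [Module R N]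

lemma FreeAt.of_linearEquiv {f : R} (e : M ≃ₗ[R] N) (h : FreeAt f M) : FreeAt f N := by
  unfold FreeAt at h ⊢
  exact Module.Free.of_equiv
    (TensorProduct.AlgebraTensorModule.congr
      (LinearEquiv.refl (Localization.Away f) (Localization.Away f)) e)

lemma FreeAt.of_dvd {f g : R} (hfg : f ∣ g) (h : FreeAt f M) : FreeAt g M := by
  unfold FreeAt at h ⊢
  have hu : IsUnit (algebraMap R (Localization.Away g) f) :=
    isUnit_of_dvd_unit (map_dvd _ hfg) (IsLocalization.Away.algebraMap_isUnit g)
  let ψ : Localization.Away f →+* Localization.Away g := IsLocalization.Away.lift f hu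
  letI : Algebra (Localization.Away f) (Localization.Away g) := ψ.toAlgebra
  haveI : IsScalarTower R (Localization.Away f) (Localization.Away g) :=
    IsScalarTower.of_algebraMap_eq (fun r => (IsLocalization.Away.lift_eq f hu r).symm)
  exact Module.Free.of_equiv
    (TensorProduct.AlgebraTensorModule.cancelBaseChange R (Localization.Away f)
      (Localization.Away g) (Localization.Away g) M)

end FreeAt

section Torsion

variable {R : Type u} [CommRing R] [IsDomain R]

lemma away_isDomain {a : R} (ha : a ≠ 0) : IsDomain (Localization.Away a) :=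
  IsLocalization.isDomain_localization (powers_le_nonZeroDivisors_of_noZeroDivisors ha)

lemma away_algebraMap_ne_zero {a : R} (ha : a ≠ 0) {r : R} (hr : r ≠ 0) :
    algebraMap R (Localization.Away a) r ≠ 0 := by
  intro h
  apply hr
  apply IsLocalization.injective (Localization.Away a)
    (powers_le_nonZeroDivisors_of_noZeroDivisors ha)
  rw [h, map_zero]

variable {M' : Type v} [AddCommGroup M'] [Module R M'] {M : Type w} [AddCommGroup M] [Module R M]

lemma exists_smul_tmul_eq_zero (L : Type u) [CommRing L] [Algebra R L] (K : Submodule R M')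
    (htors : ∀ x ∈ K, ∃ r ∈ R⁰, r • x = 0) (w : L ⊗[R] K) : ∃ r ∈ R⁰, r • w = 0 := by
  induction w using TensorProduct.induction_on with
  | zero => exact ⟨1, one_mem _, smul_zero _⟩
  | tmul l k =>
    obtain ⟨r, hr, hrk⟩ := htors k k.2
    refine ⟨r, hr, ?_⟩
    have : r • k = 0 := Subtype.ext hrk
    rw [← TensorProduct.tmul_smul, this, TensorProduct.tmul_zero]
  | add x y hx hy =>
    obtain ⟨r, hr, hrx⟩ := hx
    obtain ⟨s, hs, hsy⟩ := hy
    refine ⟨r * s, mul_mem hr hs, ?_⟩
    rw [smul_add, mul_smul r s y, hsy, smul_zero, mul_comm, mul_smul, hrx, smul_zero, add_zero]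

/-- a surjection with torsion kernel out of a generically free module becomes bijective after
localization -/
lemma baseChange_bijective_of_torsion_ker {a : R} (ha : a ≠ 0) (σ : M' →ₗ[R] M)
    (hσ : Function.Surjective σ) (htors : ∀ x ∈ LinearMap.ker σ, ∃ r ∈ R⁰, r • x = 0)
    (hfree : FreeAt a M') : Function.Bijective (σ.baseChange (Localization.Away a)) := by
  unfold FreeAt at hfree
  have := away_isDomain ha
  constructor
  · rw [injective_iff_map_eq_zero]
    intro z hz
    have hex := lTensor_exact (Localization.Away a) (LinearMap.exact_subtype_ker_map σ) hσ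
    have hz' : (σ.lTensor (Localization.Away a)) z = 0 := hz
    obtain ⟨w, rfl⟩ := (hex z).1 hz'
    obtain ⟨r, hr, hrw⟩ := exists_smul_tmul_eq_zero (Localization.Away a) _ htors w
    have hr0 : r ≠ 0 := nonZeroDivisors.ne_zero hr
    have h1 : (algebraMap R (Localization.Away a) r) •
        ((LinearMap.ker σ).subtype.lTensor (Localization.Away a)) w = 0 := by
      rw [algebraMap_smul, ← map_smul, hrw, map_zero]
    exact (smul_eq_zero_iff_right (away_algebraMap_ne_zero ha hr0)).1 h1
  · exact LinearMap.lTensor_surjective _ hσ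

end Torsion

section Stable

variable (R : Type u) [CommRing R] [IsDomain R] (S' : Type u) [CommRing S'] [Algebra R S']

/-- the image in `S'` of the nonzero elements of `R` -/
abbrev pR : Submonoid S' := (nonZeroDivisors R).map (algebraMap R S')

variable {R S'}
variable {E : Type u} [AddCommGroup E] [Module S' E] [Module R E] [IsScalarTower R S' E]

lemma exists_smul_mem_of_localized_le (Q Q' : Submodule S' E)
    (h : Q.localized (pR R S') ≤ Q'.localized (pR R S')) (x : E) (hx : x ∈ Q) :
    ∃ r ∈ R⁰, r • x ∈ Q' := by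
  have h1 : LocalizedModule.mkLinearMap (pR R S') E x ∈ Q.localized (pR R S') :=
    ⟨x, hx, 1, IsLocalizedModule.mk'_one _ _ x⟩
  obtain ⟨m, hm, s, hms⟩ := h h1
  rw [IsLocalizedModule.mk'_eq_iff, Submonoid.smul_def, ← map_smul,
    IsLocalizedModule.eq_iff_exists (pR R S')] at hms
  obtain ⟨c, hc⟩ := hms
  obtain ⟨r, hr, hrcs⟩ := (c * s).2
  refine ⟨r, hr, ?_⟩
  have : r • x = c • m := by
    rw [← algebraMap_smul S' r x, hrcs, hc, Submonoid.coe_mul, mul_smul]
    rfl
  rw [this]
  exact Q'.smul_mem _ hm

variable [IsNoetherianRing (Localization (pR R S'))] [Module.Finite S' E]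

lemma exists_stable (Q : ℕ →o Submodule S' E) :
    ∃ i₀, ∀ i, i₀ ≤ i → ∀ x ∈ Q i, ∃ r ∈ R⁰, r • x ∈ Q i₀ := by
  have : IsNoetherian (Localization (pR R S')) (LocalizedModule (pR R S') E) :=
    isNoetherian_of_isNoetherianRing_of_finite _ _
  let W : ℕ →o Submodule (Localization (pR R S')) (LocalizedModule (pR R S') E) :=
    ⟨fun i => (Q i).localized (pR R S'), fun i k hik =>
      (Submodule.localized'gi (Localization (pR R S')) (pR R S')
        (LocalizedModule.mkLinearMap (pR R S') E)).gc.monotone_l (Q.monotone hik)⟩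
  obtain ⟨i₀, hi₀⟩ := monotone_stabilizes_iff_noetherian.2 inferInstance W
  refine ⟨i₀, fun i hi x hx => ?_⟩
  exact exists_smul_mem_of_localized_le (Q i) (Q i₀) (le_of_eq (hi₀ i hi).symm) x hx

lemma exists_fg_le (N : Submodule S' E) :
    ∃ N' : Submodule S' E, N' ≤ N ∧ N'.FG ∧ ∀ x ∈ N, ∃ r ∈ R⁰, r • x ∈ N' := by
  have : IsNoetherian (Localization (pR R S')) (LocalizedModule (pR R S') E) :=
    isNoetherian_of_isNoetherianRing_of_finite _ _
  have hfg : (N.localized' (Localization (pR R S')) (pR R S')
      (LocalizedModule.mkLinearMap (pR R S') E)).FG := IsNoetherian.noetherian _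
  rw [Submodule.localized'_eq_span, Submodule.fg_span_iff_fg_span_finset_subset] at hfg
  obtain ⟨t, ht, hspan⟩ := hfg
  classical
  have hch : ∀ y ∈ t, ∃ m ∈ N, LocalizedModule.mkLinearMap (pR R S') E m = y := by
    intro y hy
    obtain ⟨m, hm, rfl⟩ := ht hy
    exact ⟨m, hm, rfl⟩
  choose! c hcN hc using hch
  refine ⟨Submodule.span S' (t.image c : Set E), ?_, ?_, ?_⟩
  · rw [Submodule.span_le]
    intro m hm
    rw [Finset.coe_image] at hm
    obtain ⟨y, hy, rfl⟩ := hm
    exact hcN y hy
  · exact Submodule.fg_span (Finset.finite_toSet _)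
  · apply exists_smul_mem_of_localized_le
    show N.localized' (Localization (pR R S')) (pR R S')
      (LocalizedModule.mkLinearMap (pR R S') E) ≤ Submodule.localized' (Localization (pR R S'))
      (pR R S') (LocalizedModule.mkLinearMap (pR R S') E) _
    rw [Submodule.localized'_eq_span, hspan, Submodule.localized'_span]
    apply Submodule.span_mono
    intro y hy
    refine ⟨c y, ?_, hc y hy⟩
    rw [Finset.coe_image]
    exact ⟨y, hy, rfl⟩

end Stable

end Groth.Agent.Lib.Helper28.GenFree
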