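import Mathlib

/-!
# A module with an exhaustive filtration with free graded pieces is free (helper28)
-/

set_option autoImplicit false
universe u v w

namespace Groth.Agent.Lib.Helper28.GenFreeTower

open scoped Classical in
theorem free_of_tower {A : Type u} [CommRing A] {X : Type v} [AddCommGroup X] [Module A X]
    (G : ℕ → Submodule A X) (hmono : Monotone G) (hsup : ⨆ i, G i = ⊤)
    (h0 : Module.Free A (G 0))
    (Y : ℕ → Type w) [∀ i, AddCommGroup (Y i)] [∀ i, Module A (Y i)] [∀ i, Module.Free A (Y i)]
    (j : ∀ i, Y i →ₗ[A] X ⧸ G i) (hj : ∀ i, Function.Injective (j i))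
    (hrange : ∀ i, LinearMap.range (j i) = (G (i + 1)).map (G i).mkQ) :
    Module.Free A X := by
  have hlift : ∀ i, ∃ s : Y i →ₗ[A] X, (G i).mkQ ∘ₗ s = j i := fun i =>
    Module.projective_lifting_property (G i).mkQ (j i) (Submodule.mkQ_surjective _)
  choose s hs using hlift
  have hs' : ∀ i y, (G i).mkQ (s i y) = j i y := fun i y => LinearMap.congr_fun (hs i) y
  have hsG : ∀ i y, s i y ∈ G (i + 1) := by
    intro i y
    have h1 : j i y ∈ (G (i + 1)).map (G i).mkQ := by
      rw [← hrange]; exact ⟨y, rfl⟩
    obtain ⟨g, hg, hgy⟩ := h1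
    rw [← hs', Submodule.mkQ_apply, Submodule.mkQ_apply, Submodule.Quotient.eq] at hgy
    have h2 : g - s i y ∈ G (i + 1) := hmono (Nat.le_succ i) hgy
    have : s i y = g - (g - s i y) := by abel
    rw [this]
    exact sub_mem hg h2
  have hdisj : ∀ i y, s i y ∈ G i → y = 0 := by
    intro i y hy
    apply hj i
    rw [map_zero, ← hs', Submodule.mkQ_apply, Submodule.Quotient.mk_eq_zero]
    exact hy
  have hsum : ∀ i, ∀ g ∈ G (i + 1), ∃ y, g - s i y ∈ G i := by
    intro i g hg
    have h1 : (G i).mkQ g ∈ LinearMap.range (j i) := by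
      rw [hrange]; exact ⟨g, hg, rfl⟩
    obtain ⟨y, hy⟩ := h1
    refine ⟨y, ?_⟩
    rw [← Submodule.Quotient.mk_eq_zero, Submodule.Quotient.mk_sub, ← Submodule.mkQ_apply,
      ← Submodule.mkQ_apply, hs', hy, sub_self]
  let Ψ : (Π₀ i, Y i) →ₗ[A] X := DFinsupp.lsum ℕ (fun i => s i)
  let Φ : (G 0) × (Π₀ i, Y i) →ₗ[A] X := (G 0).subtype.coprod Ψ
  have hΨsingle : ∀ i y, Ψ (DFinsupp.single i y) = s i y := by
    intro i y
    simp [Ψ]
  -- surjectivity
  have hsurj : ∀ n, G n ≤ LinearMap.range Φ := by
    intro n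
    induction n with
    | zero =>
      intro g hg
      exact ⟨(⟨g, hg⟩, 0), by simp [Φ]⟩
    | succ n ih =>
      intro g hg
      obtain ⟨y, hy⟩ := hsum n g hg
      have h1 : g = (g - s n y) + s n y := by abel
      rw [h1]
      refine add_mem (ih hy) ⟨(0, DFinsupp.single n y), ?_⟩
      simp [Φ, hΨsingle]
  have hΦsurj : Function.Surjective Φ := by
    rw [← LinearMap.range_eq_top, eq_top_iff, ← hsup]
    exact iSup_le hsurj
  -- values of Ψ on bounded support
  have hΨmem : ∀ n (y : Π₀ i, Y i), (∀ i, n ≤ i → y i = 0) → Ψ y ∈ G n := by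
    intro n y hy
    have : Ψ y = y.sum (fun i yi => s i yi) := by
      simp [Ψ, DFinsupp.lsum_apply_apply, DFinsupp.sumAddHom_apply]
    rw [this]
    apply Submodule.sum_mem
    intro i hi
    have hin : i < n := by
      by_contra hcon
      have := hy i (not_lt.1 hcon)
      rw [DFinsupp.mem_support_iff] at hi
      exact hi this
    exact hmono (Nat.succ_le_of_lt hin) (hsG i (y i))
  have hinj : ∀ n (y : Π₀ i, Y i), (∀ i, n ≤ i → y i = 0) → Ψ y ∈ G 0 → y = 0 := by
    intro n
    induction n with
    | zero =>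
      intro y hy _
      ext i
      exact hy i (Nat.zero_le i)
    | succ n ih =>
      intro y hy hy0
      have hdecomp : y = DFinsupp.single n (y n) + y.erase n :=
        (DFinsupp.single_add_erase n y).symm
      have herase : ∀ i, n ≤ i → (y.erase n) i = 0 := by
        intro i hi
        rcases Nat.eq_or_lt_of_le hi with h | h
        · subst h; simp
        · rw [DFinsupp.erase_ne (Nat.ne_of_gt h)]
          exact hy i h
      have h1 : Ψ (y.erase n) ∈ G n := hΨmem n _ herase
      have h2 : s n (y n) ∈ G n := by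
        have : s n (y n) = Ψ y - Ψ (y.erase n) := by
          have h := congrArg Ψ hdecomp
          rw [map_add, hΨsingle] at h
          rw [h]
          abel
        rw [this]
        exact sub_mem (hmono (Nat.zero_le n) hy0) h1
      have h3 : y n = 0 := hdisj n _ h2
      have h4 : y = y.erase n := by
        conv_lhs => rw [hdecomp, h3, DFinsupp.single_zero, zero_add]
      rw [h4]
      apply ih _ herase
      rw [← h4]
      exact hy0
  have hΦinj : Function.Injective Φ := by
    rw [injective_iff_map_eq_zero]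
    rintro ⟨g, y⟩ hgy
    have h1 : (g : X) + Ψ y = 0 := by simpa [Φ] using hgy
    have h2 : Ψ y ∈ G 0 := by
      have : Ψ y = -(g : X) := eq_neg_of_add_eq_zero_right h1
      rw [this]
      exact neg_mem g.2
    obtain ⟨n, hn⟩ : ∃ n, ∀ i, n ≤ i → y i = 0 := by
      refine ⟨y.support.sup id + 1, ?_⟩
      intro i hi
      by_contra hne
      have : i ∈ y.support := DFinsupp.mem_support_iff.2 hne
      have := Finset.le_sup (f := id) this
      simp only [id] at this
      omega
    have hy : y = 0 := hinj n y hn h2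
    subst hy
    rw [map_zero, add_zero] at h1
    have : g = 0 := Subtype.ext h1
    rw [this]
    rfl
  exact Module.Free.of_equiv (LinearEquiv.ofBijective Φ ⟨hΦinj, hΦsurj⟩)

end Groth.Agent.Lib.Helper28.GenFreeTower
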