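import Mathlib
import Groth.Agent.Lib.Helper28.GenFreeBase
import Groth.Agent.Lib.Helper28.GenFreeTower

/-!
# Generic freeness: the inductive step (helper28)
-/

set_option autoImplicit false
universe u v w

namespace Groth.Agent.Lib.Helper28.GenFree

open TensorProduct nonZeroDivisors

section TF2

theorem free_of_tower' {A : Type u} [CommRing A] {X : Type v} [AddCommGroup X] [Module A X]
    (Z : ℕ → Type v) [∀ i, AddCommGroup (Z i)] [∀ i, Module A (Z i)]
    (π : ∀ i, X →ₗ[A] Z i) (hπ : ∀ i, Function.Surjective (π i))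
    (t : ∀ i, Z i →ₗ[A] Z (i + 1)) (ht : ∀ i, t i ∘ₗ π i = π (i + 1))
    (hsup : ⨆ i, LinearMap.ker (π i) = ⊤)
    (h0 : Module.Free A (LinearMap.ker (π 0)))
    (Y : ℕ → Type w) [∀ i, AddCommGroup (Y i)] [∀ i, Module A (Y i)] [∀ i, Module.Free A (Y i)]
    (k : ∀ i, Y i →ₗ[A] Z i) (hk : ∀ i, Function.Injective (k i))
    (hex : ∀ i, Function.Exact (k i) (t i)) : Module.Free A X := by
  have ht' : ∀ i x, t i (π i x) = π (i + 1) x := fun i x => LinearMap.congr_fun (ht i) x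
  let e : ∀ i, (X ⧸ LinearMap.ker (π i)) ≃ₗ[A] Z i := fun i =>
    (π i).quotKerEquivOfSurjective (hπ i)
  have he : ∀ i x, e i ((LinearMap.ker (π i)).mkQ x) = π i x := fun i x => rfl
  refine GenFreeTower.free_of_tower (fun i => LinearMap.ker (π i)) ?_ hsup h0 Y
    (fun i => (e i).symm.toLinearMap ∘ₗ k i) ?_ ?_
  · apply monotone_nat_of_le_succ
    intro i x hx
    rw [LinearMap.mem_ker] at hx ⊢
    rw [← ht', hx, map_zero]
  · intro i
    exact (e i).symm.injective.comp (hk i)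
  · intro i
    ext q
    obtain ⟨x, rfl⟩ := Submodule.mkQ_surjective _ q
    constructor
    · rintro ⟨y, hy⟩
      have h1 : k i y = π i x := by
        have := congrArg (e i) hy
        rw [LinearMap.comp_apply, LinearEquiv.coe_coe, LinearEquiv.apply_symm_apply, he] at this
        exact this
      refine ⟨x, ?_, rfl⟩
      rw [SetLike.mem_coe, LinearMap.mem_ker, ← ht', ← h1]
      exact (hex i (k i y)).2 ⟨y, rfl⟩
    · rintro ⟨g, hg, hgx⟩
      rw [SetLike.mem_coe, LinearMap.mem_ker, ← ht'] at hg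
      obtain ⟨y, hy⟩ := (hex i (π i g)).1 hg
      refine ⟨y, ?_⟩
      rw [LinearMap.comp_apply, hy, ← hgx, ← he, LinearEquiv.coe_coe, LinearEquiv.symm_apply_apply]

end TF2

section Step

variable {R : Type u} [CommRing R]
  {S' : Type u} [CommRing S'] [Algebra R S']
  {M : Type u} [AddCommGroup M] [Module S' M] [Module R M] [IsScalarTower R S' M]
  (φ : M →ₗ[S'] M) (M₀ : Submodule S' M)

/-- the filtration `F_i = M₀ + φ M₀ + ⋯ + φ^i M₀` -/
def Fil : ℕ → Submodule S' M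
  | 0 => M₀
  | (i + 1) => Fil i ⊔ M₀.map (φ ^ (i + 1))

lemma Fil_zero : Fil φ M₀ 0 = M₀ := rfl

lemma Fil_succ (i : ℕ) : Fil φ M₀ (i + 1) = Fil φ M₀ i ⊔ M₀.map (φ ^ (i + 1)) := rfl

lemma Fil_mono : Monotone (Fil φ M₀) := monotone_nat_of_le_succ (fun _ => le_sup_left)

lemma map_pow_le_Fil (i : ℕ) : M₀.map (φ ^ i) ≤ Fil φ M₀ i := by
  cases i with
  | zero =>
    rw [pow_zero, Fil_zero]
    intro x hx
    obtain ⟨y, hy, rfl⟩ := hx
    exact hy
  | succ i => exact le_sup_right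

lemma map_Fil_le (i : ℕ) : (Fil φ M₀ i).map φ ≤ Fil φ M₀ (i + 1) := by
  induction i with
  | zero =>
    rw [Fil_zero, Fil_succ, zero_add, pow_one]
    exact le_sup_right
  | succ i ih =>
    rw [Fil_succ φ M₀ i, Submodule.map_sup, Fil_succ φ M₀ (i + 1)]
    refine sup_le_sup ih ?_
    rw [← Submodule.map_comp, pow_succ' φ (i + 1)]
    rfl

/-- `m ↦ φ^{i+1} m mod F_i` on `M₀` -/
def nu (i : ℕ) : M₀ →ₗ[S'] M ⧸ Fil φ M₀ i :=
  (Fil φ M₀ i).mkQ ∘ₗ (φ ^ (i + 1)) ∘ₗ M₀.subtype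

/-- the kernel of `nu` -/
def Qs (i : ℕ) : Submodule S' M₀ := LinearMap.ker (nu φ M₀ i)

lemma mem_Qs (i : ℕ) (x : M₀) : x ∈ Qs φ M₀ i ↔ (φ ^ (i + 1)) (x : M) ∈ Fil φ M₀ i := by
  unfold Qs nu
  rw [LinearMap.mem_ker, LinearMap.comp_apply, LinearMap.comp_apply, Submodule.mkQ_apply,
    Submodule.Quotient.mk_eq_zero]
  rfl

lemma Qs_mono : Monotone (Qs φ M₀) := by
  apply monotone_nat_of_le_succ
  intro i x hx
  rw [mem_Qs] at hx ⊢
  rw [pow_succ' φ (i + 1)]
  exact map_Fil_le φ M₀ i ⟨_, hx, rfl⟩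

/-- the graded pieces -/
abbrev Ns (i : ℕ) : Type u := ↥M₀ ⧸ Qs φ M₀ i

/-- the embedding of the graded piece into `M / F_i` -/
def nubar (i : ℕ) : Ns φ M₀ i →ₗ[S'] M ⧸ Fil φ M₀ i :=
  (Qs φ M₀ i).liftQ (nu φ M₀ i) le_rfl

lemma nubar_mk (i : ℕ) (x : M₀) :
    nubar φ M₀ i ((Qs φ M₀ i).mkQ x) = (Fil φ M₀ i).mkQ ((φ ^ (i + 1)) (x : M)) := rfl

lemma nubar_injective (i : ℕ) : Function.Injective (nubar φ M₀ i) := by
  rw [← LinearMap.ker_eq_bot]
  exact Submodule.ker_liftQ_eq_bot _ _ _ le_rfl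

/-- the transition maps `M / F_i → M / F_{i+1}` -/
def tr (i : ℕ) : M ⧸ Fil φ M₀ i →ₗ[S'] M ⧸ Fil φ M₀ (i + 1) :=
  Submodule.factor (Fil_mono φ M₀ (Nat.le_succ i))

lemma tr_mk (i : ℕ) (m : M) :
    tr φ M₀ i ((Fil φ M₀ i).mkQ m) = (Fil φ M₀ (i + 1)).mkQ m := rfl

lemma tr_surjective (i : ℕ) : Function.Surjective (tr φ M₀ i) := by
  intro z
  obtain ⟨m, rfl⟩ := Submodule.mkQ_surjective _ z
  exact ⟨(Fil φ M₀ i).mkQ m, rfl⟩

lemma exact_nubar_tr (i : ℕ) : Function.Exact (nubar φ M₀ i) (tr φ M₀ i) := by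
  intro z
  obtain ⟨m, rfl⟩ := Submodule.mkQ_surjective _ z
  rw [tr_mk, Submodule.mkQ_apply, Submodule.Quotient.mk_eq_zero, Fil_succ, Submodule.mem_sup]
  constructor
  · rintro ⟨f, hf, g, ⟨m₀, hm₀, rfl⟩, rfl⟩
    refine ⟨(Qs φ M₀ i).mkQ ⟨m₀, hm₀⟩, ?_⟩
    rw [nubar_mk, Submodule.mkQ_apply, Submodule.mkQ_apply, Submodule.Quotient.eq]
    simp only [add_sub_cancel_right]
    have : (φ ^ (i + 1)) m₀ - (f + (φ ^ (i + 1)) m₀) = -f := by abel
    rw [this]
    exact neg_mem hf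
  · rintro ⟨y, hy⟩
    obtain ⟨x, rfl⟩ := Submodule.mkQ_surjective _ y
    rw [nubar_mk, Submodule.mkQ_apply, Submodule.mkQ_apply, Submodule.Quotient.eq] at hy
    refine ⟨m - (φ ^ (i + 1)) (x : M), ?_, (φ ^ (i + 1)) (x : M), ⟨x, x.2, rfl⟩, by abel⟩
    have : m - (φ ^ (i + 1)) (x : M) = -((φ ^ (i + 1)) (x : M) - m) := by abel
    rw [this]
    exact neg_mem hy

/-- assembling freeness of `M` from freeness of `M₀` and of the graded pieces -/
theorem assemble (hsup : ⨆ i, M₀.map (φ ^ i) = ⊤) (f : R) (hfreeM₀ : FreeAt f ↥M₀)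
    (hfreeN : ∀ i, FreeAt f (Ns φ M₀ i)) : FreeAt f M := by
  unfold FreeAt
  let L := Localization.Away f
  haveI : ∀ i, Module.Free L (L ⊗[R] Ns φ M₀ i) := hfreeN
  refine free_of_tower' (A := L) (X := L ⊗[R] M) (fun i => L ⊗[R] (M ⧸ Fil φ M₀ i))
    (fun i => ((Fil φ M₀ i).mkQ.restrictScalars R).baseChange L) ?_
    (fun i => ((tr φ M₀ i).restrictScalars R).baseChange L) ?_ ?_ ?_
    (fun i => L ⊗[R] Ns φ M₀ i)
    (fun i => ((nubar φ M₀ i).restrictScalars R).baseChange L) ?_ ?_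
  · intro i
    exact LinearMap.lTensor_surjective _ (Submodule.mkQ_surjective _)
  · intro i
    rw [← LinearMap.baseChange_comp]
    rfl
  · rw [eq_top_iff]
    intro z _
    induction z using TensorProduct.induction_on with
    | zero => exact zero_mem _
    | tmul l m =>
      have hm : m ∈ ⨆ i, Fil φ M₀ i := by
        have : (⨆ i, M₀.map (φ ^ i)) ≤ ⨆ i, Fil φ M₀ i :=
          iSup_mono (map_pow_le_Fil φ M₀)
        apply this
        rw [hsup]
        exact Submodule.mem_top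
      obtain ⟨i, hi⟩ := (Submodule.mem_iSup_of_directed _ (Fil_mono φ M₀).directed_le).1 hm
      refine Submodule.mem_iSup_of_mem i ?_
      rw [LinearMap.mem_ker, LinearMap.baseChange_tmul]
      have : ((Fil φ M₀ i).mkQ.restrictScalars R) m = 0 :=
        (Submodule.Quotient.mk_eq_zero _).2 hi
      rw [this, TensorProduct.tmul_zero]
    | add x y hx hy => exact add_mem (hx Submodule.mem_top) (hy Submodule.mem_top)
  · -- the kernel of the first projection is `L ⊗ M₀`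
    let ι₀ : L ⊗[R] ↥M₀ →ₗ[L] L ⊗[R] M := (M₀.subtype.restrictScalars R).baseChange L
    have hinj : Function.Injective ι₀ :=
      Module.Flat.lTensor_preserves_injective_linearMap (M := L)
        (M₀.subtype.restrictScalars R) (Submodule.subtype_injective _)
    have hex : Function.Exact ι₀ (((Fil φ M₀ 0).mkQ.restrictScalars R).baseChange L) := by
      have := lTensor_exact L (f := M₀.subtype.restrictScalars R)
        (g := (Fil φ M₀ 0).mkQ.restrictScalars R)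
        (LinearMap.exact_subtype_mkQ (Fil φ M₀ 0)) (Submodule.mkQ_surjective _)
      exact this
    have hker : LinearMap.ker (((Fil φ M₀ 0).mkQ.restrictScalars R).baseChange L) =
        LinearMap.range ι₀ := (LinearMap.exact_iff).1 hex
    unfold FreeAt at hfreeM₀
    rw [hker]
    exact Module.Free.of_equiv (LinearEquiv.ofInjective ι₀ hinj)
  · intro i
    exact Module.Flat.lTensor_preserves_injective_linearMap (M := L)
      ((nubar φ M₀ i).restrictScalars R) (nubar_injective φ M₀ i)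
  · intro i
    exact lTensor_exact L (f := (nubar φ M₀ i).restrictScalars R)
      (g := (tr φ M₀ i).restrictScalars R) (exact_nubar_tr φ M₀ i) (tr_surjective φ M₀ i)

theorem step [IsDomain R] [IsNoetherianRing (Localization (pR R S'))]
    (hM₀ : M₀.FG) (hsup : ⨆ i, M₀.map (φ ^ i) = ⊤)
    (IH : ∀ (N : Type u) [AddCommGroup N] [Module S' N] [Module R N] [IsScalarTower R S' N]
      [Module.Finite S' N], ∃ f : R, f ≠ 0 ∧ FreeAt f N) :
    ∃ f : R, f ≠ 0 ∧ FreeAt f M := by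
  haveI : Module.Finite S' ↥M₀ := Module.Finite.iff_fg.2 hM₀
  obtain ⟨i₀, hi₀⟩ := exists_stable (R := R) ⟨Qs φ M₀, Qs_mono φ M₀⟩
  obtain ⟨a₀, ha₀, hfree₀⟩ := IH ↥M₀
  choose a ha hfree using fun i => IH (Ns φ M₀ i)
  set f : R := a₀ * ∏ i ∈ Finset.range (i₀ + 1), a i with hf
  have hf0 : f ≠ 0 := mul_ne_zero ha₀ (Finset.prod_ne_zero_iff.2 (fun i _ => ha i))
  refine ⟨f, hf0, ?_⟩
  have hfreeM₀ : FreeAt f ↥M₀ := hfree₀.of_dvd (Dvd.intro _ rfl)
  have hfreeN : ∀ i, FreeAt f (Ns φ M₀ i) := by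
    intro i
    by_cases hi : i ≤ i₀
    · refine (hfree i).of_dvd (dvd_mul_of_dvd_right ?_ _)
      exact Finset.dvd_prod_of_mem _ (Finset.mem_range.2 (Nat.lt_succ_of_le hi))
    · have hi' : i₀ ≤ i := le_of_not_ge hi
      have h₀ : FreeAt f (Ns φ M₀ i₀) := by
        refine (hfree i₀).of_dvd (dvd_mul_of_dvd_right ?_ _)
        exact Finset.dvd_prod_of_mem _ (Finset.mem_range.2 (Nat.lt_succ_self i₀))
      let σ : Ns φ M₀ i₀ →ₗ[R] Ns φ M₀ i :=
        (Submodule.factor (Qs_mono φ M₀ hi')).restrictScalars R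
      have hσ : Function.Surjective σ := by
        intro z
        obtain ⟨x, rfl⟩ := Submodule.mkQ_surjective _ z
        exact ⟨(Qs φ M₀ i₀).mkQ x, rfl⟩
      have htors : ∀ z ∈ LinearMap.ker σ, ∃ r ∈ R⁰, r • z = 0 := by
        intro z hz
        obtain ⟨x, rfl⟩ := Submodule.mkQ_surjective _ z
        have hx : x ∈ Qs φ M₀ i := by
          rw [LinearMap.mem_ker] at hz
          exact (Submodule.Quotient.mk_eq_zero _).1 hz
        obtain ⟨r, hr, hrx⟩ := hi₀ i hi' x hx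
        refine ⟨r, hr, ?_⟩
        rw [← LinearMap.map_smul_of_tower, Submodule.mkQ_apply, Submodule.Quotient.mk_eq_zero]
        exact hrx
      have hbij := baseChange_bijective_of_torsion_ker hf0 σ hσ htors h₀
      unfold FreeAt at h₀ ⊢
      exact Module.Free.of_equiv (LinearEquiv.ofBijective _ hbij)
  exact assemble φ M₀ hsup f hfreeM₀ hfreeN

end Step

end Groth.Agent.Lib.Helper28.GenFree
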