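import Mathlib
import Groth.Agent.Lib.Helper28.GenFreeStep

/-!
# Generic freeness over an arbitrary domain (helper28)
-/

set_option autoImplicit false
universe u v w

namespace Groth.Agent.Lib.Helper28.GenFree

open TensorProduct nonZeroDivisors

section Conv

variable {R : Type u} [CommRing R] {M : Type v} [AddCommGroup M] [Module R M]

/-- comparison of the two forms of localisation -/
noncomputable def tensorEquivLocalized (r : R) :
    Localization.Away r ⊗[R] M ≃ₗ[Localization.Away r] LocalizedModule (Submonoid.powers r) M :=
  (LocalizedModule.isBaseChange (Submonoid.powers r) M).equiv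

lemma freeAt_iff_localizedModule (r : R) : FreeAt r M ↔
    Module.Free (Localization.Away r) (LocalizedModule (Submonoid.powers r) M) :=
  ⟨fun h => Module.Free.of_equiv' h (tensorEquivLocalized r),
   fun h => Module.Free.of_equiv' h (tensorEquivLocalized r).symm⟩

end Conv

section Cover

variable {R : Type u} [CommRing R] [IsDomain R] {S' : Type u} [CommRing S'] [Algebra R S']
  {M : Type u} [AddCommGroup M] [Module S' M] [Module R M] [IsScalarTower R S' M]

/-- a finite module is covered by a finitely presented one with torsion kernel -/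
lemma exists_fp_cover (hN : IsNoetherianRing (Localization (pR R S'))) [Module.Finite S' M] :
    ∃ (t : ℕ) (N' : Submodule S' (Fin t → S')) (σ : ((Fin t → S') ⧸ N') →ₗ[S'] M),
      N'.FG ∧ Function.Surjective σ ∧ ∀ z ∈ LinearMap.ker σ, ∃ r ∈ R⁰, r • z = 0 := by
  obtain ⟨t, π, hπ⟩ := Module.Finite.exists_fin' S' M
  obtain ⟨N', hN', hfg, htors⟩ := exists_fg_le (R := R) (LinearMap.ker π)
  refine ⟨t, N', N'.liftQ π hN', hfg, ?_, ?_⟩
  · intro m
    obtain ⟨x, rfl⟩ := hπ m
    exact ⟨N'.mkQ x, rfl⟩
  · intro z hz
    obtain ⟨x, rfl⟩ := Submodule.mkQ_surjective _ z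
    have hx : x ∈ LinearMap.ker π := hz
    obtain ⟨r, hr, hrx⟩ := htors x hx
    refine ⟨r, hr, ?_⟩
    rw [← LinearMap.map_smul_of_tower, Submodule.mkQ_apply, Submodule.Quotient.mk_eq_zero]
    exact hrx

end Cover

section Base

variable {R : Type u} [CommRing R] [IsDomain R]

lemma isNoetherianRing_pR_self : IsNoetherianRing (Localization (pR R R)) := by
  have h : pR R R = R⁰ := Submonoid.map_id _
  rw [h]
  infer_instance

/-- a finite module over a domain is generically free -/
theorem genFree_of_finite (M : Type u) [AddCommGroup M] [Module R M] [Module.Finite R M] :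
    ∃ f : R, f ≠ 0 ∧ FreeAt f M := by
  obtain ⟨t, N', σ, hfg, hσ, htors⟩ := exists_fp_cover (R := R) (S' := R) (M := M)
    isNoetherianRing_pR_self
  haveI : Module.FinitePresentation R ((Fin t → R) ⧸ N') :=
    Module.finitePresentation_of_free_of_surjective N'.mkQ (Submodule.mkQ_surjective _)
      (by rw [Submodule.ker_mkQ]; exact hfg)
  obtain ⟨r, hr, hfree, -⟩ := Module.FinitePresentation.exists_free_localizedModule_powers
    (R⁰) (LocalizedModule.mkLinearMap R⁰ ((Fin t → R) ⧸ N')) (FractionRing R)
  have hr0 : r ≠ 0 := nonZeroDivisors.ne_zero hr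
  have h1 : FreeAt r ((Fin t → R) ⧸ N') := (freeAt_iff_localizedModule r).2 hfree
  refine ⟨r, hr0, ?_⟩
  have hbij := baseChange_bijective_of_torsion_ker hr0 σ hσ htors h1
  unfold FreeAt at h1 ⊢
  exact Module.Free.of_equiv (LinearEquiv.ofBijective _ hbij)

end Base

section Poly

variable (R : Type u) [CommRing R] [IsDomain R]

attribute [local instance] MvPolynomial.algebraMvPolynomial

lemma isNoetherianRing_pR_mvPolynomial (σ : Type) [Finite σ] :
    IsNoetherianRing (Localization (pR R (MvPolynomial σ R))) := by
  have h : pR R (MvPolynomial σ R) = (R⁰).map (MvPolynomial.C (σ := σ)) := by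
    unfold pR
    rw [MvPolynomial.algebraMap_eq]
  rw [h]
  haveI := MvPolynomial.isLocalization (σ := σ) (R⁰) (FractionRing R)
  exact isNoetherianRing_of_ringEquiv (MvPolynomial σ (FractionRing R))
    (IsLocalization.algEquiv ((R⁰).map (MvPolynomial.C (σ := σ)))
      (Localization ((R⁰).map (MvPolynomial.C (σ := σ))))
      (MvPolynomial σ (FractionRing R))).symm.toRingEquiv

variable {R}

/-- **Generic freeness** for finite modules over a polynomial ring over a domain. -/
theorem genFree_mvPolynomial (n : ℕ) : ∀ (M : Type u) [AddCommGroup M]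
    [Module (MvPolynomial (Fin n) R) M] [Module R M]
    [IsScalarTower R (MvPolynomial (Fin n) R) M] [Module.Finite (MvPolynomial (Fin n) R) M],
    ∃ f : R, f ≠ 0 ∧ FreeAt f M := by
  induction n with
  | zero =>
    intro M _ _ _ _ _
    haveI : Module.Finite R (MvPolynomial (Fin 0) R) :=
      Module.Finite.equiv (MvPolynomial.isEmptyAlgEquiv R (Fin 0)).symm.toLinearEquiv
    haveI : Module.Finite R M := Module.Finite.trans (MvPolynomial (Fin 0) R) M
    exact genFree_of_finite M
  | succ n ih =>
    intro M _ _ _ _ _
    let P₁ := MvPolynomial (Fin (n + 1)) R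
    let ι : MvPolynomial (Fin n) R →ₐ[R] P₁ := MvPolynomial.rename Fin.castSucc
    letI : Module (MvPolynomial (Fin n) R) M := Module.compHom M (ι : MvPolynomial (Fin n) R →+* P₁)
    have hsm : ∀ (s : MvPolynomial (Fin n) R) (m : M), s • m = ι s • m := fun _ _ => rfl
    haveI : IsScalarTower R (MvPolynomial (Fin n) R) M := ⟨fun r s m => by
      rw [hsm, hsm, map_smul, smul_assoc]⟩
    let φ : M →ₗ[MvPolynomial (Fin n) R] M :=
      { toFun := fun m => (MvPolynomial.X (Fin.last n) : P₁) • m
        map_add' := fun _ _ => smul_add _ _ _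
        map_smul' := fun s m => by
          show (MvPolynomial.X (Fin.last n) : P₁) • (s • m) =
            s • ((MvPolynomial.X (Fin.last n) : P₁) • m)
          rw [hsm, hsm, smul_smul, smul_smul, mul_comm] }
    have hφ : ∀ m, φ m = (MvPolynomial.X (Fin.last n) : P₁) • m := fun _ => rfl
    obtain ⟨t, ht⟩ := (Module.Finite.fg_top : (⊤ : Submodule P₁ M).FG)
    let M₀ : Submodule (MvPolynomial (Fin n) R) M := Submodule.span _ (t : Set M)
    have hM₀ : M₀.FG := Submodule.fg_span (Finset.finite_toSet t)
    have hN := isNoetherianRing_pR_mvPolynomial R (Fin n)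
    refine step φ M₀ hM₀ ?_ (fun N _ _ _ _ _ => ih N)
    -- the images of `M₀` under the powers of `φ` span
    set Fi : Submodule (MvPolynomial (Fin n) R) M := ⨆ i, M₀.map (φ ^ i) with hFi
    have hφF : ∀ m ∈ Fi, φ m ∈ Fi := by
      intro m hm
      have : Fi.map φ ≤ Fi := by
        rw [hFi, Submodule.map_iSup]
        refine iSup_le (fun i => ?_)
        rw [← Submodule.map_comp]
        have : φ ∘ₗ (φ ^ i) = φ ^ (i + 1) := (pow_succ' φ i).symm
        rw [this]
        exact le_iSup (fun i => M₀.map (φ ^ i)) (i + 1)
      exact this ⟨m, hm, rfl⟩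
    have hclosed : ∀ (p : P₁) (m : M), m ∈ Fi → p • m ∈ Fi := by
      intro p
      induction p using MvPolynomial.induction_on with
      | C r =>
        intro m hm
        have : (MvPolynomial.C r : P₁) • m = (MvPolynomial.C r : MvPolynomial (Fin n) R) • m := by
          rw [hsm]
          congr 1
          exact (MvPolynomial.rename_C _ r).symm
        rw [this]
        exact Fi.smul_mem _ hm
      | add p q hp hq =>
        intro m hm
        rw [add_smul]
        exact add_mem (hp m hm) (hq m hm)
      | mul_X p k hp =>
        intro m hm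
        rw [mul_smul]
        apply hp
        rcases Fin.eq_castSucc_or_eq_last k with ⟨k', rfl⟩ | rfl
        · have : (MvPolynomial.X (Fin.castSucc k') : P₁) • m =
              (MvPolynomial.X k' : MvPolynomial (Fin n) R) • m := by
            rw [hsm]
            congr 1
            exact (MvPolynomial.rename_X _ k').symm
          rw [this]
          exact Fi.smul_mem _ hm
        · rw [← hφ]
          exact hφF m hm
    rw [eq_top_iff]
    intro m _
    have hm : m ∈ Submodule.span P₁ (t : Set M) := by rw [ht]; exact Submodule.mem_top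
    induction hm using Submodule.span_induction with
    | mem x hx =>
      have h0 : M₀ ≤ Fi := by
        have := le_iSup (fun i => M₀.map (φ ^ i)) 0
        rw [pow_zero] at this
        refine le_trans ?_ this
        intro y hy
        exact ⟨y, hy, rfl⟩
      exact h0 (Submodule.subset_span hx)
    | zero => exact zero_mem _
    | add x y _ _ hx hy => exact add_mem (hx Submodule.mem_top) (hy Submodule.mem_top)
    | smul p x _ hx => exact hclosed p x (hx Submodule.mem_top)

end Poly

end Groth.Agent.Lib.Helper28.GenFree
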