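import Mathlib
import Groth.Agent.Lib.Helper28.GenFreeMain

/-!
# Generic freeness for finite type algebras over a domain (helper28)

* `genFree_finiteType` : a finite module over a finite type algebra over a domain becomes free
  after inverting a nonzero element of the base.
* `genFree_fp` : it also becomes finitely presented.
* `genFree_algebra_fp` : the algebra becomes finitely presented.
-/

set_option autoImplicit false
universe u v w

namespace Groth.Agent.Lib.Helper28.GenFree

open TensorProduct nonZeroDivisors

section FT

variable {R : Type u} [CommRing R] [IsDomain R] {S : Type u} [CommRing S] [Algebra R S]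

lemma isNoetherianRing_pR_of_surjective {P : Type u} [CommRing P] [Algebra R P] (π : P →ₐ[R] S)
    (hπ : Function.Surjective π) (hP : IsNoetherianRing (Localization (pR R P))) :
    IsNoetherianRing (Localization (pR R S)) := by
  have hle : pR R P ≤ (pR R S).comap (π : P →+* S) := by
    rintro _ ⟨r, hr, rfl⟩
    exact ⟨r, hr, (π.commutes r).symm⟩
  refine isNoetherianRing_of_surjective _ _
    (IsLocalization.map (Localization (pR R S)) (π : P →+* S) hle :
      Localization (pR R P) →+* Localization (pR R S)) ?_
  intro z
  obtain ⟨s, d, rfl⟩ := IsLocalization.exists_mk'_eq (pR R S) z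
  obtain ⟨r, hr, hrd⟩ := d.2
  obtain ⟨p, rfl⟩ := hπ s
  refine ⟨IsLocalization.mk' _ p ⟨algebraMap R P r, Submonoid.mem_map.2 ⟨r, hr, rfl⟩⟩, ?_⟩
  rw [IsLocalization.map_mk']
  congr 1
  apply Subtype.ext
  show (π : P →+* S) (algebraMap R P r) = d
  rw [← hrd]
  exact π.commutes r

variable [Algebra.FiniteType R S]

lemma isNoetherianRing_pR_finiteType : IsNoetherianRing (Localization (pR R S)) := by
  obtain ⟨n, π, hπ⟩ := Algebra.FiniteType.iff_quotient_mvPolynomial''.1
    (inferInstance : Algebra.FiniteType R S)
  exact isNoetherianRing_pR_of_surjective π hπ (isNoetherianRing_pR_mvPolynomial R (Fin n))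

/-- **Generic freeness** for a finite module over a finite type algebra over a domain. -/
theorem genFree_finiteType (M : Type u) [AddCommGroup M] [Module S M] [Module R M]
    [IsScalarTower R S M] [Module.Finite S M] : ∃ f : R, f ≠ 0 ∧ FreeAt f M := by
  obtain ⟨n, π, hπ⟩ := Algebra.FiniteType.iff_quotient_mvPolynomial''.1
    (inferInstance : Algebra.FiniteType R S)
  letI : Module (MvPolynomial (Fin n) R) M := Module.compHom M (π : MvPolynomial (Fin n) R →+* S)
  have hsm : ∀ (p : MvPolynomial (Fin n) R) (m : M), p • m = π p • m := fun _ _ => rfl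
  haveI : IsScalarTower R (MvPolynomial (Fin n) R) M := ⟨fun r p m => by
    rw [hsm, hsm, map_smul, smul_assoc]⟩
  haveI : Module.Finite (MvPolynomial (Fin n) R) M := by
    obtain ⟨t, ht⟩ := (Module.Finite.fg_top : (⊤ : Submodule S M).FG)
    refine ⟨⟨t, ?_⟩⟩
    rw [eq_top_iff]
    intro m _
    have hm : m ∈ Submodule.span S (t : Set M) := by rw [ht]; exact Submodule.mem_top
    induction hm using Submodule.span_induction with
    | mem x hx => exact Submodule.subset_span hx
    | zero => exact zero_mem _
    | add x y _ _ hx hy => exact add_mem (hx Submodule.mem_top) (hy Submodule.mem_top)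
    | smul s x _ hx =>
      obtain ⟨p, rfl⟩ := hπ s
      rw [← hsm]
      exact Submodule.smul_mem _ _ (hx Submodule.mem_top)
  exact genFree_mvPolynomial n M

end FT

section FP

variable {R : Type u} [CommRing R] [IsDomain R] {S : Type u} [CommRing S] [Algebra R S]
  {M' : Type u} [AddCommGroup M'] [Module S M'] [Module R M'] [IsScalarTower R S M']
  {M : Type u} [AddCommGroup M] [Module S M] [Module R M] [IsScalarTower R S M]

/-- elements of the kernel of a map which becomes injective after inverting `f` are killed by a
power of `f` -/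
lemma exists_pow_smul_eq_zero_of_baseChange_injective (f : R) (σ : M' →ₗ[R] M)
    (hinj : Function.Injective (σ.baseChange (Localization.Away f))) (x : M') (hx : σ x = 0) :
    ∃ k : ℕ, f ^ k • x = 0 := by
  haveI : IsLocalizedModule (Submonoid.powers f)
      (TensorProduct.mk R (Localization.Away f) M' 1) :=
    (isLocalizedModule_iff_isBaseChange (Submonoid.powers f) (Localization.Away f) _).2
      (TensorProduct.isBaseChange R M' (Localization.Away f))
  have h1 : (1 : Localization.Away f) ⊗ₜ[R] x = 0 := by
    apply hinj
    rw [LinearMap.baseChange_tmul, hx, TensorProduct.tmul_zero, map_zero]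
  have h2 : TensorProduct.mk R (Localization.Away f) M' 1 x = 0 := h1
  rw [IsLocalizedModule.eq_zero_iff (Submonoid.powers f)] at h2
  obtain ⟨⟨_, k, rfl⟩, hc⟩ := h2
  exact ⟨k, hc⟩

/-- a module covered by a finitely presented generically free module with torsion kernel becomes
finitely presented after localisation -/
theorem fp_of_cover (σ : M' →ₗ[S] M) (hσ : Function.Surjective σ)
    (htors : ∀ z ∈ LinearMap.ker σ, ∃ r ∈ R⁰, r • z = 0) [Module.FinitePresentation S M']
    {f : R} (hf : f ≠ 0) (hfree : FreeAt f M') :
    Module.FinitePresentation (Localization.Away (algebraMap R S f))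
      (LocalizedModule (Submonoid.powers (algebraMap R S f)) M) := by
  have hbij := baseChange_bijective_of_torsion_ker hf (σ.restrictScalars R) hσ
    (fun z hz => htors z hz) hfree
  set g : S := algebraMap R S f with hg
  have hinj : Function.Injective (LocalizedModule.map (Submonoid.powers g) σ) := by
    rw [injective_iff_map_eq_zero]
    intro z hz
    induction z using LocalizedModule.induction_on with
    | h m d =>
      rw [LocalizedModule.map_mk, ← LocalizedModule.zero_mk d, LocalizedModule.mk_eq] at hz
      obtain ⟨⟨_, j, rfl⟩, hj⟩ := hz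
      simp only [smul_zero] at hj
      rw [Submonoid.smul_def, Submonoid.smul_def, smul_smul] at hj
      have h3 : σ ((g ^ j * (d : S)) • m) = 0 := by
        rw [map_smul]
        exact hj
      obtain ⟨k, hk⟩ := exists_pow_smul_eq_zero_of_baseChange_injective f (σ.restrictScalars R)
        hbij.1 _ h3
      rw [← LocalizedModule.zero_mk d, LocalizedModule.mk_eq]
      refine ⟨⟨g ^ (k + j), k + j, rfl⟩, ?_⟩
      simp only [smul_zero]
      rw [Submonoid.smul_def, Submonoid.smul_def, smul_smul]
      have : (f ^ k • ((g ^ j * (d : S)) • m)) = (g ^ (k + j) * (d : S)) • m := by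
        rw [← algebraMap_smul S (f ^ k), smul_smul, map_pow, ← hg, pow_add, mul_assoc]
      exact this.symm.trans hk
  have hsurj := LocalizedModule.map_surjective (Submonoid.powers g) σ hσ
  exact Module.FinitePresentation.of_equiv
    (LinearEquiv.ofBijective (LocalizedModule.map (Submonoid.powers g) σ) ⟨hinj, hsurj⟩)

variable [Algebra.FiniteType R S]

/-- **Generic freeness with finite presentation** for a finite module over a finite type algebra
over a domain. -/
theorem genFree_fp (M : Type u) [AddCommGroup M] [Module S M] [Module R M]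
    [IsScalarTower R S M] [Module.Finite S M] :
    ∃ f : R, f ≠ 0 ∧ ∀ g : R, f ∣ g → g ≠ 0 → FreeAt g M ∧
      Module.FinitePresentation (Localization.Away (algebraMap R S g))
        (LocalizedModule (Submonoid.powers (algebraMap R S g)) M) := by
  obtain ⟨t, N', σ, hfg, hσ, htors⟩ := exists_fp_cover (R := R) (S' := S) (M := M)
    isNoetherianRing_pR_finiteType
  haveI : Module.FinitePresentation S ((Fin t → S) ⧸ N') :=
    Module.finitePresentation_of_free_of_surjective N'.mkQ (Submodule.mkQ_surjective _)
      (by rw [Submodule.ker_mkQ]; exact hfg)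
  obtain ⟨f₁, hf₁, h₁⟩ := genFree_finiteType (R := R) (S := S) ((Fin t → S) ⧸ N')
  obtain ⟨f₂, hf₂, h₂⟩ := genFree_finiteType (R := R) (S := S) M
  refine ⟨f₁ * f₂, mul_ne_zero hf₁ hf₂, fun g hg hg0 => ⟨?_, ?_⟩⟩
  · exact h₂.of_dvd (dvd_trans (dvd_mul_left _ _) hg)
  · exact fp_of_cover σ hσ htors hg0 (h₁.of_dvd (dvd_trans (dvd_mul_right _ _) hg))

end FP

section AlgFP

variable {R : Type u} [CommRing R] [IsDomain R] {S : Type u} [CommRing S] [Algebra R S]
  [Algebra.FiniteType R S]

/-- a finite type algebra over a domain is covered by a finitely presented one with torsion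
kernel -/
lemma exists_algebra_fp_cover : ∃ (Q : Type u) (_ : CommRing Q) (_ : Algebra R Q)
    (_ : Algebra.FinitePresentation R Q) (σ : Q →ₐ[R] S), Function.Surjective σ ∧
    ∀ z : Q, σ z = 0 → ∃ r ∈ R⁰, r • z = 0 := by
  obtain ⟨n, π, hπ⟩ := Algebra.FiniteType.iff_quotient_mvPolynomial''.1
    (inferInstance : Algebra.FiniteType R S)
  haveI hN := isNoetherianRing_pR_mvPolynomial R (Fin n)
  obtain ⟨N', hN', hfg, htors⟩ := exists_fg_le (R := R) (S' := MvPolynomial (Fin n) R)
    (E := MvPolynomial (Fin n) R) (RingHom.ker (π : MvPolynomial (Fin n) R →+* S))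
  let I : Ideal (MvPolynomial (Fin n) R) := N'
  have hI : ∀ a ∈ I, π a = 0 := fun a ha => hN' ha
  refine ⟨MvPolynomial (Fin n) R ⧸ I, inferInstance, inferInstance,
    Algebra.FinitePresentation.quotient hfg, Ideal.Quotient.liftₐ I π hI, ?_, ?_⟩
  · intro s
    obtain ⟨p, rfl⟩ := hπ s
    exact ⟨Ideal.Quotient.mk I p, rfl⟩
  · intro z hz
    obtain ⟨p, rfl⟩ := Ideal.Quotient.mk_surjective z
    have hp : p ∈ RingHom.ker (π : MvPolynomial (Fin n) R →+* S) := hz
    obtain ⟨r, hr, hrp⟩ := htors p hp
    refine ⟨r, hr, ?_⟩
    have : r • Ideal.Quotient.mk I p = Ideal.Quotient.mk I (r • p) := rfl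
    rw [this]
    exact Ideal.Quotient.eq_zero_iff_mem.2 hrp

/-- **Generic finite presentation** of a finite type algebra over a domain. -/
theorem genFree_algebra_fp : ∃ f : R, f ≠ 0 ∧ ∀ g : R, f ∣ g → g ≠ 0 →
    Algebra.FinitePresentation (Localization.Away g) (Localization.Away g ⊗[R] S) := by
  obtain ⟨Q, _, _, _, σ, hσ, htors⟩ := exists_algebra_fp_cover (R := R) (S := S)
  obtain ⟨f, hf, hfree⟩ := genFree_finiteType (R := R) (S := Q) Q
  refine ⟨f, hf, fun g hg hg0 => ?_⟩
  have hbij := baseChange_bijective_of_torsion_ker hg0 σ.toLinearMap hσ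
    (fun z hz => htors z hz) (hfree.of_dvd hg)
  let τ : Localization.Away g ⊗[R] Q →ₐ[Localization.Away g] Localization.Away g ⊗[R] S :=
    Algebra.TensorProduct.map (AlgHom.id (Localization.Away g) (Localization.Away g)) σ
  have hτ : ∀ z, τ z = σ.toLinearMap.baseChange (Localization.Away g) z := by
    intro z
    induction z using TensorProduct.induction_on with
    | zero => simp
    | tmul l q => rfl
    | add x y hx hy => rw [map_add, map_add, hx, hy]
  have hτbij : Function.Bijective τ := by
    have : (τ : _ → _) = σ.toLinearMap.baseChange (Localization.Away g) := funext hτ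
    rw [this]
    exact hbij
  exact Algebra.FinitePresentation.equiv (AlgEquiv.ofBijective τ hτbij)

end AlgFP

end Groth.Agent.Lib.Helper28.GenFree
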