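import Mathlib
import Groth.Prelude.Def_FlatMod2
import Groth.Agent.Lib.Helper28.GenFreeFT
import Groth.Agent.Lib.Helper1.FlatAffine
import Groth.Agent.Lib.Helper3.SecLoc
import Groth.Agent.Lib.Helper3.QCProps

/-!
# Generic flatness for quasi-coherent modules of finite type (helper28)

`generic_flat_module`: `Y` integral, `u : X ⟶ Y` quasi-compact and locally of finite type,
`F` quasi-coherent of finite type on `X`.  Then `F` is flat over `Y` at all points over some
nonempty open of `Y`.
-/

set_option autoImplicit false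
universe u
open CategoryTheory CategoryTheory.Limits AlgebraicGeometry TensorProduct

namespace Groth.Agent.Lib.Helper28.GenFlatMod

open Groth.Agent.Lib.Helper28.GenFree

section alg

variable {R A M N : Type u} [CommRing R] [CommRing A] [Algebra R A]
  [AddCommGroup M] [Module R M] [Module A M] [IsScalarTower R A M]
  [AddCommGroup N] [Module R N] [Module A N] [IsScalarTower R A N]

/-- If `M` becomes free after inverting `f ∈ R`, then any localization of `M` away from the image
of `f` in an `R`-algebra `A` is flat over `R`. -/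
theorem flat_of_freeAt (f : R) (g : M →ₗ[A] N)
    [IsLocalizedModule (Submonoid.powers (algebraMap R A f)) g] (h : FreeAt f M) :
    Module.Flat R N := by
  haveI h1 : IsLocalizedModule (Submonoid.powers f) (g.restrictScalars R) :=
    IsLocalizedModule.restrictScalars_powers f g
  haveI h2 : IsLocalizedModule (Submonoid.powers f)
      (TensorProduct.mk R (Localization.Away f) M 1) :=
    (isLocalizedModule_iff_isBaseChange (Submonoid.powers f) (Localization.Away f) _).2
      (TensorProduct.isBaseChange R M (Localization.Away f))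
  haveI : Module.Free (Localization.Away f) (Localization.Away f ⊗[R] M) := h
  haveI : Module.Flat R (Localization.Away f) := IsLocalization.flat _ (Submonoid.powers f)
  haveI : Module.Flat R (Localization.Away f ⊗[R] M) :=
    Module.Flat.trans R (Localization.Away f) _
  exact Module.Flat.of_linearEquiv
    (IsLocalizedModule.linearEquiv (Submonoid.powers f)
      (g.restrictScalars R) (TensorProduct.mk R (Localization.Away f) M 1))

end alg

section geo

open Groth.Agent.Lib.Helper3 Groth.Agent.Lib.Helper1.FlatAffine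

variable {X Y : Scheme.{u}} (u : X ⟶ Y) (F : X.Modules) [F.IsQuasicoherent] [F.IsFiniteType]

/-- Generic flatness on one pair of affine charts. -/
theorem flat_chart [LocallyOfFiniteType u] {V : Y.Opens} (hV : IsAffineOpen V)
    [IsDomain Γ(Y, V)] {W : X.Opens} (hW : IsAffineOpen W) (e : W ≤ u ⁻¹ᵁ V) :
    ∃ f : Γ(Y, V), f ≠ 0 ∧ ∀ g : Γ(Y, V), f ∣ g → ∀ x ∈ W, u.base x ∈ Y.basicOpen g →
      FlatMod.IsFlatOverAt u F x := by
  letI a0 : Algebra Γ(Y, V) Γ(X, W) := (u.appLE V W e).hom.toAlgebra
  letI a1 : Module Γ(Y, V) Γ(F, W) := Module.compHom _ (u.appLE V W e).hom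
  haveI a2 : IsScalarTower Γ(Y, V) Γ(X, W) Γ(F, W) :=
    IsScalarTower.of_algebraMap_smul fun r n => rfl
  haveI a3 : Algebra.FiniteType Γ(Y, V) Γ(X, W) := u.finiteType_appLE hV hW e
  haveI a4 : Module.Finite Γ(X, W) Γ(F, W) := QCProps.finite_sections F hW
  obtain ⟨f, hf, hfree⟩ := genFree_finiteType (R := Γ(Y, V)) (S := Γ(X, W)) Γ(F, W)
  refine ⟨f, hf, fun g hfg x hxW hxg => ?_⟩
  have hfree' : FreeAt g Γ(F, W) := hfree.of_dvd hfg
  set gA : Γ(X, W) := (u.appLE V W e).hom g with hgA
  have hW' : IsAffineOpen (X.basicOpen gA) := hW.basicOpen gA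
  have hW'W : X.basicOpen gA ≤ W := X.basicOpen_le gA
  have e' : X.basicOpen gA ≤ u ⁻¹ᵁ V := hW'W.trans e
  have hxW' : x ∈ X.basicOpen gA := by
    rw [hgA, Scheme.basicOpen_appLE]
    exact ⟨hxW, hxg⟩
  refine (flat_sections_iff u F hW' hV e').1 ?_ x hxW'
  letI b1 : Module Γ(Y, V) Γ(F, X.basicOpen gA) := Module.compHom _ (u.appLE V _ e').hom
  letI b2 : Module Γ(X, W) Γ(F, X.basicOpen gA) := SecLoc.modBasicOpen F gA
  haveI b3 : IsScalarTower Γ(Y, V) Γ(X, W) Γ(F, X.basicOpen gA) := by
    refine IsScalarTower.of_algebraMap_smul fun r n => ?_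
    change (X.presheaf.map (homOfLE hW'W).op).hom ((u.appLE V W e).hom r) • n =
      (u.appLE V _ e').hom r • n
    congr 1
    rw [← Scheme.Hom.appLE_map u e (homOfLE hW'W).op]
    rfl
  haveI b4 := SecLoc.isLocalizedModule_resLin F hW gA
  exact flat_of_freeAt g (SecLoc.resLin F gA) hfree'

/-- **Generic flatness** for a quasi-coherent module of finite type along a quasi-compact morphism
locally of finite type to an integral scheme. -/
theorem generic_flat_module [IsIntegral Y] [LocallyOfFiniteType u] [QuasiCompact u] :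
    ∃ U : Y.Opens, (U : Set Y).Nonempty ∧
      ∀ x : X, u.base x ∈ U → FlatMod.IsFlatOverAt u F x := by
  obtain ⟨y⟩ : Nonempty Y := inferInstance
  obtain ⟨V, hV, hyV⟩ := QCProps.exists_affine_nbhd y
  haveI : Nonempty V := ⟨⟨y, hyV⟩⟩
  haveI : IsDomain Γ(Y, V) := inferInstance
  have hc : IsCompact ((u ⁻¹ᵁ V : X.Opens) : Set X) := u.isCompact_preimage hV.isCompact
  obtain ⟨ι, hι, W, hWa, hWV, hcov⟩ := QCSec.exists_finite_affine_cover (u ⁻¹ᵁ V) hc
  have key : ∀ i, ∃ f : Γ(Y, V), f ≠ 0 ∧ ∀ g : Γ(Y, V), f ∣ g → ∀ x ∈ W i,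
      u.base x ∈ Y.basicOpen g → FlatMod.IsFlatOverAt u F x :=
    fun i => flat_chart u F hV (hWa i) (hWV i)
  choose f hf0 hf using key
  haveI := Fintype.ofFinite ι
  set g : Γ(Y, V) := ∏ i, f i with hg
  have hg0 : g ≠ 0 := Finset.prod_ne_zero_iff.2 fun i _ => hf0 i
  refine ⟨Y.basicOpen g, ?_, fun x hx => ?_⟩
  · rw [Set.nonempty_iff_ne_empty]
    intro h
    apply hg0
    have h' : Y.basicOpen g = ⊥ := TopologicalSpace.Opens.ext h
    exact (AlgebraicGeometry.basicOpen_eq_bot_iff g).1 h'
  · have hxV : x ∈ u ⁻¹ᵁ V := Y.basicOpen_le g hx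
    obtain ⟨i, hi⟩ := TopologicalSpace.Opens.mem_iSup.1 (hcov hxV)
    exact hf i g (Finset.dvd_prod_of_mem f (Finset.mem_univ i)) x hi hx

end geo

end Groth.Agent.Lib.Helper28.GenFlatMod
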