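import Mathlib

/-!
# Support of a localized module, localization of kernels (helper28)
-/

set_option autoImplicit false

universe u v

namespace Groth.Agent.Lib.Helper28

section supp

variable {A : Type u} [CommRing A] {M : Type v} [AddCommGroup M] [Module A M]
  {N : Type v} [AddCommGroup N] [Module A N]

/-- `Q ∈ Supp_{A_p}(M_p)` iff `Q ∩ A ∈ Supp_A(M)`. -/
theorem mem_support_localizedModule_iff (p : Ideal A) [p.IsPrime]
    (Q : PrimeSpectrum (Localization.AtPrime p)) :
    Q ∈ Module.support (Localization.AtPrime p) (LocalizedModule p.primeCompl M) ↔
      PrimeSpectrum.comap (algebraMap A (Localization.AtPrime p)) Q ∈ Module.support A M := by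
  have hqp : ∀ t : A, t ∉ p → algebraMap A (Localization.AtPrime p) t ∉ Q.asIdeal := by
    intro t ht hmem
    have hu : IsUnit (algebraMap A (Localization.AtPrime p) t) :=
      IsLocalization.map_units (Localization.AtPrime p) (⟨t, ht⟩ : p.primeCompl)
    exact Q.2.ne_top (Ideal.eq_top_of_isUnit_mem _ hmem hu)
  rw [Module.mem_support_iff', Module.mem_support_iff']
  constructor
  · rintro ⟨x, hx⟩
    induction x using LocalizedModule.induction_on with
    | h m s =>
      refine ⟨m, fun r hr hrm => ?_⟩
      have hr' : algebraMap A (Localization.AtPrime p) r ∉ Q.asIdeal := hr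
      apply hx _ hr'
      rw [← Localization.mk_one_eq_algebraMap, LocalizedModule.mk_smul_mk, hrm,
        LocalizedModule.zero_mk]
  · rintro ⟨m, hm⟩
    refine ⟨LocalizedModule.mk m 1, fun r hr hrm => ?_⟩
    induction r using Localization.induction_on with
    | H as =>
      obtain ⟨a, s⟩ := as
      rw [LocalizedModule.mk_smul_mk, ← LocalizedModule.zero_mk (s * 1), LocalizedModule.mk_eq] at hrm
      obtain ⟨t, ht⟩ := hrm
      simp only [smul_zero] at ht
      have ha : algebraMap A (Localization.AtPrime p) a ∉ Q.asIdeal := by
        intro hmem
        apply hr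
        have : Localization.mk a s = Localization.mk 1 s * algebraMap A (Localization.AtPrime p) a := by
          rw [← Localization.mk_one_eq_algebraMap, Localization.mk_mul, one_mul, mul_one]
        rw [this]
        exact Ideal.mul_mem_left _ _ hmem
      have hts : algebraMap A (Localization.AtPrime p) ((t : A) * ((s * 1 : p.primeCompl) : A)) ∉
          Q.asIdeal := hqp _ (Submonoid.mul_mem _ t.2 (s * 1).2)
      have hprod : ((t : A) * ((s * 1 : p.primeCompl) : A)) * a ∉
          (PrimeSpectrum.comap (algebraMap A (Localization.AtPrime p)) Q).asIdeal := by
        intro hmem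
        change algebraMap A _ _ ∈ Q.asIdeal at hmem
        rw [map_mul] at hmem
        rcases Q.2.mem_or_mem hmem with h | h
        · exact hts h
        · exact ha h
      apply hm _ hprod
      rw [mul_smul, mul_smul]
      exact ht

/-- Inclusion of supports passes to the dimension of the support of the localizations. -/
theorem supportDim_localizedModule_le_of_support_subset (p : Ideal A) [p.IsPrime]
    (h : Module.support A M ⊆ Module.support A N) :
    Module.supportDim (Localization.AtPrime p) (LocalizedModule p.primeCompl M) ≤
      Module.supportDim (Localization.AtPrime p) (LocalizedModule p.primeCompl N) :=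
  Order.krullDim_le_of_strictMono
    (fun a => ⟨a.1, (mem_support_localizedModule_iff p a.1).mpr
      (h ((mem_support_localizedModule_iff p a.1).mp a.2))⟩)
    (fun {_ _} lt => lt)

end supp

section ker

variable {A : Type u} [CommRing A] {E0 E1 : Type v} [AddCommGroup E0] [Module A E0]
  [AddCommGroup E1] [Module A E1]

/-- Localization commutes with kernels, as an equivalence over the localized ring. -/
noncomputable def kerLocalizedEquiv (S : Submonoid A) (u : E0 →ₗ[A] E1) :
    LocalizedModule S (LinearMap.ker u) ≃ₗ[Localization S]
      LinearMap.ker (LocalizedModule.map S u) :=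
  (LinearEquiv.ofInjective (LocalizedModule.map S (LinearMap.ker u).subtype)
    (LocalizedModule.map_injective S _ (LinearMap.ker u).injective_subtype)).trans
  (LinearEquiv.ofEq _ _ (by
    have hex : Function.Exact (LocalizedModule.map S (LinearMap.ker u).subtype)
        (LocalizedModule.map S u) :=
      LocalizedModule.map_exact S _ _ (LinearMap.exact_subtype_ker_map u)
    exact (LinearMap.exact_iff.mp hex).symm))

end ker

end Groth.Agent.Lib.Helper28
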