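import Groth.Agent.Lib.Helper28.DepthLoc
import Groth.Agent.Lib.Helper28.SuppLoc

/-!
# (S_k) and depth for free modules; reflexive modules as kernels (helper28)
-/

set_option autoImplicit false

universe u

namespace Groth.Agent.Lib.Helper28

section basic

variable {A : Type u} [CommRing A] {M N : Type u} [AddCommGroup M] [Module A M]
  [AddCommGroup N] [Module A N]

/-- localization of a linear equivalence -/
noncomputable def localizedEquiv (S : Submonoid A) (e : M ≃ₗ[A] N) :
    LocalizedModule S M ≃ₗ[Localization S] LocalizedModule S N :=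
  IsLocalizedModule.mapEquiv S (LocalizedModule.mkLinearMap S M) (LocalizedModule.mkLinearMap S N)
    (Localization S) e

theorem hasSk_congr (k : ℕ) (e : M ≃ₗ[A] N) (h : LocCoh.HasSk k A M) : LocCoh.HasSk k A N := by
  intro p _
  have h1 := h p
  rw [Module.supportDim_eq_of_equiv (localizedEquiv p.primeCompl e)] at h1
  unfold LocCoh.depth at h1 ⊢
  rw [Groth.Agent.Lib.Helper28.idealDepth_congr (localizedEquiv p.primeCompl e)] at h1
  exact h1

theorem idealDepth_eq_top_of_subsingleton (I : Ideal A) [Subsingleton M] :
    LocCoh.idealDepth I M = ⊤ :=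
  Groth.Agent.Lib.Helper4.idealDepth_of_smul_top_eq I (Subsingleton.elim _ _)

end basic

section depthpi

variable {A : Type u} [CommRing A] [IsNoetherianRing A] (I : Ideal A) {M N : Type u}
  [AddCommGroup M] [Module A M] [Module.Finite A M] [AddCommGroup N] [Module A N]
  [Module.Finite A N]

theorem le_idealDepth_prod :
    min (LocCoh.idealDepth I M) (LocCoh.idealDepth I N) ≤ LocCoh.idealDepth I (M × N) :=
  (Groth.Agent.Lib.Helper4.idealDepth_shortExact I (LinearMap.inl A M N) (LinearMap.snd A M N)
    LinearMap.inl_injective LinearMap.snd_surjective Function.Exact.inl_snd).1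

theorem le_idealDepth_pi_fin (n : ℕ) :
    LocCoh.idealDepth I M ≤ LocCoh.idealDepth I (Fin n → M) := by
  induction n with
  | zero => rw [idealDepth_eq_top_of_subsingleton (M := Fin 0 → M)]; exact le_top
  | succ n ih =>
    rw [← Groth.Agent.Lib.Helper28.idealDepth_congr
      (Fin.consLinearEquiv A (fun _ : Fin n.succ => M)) I]
    exact le_trans (le_min le_rfl ih) (le_idealDepth_prod I)

/-- the `I`-depth of a finite free module is at least that of the ring -/
theorem le_idealDepth_of_free (E : Type u) [AddCommGroup E] [Module A E] [Module.Free A E]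
    [Module.Finite A E] : LocCoh.idealDepth I A ≤ LocCoh.idealDepth I E := by
  let e : E ≃ₗ[A] (Fin (Fintype.card (Module.Free.ChooseBasisIndex A E)) → A) :=
    (Module.Free.chooseBasis A E).equivFun.trans
      (LinearEquiv.funCongrLeft A A (Fintype.equivFin _).symm)
  rw [Groth.Agent.Lib.Helper28.idealDepth_congr e I]
  exact le_idealDepth_pi_fin I _

end depthpi

section skfree

variable {A : Type u} [CommRing A] [IsNoetherianRing A]

noncomputable def localizedSelfEquiv (S : Submonoid A) :
    LocalizedModule S A ≃ₗ[Localization S] Localization S :=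
  (IsLocalizedModule.iso S (Algebra.linearMap A (Localization S))).extendScalarsOfIsLocalization S
    (Localization S)

noncomputable def localizedPiEquiv (S : Submonoid A) (n : ℕ) :
    LocalizedModule S (Fin n → A) ≃ₗ[Localization S] (Fin n → Localization S) :=
  (IsLocalizedModule.iso S (LinearMap.pi fun i : Fin n =>
    Algebra.linearMap A (Localization S) ∘ₗ LinearMap.proj i)).extendScalarsOfIsLocalization S
    (Localization S)

theorem hasSk_pi_fin (k n : ℕ) (h : LocCoh.HasSk k A A) : LocCoh.HasSk k A (Fin n → A) := by
  intro p _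
  have h1 := h p
  have hsd : Module.supportDim (Localization.AtPrime p)
      (LocalizedModule p.primeCompl (Fin n → A)) ≤
      Module.supportDim (Localization.AtPrime p) (LocalizedModule p.primeCompl A) := by
    rw [Module.supportDim_eq_of_equiv (localizedSelfEquiv p.primeCompl),
      Module.supportDim_self_eq_ringKrullDim]
    exact Module.supportDim_le_ringKrullDim _ _
  have hd : LocCoh.depth (Localization.AtPrime p) (LocalizedModule p.primeCompl A) ≤
      LocCoh.depth (Localization.AtPrime p) (LocalizedModule p.primeCompl (Fin n → A)) := by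
    unfold LocCoh.depth
    rw [Groth.Agent.Lib.Helper28.idealDepth_congr (localizedSelfEquiv p.primeCompl),
      Groth.Agent.Lib.Helper28.idealDepth_congr (localizedPiEquiv p.primeCompl n)]
    exact le_idealDepth_pi_fin _ n
  exact le_trans (min_le_min le_rfl hsd) (le_trans h1 (WithBot.coe_le_coe.mpr hd))

theorem hasSk_of_free (k : ℕ) (E : Type u) [AddCommGroup E] [Module A E] [Module.Free A E]
    [Module.Finite A E] (h : LocCoh.HasSk k A A) : LocCoh.HasSk k A E := by
  let e : E ≃ₗ[A] (Fin (Fintype.card (Module.Free.ChooseBasisIndex A E)) → A) :=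
    (Module.Free.chooseBasis A E).equivFun.trans
      (LinearEquiv.funCongrLeft A A (Fintype.equivFin _).symm)
  exact hasSk_congr k e.symm (hasSk_pi_fin k _ h)

end skfree

section refl

variable {A : Type u} [CommRing A] [IsNoetherianRing A] (G : Type u) [AddCommGroup G] [Module A G]
  [Module.Finite A G] [Module.IsReflexive A G]

/-- A finite reflexive module over a Noetherian ring is the kernel of a map of finite free
modules (dualize a presentation of the dual). -/
theorem exists_exact_of_isReflexive :
    ∃ (n m : ℕ) (g : G →ₗ[A] (Fin n → A)) (h : (Fin n → A) →ₗ[A] (Fin m → A)),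
      Function.Injective g ∧ Function.Exact g h := by
  obtain ⟨n, π, hπ⟩ := Module.Finite.exists_fin' A (Module.Dual A G)
  obtain ⟨m, ρ, hρ⟩ := Module.Finite.exists_fin' A (LinearMap.ker π)
  let v : (Fin m → A) →ₗ[A] (Fin n → A) := (LinearMap.ker π).subtype ∘ₗ ρ
  have hv : LinearMap.range v = LinearMap.ker π := by
    rw [LinearMap.range_comp, LinearMap.range_eq_top.mpr hρ, Submodule.map_top,
      Submodule.range_subtype]
  classical
  let en : (Fin n → A) ≃ₗ[A] Module.Dual A (Fin n → A) := (Pi.basisFun A (Fin n)).toDualEquiv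
  let em : (Fin m → A) ≃ₗ[A] Module.Dual A (Fin m → A) := (Pi.basisFun A (Fin m)).toDualEquiv
  refine ⟨n, m, en.symm.toLinearMap ∘ₗ π.dualMap ∘ₗ (Module.evalEquiv A G).toLinearMap,
    em.symm.toLinearMap ∘ₗ v.dualMap ∘ₗ en.toLinearMap, ?_, ?_⟩
  · simp only [LinearMap.coe_comp, LinearEquiv.coe_coe]
    exact en.symm.injective.comp
      ((LinearMap.dualMap_injective_of_surjective hπ).comp (Module.evalEquiv A G).injective)
  · intro x
    simp only [LinearMap.coe_comp, LinearEquiv.coe_coe, Function.comp_apply, Set.mem_range]
    rw [LinearEquiv.map_eq_zero_iff em.symm]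
    have key : v.dualMap (en x) = 0 ↔ en x ∈ LinearMap.range π.dualMap := by
      rw [LinearMap.range_dualMap_eq_dualAnnihilator_ker_of_surjective π hπ, ← hv,
        ← LinearMap.ker_dualMap_eq_dualAnnihilator_range, LinearMap.mem_ker]
    rw [key]
    constructor
    · rintro ⟨φ, hφ⟩
      refine ⟨(Module.evalEquiv A G).symm φ, ?_⟩
      rw [LinearEquiv.apply_symm_apply, hφ, LinearEquiv.symm_apply_apply]
    · rintro ⟨y, rfl⟩
      rw [LinearEquiv.apply_symm_apply]
      exact ⟨_, rfl⟩

end refl

end Groth.Agent.Lib.Helper28
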