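import Groth.Agent.Lib.Helper4.Depth
import Mathlib

/-!
# Depth and localization (helper28), on top of `Groth.Agent.Lib.Helper4.Depth`
-/

set_option autoImplicit false

universe u v

open RingTheory.Sequence

namespace Groth.Agent.Lib.Helper28

open Groth.Agent.Lib.Helper4

section

variable {R : Type u} [CommRing R] [IsNoetherianRing R] {M : Type v} [AddCommGroup M] [Module R M]
  [Module.Finite R M]

theorem withBot_enat_zero_le_of_ne_bot {x : WithBot ℕ∞} (hx : x ≠ ⊥) : 0 ≤ x := by
  obtain ⟨y, rfl⟩ := WithBot.ne_bot_iff_exists.mp hx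
  exact WithBot.coe_le_coe.mpr zero_le

/-- Over a Noetherian local ring, the length of a regular sequence on a finite module is at most the
dimension of its support. -/
theorem length_le_supportDim_of_isRegular [IsLocalRing R] (rs : List R) (reg : IsRegular M rs) :
    (rs.length : WithBot ℕ∞) ≤ Module.supportDim R M := by
  have h := Module.supportDim_add_length_eq_supportDim_of_isRegular rs reg
  have hnt : Nontrivial (M ⧸ Ideal.ofList rs • (⊤ : Submodule R M)) :=
    reg.quot_ofList_smul_nontrivial ⊤
  have h0 : (0 : WithBot ℕ∞) ≤ Module.supportDim R (M ⧸ Ideal.ofList rs • (⊤ : Submodule R M)) :=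
    withBot_enat_zero_le_of_ne_bot (Module.supportDim_ne_bot_of_nontrivial R _)
  calc (rs.length : WithBot ℕ∞) = 0 + rs.length := by simp
    _ ≤ Module.supportDim R (M ⧸ Ideal.ofList rs • (⊤ : Submodule R M)) + rs.length := by gcongr
    _ = _ := h

/-- If `IM = M` then `M` vanishes at every prime containing `I`. -/
theorem subsingleton_localizedModule_of_smul_top_eq (I : Ideal R) (p : Ideal R) [p.IsPrime]
    (hIp : I ≤ p) (h : I • (⊤ : Submodule R M) = ⊤) :
    Subsingleton (LocalizedModule p.primeCompl M) := by
  obtain ⟨r, hr1, hr⟩ := Submodule.exists_sub_one_mem_and_smul_eq_zero_of_fg_of_le_smul I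
    (⊤ : Submodule R M) Module.Finite.fg_top (by rw [h])
  have hrp : r ∉ p := by
    intro hrp
    apply (Ideal.ne_top_iff_one p).mp (Ideal.IsPrime.ne_top ‹_›)
    have := p.sub_mem hrp (hIp hr1)
    simpa using this
  rw [LocalizedModule.subsingleton_iff]
  intro m
  exact ⟨r, hrp, hr m trivial⟩

/-- `depth_I M ≤ dim Supp M_p` for `p ∈ V(I) ∩ Supp M`. -/
theorem idealDepth_le_supportDim_localization (I : Ideal R) (p : Ideal R) [p.IsPrime] (hIp : I ≤ p)
    [Nontrivial (LocalizedModule p.primeCompl M)] :
    ((LocCoh.idealDepth I M : ℕ∞) : WithBot ℕ∞) ≤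
      Module.supportDim (Localization.AtPrime p) (LocalizedModule p.primeCompl M) := by
  have hIM : I • (⊤ : Submodule R M) ≠ ⊤ := by
    intro h
    have := subsingleton_localizedModule_of_smul_top_eq I p hIp h
    exact false_of_nontrivial_of_subsingleton (LocalizedModule p.primeCompl M)
  rw [idealDepth_of_smul_top_ne I hIM]
  obtain ⟨d, hd⟩ := WithBot.ne_bot_iff_exists.mp
    (Module.supportDim_ne_bot_of_nontrivial (Localization.AtPrime p)
      (LocalizedModule p.primeCompl M))
  rw [← hd, WithBot.coe_le_coe]
  refine iSup₂_le fun rs hrs => ?_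
  have reg' := hrs.1.isRegular_of_isLocalizedModule_of_mem (Localization.AtPrime p) p
    (LocalizedModule.mkLinearMap p.primeCompl M) (fun r hr => hIp (hrs.2 r hr))
  have := length_le_supportDim_of_isRegular _ reg'
  rw [List.length_map, ← hd] at this
  exact_mod_cast this

/-- `depth_I M ≤ depth M_p` for `p ∈ V(I) ∩ Supp M`. -/
theorem idealDepth_le_depth_localization (I : Ideal R) (p : Ideal R) [p.IsPrime] (hIp : I ≤ p)
    [Nontrivial (LocalizedModule p.primeCompl M)] :
    LocCoh.idealDepth I M ≤
      LocCoh.depth (Localization.AtPrime p) (LocalizedModule p.primeCompl M) := by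
  have hIM : I • (⊤ : Submodule R M) ≠ ⊤ := by
    intro h
    have := subsingleton_localizedModule_of_smul_top_eq I p hIp h
    exact false_of_nontrivial_of_subsingleton (LocalizedModule p.primeCompl M)
  rw [idealDepth_of_smul_top_ne I hIM]
  refine iSup₂_le fun rs hrs => ?_
  have reg' := hrs.1.isRegular_of_isLocalizedModule_of_mem (Localization.AtPrime p) p
    (LocalizedModule.mkLinearMap p.primeCompl M) (fun r hr => hIp (hrs.2 r hr))
  have := length_le_idealDepth (IsLocalRing.maximalIdeal (Localization.AtPrime p)) _
    reg'.toIsWeaklyRegular (by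
      intro r hr
      obtain ⟨a, ha, rfl⟩ := List.mem_map.mp hr
      rw [IsLocalization.AtPrime.to_map_mem_maximal_iff (Localization.AtPrime p) p]
      exact hIp (hrs.2 a ha))
  rwa [List.length_map] at this

/-- Over a Noetherian local ring, `depth M ≤ dim Supp M` for a nonzero finite module. -/
theorem depth_le_supportDim [IsLocalRing R] [Nontrivial M] :
    ((LocCoh.depth R M : ℕ∞) : WithBot ℕ∞) ≤ Module.supportDim R M := by
  have hIM : IsLocalRing.maximalIdeal R • (⊤ : Submodule R M) ≠ ⊤ := by
    intro h
    have := Submodule.eq_bot_of_le_smul_of_le_jacobson_bot (IsLocalRing.maximalIdeal R)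
      (⊤ : Submodule R M) Module.Finite.fg_top (by rw [h])
      (by rw [IsLocalRing.jacobson_eq_maximalIdeal ⊥ bot_ne_top])
    exact top_ne_bot this
  unfold LocCoh.depth
  rw [idealDepth_of_smul_top_ne _ hIM]
  obtain ⟨d, hd⟩ := WithBot.ne_bot_iff_exists.mp
    (Module.supportDim_ne_bot_of_nontrivial R M)
  rw [← hd, WithBot.coe_le_coe]
  refine iSup₂_le fun rs hrs => ?_
  have reg' : IsRegular M rs :=
    (IsLocalRing.isRegular_iff_isWeaklyRegular_of_subset_maximalIdeal hrs.2).mpr hrs.1
  have := length_le_supportDim_of_isRegular _ reg'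
  rw [← hd] at this
  exact_mod_cast this

end


section congr

variable {R : Type u} [CommRing R] {M M' : Type v} [AddCommGroup M] [Module R M]
  [AddCommGroup M'] [Module R M']

theorem smul_top_eq_top_congr (e : M ≃ₗ[R] M') (I : Ideal R) :
    I • (⊤ : Submodule R M) = ⊤ ↔ I • (⊤ : Submodule R M') = ⊤ := by
  have h : (I • (⊤ : Submodule R M)).map e.toLinearMap = I • (⊤ : Submodule R M') := by
    rw [Submodule.map_smul'', Submodule.map_top, LinearEquiv.range]
  constructor
  · intro h1
    rw [← h, h1, Submodule.map_top, LinearEquiv.range]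
  · intro h1
    apply Submodule.map_injective_of_injective e.injective
    rw [h, h1, Submodule.map_top, LinearEquiv.range]

/-- The `I`-depth is invariant under linear equivalences. -/
theorem idealDepth_congr (e : M ≃ₗ[R] M') (I : Ideal R) :
    LocCoh.idealDepth I M = LocCoh.idealDepth I M' := by
  by_cases h : I • (⊤ : Submodule R M) = ⊤
  · rw [idealDepth_of_smul_top_eq I h, idealDepth_of_smul_top_eq I ((smul_top_eq_top_congr e I).mp h)]
  · rw [idealDepth_of_smul_top_ne I h,
      idealDepth_of_smul_top_ne I (fun h' => h ((smul_top_eq_top_congr e I).mpr h'))]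
    congr 1
    funext rs
    rw [LinearEquiv.isWeaklyRegular_congr e rs]

end congr

section loc

variable {R : Type u} [CommRing R] [IsNoetherianRing R] {M : Type u} [AddCommGroup M] [Module R M]
  [Module.Finite R M]

/-- localization commutes with `M ↦ M / xM` -/
noncomputable def quotSMulTopLocalizedEquiv (p : Ideal R) [p.IsPrime] (x : R) :
    LocalizedModule p.primeCompl (QuotSMulTop x M) ≃ₗ[Localization.AtPrime p]
      QuotSMulTop (algebraMap R (Localization.AtPrime p) x) (LocalizedModule p.primeCompl M) :=
  ((IsLocalizedModule.isBaseChange p.primeCompl (Localization.AtPrime p)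
      (LocalizedModule.mkLinearMap p.primeCompl (QuotSMulTop x M))).equiv.symm ≪≫ₗ
    (QuotSMulTop.algebraMapTensorEquivTensorQuotSMulTop x M (Localization.AtPrime p)).symm) ≪≫ₗ
    QuotSMulTop.congr (algebraMap R (Localization.AtPrime p) x)
      (IsLocalizedModule.isBaseChange p.primeCompl (Localization.AtPrime p)
        (LocalizedModule.mkLinearMap p.primeCompl M)).equiv

theorem isSMulRegular_localizedModule (p : Ideal R) [p.IsPrime] {x : R} (hx : IsSMulRegular M x) :
    IsSMulRegular (LocalizedModule p.primeCompl M) (algebraMap R (Localization.AtPrime p) x) := by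
  have h1 : IsWeaklyRegular M [x] := (isWeaklyRegular_singleton_iff M x).mpr hx
  have h2 := h1.of_isLocalizedModule (Localization.AtPrime p) p.primeCompl
    (LocalizedModule.mkLinearMap p.primeCompl M)
  exact (isWeaklyRegular_singleton_iff _ _).mp h2

/-- the depth of `(M/xM)_p` is one less than that of `M_p` for `x ∈ p` regular on `M` -/
theorem depth_localization_quotSMulTop (p : Ideal R) [p.IsPrime] {x : R} (hxp : x ∈ p)
    (hx : IsSMulRegular M x) :
    LocCoh.depth (Localization.AtPrime p) (LocalizedModule p.primeCompl (QuotSMulTop x M)) + 1 =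
      LocCoh.depth (Localization.AtPrime p) (LocalizedModule p.primeCompl M) := by
  unfold LocCoh.depth
  rw [idealDepth_congr (quotSMulTopLocalizedEquiv p x)]
  refine idealDepth_quotSMulTop_add_one _ _ ?_ (isSMulRegular_localizedModule p hx)
  rw [← IsLocalization.mk'_one (M := p.primeCompl) (Localization.AtPrime p) x,
    IsLocalization.AtPrime.mk'_mem_maximal_iff (Localization.AtPrime p) p]
  exact hxp

theorem nontrivial_localizedModule_of_colon_eq (p : Ideal R) [p.IsPrime] (w : M)
    (hw : p = (⊥ : Submodule R M).colon {w}) : LocalizedModule.mk w (1 : p.primeCompl) ≠ 0 := by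
  intro h
  rw [← LocalizedModule.zero_mk (1 : p.primeCompl), LocalizedModule.mk_eq] at h
  obtain ⟨t, ht⟩ := h
  simp only [one_smul, smul_zero] at ht
  have key : ∀ r : R, r • w = 0 → r ∈ p := fun r hr => by
    rw [hw]; exact Submodule.mem_colon_singleton.mpr hr
  exact t.2 (key t ht)

/-- If `M_p` has positive depth at all primes `p ∈ V(I) ∩ Supp M`, then `I` contains an `M`-regular
element. -/
theorem exists_isSMulRegular_of_forall_localization (I : Ideal R)
    (h : ∀ (p : Ideal R) [p.IsPrime], I ≤ p → Nontrivial (LocalizedModule p.primeCompl M) →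
      1 ≤ LocCoh.depth (Localization.AtPrime p) (LocalizedModule p.primeCompl M)) :
    ∃ x ∈ I, IsSMulRegular M x := by
  by_contra hcon
  push Not at hcon
  have hns : ¬ Subsingleton ((R ⧸ I) →ₗ[R] M) := by
    rw [IsSMulRegular.subsingleton_linearMap_iff, Ideal.annihilator_quotient]
    rintro ⟨r, hr, hreg⟩
    exact hcon r hr hreg
  rw [not_subsingleton_iff_nontrivial] at hns
  obtain ⟨f, hf⟩ := exists_ne (0 : (R ⧸ I) →ₗ[R] M)
  have hz : f (Ideal.Quotient.mk I 1) ≠ 0 := by
    intro h0
    apply hf
    refine LinearMap.ext fun y => ?_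
    obtain ⟨a, rfl⟩ := Ideal.Quotient.mk_surjective y
    have : Ideal.Quotient.mk I a = a • Ideal.Quotient.mk I 1 := by
      rw [map_one, Algebra.smul_def, mul_one]; rfl
    rw [this, map_smul, h0, smul_zero, LinearMap.zero_apply]
  have hIz : ∀ a ∈ I, a • f (Ideal.Quotient.mk I 1) = 0 := by
    intro a ha
    rw [← map_smul]
    have : a • Ideal.Quotient.mk I 1 = 0 := by
      have : a • Ideal.Quotient.mk I 1 = Ideal.Quotient.mk I a := by
        rw [map_one, Algebra.smul_def, mul_one]; rfl
      rw [this]
      exact Ideal.Quotient.eq_zero_iff_mem.mpr ha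
    rw [this, map_zero]
  obtain ⟨P, hP, hle⟩ := exists_le_isAssociatedPrime_of_isNoetherianRing R _ hz
  obtain ⟨hPprime, w, hw⟩ := isAssociatedPrime_iff.mp hP
  have hIP : I ≤ P := fun a ha => hle (by rw [Submodule.mem_colon_singleton]; exact hIz a ha)
  have hne := nontrivial_localizedModule_of_colon_eq P w hw
  have hnt : Nontrivial (LocalizedModule P.primeCompl M) := ⟨⟨_, _, hne⟩⟩
  have hd := h P hIP hnt
  -- a regular element in the maximal ideal
  have hmM : IsLocalRing.maximalIdeal (Localization.AtPrime P) •
      (⊤ : Submodule (Localization.AtPrime P) (LocalizedModule P.primeCompl M)) ≠ ⊤ := by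
    intro h'
    have := Submodule.eq_bot_of_le_smul_of_le_jacobson_bot
      (IsLocalRing.maximalIdeal (Localization.AtPrime P))
      (⊤ : Submodule (Localization.AtPrime P) (LocalizedModule P.primeCompl M))
      Module.Finite.fg_top (by rw [h'])
      (by rw [IsLocalRing.jacobson_eq_maximalIdeal ⊥ bot_ne_top])
    exact top_ne_bot this
  obtain ⟨rs, hlen, hmem, hrs⟩ := exists_isWeaklyRegular_of_le_idealDepth _ hmM 1
    (by exact_mod_cast hd)
  match rs, hlen with
  | [r], _ =>
    have hreg : IsSMulRegular (LocalizedModule P.primeCompl M) r :=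
      (isWeaklyRegular_singleton_iff _ _).mp hrs
    have hrm : r ∈ IsLocalRing.maximalIdeal (Localization.AtPrime P) := hmem r (by simp)
    obtain ⟨⟨a, s⟩, rfl⟩ := IsLocalization.mk'_surjective P.primeCompl r
    rw [IsLocalization.AtPrime.mk'_mem_maximal_iff (Localization.AtPrime P) P] at hrm
    have h0 : IsLocalization.mk' (Localization.AtPrime P) a s •
        LocalizedModule.mk w (1 : P.primeCompl) = 0 := by
      rw [← Localization.mk_eq_mk', LocalizedModule.mk_smul_mk]
      have : a • w = 0 := by
        rw [hw, Submodule.mem_colon_singleton] at hrm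
        exact hrm
      rw [this, LocalizedModule.zero_mk]
    apply hne
    apply hreg
    simp only [h0, smul_zero]

/-- `depth_I M ≥ n` as soon as `depth M_p ≥ n` for all `p ∈ V(I) ∩ Supp M`. -/
theorem le_idealDepth_of_forall_localization (I : Ideal R) (n : ℕ)
    (h : ∀ (p : Ideal R) [p.IsPrime], I ≤ p → Nontrivial (LocalizedModule p.primeCompl M) →
      (n : ℕ∞) ≤ LocCoh.depth (Localization.AtPrime p) (LocalizedModule p.primeCompl M)) :
    (n : ℕ∞) ≤ LocCoh.idealDepth I M := by
  induction n generalizing M with
  | zero => simp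
  | succ n ih =>
    obtain ⟨x, hxI, hx⟩ := exists_isSMulRegular_of_forall_localization I (fun p _ hIp hnt =>
      le_trans (by exact_mod_cast Nat.succ_le_succ (Nat.zero_le n)) (h p hIp hnt))
    rw [← idealDepth_quotSMulTop_add_one I x hxI hx]
    have := ih (M := QuotSMulTop x M) (fun p _ hIp hnt => by
      have hntM : Nontrivial (LocalizedModule p.primeCompl M) := by
        by_contra hns
        rw [not_nontrivial_iff_subsingleton] at hns
        have : Subsingleton (LocalizedModule p.primeCompl (QuotSMulTop x M)) := by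
          rw [LocalizedModule.subsingleton_iff] at hns ⊢
          intro y
          obtain ⟨m, rfl⟩ := Submodule.Quotient.mk_surjective _ y
          obtain ⟨r, hr, hrm⟩ := hns m
          exact ⟨r, hr, by rw [← Submodule.Quotient.mk_smul, hrm, Submodule.Quotient.mk_zero]⟩
        exact false_of_nontrivial_of_subsingleton
          (LocalizedModule p.primeCompl (QuotSMulTop x M))
      have h1 := h p hIp hntM
      rw [← depth_localization_quotSMulTop p (hIp hxI) hx] at h1
      push_cast at h1
      exact (ENat.add_le_add_iff_right (by simp)).mp h1)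
    push_cast
    gcongr

end loc

end Groth.Agent.Lib.Helper28
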