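/-
Helper28 library (Takeuchi program, part 3): cancellation of (faithful) flatness along a
faithfully flat second map.
-/
import Mathlib

set_option autoImplicit false
universe u v w
open TensorProduct

namespace Groth.Agent.Lib.Helper28.TakCancel

section Module

variable (R : Type u) (S : Type v) (T : Type w) [CommRing R] [CommRing S] [CommRing T]
  [Algebra R S] [Algebra S T] [Algebra R T] [IsScalarTower R S T]

/-- If `T` is flat over `R` and faithfully flat over `S`, then `S` is flat over `R`. -/
theorem flat_of_flat_of_faithfullyFlat [Module.Flat R T] [Module.FaithfullyFlat S T] :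
    Module.Flat R S := by
  rw [Module.Flat.iff_lTensor_preserves_injective_linearMap]
  intro N P _ _ _ _ f hf
  have h1 : Function.Injective (LinearMap.lTensor T f) :=
    Module.Flat.lTensor_preserves_injective_linearMap f hf
  let f' : S ⊗[R] N →ₗ[S] S ⊗[R] P := TensorProduct.AlgebraTensorModule.map LinearMap.id f
  have h2 : Function.Injective (LinearMap.lTensor T f') := by
    have e : LinearMap.lTensor T f' =
        ((TensorProduct.AlgebraTensorModule.cancelBaseChange R S T T P).symm.toLinearMap.restrictScalars S) ∘ₗ
        ((TensorProduct.AlgebraTensorModule.map (LinearMap.id : T →ₗ[T] T) f).restrictScalars S) ∘ₗ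
        ((TensorProduct.AlgebraTensorModule.cancelBaseChange R S T T N).toLinearMap.restrictScalars S) := by
      ext t s n
      simp [f']
    rw [e]
    simp only [LinearMap.coe_comp, LinearMap.coe_restrictScalars, LinearEquiv.coe_coe]
    exact ((TensorProduct.AlgebraTensorModule.cancelBaseChange R S T T P).symm.injective.comp h1).comp
      (TensorProduct.AlgebraTensorModule.cancelBaseChange R S T T N).injective
  have h3 := (Module.FaithfullyFlat.lTensor_injective_iff_injective S T f').1 h2
  exact h3

/-- If `T` is faithfully flat over both `R` and `S`, then `S` is faithfully flat over `R`. -/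
theorem faithfullyFlat_of_faithfullyFlat [Module.FaithfullyFlat R T] [Module.FaithfullyFlat S T] :
    Module.FaithfullyFlat R S := by
  haveI : Module.Flat R S := flat_of_flat_of_faithfullyFlat R S T
  rw [Module.FaithfullyFlat.iff_flat_and_lTensor_reflects_triviality]
  refine ⟨inferInstance, fun N _ _ hN => ?_⟩
  haveI : Subsingleton (T ⊗[S] (S ⊗[R] N)) := inferInstance
  haveI : Subsingleton (T ⊗[R] N) :=
    (TensorProduct.AlgebraTensorModule.cancelBaseChange R S T T N).symm.subsingleton
  exact Module.FaithfullyFlat.lTensor_reflects_triviality R T N

end Module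

section RingHom

variable {R : Type u} {S : Type v} {T : Type w} [CommRing R] [CommRing S] [CommRing T]

theorem _root_.RingHom.Flat.of_comp_of_faithfullyFlat {f : R →+* S} {g : S →+* T}
    (h : (g.comp f).Flat) (hg : g.FaithfullyFlat) : f.Flat := by
  algebraize [f, g, g.comp f]
  exact flat_of_flat_of_faithfullyFlat R S T

theorem _root_.RingHom.FaithfullyFlat.of_comp_of_faithfullyFlat {f : R →+* S} {g : S →+* T}
    (h : (g.comp f).FaithfullyFlat) (hg : g.FaithfullyFlat) : f.FaithfullyFlat := by
  algebraize [f, g, g.comp f]
  exact faithfullyFlat_of_faithfullyFlat R S T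

end RingHom

end Groth.Agent.Lib.Helper28.TakCancel
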