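import Mathlib
import Groth.Agent.Lib.Helper28.GenFreeStep

/-!
# Generic freeness over an arbitrary base: basic notions (helper28)

We work over an arbitrary commutative ring `R`; "generic" means "after inverting some nonzero
multiple `f` of a given nonzero `g`".  Over a reduced ring the opens `D(f)` with `f ≠ 0` are exactly
the nonempty basic opens, so this gives statements on dense open subsets of `Spec R`.

* `GFG f K` : the submodule `K` is finitely generated up to `f`-power torsion.
* `GenNoeth R A` : generic noetherianity of the `R`-algebra `A`.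
* `GenFreeP R A` : generic freeness of finite `A`-modules.
-/

set_option autoImplicit false
universe u v w

namespace Groth.Agent.Lib.Helper28.GenRed

open TensorProduct
open Groth.Agent.Lib.Helper28.GenFree

section Defs

variable {R : Type u} [CommRing R]

/-- `K` is finitely generated up to `f`-power torsion -/
def GFG {A : Type u} [CommRing A] [Algebra R A] {E : Type u} [AddCommGroup E] [Module A E]
    [Module R E] [IsScalarTower R A E] (f : R) (K : Submodule A E) : Prop :=
  ∃ s : Finset E, (s : Set E) ⊆ K ∧ ∀ x ∈ K, ∃ k : ℕ, f ^ k • x ∈ Submodule.span A (s : Set E)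

lemma GFG.of_dvd {A : Type u} [CommRing A] [Algebra R A] {E : Type u} [AddCommGroup E]
    [Module A E] [Module R E] [IsScalarTower R A E] {f f' : R} {K : Submodule A E}
    (h : GFG f K) (hff' : f ∣ f') : GFG f' K := by
  obtain ⟨s, hs, hgen⟩ := h
  obtain ⟨c, rfl⟩ := hff'
  refine ⟨s, hs, fun x hx => ?_⟩
  obtain ⟨k, hk⟩ := hgen x hx
  refine ⟨k, ?_⟩
  rw [mul_pow, mul_comm, mul_smul]
  exact Submodule.smul_of_tower_mem _ _ hk

variable (R)

/-- generic noetherianity -/
def GenNoeth (A : Type u) [CommRing A] [Algebra R A] : Prop :=
  ∀ (E : Type u) [AddCommGroup E] [Module A E] [Module R E] [IsScalarTower R A E]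
    (E₀ K : Submodule A E), E₀.FG → K ≤ E₀ → ∀ g : R, g ≠ 0 → ∃ f : R, g ∣ f ∧ f ≠ 0 ∧ GFG f K

/-- generic freeness -/
def GenFreeP (A : Type u) [CommRing A] [Algebra R A] : Prop :=
  ∀ (M : Type u) [AddCommGroup M] [Module A M] [Module R M] [IsScalarTower R A M]
    [Module.Finite A M], ∀ g : R, g ≠ 0 → ∃ f : R, g ∣ f ∧ f ≠ 0 ∧ FreeAt f M

end Defs

section PowTorsion

variable {R : Type u} [CommRing R] {A : Type v} [AddCommGroup A] [Module R A]
  {B : Type w} [AddCommGroup B] [Module R B]

/-- a map whose kernel and cokernel are `f`-power torsion becomes bijective after inverting `f` -/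
lemma baseChange_bijective_of_pow_torsion (f : R) (ψ : A →ₗ[R] B)
    (hker : ∀ x, ψ x = 0 → ∃ k : ℕ, f ^ k • x = 0)
    (hcoker : ∀ b, ∃ k : ℕ, f ^ k • b ∈ LinearMap.range ψ) :
    Function.Bijective (ψ.baseChange (Localization.Away f)) := by
  have hunit : ∀ k : ℕ, IsUnit (algebraMap R (Localization.Away f) (f ^ k)) := fun k => by
    rw [map_pow]
    exact (IsLocalization.Away.algebraMap_isUnit f).pow k
  constructor
  · -- injectivity
    have h1 : Function.Injective (ψ.rangeRestrict.baseChange (Localization.Away f)) := by
      have hall : ∀ w : Localization.Away f ⊗[R] LinearMap.ker ψ.rangeRestrict, w = 0 := by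
        intro w
        induction w using TensorProduct.induction_on with
        | zero => rfl
        | tmul l k =>
          have hk : ψ (k : A) = 0 := by
            have := k.2
            rw [LinearMap.mem_ker] at this
            exact congrArg Subtype.val this
          obtain ⟨j, hj⟩ := hker _ hk
          have hj' : f ^ j • k = 0 := Subtype.ext hj
          obtain ⟨u, hu⟩ := hunit j
          have : l = (f ^ j) • ((u⁻¹ : (Localization.Away f)ˣ) * l : Localization.Away f) := by
            rw [Algebra.smul_def, ← hu, ← mul_assoc, Units.mul_inv, one_mul]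
          rw [this, TensorProduct.smul_tmul, hj', TensorProduct.tmul_zero]
        | add x y hx hy => rw [hx, hy, add_zero]
      rw [injective_iff_map_eq_zero]
      intro z hz
      have hex := lTensor_exact (Localization.Away f) (LinearMap.exact_subtype_ker_map
        ψ.rangeRestrict) ψ.surjective_rangeRestrict
      have hz' : (ψ.rangeRestrict.lTensor (Localization.Away f)) z = 0 := hz
      obtain ⟨w, rfl⟩ := (hex z).1 hz'
      have hw : w = 0 := hall w
      rw [hw, map_zero]
    have h2 : Function.Injective ((LinearMap.range ψ).subtype.baseChange (Localization.Away f)) :=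
      Module.Flat.lTensor_preserves_injective_linearMap _ (Submodule.injective_subtype _)
    have h3 : ψ.baseChange (Localization.Away f) =
        (LinearMap.range ψ).subtype.baseChange (Localization.Away f) ∘ₗ
          ψ.rangeRestrict.baseChange (Localization.Away f) := by
      rw [← LinearMap.baseChange_comp]
      congr 1
    rw [h3]
    exact h2.comp h1
  · -- surjectivity
    intro z
    induction z using TensorProduct.induction_on with
    | zero => exact ⟨0, map_zero _⟩
    | tmul l b =>
      obtain ⟨k, a, ha⟩ := hcoker b
      obtain ⟨u, hu⟩ := hunit k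
      refine ⟨((u⁻¹ : (Localization.Away f)ˣ) * l : Localization.Away f) ⊗ₜ a, ?_⟩
      rw [LinearMap.baseChange_tmul, ha, ← TensorProduct.smul_tmul, Algebra.smul_def, ← hu,
        ← mul_assoc, Units.mul_inv, one_mul]
    | add x y hx hy =>
      obtain ⟨x', rfl⟩ := hx
      obtain ⟨y', rfl⟩ := hy
      exact ⟨x' + y', map_add _ _ _⟩

end PowTorsion

end Groth.Agent.Lib.Helper28.GenRed
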