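import Mathlib
import Groth.Agent.Lib.Helper28.GenRedBase

/-!
# Generic freeness over an arbitrary base: the base case (helper28)
-/

set_option autoImplicit false
universe u v w

namespace Groth.Agent.Lib.Helper28.GenRed

open TensorProduct
open Groth.Agent.Lib.Helper28.GenFree

section Base

variable {R : Type u} [CommRing R] {E : Type u} [AddCommGroup E] [Module R E]

/-- the key minimality lemma: a minimal number of "generic generators" of `E₀ / K` has only
`f`-torsion relations -/
theorem base_min (E₀ K : Submodule R E) (hE₀ : E₀.FG) (g : R) (hg : g ≠ 0) :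
    ∃ f : R, g ∣ f ∧ f ≠ 0 ∧ ∃ s : Finset E, (s : Set E) ⊆ E₀ ∧
      (∀ y ∈ E₀, ∃ j : ℕ, f ^ j • y ∈ K ⊔ Submodule.span R (s : Set E)) ∧
      ∀ a : E → R, (∑ x ∈ s, a x • x) ∈ K → ∀ x ∈ s, f * a x = 0 := by
  classical
  let Pk : ℕ → Prop := fun k => ∃ (f : R) (s : Finset E), g ∣ f ∧ f ≠ 0 ∧ s.card = k ∧
    (s : Set E) ⊆ E₀ ∧ ∀ y ∈ E₀, ∃ j : ℕ, f ^ j • y ∈ K ⊔ Submodule.span R (s : Set E)
  have hex : ∃ k, Pk k := by
    obtain ⟨t, ht⟩ := hE₀
    refine ⟨t.card, g, t, dvd_rfl, hg, rfl, ?_, fun y hy => ⟨0, ?_⟩⟩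
    · rw [← ht]
      exact Submodule.subset_span
    · rw [pow_zero, one_smul, ht]
      exact Submodule.mem_sup_right hy
  obtain ⟨f, s, hgf, hf, hcard, hsE, hspan⟩ := Nat.find_spec hex
  refine ⟨f, hgf, hf, s, hsE, hspan, ?_⟩
  intro a ha x₀ hx₀
  by_contra hne
  -- drop `x₀` after inverting `a x₀`
  have hlt : (s.erase x₀).card < Nat.find hex := by
    rw [← hcard]
    exact Finset.card_erase_lt_of_mem hx₀
  apply Nat.find_min hex hlt
  set T : Submodule R E := K ⊔ Submodule.span R ((s.erase x₀ : Finset E) : Set E) with hT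
  have hKT : K ≤ T := le_sup_left
  have hsT : Submodule.span R ((s.erase x₀ : Finset E) : Set E) ≤ T := le_sup_right
  have h1 : a x₀ • x₀ ∈ T := by
    have h2 : a x₀ • x₀ = (∑ x ∈ s, a x • x) - ∑ x ∈ s.erase x₀, a x • x := by
      rw [← Finset.add_sum_erase s (fun x => a x • x) hx₀]
      abel
    rw [h2]
    refine sub_mem (hKT ha) (hsT ?_)
    exact Submodule.sum_mem _ (fun x hx => Submodule.smul_mem _ _ (Submodule.subset_span hx))
  have h3 : (f * a x₀) • x₀ ∈ T := by
    rw [mul_smul]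
    exact Submodule.smul_mem _ _ h1
  refine ⟨f * a x₀, s.erase x₀, dvd_mul_of_dvd_left hgf _, hne, rfl, ?_, ?_⟩
  · intro x hx
    exact hsE (Finset.mem_of_mem_erase hx)
  · intro y hy
    obtain ⟨j, hj⟩ := hspan y hy
    refine ⟨j + 1, ?_⟩
    have h4 : (f * a x₀) • (f ^ j • y) ∈ T := by
      rw [← Finset.insert_erase hx₀, Finset.coe_insert] at hj
      obtain ⟨κ, hκ, w, hw, hκw⟩ := Submodule.mem_sup.1 hj
      obtain ⟨c, z, hz, rfl⟩ := Submodule.mem_span_insert.1 hw
      rw [← hκw, smul_add, smul_add]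
      refine add_mem (Submodule.smul_mem _ _ (hKT hκ)) (add_mem ?_
        (Submodule.smul_mem _ _ (hsT hz)))
      rw [smul_comm]
      exact Submodule.smul_mem _ _ h3
    have h5 : (f * a x₀) ^ (j + 1) • y = (a x₀) ^ j • ((f * a x₀) • (f ^ j • y)) := by
      rw [smul_smul, smul_smul]
      congr 1
      ring
    rw [h5]
    exact Submodule.smul_mem _ _ h4

end Base

section Zero

variable (R : Type u) [CommRing R]

/-- generic freeness of finite modules over the base ring itself -/
theorem genFreeP_self_core (M : Type u) [AddCommGroup M] [Module R M] [Module.Finite R M]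
    (g : R) (hg : g ≠ 0) : ∃ f : R, g ∣ f ∧ f ≠ 0 ∧ FreeAt f M := by
  classical
  obtain ⟨f, hgf, hf, s, -, hspan, hrel⟩ := base_min (⊤ : Submodule R M) ⊥
    Module.Finite.fg_top g hg
  refine ⟨f, hgf, hf, ?_⟩
  let ψ : (↥s →₀ R) →ₗ[R] M := Finsupp.linearCombination R (Subtype.val : ↥s → M)
  have hbij : Function.Bijective (ψ.baseChange (Localization.Away f)) := by
    apply baseChange_bijective_of_pow_torsion
    · intro l hl
      refine ⟨1, ?_⟩
      let a : M → R := fun x => if h : x ∈ s then l ⟨x, h⟩ else 0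
      have hsum : ∑ x ∈ s, a x • x = ψ l := by
        rw [← Finset.sum_coe_sort s (fun x => a x • x)]
        show _ = Finsupp.linearCombination R (Subtype.val : ↥s → M) l
        rw [Finsupp.linearCombination_apply, Finsupp.sum_fintype]
        · refine Finset.sum_congr rfl (fun i _ => ?_)
          simp only [a, i.2, dif_pos]
        · intro i
          exact zero_smul _ _
      have h0 := hrel a (by rw [hsum, hl]; exact Submodule.zero_mem _)
      ext i
      rw [pow_one, Finsupp.smul_apply, smul_eq_mul, Finsupp.zero_apply]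
      have := h0 i i.2
      simp only [a, i.2, dif_pos] at this
      exact this
    · intro b
      obtain ⟨j, hj⟩ := hspan b Submodule.mem_top
      refine ⟨j, ?_⟩
      rw [bot_sup_eq] at hj
      show f ^ j • b ∈ LinearMap.range (Finsupp.linearCombination R (Subtype.val : ↥s → M))
      rw [Finsupp.range_linearCombination, Subtype.range_coe_subtype]
      exact hj
  unfold FreeAt
  exact Module.Free.of_equiv (LinearEquiv.ofBijective _ hbij)

theorem genFreeP_self : GenFreeP R R := by
  intro M i1 i2 i3 i4 i5 g hg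
  have heq : i2 = i3 := by
    refine Module.ext' _ _ (fun r m => ?_)
    have := @IsScalarTower.smul_assoc R R M _ i2.toSMul i3.toSMul i4 r (1 : R) m
    rw [smul_eq_mul, mul_one] at this
    rw [this]
    congr 1
    exact @one_smul R M _ i2.toMulAction m
  subst heq
  exact genFreeP_self_core R M g hg

/-- generic noetherianity of the base ring itself -/
theorem genNoeth_self_core (E : Type u) [AddCommGroup E] [Module R E] (E₀ K : Submodule R E)
    (hE₀ : E₀.FG) (hK : K ≤ E₀) (g : R) (hg : g ≠ 0) : ∃ f : R, g ∣ f ∧ f ≠ 0 ∧ GFG f K := by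
  classical
  obtain ⟨f, hgf, hf, s, -, hspan, hrel⟩ := base_min E₀ K hE₀ g hg
  refine ⟨f, hgf, hf, ?_⟩
  obtain ⟨t, ht⟩ := hE₀
  have htE : ∀ u ∈ t, u ∈ E₀ := fun u hu => by
    rw [← ht]
    exact Submodule.subset_span hu
  -- a uniform exponent
  have h1 : ∀ u : E, ∃ j : ℕ, u ∈ t → f ^ j • u ∈ K ⊔ Submodule.span R (s : Set E) := by
    intro u
    by_cases hu : u ∈ t
    · obtain ⟨j, hj⟩ := hspan u (htE u hu)
      exact ⟨j, fun _ => hj⟩
    · exact ⟨0, fun h => absurd h hu⟩
  choose j hj using h1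
  set J := t.sup j with hJ
  have h2 : ∀ u ∈ t, f ^ J • u ∈ K ⊔ Submodule.span R (s : Set E) := by
    intro u hu
    have hle : j u ≤ J := Finset.le_sup hu
    obtain ⟨d, hd⟩ := Nat.exists_eq_add_of_le hle
    rw [hd, pow_add, mul_comm, mul_smul]
    exact Submodule.smul_mem _ _ (hj u hu)
  have h3 : ∀ u : E, ∃ (κ : E) (c : E → R), u ∈ t → κ ∈ K ∧ f ^ J • u = κ + ∑ x ∈ s, c x • x := by
    intro u
    by_cases hu : u ∈ t
    · obtain ⟨κ, hκ, w, hw, hκw⟩ := Submodule.mem_sup.1 (h2 u hu)
      obtain ⟨c, -, hc⟩ := Submodule.mem_span_finset.1 hw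
      exact ⟨κ, c, fun _ => ⟨hκ, by rw [hc, hκw]⟩⟩
    · exact ⟨0, 0, fun h => absurd h hu⟩
  choose κ c hκc using h3
  refine ⟨t.image κ, ?_, ?_⟩
  · intro x hx
    rw [Finset.coe_image] at hx
    obtain ⟨u, hu, rfl⟩ := hx
    exact (hκc u hu).1
  · intro y hy
    have hy' : y ∈ Submodule.span R (t : Set E) := by rw [ht]; exact hK hy
    obtain ⟨b, -, hb⟩ := Submodule.mem_span_finset.1 hy'
    refine ⟨J + 1, ?_⟩
    have h4 : f ^ J • y = ∑ u ∈ t, b u • κ u + ∑ x ∈ s, (∑ u ∈ t, b u * c u x) • x := by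
      rw [← hb, Finset.smul_sum]
      have : ∀ u ∈ t, f ^ J • b u • u = b u • κ u + ∑ x ∈ s, (b u * c u x) • x := by
        intro u hu
        rw [smul_comm, (hκc u hu).2, smul_add, Finset.smul_sum]
        congr 1
        refine Finset.sum_congr rfl (fun x _ => ?_)
        rw [smul_smul]
      rw [Finset.sum_congr rfl this, Finset.sum_add_distrib, Finset.sum_comm]
      congr 1
      refine Finset.sum_congr rfl (fun x _ => ?_)
      rw [Finset.sum_smul]
    have h5 : ∑ u ∈ t, b u • κ u ∈ K :=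
      Submodule.sum_mem _ (fun u hu => Submodule.smul_mem _ _ (hκc u hu).1)
    have h6 : ∑ x ∈ s, (∑ u ∈ t, b u * c u x) • x ∈ K := by
      have : ∑ x ∈ s, (∑ u ∈ t, b u * c u x) • x = f ^ J • y - ∑ u ∈ t, b u • κ u := by
        rw [h4]
        abel
      rw [this]
      exact sub_mem (Submodule.smul_mem _ _ hy) h5
    have h7 := hrel (fun x => ∑ u ∈ t, b u * c u x) h6
    have h8 : f • ∑ x ∈ s, (∑ u ∈ t, b u * c u x) • x = 0 := by
      rw [Finset.smul_sum]
      refine Finset.sum_eq_zero (fun x hx => ?_)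
      rw [smul_smul, h7 x hx, zero_smul]
    rw [pow_succ, mul_comm, mul_smul, h4, smul_add, h8, add_zero]
    refine Submodule.smul_mem _ _ (Submodule.sum_mem _ (fun u hu => Submodule.smul_mem _ _ ?_))
    apply Submodule.subset_span
    rw [Finset.coe_image]
    exact ⟨u, hu, rfl⟩

theorem genNoeth_self : GenNoeth R R := by
  intro E i1 i2 i3 i4 E₀ K hE₀ hK g hg
  have heq : i2 = i3 := by
    refine Module.ext' _ _ (fun r m => ?_)
    have := @IsScalarTower.smul_assoc R R E _ i2.toSMul i3.toSMul i4 r (1 : R) m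
    rw [smul_eq_mul, mul_one] at this
    rw [this]
    congr 1
    exact @one_smul R E _ i2.toMulAction m
  subst heq
  exact genNoeth_self_core R E E₀ K hE₀ hK g hg

end Zero

end Groth.Agent.Lib.Helper28.GenRed
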