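import Mathlib
import Groth.Agent.Lib.Helper28.GenRedZero

/-!
# A generic Hilbert basis theorem: the inductive step (helper28)
-/

set_option autoImplicit false
universe u v w

namespace Groth.Agent.Lib.Helper28.GenRed

open TensorProduct
open Groth.Agent.Lib.Helper28.GenFree

section HStep

variable {R : Type u} [CommRing R] {S' : Type u} [CommRing S'] [Algebra R S']
  {M : Type u} [AddCommGroup M] [Module S' M] [Module R M] [IsScalarTower R S' M]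
  (φ : M →ₗ[S'] M) (M₀ K : Submodule S' M)

/-- the filtration `Fp 0 = 0`, `Fp (i+1) = M₀ + φ M₀ + ⋯ + φ^i M₀` -/
def Fp : ℕ → Submodule S' M
  | 0 => ⊥
  | (i + 1) => Fp i ⊔ M₀.map (φ ^ i)

lemma Fp_zero : Fp φ M₀ 0 = ⊥ := rfl

lemma Fp_succ (i : ℕ) : Fp φ M₀ (i + 1) = Fp φ M₀ i ⊔ M₀.map (φ ^ i) := rfl

lemma Fp_mono : Monotone (Fp φ M₀) := monotone_nat_of_le_succ (fun _ => le_sup_left)

lemma map_Fp_le (i : ℕ) : (Fp φ M₀ i).map φ ≤ Fp φ M₀ (i + 1) := by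
  induction i with
  | zero =>
    rw [Fp_zero, Submodule.map_bot]
    exact bot_le
  | succ i ih =>
    rw [Fp_succ φ M₀ i, Submodule.map_sup, Fp_succ φ M₀ (i + 1)]
    refine sup_le_sup ih ?_
    rw [← Submodule.map_comp, pow_succ' φ i]
    rfl

lemma Fp_fg (hM₀ : M₀.FG) (i : ℕ) : (Fp φ M₀ i).FG := by
  induction i with
  | zero => exact Submodule.fg_bot
  | succ i ih => exact ih.sup (hM₀.map _)

lemma map_pow_le_iSup_Fp (i : ℕ) : M₀.map (φ ^ i) ≤ ⨆ j, Fp φ M₀ j :=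
  le_trans (le_sup_right : M₀.map (φ ^ i) ≤ Fp φ M₀ (i + 1)) (le_iSup (Fp φ M₀) (i + 1))

/-- the modules of leading coefficients -/
def LC (i : ℕ) : Submodule S' M :=
  M₀ ⊓ ((K ⊓ Fp φ M₀ (i + 1)) ⊔ Fp φ M₀ i).comap (φ ^ i)

lemma mem_LC (i : ℕ) (m : M) : m ∈ LC φ M₀ K i ↔
    m ∈ M₀ ∧ ∃ y ∈ K ⊓ Fp φ M₀ (i + 1), ∃ z ∈ Fp φ M₀ i, y + z = (φ ^ i) m := by
  unfold LC
  rw [Submodule.mem_inf, Submodule.mem_comap, Submodule.mem_sup]

lemma LC_le (i : ℕ) : LC φ M₀ K i ≤ M₀ := inf_le_left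

lemma LC_mono (hK : K.map φ ≤ K) : Monotone (LC φ M₀ K) := by
  apply monotone_nat_of_le_succ
  intro i m hm
  rw [mem_LC] at hm ⊢
  obtain ⟨hm₀, y, hy, z, hz, hyz⟩ := hm
  refine ⟨hm₀, φ y, ⟨hK ⟨y, hy.1, rfl⟩, map_Fp_le φ M₀ (i + 1) ⟨y, hy.2, rfl⟩⟩, φ z,
    map_Fp_le φ M₀ i ⟨z, hz, rfl⟩, ?_⟩
  rw [← map_add, hyz, pow_succ' φ i]
  rfl

/-- **Generic Hilbert basis theorem, inductive step.** -/
theorem hilbert_step (hGN : GenNoeth R S') (hM₀ : M₀.FG) (hK : K.map φ ≤ K)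
    (hsup : K ≤ ⨆ i, Fp φ M₀ i) (g : R) (hg : g ≠ 0) :
    ∃ f : R, g ∣ f ∧ f ≠ 0 ∧ ∃ s : Finset M, (s : Set M) ⊆ K ∧
      ∀ x ∈ K, ∃ k : ℕ, f ^ k • x ∈ ⨆ j, (Submodule.span S' (s : Set M)).map (φ ^ j) := by
  classical
  -- stabilisation of the leading coefficient modules
  obtain ⟨f₁, hgf₁, hf₁, s₁, hs₁, hgen₁⟩ := hGN M M₀ (⨆ i, LC φ M₀ K i) hM₀
    (iSup_le (LC_le φ M₀ K)) g hg
  have hdir : Directed (· ≤ ·) (LC φ M₀ K) := (LC_mono φ M₀ K hK).directed_le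
  have h1 : ∀ x : M, ∃ i : ℕ, x ∈ s₁ → x ∈ LC φ M₀ K i := by
    intro x
    by_cases hx : x ∈ s₁
    · obtain ⟨i, hi⟩ := (Submodule.mem_iSup_of_directed _ hdir).1 (hs₁ hx)
      exact ⟨i, fun _ => hi⟩
    · exact ⟨0, fun h => absurd h hx⟩
  choose idx hidx using h1
  set i₀ := s₁.sup idx with hi₀
  have hs₁' : Submodule.span S' (s₁ : Set M) ≤ LC φ M₀ K i₀ := by
    rw [Submodule.span_le]
    intro x hx
    exact LC_mono φ M₀ K hK (Finset.le_sup hx) (hidx x hx)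
  have hstab : ∀ i, ∀ m ∈ LC φ M₀ K i, ∃ k : ℕ, f₁ ^ k • m ∈ LC φ M₀ K i₀ := by
    intro i m hm
    obtain ⟨k, hk⟩ := hgen₁ m (Submodule.mem_iSup_of_mem i hm)
    exact ⟨k, hs₁' hk⟩
  -- generators of the low degree part
  obtain ⟨f₂, hf₁f₂, hf₂, s, hs, hgen⟩ := hGN M (Fp φ M₀ (i₀ + 1)) (K ⊓ Fp φ M₀ (i₀ + 1))
    (Fp_fg φ M₀ hM₀ _) inf_le_right f₁ hf₁
  refine ⟨f₂, dvd_trans hgf₁ hf₁f₂, hf₂, s, fun x hx => (hs hx).1, ?_⟩
  set W : Submodule S' M := ⨆ j, (Submodule.span S' (s : Set M)).map (φ ^ j) with hW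
  have hsW : Submodule.span S' (s : Set M) ≤ W := by
    have := le_iSup (fun j => (Submodule.span S' (s : Set M)).map (φ ^ j)) 0
    rw [pow_zero] at this
    refine le_trans ?_ this
    intro y hy
    exact ⟨y, hy, rfl⟩
  have hφW : ∀ y ∈ W, φ y ∈ W := by
    intro y hy
    have : W.map φ ≤ W := by
      rw [hW, Submodule.map_iSup]
      refine iSup_le (fun j => ?_)
      rw [← Submodule.map_comp]
      have : φ ∘ₗ (φ ^ j) = φ ^ (j + 1) := (pow_succ' φ j).symm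
      rw [this]
      exact le_iSup (fun j => (Submodule.span S' (s : Set M)).map (φ ^ j)) (j + 1)
    exact this ⟨y, hy, rfl⟩
  obtain ⟨c, rfl⟩ := hf₁f₂
  -- the main induction
  have hmain : ∀ i, ∀ x ∈ K ⊓ Fp φ M₀ i, ∃ k : ℕ, (f₁ * c) ^ k • x ∈ W := by
    intro i
    induction i with
    | zero =>
      intro x hx
      have : x = 0 := by
        have := (Submodule.mem_inf.1 hx).2
        rw [Fp_zero, Submodule.mem_bot] at this
        exact this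
      exact ⟨0, by rw [this, smul_zero]; exact zero_mem _⟩
    | succ i ih =>
      intro x hx
      by_cases hi : i + 1 ≤ i₀ + 1
      · obtain ⟨k, hk⟩ := hgen x ⟨hx.1, Fp_mono φ M₀ hi hx.2⟩
        exact ⟨k, hsW hk⟩
      · have hi' : i₀ + 1 ≤ i := by omega
        obtain ⟨i', rfl⟩ : ∃ i', i = i' + 1 := ⟨i - 1, by omega⟩
        have hi'' : i₀ ≤ i' := by omega
        -- decompose `x`
        have hx2 := (Submodule.mem_inf.1 hx).2
        rw [Fp_succ, Submodule.mem_sup] at hx2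
        obtain ⟨a, ha, b, ⟨m, hm, rfl⟩, hab⟩ := hx2
        have hmLC : m ∈ LC φ M₀ K (i' + 1) := by
          rw [mem_LC]
          refine ⟨hm, x, hx, -a, neg_mem ha, ?_⟩
          rw [← hab]
          abel
        obtain ⟨k, hk⟩ := hstab _ m hmLC
        have hk' : f₁ ^ k • m ∈ LC φ M₀ K i' := LC_mono φ M₀ K hK hi'' hk
        rw [mem_LC] at hk'
        obtain ⟨-, y, hy, z, hz, hyz⟩ := hk'
        have hφy : φ y ∈ K := hK ⟨y, hy.1, rfl⟩
        have hrest : f₁ ^ k • x - φ y ∈ K ⊓ Fp φ M₀ (i' + 1) := by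
          refine ⟨sub_mem (Submodule.smul_of_tower_mem _ _ hx.1) hφy, ?_⟩
          have : f₁ ^ k • x - φ y = f₁ ^ k • a + φ z := by
            have h2 : (φ ^ (i' + 1)) (f₁ ^ k • m) = φ y + φ z := by
              rw [pow_succ' φ i', Module.End.mul_apply, ← hyz, map_add]
            rw [← hab, smul_add, ← LinearMap.map_smul_of_tower, h2]
            abel
          rw [this]
          exact add_mem (Submodule.smul_of_tower_mem _ _ ha) (map_Fp_le φ M₀ i' ⟨z, hz, rfl⟩)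
        obtain ⟨k₁, hk₁⟩ := ih _ hrest
        obtain ⟨k₂, hk₂⟩ := ih _ hy
        refine ⟨k₁ + k₂ + k, ?_⟩
        have hsplit : (f₁ * c) ^ (k₁ + k₂ + k) • x =
            (c ^ k) • ((f₁ * c) ^ k₂ • ((f₁ * c) ^ k₁ • (f₁ ^ k • x - φ y)) +
              (f₁ * c) ^ k₁ • φ ((f₁ * c) ^ k₂ • y)) := by
          rw [LinearMap.map_smul_of_tower, smul_sub, smul_sub, smul_comm ((f₁ * c) ^ k₂)
            ((f₁ * c) ^ k₁) (φ y), sub_add_cancel, smul_smul, smul_smul, smul_smul]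
          congr 1
          ring
        rw [hsplit]
        refine Submodule.smul_of_tower_mem _ _ (add_mem (Submodule.smul_of_tower_mem _ _ hk₁)
          (Submodule.smul_of_tower_mem _ _ (hφW _ hk₂)))
  intro x hx
  obtain ⟨i, hi⟩ := (Submodule.mem_iSup_of_directed _ (Fp_mono φ M₀).directed_le).1 (hsup hx)
  exact hmain i x ⟨hx, hi⟩

end HStep

end Groth.Agent.Lib.Helper28.GenRed
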