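import Mathlib
import Groth.Agent.Lib.Helper28.GenRedHilbert

/-!
# Generic noetherianity of finite type algebras (helper28)
-/

set_option autoImplicit false
universe u v w

namespace Groth.Agent.Lib.Helper28.GenRed

open TensorProduct
open Groth.Agent.Lib.Helper28.GenFree

section Transfer

variable {A B : Type u} [CommRing A] [CommRing B] {E : Type u} [AddCommGroup E] [Module A E]
  [Module B E]

lemma span_eq_of_surjective (π : A →+* B) (hπ : Function.Surjective π)
    (hsm : ∀ (a : A) (e : E), a • e = π a • e) (s : Set E) :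
    (Submodule.span A s : Set E) = (Submodule.span B s : Set E) := by
  ext x
  rw [SetLike.mem_coe, SetLike.mem_coe]
  constructor
  · intro hx
    induction hx using Submodule.span_induction with
    | mem y hy => exact Submodule.subset_span hy
    | zero => exact zero_mem _
    | add y z _ _ hy hz => exact add_mem hy hz
    | smul a y _ hy =>
      rw [hsm]
      exact Submodule.smul_mem _ _ hy
  · intro hx
    induction hx using Submodule.span_induction with
    | mem y hy => exact Submodule.subset_span hy
    | zero => exact zero_mem _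
    | add y z _ _ hy hz => exact add_mem hy hz
    | smul b y _ hy =>
      obtain ⟨a, rfl⟩ := hπ b
      rw [← hsm]
      exact Submodule.smul_mem _ _ hy

end Transfer

section Transfer2

variable {R : Type u} [CommRing R] {A B : Type u} [CommRing A] [CommRing B] [Algebra R A]
  [Algebra R B]

theorem GenNoeth.of_surjective (π : A →ₐ[R] B) (hπ : Function.Surjective π)
    (h : GenNoeth R A) : GenNoeth R B := by
  intro E _ _ _ _ E₀ K hE₀ hK g hg
  letI : Module A E := Module.compHom E (π : A →+* B)
  have hsm : ∀ (a : A) (e : E), a • e = (π : A →+* B) a • e := fun _ _ => rfl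
  haveI : IsScalarTower R A E := ⟨fun r a e => by
    rw [hsm, hsm]
    show π (r • a) • e = r • (π a • e)
    rw [map_smul, smul_assoc]⟩
  let res : Submodule B E → Submodule A E := fun N =>
    { carrier := N
      add_mem' := N.add_mem
      zero_mem' := N.zero_mem
      smul_mem' := fun a x hx => by
        rw [hsm]
        exact N.smul_mem _ hx }
  obtain ⟨t, ht⟩ := hE₀
  have hfg : (res E₀).FG := ⟨t, by
    apply SetLike.coe_injective
    rw [span_eq_of_surjective (π : A →+* B) hπ hsm, ht]
    rfl⟩
  obtain ⟨f, hgf, hf, s, hs, hgen⟩ := h E (res E₀) (res K) hfg (fun x hx => hK hx) g hg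
  refine ⟨f, hgf, hf, s, hs, fun x hx => ?_⟩
  obtain ⟨k, hk⟩ := hgen x hx
  refine ⟨k, ?_⟩
  have := span_eq_of_surjective (π : A →+* B) hπ hsm (s : Set E)
  rw [← SetLike.mem_coe, ← this]
  exact hk

theorem GenFreeP.of_surjective (π : A →ₐ[R] B) (hπ : Function.Surjective π)
    (h : GenFreeP R A) : GenFreeP R B := by
  intro M _ _ _ _ _ g hg
  letI : Module A M := Module.compHom M (π : A →+* B)
  have hsm : ∀ (a : A) (e : M), a • e = (π : A →+* B) a • e := fun _ _ => rfl
  haveI : IsScalarTower R A M := ⟨fun r a e => by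
    rw [hsm, hsm]
    show π (r • a) • e = r • (π a • e)
    rw [map_smul, smul_assoc]⟩
  haveI : Module.Finite A M := by
    obtain ⟨t, ht⟩ := (Module.Finite.fg_top : (⊤ : Submodule B M).FG)
    refine ⟨⟨t, ?_⟩⟩
    apply SetLike.coe_injective
    rw [span_eq_of_surjective (π : A →+* B) hπ hsm, ht]
    rfl
  exact h M g hg

end Transfer2

section Adjoin

variable {R : Type u} [CommRing R] {n : ℕ} {E : Type u} [AddCommGroup E]
  [Module (MvPolynomial (Fin n) R) E] [Module (MvPolynomial (Fin (n + 1)) R) E]
  (hsm : ∀ (a : MvPolynomial (Fin n) R) (e : E),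
    a • e = (MvPolynomial.rename Fin.castSucc a : MvPolynomial (Fin (n + 1)) R) • e)
  (φ : E →ₗ[MvPolynomial (Fin n) R] E)
  (hφ : ∀ e, φ e = (MvPolynomial.X (Fin.last n) : MvPolynomial (Fin (n + 1)) R) • e)

include hsm hφ

lemma smul_mem_of_closed (Fi : Submodule (MvPolynomial (Fin n) R) E)
    (hFi : ∀ m ∈ Fi, φ m ∈ Fi) (p : MvPolynomial (Fin (n + 1)) R) :
    ∀ m ∈ Fi, p • m ∈ Fi := by
  induction p using MvPolynomial.induction_on with
  | C r =>
    intro m hm
    have : (MvPolynomial.C r : MvPolynomial (Fin (n + 1)) R) • m =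
        (MvPolynomial.C r : MvPolynomial (Fin n) R) • m := by
      rw [hsm]
      congr 1
      exact (MvPolynomial.rename_C _ r).symm
    rw [this]
    exact Fi.smul_mem _ hm
  | add p q hp hq =>
    intro m hm
    rw [add_smul]
    exact add_mem (hp m hm) (hq m hm)
  | mul_X p k hp =>
    intro m hm
    rw [mul_smul]
    apply hp
    rcases Fin.eq_castSucc_or_eq_last k with ⟨k', rfl⟩ | rfl
    · have : (MvPolynomial.X (Fin.castSucc k') : MvPolynomial (Fin (n + 1)) R) • m =
          (MvPolynomial.X k' : MvPolynomial (Fin n) R) • m := by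
        rw [hsm]
        congr 1
        exact (MvPolynomial.rename_X _ k').symm
      rw [this]
      exact Fi.smul_mem _ hm
    · rw [← hφ]
      exact hFi m hm

lemma pow_apply_eq (j : ℕ) (e : E) :
    (φ ^ j) e = (MvPolynomial.X (Fin.last n) : MvPolynomial (Fin (n + 1)) R) ^ j • e := by
  induction j generalizing e with
  | zero => simp
  | succ j ih => rw [pow_succ' φ j, Module.End.mul_apply, ih, hφ, smul_smul, ← pow_succ']

lemma span_subset_iSup (t : Set E) :
    (Submodule.span (MvPolynomial (Fin (n + 1)) R) t : Set E) ⊆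
      ((⨆ i, (Submodule.span (MvPolynomial (Fin n) R) t).map (φ ^ i) :
        Submodule (MvPolynomial (Fin n) R) E) : Set E) := by
  set Fi : Submodule (MvPolynomial (Fin n) R) E :=
    ⨆ i, (Submodule.span (MvPolynomial (Fin n) R) t).map (φ ^ i) with hFi
  have hφF : ∀ m ∈ Fi, φ m ∈ Fi := by
    intro m hm
    have : Fi.map φ ≤ Fi := by
      rw [hFi, Submodule.map_iSup]
      refine iSup_le (fun i => ?_)
      rw [← Submodule.map_comp]
      have : φ ∘ₗ (φ ^ i) = φ ^ (i + 1) := (pow_succ' φ i).symm
      rw [this]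
      exact le_iSup (fun i => (Submodule.span (MvPolynomial (Fin n) R) t).map (φ ^ i)) (i + 1)
    exact this ⟨m, hm, rfl⟩
  have h0 : Submodule.span (MvPolynomial (Fin n) R) t ≤ Fi := by
    have := le_iSup (fun i => (Submodule.span (MvPolynomial (Fin n) R) t).map (φ ^ i)) 0
    rw [pow_zero] at this
    refine le_trans ?_ this
    intro y hy
    exact ⟨y, hy, rfl⟩
  intro m hm
  rw [SetLike.mem_coe] at hm ⊢
  induction hm using Submodule.span_induction with
  | mem x hx => exact h0 (Submodule.subset_span hx)
  | zero => exact zero_mem _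
  | add x y _ _ hx hy => exact add_mem hx hy
  | smul p x _ hx => exact smul_mem_of_closed hsm φ hφ Fi hφF p x hx

lemma iSup_subset_span (s : Set E) :
    ((⨆ j, (Submodule.span (MvPolynomial (Fin n) R) s).map (φ ^ j) :
      Submodule (MvPolynomial (Fin n) R) E) : Set E) ⊆
      (Submodule.span (MvPolynomial (Fin (n + 1)) R) s : Set E) := by
  let T : Submodule (MvPolynomial (Fin n) R) E :=
    { carrier := Submodule.span (MvPolynomial (Fin (n + 1)) R) s
      add_mem' := Submodule.add_mem _
      zero_mem' := Submodule.zero_mem _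
      smul_mem' := fun a x hx => by
        rw [hsm]
        exact Submodule.smul_mem _ _ hx }
  have hT : (⨆ j, (Submodule.span (MvPolynomial (Fin n) R) s).map (φ ^ j)) ≤ T := by
    refine iSup_le (fun j => ?_)
    rintro _ ⟨y, hy, rfl⟩
    rw [pow_apply_eq hsm φ hφ]
    show _ ∈ Submodule.span (MvPolynomial (Fin (n + 1)) R) s
    refine Submodule.smul_mem _ _ ?_
    have h1 : Submodule.span (MvPolynomial (Fin n) R) s ≤ T :=
      Submodule.span_le.2 (fun x hx => Submodule.subset_span hx)
    exact h1 hy
  intro x hx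
  exact hT hx

end Adjoin

section Poly

variable (R : Type u) [CommRing R]

/-- **Generic Hilbert basis theorem.** -/
theorem genNoeth_mvPolynomial (n : ℕ) : GenNoeth R (MvPolynomial (Fin n) R) := by
  induction n with
  | zero =>
    exact GenNoeth.of_surjective (Algebra.ofId R (MvPolynomial (Fin 0) R))
      (MvPolynomial.C_surjective (Fin 0)) (genNoeth_self R)
  | succ n ih =>
    intro E _ _ _ _ E₀ K hE₀ hK g hg
    let ι : MvPolynomial (Fin n) R →ₐ[R] MvPolynomial (Fin (n + 1)) R :=
      MvPolynomial.rename Fin.castSucc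
    letI : Module (MvPolynomial (Fin n) R) E :=
      Module.compHom E (ι : MvPolynomial (Fin n) R →+* MvPolynomial (Fin (n + 1)) R)
    have hsm : ∀ (a : MvPolynomial (Fin n) R) (e : E), a • e =
        (MvPolynomial.rename Fin.castSucc a : MvPolynomial (Fin (n + 1)) R) • e := fun _ _ => rfl
    haveI : IsScalarTower R (MvPolynomial (Fin n) R) E := ⟨fun r a e => by
      rw [hsm, hsm, map_smul, smul_assoc]⟩
    let φ : E →ₗ[MvPolynomial (Fin n) R] E :=
      { toFun := fun m => (MvPolynomial.X (Fin.last n) : MvPolynomial (Fin (n + 1)) R) • m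
        map_add' := fun _ _ => smul_add _ _ _
        map_smul' := fun a m => by
          show (MvPolynomial.X (Fin.last n) : MvPolynomial (Fin (n + 1)) R) • (a • m) =
            a • ((MvPolynomial.X (Fin.last n) : MvPolynomial (Fin (n + 1)) R) • m)
          rw [hsm, hsm, smul_smul, smul_smul, mul_comm] }
    have hφ : ∀ e, φ e = (MvPolynomial.X (Fin.last n) : MvPolynomial (Fin (n + 1)) R) • e :=
      fun _ => rfl
    obtain ⟨t, ht⟩ := hE₀
    let M₀ : Submodule (MvPolynomial (Fin n) R) E := Submodule.span _ (t : Set E)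
    let K' : Submodule (MvPolynomial (Fin n) R) E :=
      { carrier := K
        add_mem' := K.add_mem
        zero_mem' := K.zero_mem
        smul_mem' := fun a x hx => by
          rw [hsm]
          exact K.smul_mem _ hx }
    have hK' : K'.map φ ≤ K' := by
      rintro _ ⟨x, hx, rfl⟩
      rw [hφ]
      exact K.smul_mem _ hx
    have hsup : K' ≤ ⨆ i, Fp φ M₀ i := by
      intro x hx
      have hx' : x ∈ Submodule.span (MvPolynomial (Fin (n + 1)) R) (t : Set E) := by
        rw [ht]
        exact hK hx
      have h1 := span_subset_iSup hsm φ hφ (t : Set E) hx'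
      have h2 : (⨆ i, M₀.map (φ ^ i)) ≤ ⨆ i, Fp φ M₀ i :=
        iSup_le (map_pow_le_iSup_Fp φ M₀)
      exact h2 h1
    obtain ⟨f, hgf, hf, s, hs, hgen⟩ := hilbert_step φ M₀ K' ih
      (Submodule.fg_span (Finset.finite_toSet t)) hK' hsup g hg
    refine ⟨f, hgf, hf, s, hs, fun x hx => ?_⟩
    obtain ⟨k, hk⟩ := hgen x hx
    exact ⟨k, iSup_subset_span hsm φ hφ (s : Set E) hk⟩

theorem genNoeth_of_finiteType (S : Type u) [CommRing S] [Algebra R S] [Algebra.FiniteType R S] :
    GenNoeth R S := by
  obtain ⟨n, π, hπ⟩ := Algebra.FiniteType.iff_quotient_mvPolynomial''.1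
    (inferInstance : Algebra.FiniteType R S)
  exact GenNoeth.of_surjective π hπ (genNoeth_mvPolynomial R n)

end Poly

end Groth.Agent.Lib.Helper28.GenRed
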