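import Mathlib
import Groth.Agent.Lib.Helper28.GenRedPoly

/-!
# Generic freeness over an arbitrary base ring (helper28)
-/

set_option autoImplicit false
universe u v w

namespace Groth.Agent.Lib.Helper28.GenRed

open TensorProduct
open Groth.Agent.Lib.Helper28.GenFree

section StepRed

variable {R : Type u} [CommRing R] {S' : Type u} [CommRing S'] [Algebra R S']
  {M : Type u} [AddCommGroup M] [Module S' M] [Module R M] [IsScalarTower R S' M]
  (φ : M →ₗ[S'] M) (M₀ : Submodule S' M)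

theorem step_red (hGN : GenNoeth R S') (hGF : GenFreeP R S') (hM₀ : M₀.FG)
    (hsup : ⨆ i, M₀.map (φ ^ i) = ⊤) (g : R) (hg : g ≠ 0) :
    ∃ f : R, g ∣ f ∧ f ≠ 0 ∧ FreeAt f M := by
  classical
  haveI : Module.Finite S' ↥M₀ := Module.Finite.iff_fg.2 hM₀
  -- stabilisation
  obtain ⟨f₁, hgf₁, hf₁, s₁, hs₁, hgen₁⟩ := hGN ↥M₀ ⊤ (⨆ i, Qs φ M₀ i) Module.Finite.fg_top
    le_top g hg
  have hdir : Directed (· ≤ ·) (Qs φ M₀) := (Qs_mono φ M₀).directed_le
  have h1 : ∀ x : ↥M₀, ∃ i : ℕ, x ∈ s₁ → x ∈ Qs φ M₀ i := by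
    intro x
    by_cases hx : x ∈ s₁
    · obtain ⟨i, hi⟩ := (Submodule.mem_iSup_of_directed _ hdir).1 (hs₁ hx)
      exact ⟨i, fun _ => hi⟩
    · exact ⟨0, fun h => absurd h hx⟩
  choose idx hidx using h1
  set i₀ := s₁.sup idx with hi₀
  have hs₁' : Submodule.span S' (s₁ : Set ↥M₀) ≤ Qs φ M₀ i₀ := by
    rw [Submodule.span_le]
    intro x hx
    exact Qs_mono φ M₀ (Finset.le_sup hx) (hidx x hx)
  have hstab : ∀ i, ∀ x ∈ Qs φ M₀ i, ∃ k : ℕ, f₁ ^ k • x ∈ Qs φ M₀ i₀ := by
    intro i x hx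
    obtain ⟨k, hk⟩ := hgen₁ x (Submodule.mem_iSup_of_mem i hx)
    exact ⟨k, hs₁' hk⟩
  -- freeness of the first graded pieces
  have hfin : ∀ j : ℕ, ∃ f : R, f₁ ∣ f ∧ f ≠ 0 ∧ FreeAt f ↥M₀ ∧ ∀ i < j, FreeAt f (Ns φ M₀ i) := by
    intro j
    induction j with
    | zero =>
      obtain ⟨f, h1, h2, h3⟩ := hGF ↥M₀ f₁ hf₁
      exact ⟨f, h1, h2, h3, fun i hi => absurd hi (Nat.not_lt_zero i)⟩
    | succ j ih =>
      obtain ⟨f, h1, h2, h3, h4⟩ := ih
      obtain ⟨f', h1', h2', h3'⟩ := hGF (Ns φ M₀ j) f h2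
      refine ⟨f', dvd_trans h1 h1', h2', h3.of_dvd h1', fun i hi => ?_⟩
      rcases Nat.lt_succ_iff_lt_or_eq.1 hi with hlt | rfl
      · exact (h4 i hlt).of_dvd h1'
      · exact h3'
  obtain ⟨f, hf₁f, hf, hfreeM₀, hfreeLow⟩ := hfin (i₀ + 1)
  refine ⟨f, dvd_trans hgf₁ hf₁f, hf, ?_⟩
  have hfreeN : ∀ i, FreeAt f (Ns φ M₀ i) := by
    intro i
    by_cases hi : i ≤ i₀
    · exact hfreeLow i (Nat.lt_succ_of_le hi)
    · have hi' : i₀ ≤ i := le_of_not_ge hi
      have h₀ : FreeAt f (Ns φ M₀ i₀) := hfreeLow i₀ (Nat.lt_succ_self i₀)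
      let σ : Ns φ M₀ i₀ →ₗ[R] Ns φ M₀ i :=
        (Submodule.factor (Qs_mono φ M₀ hi')).restrictScalars R
      have hσ : Function.Surjective σ := by
        intro z
        obtain ⟨x, rfl⟩ := Submodule.mkQ_surjective _ z
        exact ⟨(Qs φ M₀ i₀).mkQ x, rfl⟩
      obtain ⟨c, rfl⟩ := hf₁f
      have hbij : Function.Bijective (σ.baseChange (Localization.Away (f₁ * c))) := by
        apply baseChange_bijective_of_pow_torsion
        · intro z hz
          obtain ⟨x, rfl⟩ := Submodule.mkQ_surjective _ z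
          have hx : x ∈ Qs φ M₀ i := (Submodule.Quotient.mk_eq_zero _).1 hz
          obtain ⟨k, hk⟩ := hstab i x hx
          refine ⟨k, ?_⟩
          rw [← LinearMap.map_smul_of_tower, Submodule.mkQ_apply, Submodule.Quotient.mk_eq_zero,
            mul_pow, mul_comm, mul_smul]
          exact Submodule.smul_of_tower_mem _ _ hk
        · intro b
          obtain ⟨a, rfl⟩ := hσ b
          exact ⟨0, a, by rw [pow_zero, one_smul]⟩
      unfold FreeAt at h₀ ⊢
      exact Module.Free.of_equiv (LinearEquiv.ofBijective _ hbij)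
  exact assemble φ M₀ hsup f hfreeM₀ hfreeN

end StepRed

section Poly

variable (R : Type u) [CommRing R]

/-- **Generic freeness** over an arbitrary base, for polynomial rings. -/
theorem genFreeP_mvPolynomial (n : ℕ) : GenFreeP R (MvPolynomial (Fin n) R) := by
  induction n with
  | zero =>
    exact GenFreeP.of_surjective (Algebra.ofId R (MvPolynomial (Fin 0) R))
      (MvPolynomial.C_surjective (Fin 0)) (genFreeP_self R)
  | succ n ih =>
    intro M _ _ _ _ _ g hg
    let ι : MvPolynomial (Fin n) R →ₐ[R] MvPolynomial (Fin (n + 1)) R :=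
      MvPolynomial.rename Fin.castSucc
    letI : Module (MvPolynomial (Fin n) R) M :=
      Module.compHom M (ι : MvPolynomial (Fin n) R →+* MvPolynomial (Fin (n + 1)) R)
    have hsm : ∀ (a : MvPolynomial (Fin n) R) (e : M), a • e =
        (MvPolynomial.rename Fin.castSucc a : MvPolynomial (Fin (n + 1)) R) • e := fun _ _ => rfl
    haveI : IsScalarTower R (MvPolynomial (Fin n) R) M := ⟨fun r a e => by
      rw [hsm, hsm, map_smul, smul_assoc]⟩
    let φ : M →ₗ[MvPolynomial (Fin n) R] M :=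
      { toFun := fun m => (MvPolynomial.X (Fin.last n) : MvPolynomial (Fin (n + 1)) R) • m
        map_add' := fun _ _ => smul_add _ _ _
        map_smul' := fun a m => by
          show (MvPolynomial.X (Fin.last n) : MvPolynomial (Fin (n + 1)) R) • (a • m) =
            a • ((MvPolynomial.X (Fin.last n) : MvPolynomial (Fin (n + 1)) R) • m)
          rw [hsm, hsm, smul_smul, smul_smul, mul_comm] }
    have hφ : ∀ e, φ e = (MvPolynomial.X (Fin.last n) : MvPolynomial (Fin (n + 1)) R) • e :=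
      fun _ => rfl
    obtain ⟨t, ht⟩ := (Module.Finite.fg_top : (⊤ : Submodule (MvPolynomial (Fin (n + 1)) R) M).FG)
    let M₀ : Submodule (MvPolynomial (Fin n) R) M := Submodule.span _ (t : Set M)
    refine step_red φ M₀ (genNoeth_mvPolynomial R n) ih
      (Submodule.fg_span (Finset.finite_toSet t)) ?_ g hg
    rw [eq_top_iff]
    intro m _
    have hm : m ∈ Submodule.span (MvPolynomial (Fin (n + 1)) R) (t : Set M) := by
      rw [ht]
      exact Submodule.mem_top
    exact span_subset_iSup hsm φ hφ (t : Set M) hm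

theorem genFreeP_of_finiteType (S : Type u) [CommRing S] [Algebra R S] [Algebra.FiniteType R S] :
    GenFreeP R S := by
  obtain ⟨n, π, hπ⟩ := Algebra.FiniteType.iff_quotient_mvPolynomial''.1
    (inferInstance : Algebra.FiniteType R S)
  exact GenFreeP.of_surjective π hπ (genFreeP_mvPolynomial R n)

end Poly

end Groth.Agent.Lib.Helper28.GenRed
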