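import Mathlib
import Groth.Agent.Lib.Helper28.GenRedFree
import Groth.Agent.Lib.Helper28.GenFreeMain

/-!
# Generic freeness over a reduced base: the final statements (helper28)
-/

set_option autoImplicit false
universe u v w

namespace Groth.Agent.Lib.Helper28.GenRed

open TensorProduct
open Groth.Agent.Lib.Helper28.GenFree

section Conv

variable {R : Type u} [CommRing R] {S : Type u} [CommRing S] [Algebra R S]
  {M' : Type u} [AddCommGroup M'] [Module S M'] [Module R M'] [IsScalarTower R S M']
  {M : Type u} [AddCommGroup M] [Module S M] [Module R M] [IsScalarTower R S M]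

lemma localizedModule_map_bijective_of_pow_torsion (f : R) (σ : M' →ₗ[S] M)
    (hσ : Function.Surjective σ) (hker : ∀ z, σ z = 0 → ∃ k : ℕ, f ^ k • z = 0) :
    Function.Bijective (LocalizedModule.map (Submonoid.powers (algebraMap R S f)) σ) := by
  set g : S := algebraMap R S f with hg
  refine ⟨?_, LocalizedModule.map_surjective (Submonoid.powers g) σ hσ⟩
  rw [injective_iff_map_eq_zero]
  intro z hz
  induction z using LocalizedModule.induction_on with
  | h m d =>
    rw [LocalizedModule.map_mk, ← LocalizedModule.zero_mk d, LocalizedModule.mk_eq] at hz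
    obtain ⟨⟨_, j, rfl⟩, hj⟩ := hz
    simp only [smul_zero] at hj
    rw [Submonoid.smul_def, Submonoid.smul_def, smul_smul] at hj
    have h3 : σ ((g ^ j * (d : S)) • m) = 0 := by
      rw [map_smul]
      exact hj
    obtain ⟨k, hk⟩ := hker _ h3
    rw [← LocalizedModule.zero_mk d, LocalizedModule.mk_eq]
    refine ⟨⟨g ^ (k + j), k + j, rfl⟩, ?_⟩
    simp only [smul_zero]
    rw [Submonoid.smul_def, Submonoid.smul_def, smul_smul]
    have : (f ^ k • ((g ^ j * (d : S)) • m)) = (g ^ (k + j) * (d : S)) • m := by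
      rw [← algebraMap_smul S (f ^ k), smul_smul, map_pow, ← hg, pow_add, mul_assoc]
    exact this.symm.trans hk

/-- generic finite generation of the kernel of a presentation gives finite presentation of the
localised module -/
theorem fp_of_gfg {t : ℕ} (π : (Fin t → S) →ₗ[S] M) (hπ : Function.Surjective π) (f : R)
    (h : GFG f (LinearMap.ker π)) :
    Module.FinitePresentation (Localization.Away (algebraMap R S f))
      (LocalizedModule (Submonoid.powers (algebraMap R S f)) M) := by
  obtain ⟨s, hs, hgen⟩ := h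
  set N' : Submodule S (Fin t → S) := Submodule.span S (s : Set (Fin t → S)) with hN'
  have hle : N' ≤ LinearMap.ker π := Submodule.span_le.2 hs
  let σ : ((Fin t → S) ⧸ N') →ₗ[S] M := N'.liftQ π hle
  have hσ : Function.Surjective σ := by
    intro m
    obtain ⟨x, rfl⟩ := hπ m
    exact ⟨N'.mkQ x, rfl⟩
  have hker : ∀ z, σ z = 0 → ∃ k : ℕ, f ^ k • z = 0 := by
    intro z hz
    obtain ⟨x, rfl⟩ := Submodule.mkQ_surjective _ z
    have hx : x ∈ LinearMap.ker π := hz
    obtain ⟨k, hk⟩ := hgen x hx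
    refine ⟨k, ?_⟩
    rw [← LinearMap.map_smul_of_tower, Submodule.mkQ_apply, Submodule.Quotient.mk_eq_zero]
    exact hk
  haveI : Module.FinitePresentation S ((Fin t → S) ⧸ N') :=
    Module.finitePresentation_of_free_of_surjective N'.mkQ (Submodule.mkQ_surjective _)
      (by rw [Submodule.ker_mkQ]; exact Submodule.fg_span (Finset.finite_toSet s))
  exact Module.FinitePresentation.of_equiv
    (LinearEquiv.ofBijective (LocalizedModule.map (Submonoid.powers (algebraMap R S f)) σ)
      (localizedModule_map_bijective_of_pow_torsion f σ hσ hker))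

end Conv

section AlgFP

variable {R : Type u} [CommRing R] {S : Type u} [CommRing S] [Algebra R S]
  {P : Type u} [CommRing P] [Algebra R P] [Algebra.FinitePresentation R P]

/-- generic finite generation of the kernel of a presentation gives finite presentation of the
localised algebra -/
theorem awayMap_fp_of_gfg (π : P →ₐ[R] S) (hπ : Function.Surjective π) (f : R)
    (h : GFG f (RingHom.ker (π : P →+* S) : Ideal P)) :
    (Localization.awayMap (algebraMap R S) f).FinitePresentation := by
  obtain ⟨s, hs, hgen⟩ := h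
  set I₀ : Ideal P := Ideal.span (s : Set P) with hI₀
  have hle : ∀ a ∈ I₀, π a = 0 := by
    intro a ha
    have : I₀ ≤ RingHom.ker (π : P →+* S) := Ideal.span_le.2 hs
    exact this ha
  haveI : Algebra.FinitePresentation R (P ⧸ I₀) :=
    Algebra.FinitePresentation.quotient ⟨s, rfl⟩
  let πb : (P ⧸ I₀) →ₐ[R] S := Ideal.Quotient.liftₐ I₀ π hle
  have hπb : Function.Surjective πb := by
    intro x
    obtain ⟨p, rfl⟩ := hπ x
    exact ⟨Ideal.Quotient.mk I₀ p, rfl⟩
  have hker : ∀ z, πb z = 0 → ∃ k : ℕ, f ^ k • z = 0 := by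
    intro z hz
    obtain ⟨p, rfl⟩ := Ideal.Quotient.mk_surjective z
    have hp : p ∈ RingHom.ker (π : P →+* S) := hz
    obtain ⟨k, hk⟩ := hgen p hp
    refine ⟨k, ?_⟩
    have : f ^ k • Ideal.Quotient.mk I₀ p = Ideal.Quotient.mk I₀ (f ^ k • p) := rfl
    rw [this]
    exact Ideal.Quotient.eq_zero_iff_mem.2 hk
  set g : S := algebraMap R S f with hg
  set aT : P ⧸ I₀ := algebraMap R (P ⧸ I₀) f with haT
  have hπa : πb aT = g := πb.commutes f
  let ρ : (P ⧸ I₀) →+* Localization.Away g :=
    (algebraMap S (Localization.Away g)).comp (πb : (P ⧸ I₀) →+* S)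
  letI : Algebra (P ⧸ I₀) (Localization.Away g) := ρ.toAlgebra
  have hρ : ∀ x, algebraMap (P ⧸ I₀) (Localization.Away g) x =
      algebraMap S (Localization.Away g) (πb x) := fun _ => rfl
  haveI : IsLocalization.Away aT (Localization.Away g) := by
    rw [IsLocalization.Away, isLocalization_iff]
    refine ⟨?_, ?_, ?_⟩
    · rintro ⟨_, k, rfl⟩
      rw [hρ, map_pow, hπa]
      exact IsLocalization.map_units (Localization.Away g) (⟨g ^ k, k, rfl⟩ : Submonoid.powers g)
    · intro z
      obtain ⟨⟨x, ⟨_, k, rfl⟩⟩, hx⟩ := IsLocalization.surj (Submonoid.powers g) z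
      obtain ⟨y, rfl⟩ := hπb x
      refine ⟨(y, ⟨aT ^ k, k, rfl⟩), ?_⟩
      rw [hρ, hρ, map_pow, hπa]
      exact hx
    · intro x y hxy
      rw [hρ, hρ] at hxy
      obtain ⟨⟨_, j, rfl⟩, hc⟩ := IsLocalization.exists_of_eq (M := Submonoid.powers g) hxy
      have h0 : πb (aT ^ j * (x - y)) = 0 := by
        rw [map_mul, map_pow, hπa, map_sub, mul_sub]
        exact sub_eq_zero.2 hc
      obtain ⟨k, hk⟩ := hker _ h0
      refine ⟨⟨aT ^ (k + j), k + j, rfl⟩, ?_⟩
      have h1 : aT ^ (k + j) * (x - y) = 0 := by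
        rw [pow_add, mul_assoc, ← hk, haT, ← map_pow, Algebra.smul_def]
      rw [← sub_eq_zero, ← mul_sub]
      exact h1
  have h1 : (algebraMap (P ⧸ I₀) (Localization.Away g)).FinitePresentation := by
    rw [RingHom.finitePresentation_algebraMap]
    exact IsLocalization.Away.finitePresentation aT
  have h2 : (algebraMap R (P ⧸ I₀)).FinitePresentation := by
    rw [RingHom.finitePresentation_algebraMap]
    infer_instance
  have h3 := RingHom.FinitePresentation.comp h1 h2
  have h4 : (algebraMap (P ⧸ I₀) (Localization.Away g)).comp (algebraMap R (P ⧸ I₀)) =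
      (Localization.awayMap (algebraMap R S) f).comp (algebraMap R (Localization.Away f)) := by
    ext r
    rw [RingHom.comp_apply, RingHom.comp_apply, hρ, AlgHom.commutes]
    exact (IsLocalization.map_eq _ r).symm
  rw [h4] at h3
  refine RingHom.FinitePresentation.of_comp_finiteType _ h3 ?_
  rw [RingHom.finiteType_algebraMap]
  infer_instance

end AlgFP

section Final

variable (R S : Type u) [CommRing R] [CommRing S] [Algebra R S] [Algebra.FiniteType R S]
  (M : Type u) [AddCommGroup M] [Module S M] [Module R M] [IsScalarTower R S M]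
  [Module.Finite S M]

/-- the conclusion of generic freeness at `f` -/
def Good (f : R) : Prop :=
  Module.Free (Localization.Away f) (LocalizedModule (Submonoid.powers f) M) ∧
  Module.Free (Localization.Away f) (LocalizedModule (Submonoid.powers f) S) ∧
  (Localization.awayMap (algebraMap R S) f).FinitePresentation ∧
  Module.FinitePresentation (Localization.Away (algebraMap R S f))
    (LocalizedModule (Submonoid.powers (algebraMap R S f)) M)

/-- **Generic freeness over an arbitrary base ring**: every nonzero `g` has a nonzero multiple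
`f` such that at every multiple of `f` the algebra `S` and the module `M` become free and finitely
presented. -/
theorem exists_good' (g : R) (hg : g ≠ 0) :
    ∃ f : R, g ∣ f ∧ f ≠ 0 ∧ ∀ f' : R, f ∣ f' → Good R S M f' := by
  obtain ⟨n, π, hπ⟩ := Algebra.FiniteType.iff_quotient_mvPolynomial''.1
    (inferInstance : Algebra.FiniteType R S)
  obtain ⟨t, πM, hπM⟩ := Module.Finite.exists_fin' S M
  have hGF := genFreeP_of_finiteType R S
  have hGNS := genNoeth_of_finiteType R S
  have hGNP := genNoeth_mvPolynomial R n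
  obtain ⟨f₁, hgf₁, hf₁, hM⟩ := hGF M g hg
  obtain ⟨f₂, hf₁f₂, hf₂, hS⟩ := hGF S f₁ hf₁
  obtain ⟨f₃, hf₂f₃, hf₃, hK⟩ := hGNS (Fin t → S) ⊤ (LinearMap.ker πM) Module.Finite.fg_top
    le_top f₂ hf₂
  obtain ⟨f₄, hf₃f₄, hf₄, hJ⟩ := hGNP (MvPolynomial (Fin n) R) ⊤
    (RingHom.ker (π : MvPolynomial (Fin n) R →+* S)) Module.Finite.fg_top le_top f₃ hf₃
  refine ⟨f₄, dvd_trans hgf₁ (dvd_trans hf₁f₂ (dvd_trans hf₂f₃ hf₃f₄)), hf₄,
    fun f' hf' => ⟨?_, ?_, ?_, ?_⟩⟩
  · exact (freeAt_iff_localizedModule f').1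
      (hM.of_dvd (dvd_trans hf₁f₂ (dvd_trans hf₂f₃ (dvd_trans hf₃f₄ hf'))))
  · exact (freeAt_iff_localizedModule f').1
      (hS.of_dvd (dvd_trans hf₂f₃ (dvd_trans hf₃f₄ hf')))
  · exact awayMap_fp_of_gfg π hπ f' (hJ.of_dvd hf')
  · exact fp_of_gfg πM hπM f' (hK.of_dvd (dvd_trans hf₃f₄ hf'))

theorem exists_good (g : R) (hg : g ≠ 0) : ∃ f : R, g ∣ f ∧ f ≠ 0 ∧ Good R S M f := by
  obtain ⟨f, h1, h2, h3⟩ := exists_good' R S M g hg
  exact ⟨f, h1, h2, h3 f dvd_rfl⟩

/-- **Generic freeness over a reduced base** (Stacks 051Z). -/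
theorem reduced_generic [IsReduced R] :
    ∃ U : Set (PrimeSpectrum R), IsOpen U ∧ Dense U ∧ ∀ u ∈ U, ∃ f : R, f ∉ u.asIdeal ∧
      (PrimeSpectrum.basicOpen f : Set (PrimeSpectrum R)) ⊆ U ∧ Good R S M f := by
  refine ⟨⋃ f ∈ {f : R | Good R S M f}, (PrimeSpectrum.basicOpen f : Set (PrimeSpectrum R)),
    ?_, ?_, ?_⟩
  · exact isOpen_biUnion (fun f _ => (PrimeSpectrum.basicOpen f).isOpen)
  · rw [dense_iff_inter_open]
    rintro O hO ⟨x, hx⟩
    obtain ⟨v, ⟨g, rfl⟩, hxv, hvO⟩ :=
      (PrimeSpectrum.isTopologicalBasis_basic_opens).exists_subset_of_mem_open hx hO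
    have hg : g ≠ 0 := by
      rintro rfl
      exact hxv (zero_mem _)
    obtain ⟨f, hgf, hf, hgood⟩ := exists_good R S M g hg
    have hnil : ¬ IsNilpotent f := fun h => hf (isNilpotent_iff_eq_zero.1 h)
    have hne : (PrimeSpectrum.basicOpen f : Set (PrimeSpectrum R)).Nonempty := by
      rw [Set.nonempty_iff_ne_empty]
      intro h
      apply hnil
      rw [← PrimeSpectrum.basicOpen_eq_bot_iff]
      exact TopologicalSpace.Opens.ext h
    obtain ⟨y, hy⟩ := hne
    refine ⟨y, hvO ?_, Set.mem_biUnion hgood hy⟩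
    show g ∉ y.asIdeal
    intro hgy
    exact hy (Ideal.mem_of_dvd _ hgf hgy)
  · intro u hu
    obtain ⟨f, hf, huf⟩ := Set.mem_iUnion₂.1 hu
    exact ⟨f, huf, Set.subset_biUnion_of_mem (u := fun f => (PrimeSpectrum.basicOpen f :
      Set (PrimeSpectrum R))) hf, hf⟩

end Final

end Groth.Agent.Lib.Helper28.GenRed
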