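import Mathlib
import Groth.Agent.Lib.Helper28.GenRedMain

/-!
# Generic flatness and finite presentation for finite type ring homomorphisms (helper28)
-/

set_option autoImplicit false
universe u v w

namespace Groth.Agent.Lib.Helper28.GenRed

open TensorProduct
open Groth.Agent.Lib.Helper28.GenFree

section Transfer

variable {R B : Type u} [CommRing R] [CommRing B] (φ : R →+* B) (r : R)
  (R₁ B₁ R₂ B₂ : Type u) [CommRing R₁] [CommRing B₁] [CommRing R₂] [CommRing B₂]
  [Algebra R R₁] [Algebra B B₁] [Algebra R R₂] [Algebra B B₂]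
  [IsLocalization.Away r R₁] [IsLocalization.Away (φ r) B₁]
  [IsLocalization.Away r R₂] [IsLocalization.Away (φ r) B₂]

lemma away_map_eq :
    IsLocalization.Away.map R₂ B₂ φ r =
      (((IsLocalization.algEquiv (Submonoid.powers (φ r)) B₁ B₂).toRingEquiv.toRingHom.comp
        (IsLocalization.Away.map R₁ B₁ φ r)).comp
        (IsLocalization.algEquiv (Submonoid.powers r) R₁ R₂).toRingEquiv.symm.toRingHom) := by
  apply IsLocalization.ringHom_ext (Submonoid.powers r)
  ext x
  simp only [RingHom.comp_apply, IsLocalization.Away.map, IsLocalization.map_eq]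
  have h1 : (IsLocalization.algEquiv (Submonoid.powers r) R₁ R₂).toRingEquiv.symm.toRingHom
      (algebraMap R R₂ x) = algebraMap R R₁ x := by
    show (IsLocalization.algEquiv (Submonoid.powers r) R₁ R₂).symm (algebraMap R R₂ x) = _
    exact (IsLocalization.algEquiv (Submonoid.powers r) R₁ R₂).symm.commutes x
  rw [h1, IsLocalization.map_eq]
  show _ = (IsLocalization.algEquiv (Submonoid.powers (φ r)) B₁ B₂) (algebraMap B B₁ (φ x))
  exact ((IsLocalization.algEquiv (Submonoid.powers (φ r)) B₁ B₂).commutes (φ x)).symm

lemma away_map_transfer {Q : ∀ {A C : Type u} [CommRing A] [CommRing C], (A →+* C) → Prop}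
    (hQ : RingHom.RespectsIso @Q) (h : Q (IsLocalization.Away.map R₁ B₁ φ r)) :
    Q (IsLocalization.Away.map R₂ B₂ φ r) := by
  rw [away_map_eq φ r R₁ B₁ R₂ B₂]
  exact hQ.2 _ _ (hQ.1 _ _ h)

end Transfer

section RH

variable {R B : Type u} [CommRing R] [CommRing B]

/-- goodness of a ring homomorphism after inverting `r`, for all models of the localisations -/
def GoodRH (φ : R →+* B) (r : R) : Prop :=
  ∀ (R' B' : Type u) [CommRing R'] [CommRing B'] [Algebra R R'] [Algebra B B']
    [IsLocalization.Away r R'] [IsLocalization.Away (φ r) B'],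
    (IsLocalization.Away.map R' B' φ r).Flat ∧
      (IsLocalization.Away.map R' B' φ r).FinitePresentation

attribute [local instance] Algebra.TensorProduct.rightAlgebra in
theorem exists_goodRH (φ : R →+* B) (hφ : φ.FiniteType) (g : R) (hg : g ≠ 0) :
    ∃ r : R, g ∣ r ∧ r ≠ 0 ∧ ∀ r' : R, r ∣ r' → GoodRH φ r' := by
  letI : Algebra R B := φ.toAlgebra
  haveI : Algebra.FiniteType R B := hφ
  have hGF := genFreeP_of_finiteType R B
  obtain ⟨f₁, hgf₁, hf₁, hB⟩ := hGF B g hg
  obtain ⟨f₂, hf₁f₂, hf₂, hgood⟩ := exists_good' R B B f₁ hf₁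
  refine ⟨f₂, dvd_trans hgf₁ hf₁f₂, hf₂, fun r' hr' R' B' _ _ _ _ _ _ => ⟨?_, ?_⟩⟩
  · -- flatness, via the tensor product model
    have hfree : FreeAt r' B := hB.of_dvd (dvd_trans hf₁f₂ hr')
    unfold FreeAt at hfree
    haveI : IsLocalization.Away (φ r') (Localization.Away r' ⊗[R] B) :=
      (IsLocalization.Away.tensorRight r' (Localization.Away r') :
        IsLocalization.Away (algebraMap R B r') (Localization.Away r' ⊗[R] B))
    have hmap : IsLocalization.Away.map (Localization.Away r') (Localization.Away r' ⊗[R] B) φ r' =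
        algebraMap (Localization.Away r') (Localization.Away r' ⊗[R] B) := by
      apply IsLocalization.ringHom_ext (Submonoid.powers r')
      ext x
      simp only [RingHom.comp_apply, IsLocalization.Away.map, IsLocalization.map_eq]
      show (1 : Localization.Away r') ⊗ₜ[R] (φ x) = (algebraMap R (Localization.Away r') x) ⊗ₜ[R] 1
      rw [Algebra.algebraMap_eq_smul_one, TensorProduct.smul_tmul]
      congr 1
      show φ x = x • (1 : B)
      rw [Algebra.smul_def, mul_one]
      rfl
    have hflat : (IsLocalization.Away.map (Localization.Away r')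
        (Localization.Away r' ⊗[R] B) φ r').Flat := by
      rw [hmap, RingHom.flat_algebraMap_iff]
      infer_instance
    exact away_map_transfer φ r' (Localization.Away r') (Localization.Away r' ⊗[R] B) R' B'
      RingHom.Flat.respectsIso hflat
  · have hfp : (IsLocalization.Away.map (Localization.Away r') (Localization.Away (φ r')) φ
        r').FinitePresentation := (hgood r' hr').2.2.1
    exact away_map_transfer φ r' (Localization.Away r') (Localization.Away (φ r')) R' B'
      RingHom.finitePresentation_respectsIso hfp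

end RH

end Groth.Agent.Lib.Helper28.GenRed
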