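import Mathlib
import Groth.Agent.Lib.Helper28.GenRedRingHom

/-!
# Generic flatness for schemes over a reduced base (helper28)
-/

set_option autoImplicit false
universe u

open AlgebraicGeometry CategoryTheory Limits TopologicalSpace

namespace Groth.Agent.Lib.Helper28.GenFlat

open Groth.Agent.Lib.Helper28.GenRed

section Criterion

variable {X S : Scheme.{u}} (f : X ⟶ S)

/-- a local criterion for a property of a restriction of a morphism -/
lemma restrict_of_local {P : MorphismProperty Scheme.{u}}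
    {Q : ∀ {A B : Type u} [CommRing A] [CommRing B], (A →+* B) → Prop}
    [HasRingHomProperty P Q] (hQ : RingHom.StableUnderCompositionWithLocalizationAwaySource @Q)
    (U : S.Opens)
    (H : ∀ x : X, f x ∈ U → ∃ (V : S.affineOpens) (W : X.affineOpens) (_ : V.1 ≤ U)
      (_ : x ∈ W.1) (e : W.1 ≤ f ⁻¹ᵁ V.1), Q (f.appLE V W e).hom) : P (f ∣_ U) := by
  rw [HasRingHomProperty.iff_exists_appLE (P := P) hQ]
  intro x
  obtain ⟨V, W, hVU, hxW, e, hq⟩ := H x.1 x.2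
  have hWU : W.1 ≤ f ⁻¹ᵁ U := e.trans (fun y hy => hVU hy)
  have hV' : IsAffineOpen (U.ι ⁻¹ᵁ V.1) :=
    V.2.preimage_of_isOpenImmersion U.ι (by rw [Scheme.Opens.opensRange_ι]; exact hVU)
  have hW' : IsAffineOpen ((f ⁻¹ᵁ U).ι ⁻¹ᵁ W.1) :=
    W.2.preimage_of_isOpenImmersion (f ⁻¹ᵁ U).ι (by rw [Scheme.Opens.opensRange_ι]; exact hWU)
  have e1 : U.ι ''ᵁ (U.ι ⁻¹ᵁ V.1) = V.1 := by
    rw [Scheme.Hom.image_preimage_eq_opensRange_inf, Scheme.Opens.opensRange_ι]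
    exact inf_eq_right.2 hVU
  have e2 : (f ⁻¹ᵁ U).ι ''ᵁ ((f ⁻¹ᵁ U).ι ⁻¹ᵁ W.1) = W.1 := by
    rw [Scheme.Hom.image_preimage_eq_opensRange_inf, Scheme.Opens.opensRange_ι]
    exact inf_eq_right.2 hWU
  have e' : (f ⁻¹ᵁ U).ι ⁻¹ᵁ W.1 ≤ (f ∣_ U) ⁻¹ᵁ (U.ι ⁻¹ᵁ V.1) := by
    intro y hy
    have h1 : ((f ⁻¹ᵁ U).ι y) ∈ f ⁻¹ᵁ V.1 := e hy
    show U.ι ((f ∣_ U) y) ∈ V.1
    have h2 : U.ι ((f ∣_ U) y) = f ((f ⁻¹ᵁ U).ι y) := by
      rw [← Scheme.Hom.comp_apply, ← Scheme.Hom.comp_apply, morphismRestrict_ι]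
    rw [h2]
    exact h1
  refine ⟨⟨_, hV'⟩, ⟨_, hW'⟩, hxW, e', ?_⟩
  rw [morphismRestrict_appLE]
  exact (f.appLE_congr _ e1 e2 (fun g => Q g.hom)).2 hq

end Criterion

section Main

variable {X S : Scheme.{u}} (f : X ⟶ S)

/-- the good affine opens of the base -/
def GoodOpen (V : S.Opens) : Prop :=
  IsAffineOpen V ∧ ∀ x : X, f x ∈ V → ∃ (W : X.affineOpens) (_ : x ∈ W.1)
    (e : W.1 ≤ f ⁻¹ᵁ V), (f.appLE V W e).hom.Flat ∧ (f.appLE V W e).hom.FinitePresentation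

/-- finitely many finite type ring maps become good simultaneously -/
lemma exists_common_good [LocallyOfFiniteType f] {W₀ : S.Opens} (hW₀ : IsAffineOpen W₀)
    [Nontrivial Γ(S, W₀)] (s : Set X.affineOpens) (hs : s.Finite) :
    ∃ r : Γ(S, W₀), r ≠ 0 ∧ ∀ W ∈ s, ∀ e : W.1 ≤ f ⁻¹ᵁ W₀, ∀ r' : Γ(S, W₀), r ∣ r' →
      GoodRH (f.appLE W₀ W.1 e).hom r' := by
  induction s, hs using Set.Finite.induction_on with
  | empty => exact ⟨1, one_ne_zero, fun W hW => absurd hW (Set.notMem_empty W)⟩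
  | @insert a s _ _ ih =>
    obtain ⟨r, hr, hgood⟩ := ih
    by_cases ha : a.1 ≤ f ⁻¹ᵁ W₀
    · obtain ⟨r₂, hrr₂, hr₂, hg₂⟩ := exists_goodRH (f.appLE W₀ a.1 ha).hom
        (f.finiteType_appLE hW₀ a.2 ha) r hr
      refine ⟨r₂, hr₂, fun W hW e r' hr' => ?_⟩
      rcases hW with rfl | hW
      · exact hg₂ r' hr'
      · exact hgood W hW e r' (dvd_trans hrr₂ hr')
    · refine ⟨r, hr, fun W hW e r' hr' => ?_⟩
      rcases hW with rfl | hW
      · exact absurd e ha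
      · exact hgood W hW e r' hr'

theorem generic_flat [IsReduced S] [LocallyOfFiniteType f] [QuasiCompact f] :
    ∃ U : S.Opens, Dense (U : Set ↑S) ∧ Flat (f ∣_ U) ∧ LocallyOfFinitePresentation (f ∣_ U) := by
  refine ⟨sSup {V | GoodOpen f V}, ?_, ?_, ?_⟩
  · -- density
    rw [dense_iff_inter_open]
    rintro O hO ⟨x₀, hx₀⟩
    obtain ⟨W₀, hW₀, hx₀W₀, hW₀O⟩ := Opens.isBasis_iff_nbhd.mp S.isBasis_affineOpens
      (show x₀ ∈ (⟨O, hO⟩ : S.Opens) from hx₀)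
    haveI : Nonempty W₀ := ⟨⟨x₀, hx₀W₀⟩⟩
    have hcomp : IsCompact (f ⁻¹ᵁ W₀ : Set X) := f.isCompact_preimage hW₀.isCompact
    obtain ⟨s, hs, hcover⟩ := isCompact_iff_finite_and_eq_biUnion_affineOpens.mp hcomp
    obtain ⟨r, hr, hgood⟩ := exists_common_good f hW₀ s hs
    have hVgood : GoodOpen f (S.basicOpen r) := by
      refine ⟨hW₀.basicOpen r, fun x hx => ?_⟩
      have hxW₀ : x ∈ f ⁻¹ᵁ W₀ := S.basicOpen_le r hx
      rw [hcover] at hxW₀
      simp only [Opens.mem_iSup] at hxW₀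
      obtain ⟨W, hWs, hxW⟩ := hxW₀
      have e : W.1 ≤ f ⁻¹ᵁ W₀ := by
        rw [hcover]
        exact le_iSup₂ (f := fun (i : X.affineOpens) (_ : i ∈ s) => (i : X.Opens)) W hWs
      have hb := Scheme.basicOpen_appLE f W.1 W₀ e r
      refine ⟨⟨X.basicOpen (f.appLE W₀ W.1 e r), W.2.basicOpen _⟩, ?_, ?_, ?_⟩
      · show x ∈ X.basicOpen (f.appLE W₀ W.1 e r)
        rw [hb]
        exact ⟨hxW, hx⟩
      · show X.basicOpen (f.appLE W₀ W.1 e r) ≤ _
        rw [hb]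
        exact inf_le_right
      · have h1 := hW₀.appLE_eq_away_map f W.2 e r
        haveI := hW₀.isLocalization_basicOpen r
        haveI := W.2.isLocalization_basicOpen (f.appLE W₀ W.1 e r)
        have h2 := hgood W hWs e r dvd_rfl Γ(S, S.basicOpen r)
          Γ(X, X.basicOpen (f.appLE W₀ W.1 e r))
        show (f.appLE (S.basicOpen r) (X.basicOpen (f.appLE W₀ W.1 e r)) _).hom.Flat ∧
          (f.appLE (S.basicOpen r) (X.basicOpen (f.appLE W₀ W.1 e r)) _).hom.FinitePresentation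
        rw [h1]
        exact h2
    have hne : (S.basicOpen r : Set S).Nonempty := by
      rw [Set.nonempty_iff_ne_empty]
      intro h
      apply hr
      rw [← basicOpen_eq_bot_iff]
      exact Opens.ext h
    obtain ⟨y, hy⟩ := hne
    refine ⟨y, hW₀O (S.basicOpen_le r hy), ?_⟩
    exact (le_sSup (a := S.basicOpen r) hVgood : S.basicOpen r ≤ sSup {V | GoodOpen f V}) hy
  · apply restrict_of_local f (Q := RingHom.Flat)
      (RingHom.Flat.stableUnderComposition.stableUnderCompositionWithLocalizationAway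
        RingHom.Flat.holdsForLocalizationAway).left
    intro x hx
    obtain ⟨V, hV, hxV⟩ := Opens.mem_sSup.1 hx
    obtain ⟨W, hxW, e, h1, -⟩ := hV.2 x hxV
    exact ⟨⟨V, hV.1⟩, W, le_sSup hV, hxW, e, h1⟩
  · apply restrict_of_local f (Q := RingHom.FinitePresentation)
      (RingHom.finitePresentation_stableUnderComposition.stableUnderCompositionWithLocalizationAway
        RingHom.finitePresentation_holdsForLocalizationAway).left
    intro x hx
    obtain ⟨V, hV, hxV⟩ := Opens.mem_sSup.1 hx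
    obtain ⟨W, hxW, e, -, h2⟩ := hV.2 x hxV
    exact ⟨⟨V, hV.1⟩, W, le_sSup hV, hxW, e, h2⟩

end Main

end Groth.Agent.Lib.Helper28.GenFlat
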