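import Groth.Agent.Lib.Helper28.StalkAss
import Groth.Agent.Lib.Helper3.AffinePoints
import Mathlib.RingTheory.Ideal.MinimalPrime.Localization

/-!
# Maximal points (points without proper generizations) vs minimal primes in affine charts
-/

set_option autoImplicit false
universe u

open CategoryTheory AlgebraicGeometry TopologicalSpace Opposite

namespace Groth.Agent.Lib.Helper28.MaxPoint

open Groth.Agent.Lib.Helper28.StalkAss Groth.Agent.Lib.Helper3

variable {X : Scheme.{u}}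

/-- a point of an affine open is a maximal point iff its prime is a minimal prime -/
theorem isMaxPoint_iff_minimalPrimes {V : X.Opens} (hV : IsAffineOpen V) (ξ : X) (hξ : ξ ∈ V) :
    (∀ z : X, z ⤳ ξ → z = ξ) ↔ (hV.primeIdealOf ⟨ξ, hξ⟩).asIdeal ∈ minimalPrimes Γ(X, V) := by
  constructor
  · intro hmax
    refine ⟨⟨(hV.primeIdealOf ⟨ξ, hξ⟩).isPrime, bot_le⟩, fun q hq hle => ?_⟩
    have hqprime : q.IsPrime := hq.1
    obtain ⟨z, hzV, hzq⟩ := exists_point_of_prime hV q
    have hspec : z ⤳ ξ := (primeIdealOf_le_iff_specializes hV z ξ hzV hξ).mp (hzq ▸ hle)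
    have hz := hmax z hspec
    subst hz
    rw [← hzq]
  · intro hmin z hz
    have hzV : z ∈ V := hz.mem_open V.2 hξ
    have hle : (hV.primeIdealOf ⟨z, hzV⟩).asIdeal ≤ (hV.primeIdealOf ⟨ξ, hξ⟩).asIdeal :=
      (primeIdealOf_le_iff_specializes hV z ξ hzV hξ).mpr hz
    have hge := hmin.2 ⟨(hV.primeIdealOf ⟨z, hzV⟩).isPrime, bot_le⟩ hle
    have heq : hV.primeIdealOf ⟨z, hzV⟩ = hV.primeIdealOf ⟨ξ, hξ⟩ :=
      PrimeSpectrum.ext (le_antisymm hle hge)
    have h1 := hV.fromSpec_primeIdealOf ⟨z, hzV⟩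
    have h2 := hV.fromSpec_primeIdealOf ⟨ξ, hξ⟩
    rw [heq] at h1
    exact h1.symm.trans h2

/-- at a maximal point, the maximal ideal of the local ring is a minimal prime -/
theorem maximalIdeal_mem_minimalPrimes_stalk (ξ : X) (hmax : ∀ z : X, z ⤳ ξ → z = ξ) :
    IsLocalRing.maximalIdeal (X.presheaf.stalk ξ) ∈ minimalPrimes (X.presheaf.stalk ξ) := by
  obtain ⟨V, hV, hξV, -⟩ := TopologicalSpace.Opens.isBasis_iff_nbhd.mp X.isBasis_affineOpens
    (show ξ ∈ (⊤ : X.Opens) from trivial)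
  have hV' : IsAffineOpen V := hV
  have hmin := (isMaxPoint_iff_minimalPrimes hV' ξ hξV).mp hmax
  let alg := X.presheaf.algebra_section_stalk ⟨ξ, hξV⟩
  have hloc := hV'.isLocalization_stalk ⟨ξ, hξV⟩
  have h := IsLocalization.minimalPrimes_map (hV'.primeIdealOf ⟨ξ, hξV⟩).asIdeal.primeCompl
    (X.presheaf.stalk ξ) (⊥ : Ideal Γ(X, V))
  rw [Ideal.map_bot] at h
  change IsLocalRing.maximalIdeal (X.presheaf.stalk ξ) ∈ (⊥ : Ideal (X.presheaf.stalk ξ)).minimalPrimes
  rw [h, Set.mem_preimage]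
  have hcomap : Ideal.under Γ(X, V)
      (IsLocalRing.maximalIdeal (X.presheaf.stalk ξ)) = (hV'.primeIdealOf ⟨ξ, hξV⟩).asIdeal :=
    IsLocalization.AtPrime.under_maximalIdeal (X.presheaf.stalk ξ) _
  rw [hcomap]
  exact hmin

/-- at a maximal point, non-units of the local ring are zero divisors -/
theorem notMem_nonZeroDivisors_of_mem_maximalIdeal (ξ : X) (hmax : ∀ z : X, z ⤳ ξ → z = ξ)
    (a : X.presheaf.stalk ξ) (ha : a ∈ IsLocalRing.maximalIdeal (X.presheaf.stalk ξ)) :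
    a ∉ nonZeroDivisors (X.presheaf.stalk ξ) :=
  notMem_nonZeroDivisors_of_mem_mem_minimalPrimes ha (maximalIdeal_mem_minimalPrimes_stalk ξ hmax)

end Groth.Agent.Lib.Helper28.MaxPoint
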