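import Groth.Prelude.Def_MeroDiv

/-!
# Basic lemmas on the concrete sheaf of meromorphic functions `Mero.kmod`
-/

set_option autoImplicit false
universe u

open CategoryTheory AlgebraicGeometry TopologicalSpace Opposite

namespace Groth.Agent.Lib.Helper28.MeroBasic

open Mero

variable {X : Scheme.{u}}

/-- a fraction `a / b` of `K_{X,x}` vanishes iff its numerator does -/
theorem mk_eq_zero_iff {x : X} (a : X.presheaf.stalk x) (b : regStalk X x) :
    (LocalizedModule.mk a b : KStalk X x) = 0 ↔ a = 0 := by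
  constructor
  · intro h
    rw [← LocalizedModule.zero_mk (1 : regStalk X x), LocalizedModule.mk_eq] at h
    obtain ⟨u, hu⟩ := h
    rw [smul_zero, smul_zero, one_smul, Submonoid.smul_def, smul_eq_mul] at hu
    exact (mul_left_mem_nonZeroDivisors_eq_zero_iff (regStalk_le_nonZeroDivisors x u.2)).mp hu
  · rintro rfl
    exact LocalizedModule.zero_mk b

/-- sections of the structure sheaf vanish if all germs vanish -/
theorem section_eq_zero (W : X.Opens) (n : Γ(X, W))
    (h : ∀ (x : X) (hx : x ∈ W), X.presheaf.germ W x hx n = 0) : n = 0 := by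
  refine TopCat.Presheaf.section_ext X.sheaf W n 0 fun x hx => ?_
  exact (h x hx).trans (map_zero (X.presheaf.germ W x hx).hom).symm

theorem kmod_ext {U : X.Opens} {s t : Γ(kmod X, U)} (h : ∀ x : U, s.1 x = t.1 x) : s = t :=
  Subtype.ext (funext h)

/-- local shape of a section of `K_X` -/
theorem kmod_local {U : X.Opens} (s : Γ(kmod X, U)) (x : U) :
    ∃ (W : X.Opens) (_ : x.1 ∈ W) (hWU : W ≤ U) (a : Γ(X, W)) (b : regSub X W),
      ∀ y : W, s.1 ⟨y.1, hWU y.2⟩ = LocalizedModule.mk (X.presheaf.germ W y.1 y.2 a) (regGerm y b) := by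
  obtain ⟨W, hxW, i, a, b, hab⟩ := s.2 x
  exact ⟨W, hxW, i.le, a, b, fun y => hab y⟩

end Groth.Agent.Lib.Helper28.MeroBasic
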