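import Mathlib

/-!
# The ideal of a pulled-back ideal sheaf on affine opens (helper28)
-/

set_option autoImplicit false

universe u

open CategoryTheory AlgebraicGeometry

namespace Groth.Agent.Lib.Helper28

open Scheme

/-- Affine case: the pullback of an ideal sheaf along a morphism of affine schemes is generated
by the image of the ideal. -/
theorem ideal_comap_of_isAffine {X Y : Scheme.{u}} [IsAffine X] [IsAffine Y]
    (I : Y.IdealSheafData) (g : X ⟶ Y) :
    (I.comap g).ideal ⟨⊤, isAffineOpen_top X⟩ =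
      (I.ideal ⟨⊤, isAffineOpen_top Y⟩).map g.appTop.hom := by
  apply le_antisymm
  · set E := (I.ideal ⟨⊤, isAffineOpen_top Y⟩).map g.appTop.hom with hE
    have h1 : I ≤ (IdealSheafData.ofIdealTop E).map g := by
      apply IdealSheafData.le_of_isAffine
      rw [IdealSheafData.ideal_map_of_isAffineHom, ← Ideal.map_le_iff_le_comap]
      simp [E]
      exact le_rfl
    have h2 := IdealSheafData.le_map_iff_comap_le.mp h1
    have h3 := h2 ⟨⊤, isAffineOpen_top X⟩
    simpa using h3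
  · have h1 := I.le_map_comap g
    have h2 := h1 ⟨⊤, isAffineOpen_top Y⟩
    rw [IdealSheafData.ideal_map_of_isAffineHom] at h2
    exact Ideal.map_le_iff_le_comap.mpr h2

private theorem ideal_comap_aux {X Y : Scheme.{u}} (J : Y.IdealSheafData) (f : X ⟶ Y)
    (K : X.IdealSheafData) (V : Y.affineOpens) (W : X.affineOpens) (h : W.1 ≤ f ⁻¹ᵁ V.1)
    (O : X.Opens) (hO : O = W.1) (O' : Y.Opens) (hO' : O' = V.1) (hOa : IsAffineOpen O)
    (hO'a : IsAffineOpen O') (hle : O ≤ f ⁻¹ᵁ O')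
    (key : K.ideal ⟨O, hOa⟩ = (J.ideal ⟨O', hO'a⟩).map (f.appLE O' O hle).hom) :
    K.ideal W = (J.ideal V).map (f.appLE V.1 W.1 h).hom := by
  subst hO hO'
  exact key

/-- The pullback `J.comap f` of an ideal sheaf on an affine open `W ≤ f ⁻¹ V` (`V` affine) is
generated by the image of `J(V)`. -/
theorem ideal_comap_of_le {X Y : Scheme.{u}} (J : Y.IdealSheafData) (f : X ⟶ Y)
    (V : Y.affineOpens) (W : X.affineOpens) (h : W.1 ≤ f ⁻¹ᵁ V.1) :
    (J.comap f).ideal W = (J.ideal V).map (f.appLE V.1 W.1 h).hom := by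
  have : IsAffine (W.1 : Scheme) := W.2
  have : IsAffine (V.1 : Scheme) := V.2
  have hcomp : (J.comap f).comap W.1.ι = (J.comap V.1.ι).comap (f.resLE V.1 W.1 h) := by
    rw [← IdealSheafData.comap_comp, ← IdealSheafData.comap_comp, Scheme.Hom.resLE_comp_ι]
  have key : ((J.comap f).comap W.1.ι).ideal ⟨⊤, isAffineOpen_top (W.1 : Scheme)⟩ =
      ((J.comap V.1.ι).comap (f.resLE V.1 W.1 h)).ideal ⟨⊤, isAffineOpen_top (W.1 : Scheme)⟩ := by
    rw [hcomp]
  rw [ideal_comap_of_isAffine (J.comap V.1.ι) (f.resLE V.1 W.1 h),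
    IdealSheafData.ideal_comap_of_isOpenImmersion (J.comap f) W.1.ι,
    IdealSheafData.ideal_comap_of_isOpenImmersion J V.1.ι] at key
  simp only [Scheme.Opens.ι_appIso, Iso.refl_inv] at key
  have hle : (W.1.ι ''ᵁ ⊤) ≤ f ⁻¹ᵁ (V.1.ι ''ᵁ ⊤) := by
    rw [Scheme.Opens.ι_image_top, Scheme.Opens.ι_image_top]; exact h
  have happ : (f.resLE V.1 W.1 h).appTop = f.appLE (V.1.ι ''ᵁ ⊤) (W.1.ι ''ᵁ ⊤) hle := by
    rw [Scheme.Hom.appTop, Scheme.Hom.app_eq_appLE, Scheme.Hom.resLE_appLE]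
    rfl
  rw [happ] at key
  exact ideal_comap_aux J f (J.comap f) V W h _ W.1.ι_image_top _ V.1.ι_image_top _ _ _ key

end Groth.Agent.Lib.Helper28
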