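import Mathlib
import Groth.Agent.Lib.Helper8.SmoothFiberSch
import Groth.Agent.Lib.Helper3.AffinePoints

/-!
# Affine charts of scheme-theoretic fibres (helper28)
-/

set_option autoImplicit false
set_option linter.style.haveILetI false
universe u
open AlgebraicGeometry CategoryTheory Limits TensorProduct

namespace Groth.Agent.Lib.Helper28.FibreChart


theorem fromSpecResidueField_appLE_aux {Y : Scheme.{u}} (y : Y) (W : Y.Opens) (hy : y ∈ W)
    (g : Spec (Y.residueField y) ⟶ Y) (hg : g = Spec.map (Y.residue y) ≫ Y.fromSpecStalk y)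
    (e : (⊤ : (Spec (Y.residueField y)).Opens) ≤ g ⁻¹ᵁ W) :
    g.appLE W ⊤ e ≫ (Scheme.ΓSpecIso (Y.residueField y)).hom =
      Y.evaluation W y hy := by
  subst hg
  have e' : (⊤ : (Spec (Y.residueField y)).Opens) ≤
      Spec.map (Y.residue y) ⁻¹ᵁ (Y.fromSpecStalk y ⁻¹ᵁ W) := e
  have h1 : (Spec.map (Y.residue y) ≫ Y.fromSpecStalk y).appLE W ⊤ e =
      (Y.fromSpecStalk y).app W ≫ (Spec.map (Y.residue y)).appLE _ ⊤ e' :=
    Scheme.Hom.comp_appLE ..
  rw [h1, Scheme.fromSpecStalk_app hy]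
  simp only [Category.assoc]
  have h2 := Scheme.Hom.map_appLE (Spec.map (Y.residue y)) e' (homOfLE le_top).op
  rw [reassoc_of% h2]
  have h3 : Scheme.Hom.appLE (Spec.map (Y.residue y)) ⊤ ⊤ le_top = (Spec.map (Y.residue y)).appTop := by
    simp [Scheme.Hom.appTop, Scheme.Hom.app_eq_appLE]
  rw [h3, Scheme.ΓSpecIso_naturality, Iso.inv_hom_id_assoc]
  rfl

theorem fromSpecResidueField_appLE {Y : Scheme.{u}} (y : Y) (W : Y.Opens) (hy : y ∈ W)
    (e : (⊤ : (Spec (Y.residueField y)).Opens) ≤ (Y.fromSpecResidueField y) ⁻¹ᵁ W) :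
    (Y.fromSpecResidueField y).appLE W ⊤ e ≫ (Scheme.ΓSpecIso (Y.residueField y)).hom =
      Y.evaluation W y hy :=
  fromSpecResidueField_appLE_aux y W hy _ rfl e

open Groth.Agent.Lib.Helper8.SmoothFiberSch in
theorem chart {X Y : Scheme.{u}} (f : X ⟶ Y) (y : Y) (W : Y.Opens) (hW : IsAffineOpen W)
    (hy : y ∈ W) (U : X.Opens) (hU : IsAffineOpen U) (hUW : U ≤ f ⁻¹ᵁ W) :
    letI := (f.appLE W U hUW).hom.toAlgebra
    letI := (Y.evaluation W y hy).hom.toAlgebra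
    ∃ V' : (f.fiber y).Opens, IsAffineOpen V' ∧ (∀ x, f.fiberι y x ∈ U → x ∈ V') ∧
      Nonempty (Y.residueField y ⊗[Γ(Y, W)] Γ(X, U) ≃+* Γ(f.fiber y, V')) := by
  letI algRB : Algebra Γ(Y, W) Γ(X, U) := (f.appLE W U hUW).hom.toAlgebra
  letI algRK : Algebra Γ(Y, W) (Y.residueField y) := (Y.evaluation W y hy).hom.toAlgebra
  have h : IsPullback (f.fiberι y) (f.fiberToSpecResidueField y) f (Y.fromSpecResidueField y) :=
    IsPullback.of_hasPullback f (Y.fromSpecResidueField y)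
  have hW' : IsAffineOpen (⊤ : (Spec (Y.residueField y)).Opens) := isAffineOpen_top _
  have hW'W : (⊤ : (Spec (Y.residueField y)).Opens) ≤ (Y.fromSpecResidueField y) ⁻¹ᵁ W := by
    intro s _
    show (Y.fromSpecResidueField y) s ∈ W
    rw [Scheme.fromSpecResidueField_apply]; exact hy
  obtain ⟨hV', hpo⟩ := affine_chart_of_opens f (Y.fromSpecResidueField y) _ _ h W hW U hU ⊤ hW'
    hUW hW'W
  refine ⟨_, hV', fun x hx => ⟨hx, trivial⟩, ?_⟩
  have H2 : IsPushout (f.appLE W U hUW) (Y.evaluation W y hy)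
      ((f.fiberι y).appLE U _ inf_le_left)
      ((Scheme.ΓSpecIso (Y.residueField y)).inv ≫
        (f.fiberToSpecResidueField y).appLE ⊤ _ inf_le_right) :=
    hpo.of_iso (Iso.refl _) (Iso.refl _) (Scheme.ΓSpecIso _) (Iso.refl _) (by simp)
      (by simp [fromSpecResidueField_appLE y W hy]) (by simp) (by simp)
  have H3 := CommRingCat.isPushout_tensorProduct Γ(Y, W) (Y.residueField y) Γ(X, U)
  exact ⟨(H3.isoIsPushout _ _ H2.flip).commRingCatIsoToRingEquiv⟩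

theorem isReduced_chart_of_isReduced_fiber {X Y : Scheme.{u}} (f : X ⟶ Y) (y : Y) (W : Y.Opens)
    (hW : IsAffineOpen W) (hy : y ∈ W) (U : X.Opens) (hU : IsAffineOpen U) (hUW : U ≤ f ⁻¹ᵁ W)
    [IsReduced (f.fiber y)] :
    letI := (f.appLE W U hUW).hom.toAlgebra
    letI := (Y.evaluation W y hy).hom.toAlgebra
    _root_.IsReduced (Y.residueField y ⊗[Γ(Y, W)] Γ(X, U)) := by
  letI algRB : Algebra Γ(Y, W) Γ(X, U) := (f.appLE W U hUW).hom.toAlgebra
  letI algRK : Algebra Γ(Y, W) (Y.residueField y) := (Y.evaluation W y hy).hom.toAlgebra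
  obtain ⟨V', -, -, ⟨ε⟩⟩ := chart f y W hW hy U hU hUW
  exact isReduced_of_injective ε ε.injective

theorem isReduced_fiber_of_charts {X Y : Scheme.{u}} (f : X ⟶ Y) (y : Y) (W : Y.Opens)
    (hW : IsAffineOpen W) (hy : y ∈ W)
    (H : ∀ (U : X.Opens) (_ : IsAffineOpen U) (hUW : U ≤ f ⁻¹ᵁ W),
      letI := (f.appLE W U hUW).hom.toAlgebra
      letI := (Y.evaluation W y hy).hom.toAlgebra
      _root_.IsReduced (Y.residueField y ⊗[Γ(Y, W)] Γ(X, U))) :
    IsReduced (f.fiber y) := by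
  have hst : ∀ x : f.fiber y, _root_.IsReduced ((f.fiber y).presheaf.stalk x) := by
    intro x
    have hx : f.fiberι y x ∈ f ⁻¹ᵁ W := by
      have h1 : f.fiberι y x ∈ Set.range (f.fiberι y) := ⟨x, rfl⟩
      rw [Scheme.Hom.range_fiberι] at h1
      show f (f.fiberι y x) ∈ W
      rw [h1]; exact hy
    obtain ⟨_, ⟨U, hU, rfl⟩, hxU, hUW⟩ :=
      X.isBasis_affineOpens.exists_subset_of_mem_open hx (f ⁻¹ᵁ W).2
    letI algRB : Algebra Γ(Y, W) Γ(X, U) := (f.appLE W U hUW).hom.toAlgebra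
    letI algRK : Algebra Γ(Y, W) (Y.residueField y) := (Y.evaluation W y hy).hom.toAlgebra
    obtain ⟨V', hV', hmem, ⟨ε⟩⟩ := chart f y W hW hy U hU hUW
    haveI hred : _root_.IsReduced Γ(f.fiber y, V') :=
      @isReduced_of_injective _ _ _ _ _ _ _ ε.symm ε.symm.injective (H U hU hUW)
    have hxV' : x ∈ V' := hmem x hxU
    letI : Algebra Γ(f.fiber y, V') ((f.fiber y).presheaf.stalk x) :=
      TopCat.Presheaf.algebra_section_stalk (f.fiber y).presheaf (U := V') ⟨x, hxV'⟩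
    haveI := hV'.isLocalization_stalk ⟨x, hxV'⟩
    exact isReduced_localizationPreserves (hV'.primeIdealOf ⟨x, hxV'⟩).asIdeal.primeCompl
      ((f.fiber y).presheaf.stalk x) hred
  exact isReduced_of_isReduced_stalk _

open Groth.Agent.Lib.Helper3 in
theorem ker_evaluation {Y : Scheme.{u}} (W : Y.Opens) (hW : IsAffineOpen W) (y : Y) (hy : y ∈ W) :
    RingHom.ker (Y.evaluation W y hy).hom = (hW.primeIdealOf ⟨y, hy⟩).asIdeal := by
  ext a
  rw [RingHom.mem_ker, Scheme.evaluation_eq_zero_iff_notMem_basicOpen,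
    mem_basicOpen_iff_notMem_primeIdealOf hW y hy, not_not]

theorem evaluation_frac {Y : Scheme.{u}} (W : Y.Opens) (hW : IsAffineOpen W) (y : Y) (hy : y ∈ W)
    (k : Y.residueField y) :
    ∃ a s : Γ(Y, W), s ∉ (hW.primeIdealOf ⟨y, hy⟩).asIdeal ∧
      k * (Y.evaluation W y hy).hom s = (Y.evaluation W y hy).hom a := by
  obtain ⟨z, rfl⟩ := Y.residue_surjective y k
  letI algA : Algebra Γ(Y, W) (Y.presheaf.stalk y) :=
    TopCat.Presheaf.algebra_section_stalk Y.presheaf (U := W) ⟨y, hy⟩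
  haveI := hW.isLocalization_stalk ⟨y, hy⟩
  obtain ⟨⟨a, s⟩, hs⟩ := IsLocalization.surj (hW.primeIdealOf ⟨y, hy⟩).asIdeal.primeCompl z
  refine ⟨a, s.1, s.2, ?_⟩
  have := congrArg (Y.residue y).hom hs
  rw [map_mul] at this
  exact this

section point

variable {X Y Z : Scheme.{u}} (f : X ⟶ Y) {K : Type u} [Field K] (ψ : Spec (.of K) ⟶ Y)
  (fst : Z ⟶ X) (snd : Z ⟶ Spec (.of K)) (h : IsPullback fst snd f ψ)

include h in
open Groth.Agent.Lib.Helper8.SmoothFiberSch in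
/-- Affine chart of the base change of `f` to a field-valued point. -/
theorem chart_point (W : Y.Opens) (hW : IsAffineOpen W)
    (hψ : (⊤ : (Spec (.of K)).Opens) ≤ ψ ⁻¹ᵁ W) (U : X.Opens) (hU : IsAffineOpen U)
    (hUW : U ≤ f ⁻¹ᵁ W) :
    letI := (f.appLE W U hUW).hom.toAlgebra
    letI := (ψ.appLE W ⊤ hψ ≫ (Scheme.ΓSpecIso (.of K)).hom).hom.toAlgebra
    ∃ V' : Z.Opens, IsAffineOpen V' ∧ (∀ z, fst z ∈ U → z ∈ V') ∧
      Nonempty (K ⊗[Γ(Y, W)] Γ(X, U) ≃+* Γ(Z, V')) := by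
  letI algRB : Algebra Γ(Y, W) Γ(X, U) := (f.appLE W U hUW).hom.toAlgebra
  letI algRK : Algebra Γ(Y, W) K :=
    (ψ.appLE W ⊤ hψ ≫ (Scheme.ΓSpecIso (.of K)).hom).hom.toAlgebra
  have hW' : IsAffineOpen (⊤ : (Spec (.of K)).Opens) := isAffineOpen_top _
  obtain ⟨hV', hpo⟩ := affine_chart_of_opens f ψ snd fst h W hW U hU ⊤ hW' hUW hψ
  refine ⟨_, hV', fun x hx => ⟨hx, trivial⟩, ?_⟩
  have H2 : IsPushout (f.appLE W U hUW)
      (ψ.appLE W ⊤ hψ ≫ (Scheme.ΓSpecIso (.of K)).hom)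
      (fst.appLE U _ inf_le_left)
      ((Scheme.ΓSpecIso (.of K)).inv ≫ snd.appLE ⊤ _ inf_le_right) :=
    hpo.of_iso (Iso.refl _) (Iso.refl _) (Scheme.ΓSpecIso _) (Iso.refl _) (by simp)
      (by simp) (by simp) (by simp)
  have H3 := CommRingCat.isPushout_tensorProduct Γ(Y, W) K Γ(X, U)
  exact ⟨(H3.isoIsPushout _ _ H2.flip).commRingCatIsoToRingEquiv⟩

include h in
theorem isReduced_chart_point (W : Y.Opens) (hW : IsAffineOpen W)
    (hψ : (⊤ : (Spec (.of K)).Opens) ≤ ψ ⁻¹ᵁ W) (U : X.Opens) (hU : IsAffineOpen U)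
    (hUW : U ≤ f ⁻¹ᵁ W) [IsReduced Z] :
    letI := (f.appLE W U hUW).hom.toAlgebra
    letI := (ψ.appLE W ⊤ hψ ≫ (Scheme.ΓSpecIso (.of K)).hom).hom.toAlgebra
    _root_.IsReduced (K ⊗[Γ(Y, W)] Γ(X, U)) := by
  letI algRB : Algebra Γ(Y, W) Γ(X, U) := (f.appLE W U hUW).hom.toAlgebra
  letI algRK : Algebra Γ(Y, W) K :=
    (ψ.appLE W ⊤ hψ ≫ (Scheme.ΓSpecIso (.of K)).hom).hom.toAlgebra
  obtain ⟨V', -, -, ⟨ε⟩⟩ := chart_point f ψ fst snd h W hW hψ U hU hUW
  exact isReduced_of_injective ε ε.injective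

include h in
theorem isReduced_of_charts_point (W : Y.Opens) (hW : IsAffineOpen W)
    (hψ : (⊤ : (Spec (.of K)).Opens) ≤ ψ ⁻¹ᵁ W)
    (H : ∀ (U : X.Opens) (_ : IsAffineOpen U) (hUW : U ≤ f ⁻¹ᵁ W),
      letI := (f.appLE W U hUW).hom.toAlgebra
      letI := (ψ.appLE W ⊤ hψ ≫ (Scheme.ΓSpecIso (.of K)).hom).hom.toAlgebra
      _root_.IsReduced (K ⊗[Γ(Y, W)] Γ(X, U))) :
    IsReduced Z := by
  have hst : ∀ x : Z, _root_.IsReduced (Z.presheaf.stalk x) := by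
    intro x
    have hx : fst x ∈ f ⁻¹ᵁ W := by
      show f (fst x) ∈ W
      rw [← Scheme.Hom.comp_apply, h.w, Scheme.Hom.comp_apply]
      exact hψ (Set.mem_univ (snd x))
    obtain ⟨_, ⟨U, hU, rfl⟩, hxU, hUW⟩ :=
      X.isBasis_affineOpens.exists_subset_of_mem_open hx (f ⁻¹ᵁ W).2
    letI algRB : Algebra Γ(Y, W) Γ(X, U) := (f.appLE W U hUW).hom.toAlgebra
    letI algRK : Algebra Γ(Y, W) K :=
      (ψ.appLE W ⊤ hψ ≫ (Scheme.ΓSpecIso (.of K)).hom).hom.toAlgebra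
    obtain ⟨V', hV', hmem, ⟨ε⟩⟩ := chart_point f ψ fst snd h W hW hψ U hU hUW
    haveI hred : _root_.IsReduced Γ(Z, V') :=
      @isReduced_of_injective _ _ _ _ _ _ _ ε.symm ε.symm.injective (H U hU hUW)
    have hxV' : x ∈ V' := hmem x hxU
    letI : Algebra Γ(Z, V') (Z.presheaf.stalk x) :=
      TopCat.Presheaf.algebra_section_stalk Z.presheaf (U := V') ⟨x, hxV'⟩
    haveI := hV'.isLocalization_stalk ⟨x, hxV'⟩
    exact isReduced_localizationPreserves (hV'.primeIdealOf ⟨x, hxV'⟩).asIdeal.primeCompl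
      (Z.presheaf.stalk x) hred
  exact isReduced_of_isReduced_stalk _

end point

/-- The ring map of a field-valued point factoring through the residue field. -/
theorem SpecMap_fromSpecResidueField_appLE {Y : Scheme.{u}} (y : Y) (W : Y.Opens) (hy : y ∈ W)
    {K : Type u} [Field K] (φ : Y.residueField y ⟶ .of K)
    (e : (⊤ : (Spec (.of K)).Opens) ≤ (Spec.map φ ≫ Y.fromSpecResidueField y) ⁻¹ᵁ W) :
    (Spec.map φ ≫ Y.fromSpecResidueField y).appLE W ⊤ e ≫ (Scheme.ΓSpecIso (.of K)).hom =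
      Y.evaluation W y hy ≫ φ := by
  have e₁ : (⊤ : (Spec (Y.residueField y)).Opens) ≤ (Y.fromSpecResidueField y) ⁻¹ᵁ W := by
    intro s _
    show (Y.fromSpecResidueField y) s ∈ W
    rw [Scheme.fromSpecResidueField_apply]; exact hy
  have e₂ : (⊤ : (Spec (.of K)).Opens) ≤ (Spec.map φ) ⁻¹ᵁ ⊤ := le_top
  have h1 : (Spec.map φ ≫ Y.fromSpecResidueField y).appLE W ⊤ e =
      (Y.fromSpecResidueField y).appLE W ⊤ e₁ ≫ (Spec.map φ).appLE ⊤ ⊤ e₂ :=
    (Scheme.Hom.appLE_comp_appLE ..).symm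
  have h3 : Scheme.Hom.appLE (Spec.map φ) ⊤ ⊤ e₂ = (Spec.map φ).appTop := by
    simp [Scheme.Hom.appTop, Scheme.Hom.app_eq_appLE]
  rw [h1, h3, Category.assoc, Scheme.ΓSpecIso_naturality, ← Category.assoc,
    fromSpecResidueField_appLE y W hy e₁]



end Groth.Agent.Lib.Helper28.FibreChart
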