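import Mathlib
import Groth.Agent.Lib.Helper28.GenFreeFT

/-!
# Spreading out properties of the generic fibre: algebra (helper28)

* `exists_torsionFree_away`: a finite module over a finite type algebra over a domain becomes
  torsion free after inverting one nonzero element.
* `exists_smul_pow_eq_zero_of_mem_primes`: an element lying in all primes over `(0)` is killed,
  up to a power, by a nonzero element of the base.
* `cover_spread`: ideals whose zero loci cover the generic fibre cover the fibres over a nonempty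
  open.
-/

set_option autoImplicit false
universe u
open TensorProduct nonZeroDivisors

namespace Groth.Agent.Lib.Helper28.GenFibre

open Groth.Agent.Lib.Helper28.GenFree

section domain

variable {A : Type u} [CommRing A] [IsDomain A] {B : Type u} [CommRing B] [Algebra A B]

/-- Generic torsion-freeness. -/
theorem exists_torsionFree_away [Algebra.FiniteType A B] (M : Type u) [AddCommGroup M]
    [Module B M] [Module A M] [IsScalarTower A B M] [Module.Finite B M] :
    ∃ f : A, f ≠ 0 ∧ ∀ (a : A) (m : M), a ≠ 0 → a • m = 0 → ∃ k : ℕ, f ^ k • m = 0 := by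
  obtain ⟨f, hf, hfree⟩ := genFree_finiteType (R := A) (S := B) M
  refine ⟨f, hf, fun a m ha ham => ?_⟩
  haveI : Module.Free (Localization.Away f) (Localization.Away f ⊗[A] M) := hfree
  haveI : IsDomain (Localization.Away f) := away_isDomain hf
  haveI : IsLocalizedModule (Submonoid.powers f)
      (TensorProduct.mk A (Localization.Away f) M 1) :=
    (isLocalizedModule_iff_isBaseChange (Submonoid.powers f) (Localization.Away f) _).2
      (TensorProduct.isBaseChange A M (Localization.Away f))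
  have h1 : algebraMap A (Localization.Away f) a • ((1 : Localization.Away f) ⊗ₜ[A] m) = 0 := by
    rw [algebraMap_smul, ← TensorProduct.tmul_smul, ham, TensorProduct.tmul_zero]
  have h2 : (1 : Localization.Away f) ⊗ₜ[A] m = 0 :=
    (smul_eq_zero_iff_right (away_algebraMap_ne_zero hf ha)).1 h1
  have h3 : TensorProduct.mk A (Localization.Away f) M 1 m = 0 := h2
  obtain ⟨⟨c, k, rfl⟩, hc⟩ := (IsLocalizedModule.eq_zero_iff (Submonoid.powers f) _).1 h3
  exact ⟨k, hc⟩

/-- An element of `B` lying in every prime of `B` over `(0)` is nilpotent up to `A`-torsion. -/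
theorem exists_smul_pow_eq_zero_of_mem_primes (g : B)
    (hg : ∀ q : Ideal B, q.IsPrime → q.comap (algebraMap A B) = ⊥ → g ∈ q) :
    ∃ (a : A) (n : ℕ), a ≠ 0 ∧ a • g ^ n = 0 := by
  by_contra hcon
  push_neg at hcon
  let S : Submonoid B := (nonZeroDivisors A).map (algebraMap A B) ⊔ Submonoid.powers g
  have hdisj : Disjoint ((⊥ : Ideal B) : Set B) S := by
    rw [Set.disjoint_left]
    intro x hx hxS
    have hx0 : x = 0 := hx
    obtain ⟨y, ⟨a, ha, rfl⟩, z, ⟨n, rfl⟩, hyz⟩ := Submonoid.mem_sup.1 hxS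
    have ha0 : a ≠ 0 := nonZeroDivisors.ne_zero ha
    apply hcon a n ha0
    rw [Algebra.smul_def]
    exact hyz.trans hx0
  obtain ⟨q, hq, -, hqS⟩ := Ideal.exists_le_prime_disjoint ⊥ S hdisj
  have hq0 : q.comap (algebraMap A B) = ⊥ := by
    rw [eq_bot_iff]
    intro a ha
    by_contra ha0
    have ha0' : a ≠ 0 := ha0
    apply Set.disjoint_left.1 hqS ha
    exact Submonoid.mem_sup_left ⟨a, mem_nonZeroDivisors_of_ne_zero ha0', rfl⟩
  exact Set.disjoint_left.1 hqS (hg q hq hq0)
    (Submonoid.mem_sup_right (Submonoid.mem_powers g))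

lemma fg_finset_prod {ι : Type*} (s : Finset ι) (I : ι → Ideal B) (h : ∀ i ∈ s, (I i).FG) :
    (∏ i ∈ s, I i).FG := by
  classical
  induction s using Finset.induction_on with
  | empty =>
    rw [Finset.prod_empty, Ideal.one_eq_top]
    exact ⟨{1}, by simp⟩
  | insert a s ha ih =>
    rw [Finset.prod_insert ha]
    exact Ideal.FG.mul (h a (Finset.mem_insert_self a s))
      (ih fun i hi => h i (Finset.mem_insert_of_mem hi))

/-- Ideals whose zero loci cover the generic fibre cover all fibres over a nonempty open. -/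
theorem cover_spread [Algebra.FiniteType A B] {ι : Type*} [Finite ι] (J : ι → Ideal B)
    (hcov : ∀ q : Ideal B, q.IsPrime → q.comap (algebraMap A B) = ⊥ → ∃ i, J i ≤ q) :
    ∃ g : A, g ≠ 0 ∧ ∀ q : Ideal B, q.IsPrime → algebraMap A B g ∉ q → ∃ i, J i ≤ q := by
  classical
  haveI := Fintype.ofFinite ι
  haveI : IsNoetherianRing (Localization (pR A B)) := isNoetherianRing_pR_finiteType
  have h1 : ∀ i, ∃ J' : Ideal B, J' ≤ J i ∧ J'.FG ∧ ∀ x ∈ J i, ∃ r ∈ A⁰, r • x ∈ J' :=
    fun i => exists_fg_le (R := A) (S' := B) (E := B) (J i)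
  choose J' hJ'le hJ'fg hJ'tors using h1
  -- torsion-freeness of the quotients
  have h2 : ∀ i, ∃ f : A, f ≠ 0 ∧ ∀ x ∈ J i, ∃ k : ℕ, f ^ k • x ∈ J' i := by
    intro i
    obtain ⟨f, hf, hft⟩ := exists_torsionFree_away (A := A) (B := B) (B ⧸ J' i)
    refine ⟨f, hf, fun x hx => ?_⟩
    obtain ⟨r, hr, hrx⟩ := hJ'tors i x hx
    have hmk : ∀ (c : A) (y : B), c • (Ideal.Quotient.mk (J' i) y) =
        Ideal.Quotient.mk (J' i) (c • y) := fun c y =>
      (map_smul (Ideal.Quotient.mkₐ A (J' i)) c y).symm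
    have h0 : r • (Ideal.Quotient.mk (J' i) x) = 0 := by
      rw [hmk, Ideal.Quotient.eq_zero_iff_mem]
      exact hrx
    obtain ⟨k, hk⟩ := hft r _ (nonZeroDivisors.ne_zero hr) h0
    refine ⟨k, ?_⟩
    rw [hmk, Ideal.Quotient.eq_zero_iff_mem] at hk
    exact hk
  choose f hf0 hf using h2
  -- the product of the J' i
  have hPfg : (∏ i, J' i).FG := fg_finset_prod _ _ fun i _ => hJ'fg i
  obtain ⟨T, hT⟩ := hPfg
  have h3 : ∀ g ∈ T, ∃ (a : A) (n : ℕ), a ≠ 0 ∧ a • g ^ n = 0 := by
    intro g hg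
    apply exists_smul_pow_eq_zero_of_mem_primes
    intro q hq hq0
    obtain ⟨i, hi⟩ := hcov q hq hq0
    have hgP : g ∈ ∏ i, J' i := by
      rw [← hT]; exact Submodule.subset_span hg
    have : (∏ i, J' i) ≤ J' i :=
      Ideal.prod_le_inf.trans (Finset.inf_le (Finset.mem_univ i))
    exact hi (hJ'le i (this hgP))
  choose! a n ha0 han using h3
  refine ⟨(∏ g ∈ T, a g) * ∏ i, f i, ?_, fun q hq hgq => ?_⟩
  · exact mul_ne_zero (Finset.prod_ne_zero_iff.2 fun g hg => ha0 g hg)
      (Finset.prod_ne_zero_iff.2 fun i _ => hf0 i)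
  · rw [map_mul, map_prod, map_prod] at hgq
    have hq1 : ∀ g ∈ T, algebraMap A B (a g) ∉ q := by
      intro g hg hmem
      apply hgq
      apply q.mul_mem_right
      rw [← Finset.mul_prod_erase T _ hg]
      exact q.mul_mem_right _ hmem
    have hq2 : ∀ i, algebraMap A B (f i) ∉ q := by
      intro i hmem
      apply hgq
      apply q.mul_mem_left
      rw [← Finset.mul_prod_erase Finset.univ _ (Finset.mem_univ i)]
      exact q.mul_mem_right _ hmem
    have hTq : (∏ i, J' i) ≤ q := by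
      rw [← hT, Ideal.span_le]
      intro g hg
      have h0 : algebraMap A B (a g) * g ^ n g ∈ q := by
        rw [← Algebra.smul_def, han g hg]; exact q.zero_mem
      exact hq.mem_of_pow_mem _ ((hq.mem_or_mem h0).resolve_left (hq1 g hg))
    obtain ⟨i, -, hi⟩ := (Ideal.IsPrime.prod_le hq).1 hTq
    refine ⟨i, fun x hx => ?_⟩
    obtain ⟨k, hk⟩ := hf i x hx
    have h0 : algebraMap A B (f i) ^ k * x ∈ q := by
      rw [← map_pow, ← Algebra.smul_def]; exact hi hk
    exact (hq.mem_or_mem h0).resolve_left fun h => hq2 i (hq.mem_of_pow_mem _ h)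

end domain

section irreducible

variable {R : Type u} [CommRing R] {B : Type u} [CommRing B] [Algebra R B]

lemma map_le_of_le_nilradical (p₀ : Ideal R) (hp₀ : p₀ ≤ nilradical R) (q : Ideal B)
    [hq : q.IsPrime] : p₀.map (algebraMap R B) ≤ q := by
  rw [Ideal.map_le_iff_le_comap]
  intro x hx
  obtain ⟨n, hn⟩ := hp₀ hx
  apply hq.mem_of_pow_mem n
  rw [← map_pow, hn, map_zero]
  exact q.zero_mem

/-- `cover_spread` over a base ring whose nilradical is the prime `p₀`. -/
theorem cover_spread' [Algebra.FiniteType R B] (p₀ : Ideal R) [p₀.IsPrime]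
    (hp₀ : p₀ ≤ nilradical R) {ι : Type*} [Finite ι] (J : ι → Ideal B)
    (hcov : ∀ q : Ideal B, q.IsPrime → q.comap (algebraMap R B) = p₀ → ∃ i, J i ≤ q) :
    ∃ g : R, g ∉ p₀ ∧ ∀ q : Ideal B, q.IsPrime → algebraMap R B g ∉ q → ∃ i, J i ≤ q := by
  let I : Ideal B := p₀.map (algebraMap R B)
  haveI : Algebra.FiniteType (R ⧸ p₀) (B ⧸ I) :=
    Algebra.FiniteType.of_restrictScalars_finiteType R (R ⧸ p₀) (B ⧸ I)
  have hmk : Function.Surjective (Ideal.Quotient.mk I) := Ideal.Quotient.mk_surjective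
  obtain ⟨g', hg'0, hg'⟩ := cover_spread (A := R ⧸ p₀) (B := B ⧸ I)
    (fun i => (J i).map (Ideal.Quotient.mk I)) (by
      intro q' hq' hq'0
      haveI := hq'
      have hq : (q'.comap (Ideal.Quotient.mk I)).IsPrime := Ideal.comap_isPrime _ _
      have hq0 : (q'.comap (Ideal.Quotient.mk I)).comap (algebraMap R B) = p₀ := by
        ext x
        rw [Ideal.mem_comap, Ideal.mem_comap]
        have h1 : Ideal.Quotient.mk I (algebraMap R B x) =
            algebraMap (R ⧸ p₀) (B ⧸ I) (Ideal.Quotient.mk p₀ x) := rfl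
        rw [h1, ← Ideal.mem_comap, hq'0, Ideal.mem_bot, Ideal.Quotient.eq_zero_iff_mem]
      obtain ⟨i, hi⟩ := hcov _ hq hq0
      exact ⟨i, Ideal.map_le_iff_le_comap.2 hi⟩)
  obtain ⟨g, rfl⟩ := Ideal.Quotient.mk_surjective g'
  refine ⟨g, fun h => hg'0 (Ideal.Quotient.eq_zero_iff_mem.2 h), fun q hq hgq => ?_⟩
  haveI := hq
  have hIq : I ≤ q := map_le_of_le_nilradical p₀ hp₀ q
  have hker : RingHom.ker (Ideal.Quotient.mk I) ≤ q := by rwa [Ideal.mk_ker]
  have hq' : (q.map (Ideal.Quotient.mk I)).IsPrime := Ideal.map_isPrime_of_surjective hmk hker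
  have hcm : (q.map (Ideal.Quotient.mk I)).comap (Ideal.Quotient.mk I) = q := by
    rw [Ideal.comap_map_of_surjective _ hmk, ← RingHom.ker_eq_comap_bot, sup_eq_left]
    exact hker
  obtain ⟨i, hi⟩ := hg' _ hq' (by
    intro h
    apply hgq
    have h1 : algebraMap (R ⧸ p₀) (B ⧸ I) (Ideal.Quotient.mk p₀ g) =
        Ideal.Quotient.mk I (algebraMap R B g) := rfl
    rw [h1, ← Ideal.mem_comap, hcm] at h
    exact h)
  refine ⟨i, ?_⟩
  rw [← hcm]
  exact Ideal.map_le_iff_le_comap.1 hi

end irreducible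

end Groth.Agent.Lib.Helper28.GenFibre
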