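import Mathlib
import Groth.Agent.Lib.Helper28.GenFibreAlg
import Groth.Agent.Lib.Helper3.AffinePoints
import Groth.Agent.Lib.Helper3.QCSec
import Groth.Agent.Lib.Helper3.QCProps

/-!
# Spreading out from the generic fibre: topology (helper28)

`exists_open_preimage_subset_iUnion`: for `f : X ⟶ Y` of finite type with `Y` irreducible, finitely
many closed subsets of `X` covering the generic fibre cover `f⁻¹(V)` for an open `V ∋ η`.
-/

set_option autoImplicit false
universe u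
open CategoryTheory CategoryTheory.Limits AlgebraicGeometry TopologicalSpace

namespace Groth.Agent.Lib.Helper28.GenFibreTop

open Groth.Agent.Lib.Helper28.GenFibre Groth.Agent.Lib.Helper3

variable {X Y : Scheme.{u}} (f : X ⟶ Y)

/-- The prime of `f x` in an affine chart is the contraction of the prime of `x`. -/
theorem primeIdealOf_comap {V : Y.Opens} (hV : IsAffineOpen V) {W : X.Opens} (hW : IsAffineOpen W)
    (e : W ≤ f ⁻¹ᵁ V) (x : X) (hx : x ∈ W) :
    (hV.primeIdealOf ⟨f x, e hx⟩).asIdeal =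
      (hW.primeIdealOf ⟨x, hx⟩).asIdeal.comap (f.appLE V W e).hom := by
  have h1 : hV.fromSpec (Spec.map (f.appLE V W e) (hW.primeIdealOf ⟨x, hx⟩)) = f x := by
    rw [← Scheme.Hom.comp_apply, hV.SpecMap_appLE_fromSpec f hW e, Scheme.Hom.comp_apply,
      hW.fromSpec_primeIdealOf]
  have h2 : hV.fromSpec (hV.primeIdealOf ⟨f x, e hx⟩) = f x := hV.fromSpec_primeIdealOf _
  have h3 := hV.fromSpec.isOpenEmbedding.injective (h1.trans h2.symm)
  rw [← h3]
  rfl

/-- In an irreducible scheme the prime of the generic point in any affine chart is contained in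
the nilradical. -/
theorem primeIdealOf_genericPoint_le_nilradical [IrreducibleSpace Y] {V : Y.Opens}
    (hV : IsAffineOpen V) (hη : genericPoint Y ∈ V) :
    (hV.primeIdealOf ⟨genericPoint Y, hη⟩).asIdeal ≤ nilradical Γ(Y, V) := by
  rw [nilradical_eq_sInf]
  refine le_sInf fun J hJ => ?_
  have hJ' : J.IsPrime := hJ
  set y : Y := hV.fromSpec ⟨J, hJ'⟩ with hy
  have hyV : y ∈ V := by
    have : y ∈ Set.range hV.fromSpec := ⟨_, rfl⟩
    rwa [hV.range_fromSpec] at this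
  have h1 : hV.primeIdealOf ⟨y, hyV⟩ = ⟨J, hJ'⟩ :=
    hV.fromSpec.isOpenEmbedding.injective (hV.fromSpec_primeIdealOf ⟨y, hyV⟩)
  have h2 := (primeIdealOf_le_iff_specializes hV (genericPoint Y) y hη hyV).2
    ((genericPoint_spec Y).specializes (Set.mem_univ y))
  rw [h1] at h2
  exact h2

/-- Finitely many closed subsets of `X` covering the generic fibre of a finite type morphism to an
irreducible scheme cover the preimage of an open neighbourhood of the generic point. -/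
theorem exists_open_preimage_subset_iUnion [IrreducibleSpace Y] [LocallyOfFiniteType f]
    [QuasiCompact f] {ι : Type*} [Finite ι] (T : ι → Set X) (hT : ∀ i, IsClosed (T i))
    (hcov : f ⁻¹' {genericPoint Y} ⊆ ⋃ i, T i) :
    ∃ V : Y.Opens, genericPoint Y ∈ V ∧ f ⁻¹' (V : Set Y) ⊆ ⋃ i, T i := by
  classical
  obtain ⟨V₀, hV₀, hηV₀⟩ := QCProps.exists_affine_nbhd (genericPoint Y)
  have hc : IsCompact ((f ⁻¹ᵁ V₀ : X.Opens) : Set X) := f.isCompact_preimage hV₀.isCompact
  obtain ⟨κ, hκ, W, hWa, hWV, hWcov⟩ := QCSec.exists_finite_affine_cover (f ⁻¹ᵁ V₀) hc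
  set p₀ : Ideal Γ(Y, V₀) := (hV₀.primeIdealOf ⟨genericPoint Y, hηV₀⟩).asIdeal with hp₀def
  haveI : p₀.IsPrime := (hV₀.primeIdealOf ⟨genericPoint Y, hηV₀⟩).isPrime
  have hp₀ : p₀ ≤ nilradical Γ(Y, V₀) := primeIdealOf_genericPoint_le_nilradical hV₀ hηV₀
  have key : ∀ j, ∃ g : Γ(Y, V₀), g ∉ p₀ ∧
      ∀ x ∈ W j, f x ∈ Y.basicOpen g → ∃ i, x ∈ T i := by
    intro j
    letI : Algebra Γ(Y, V₀) Γ(X, W j) := (f.appLE V₀ (W j) (hWV j)).hom.toAlgebra
    haveI : Algebra.FiniteType Γ(Y, V₀) Γ(X, W j) := f.finiteType_appLE hV₀ (hWa j) (hWV j)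
    let J : ι → Ideal Γ(X, W j) := fun i =>
      PrimeSpectrum.vanishingIdeal ((hWa j).fromSpec ⁻¹' T i)
    have hJ : ∀ i (q : PrimeSpectrum Γ(X, W j)),
        J i ≤ q.asIdeal ↔ (hWa j).fromSpec q ∈ T i := by
      intro i q
      have hcl : IsClosed ((hWa j).fromSpec ⁻¹' T i) :=
        (hT i).preimage (hWa j).fromSpec.continuous
      have h0 : q ∈ PrimeSpectrum.zeroLocus (J i : Set Γ(X, W j)) ↔ J i ≤ q.asIdeal :=
        PrimeSpectrum.mem_zeroLocus q _
      rw [← h0, PrimeSpectrum.zeroLocus_vanishingIdeal_eq_closure]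
      exact Set.ext_iff.1 hcl.closure_eq q
    obtain ⟨g, hg, hgq⟩ := cover_spread' p₀ hp₀ J (by
      intro q hq hq0
      set x : X := (hWa j).fromSpec ⟨q, hq⟩ with hx
      have hxW : x ∈ W j := by
        have : x ∈ Set.range (hWa j).fromSpec := ⟨_, rfl⟩
        rwa [(hWa j).range_fromSpec] at this
      have h1 : (hWa j).primeIdealOf ⟨x, hxW⟩ = ⟨q, hq⟩ :=
        (hWa j).fromSpec.isOpenEmbedding.injective ((hWa j).fromSpec_primeIdealOf ⟨x, hxW⟩)
      have h2 := primeIdealOf_comap f hV₀ (hWa j) (hWV j) x hxW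
      rw [h1] at h2
      have h3 : (hV₀.primeIdealOf ⟨f x, hWV j hxW⟩) =
          hV₀.primeIdealOf ⟨genericPoint Y, hηV₀⟩ := by
        apply PrimeSpectrum.ext
        rw [h2]
        exact hq0
      have hfx : f x = genericPoint Y := by
        have := congrArg hV₀.fromSpec h3
        rwa [hV₀.fromSpec_primeIdealOf, hV₀.fromSpec_primeIdealOf] at this
      obtain ⟨i, hi⟩ := Set.mem_iUnion.1 (hcov hfx)
      exact ⟨i, (hJ i ⟨q, hq⟩).2 hi⟩)
    refine ⟨g, hg, fun x hx hfx => ?_⟩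
    set q := (hWa j).primeIdealOf ⟨x, hx⟩ with hqdef
    have hq : (hWa j).fromSpec q = x := (hWa j).fromSpec_primeIdealOf ⟨x, hx⟩
    have hgx : algebraMap Γ(Y, V₀) Γ(X, W j) g ∉ q.asIdeal := by
      rw [← mem_basicOpen_iff_notMem_primeIdealOf (hWa j) x hx]
      change x ∈ X.basicOpen ((f.appLE V₀ (W j) (hWV j)).hom g)
      rw [Scheme.basicOpen_appLE]
      exact ⟨hx, hfx⟩
    obtain ⟨i, hi⟩ := hgq q.asIdeal q.isPrime hgx
    exact ⟨i, hq ▸ (hJ i q).1 hi⟩
  choose g hg hgT using key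
  haveI := Fintype.ofFinite κ
  refine ⟨Y.basicOpen (∏ j, g j), ?_, fun x hx => ?_⟩
  · rw [mem_basicOpen_iff_notMem_primeIdealOf hV₀ _ hηV₀]
    intro h
    obtain ⟨j, -, hj⟩ := (Ideal.IsPrime.prod_mem_iff).1 h
    exact hg j hj
  · have hxV : x ∈ f ⁻¹ᵁ V₀ := Y.basicOpen_le _ hx
    obtain ⟨j, hj⟩ := TopologicalSpace.Opens.mem_iSup.1 (hWcov hxV)
    have hxj : f x ∈ Y.basicOpen (g j) := by
      have h1 : (∏ j, g j) = g j * ∏ k ∈ Finset.univ.erase j, g k :=
        (Finset.mul_prod_erase Finset.univ g (Finset.mem_univ j)).symm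
      have h2 : f x ∈ Y.basicOpen (∏ j, g j) := hx
      rw [h1, Scheme.basicOpen_mul] at h2
      exact h2.1
    obtain ⟨i, hi⟩ := hgT j x hj hxj
    exact Set.mem_iUnion.2 ⟨i, hi⟩

end Groth.Agent.Lib.Helper28.GenFibreTop
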