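import Mathlib
import Groth.Agent.Lib.Helper28.GenFibreAlg

/-!
# Non-reducedness of the generic fibre spreads out: algebra (helper28)
-/

set_option autoImplicit false
universe u
open TensorProduct nonZeroDivisors

namespace Groth.Agent.Lib.Helper28.GenFibre

open Groth.Agent.Lib.Helper28.GenFree

section domain

variable {A : Type u} [CommRing A] [IsDomain A] {B : Type u} [CommRing B] [Algebra A B]
  [Algebra.FiniteType A B]

/-- If the generic fibre `K ⊗ B` is not reduced, then `L ⊗ B` is not reduced for every field `L`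
over `A` in which a certain nonzero `g` stays nonzero. -/
theorem not_isReduced_spread (K : Type u) [Field K] [Algebra A K] [IsFractionRing A K]
    (h : ¬ IsReduced (K ⊗[A] B)) :
    ∃ g : A, g ≠ 0 ∧ ∀ (L : Type u) [Field L] [Algebra A L], algebraMap A L g ≠ 0 →
      ¬ IsReduced (L ⊗[A] B) := by
  classical
  haveI hloc : IsLocalizedModule A⁰ (TensorProduct.mk A K B 1) :=
    (isLocalizedModule_iff_isBaseChange A⁰ K _).2 (TensorProduct.isBaseChange A B K)
  -- a nonzero nilpotent of the form `1 ⊗ b`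
  obtain ⟨z, hz0, hznil⟩ : ∃ z : K ⊗[A] B, z ≠ 0 ∧ IsNilpotent z := by
    by_contra hcon
    push_neg at hcon
    exact h ⟨fun z hz => by_contra fun hz0 => hcon z hz0 hz⟩
  obtain ⟨⟨b, s⟩, hbs⟩ := IsLocalizedModule.surj A⁰ (TensorProduct.mk A K B 1) z
  have hbs' : (s : A) • z = (1 : K) ⊗ₜ[A] b := hbs
  have hb_nil : IsNilpotent ((1 : K) ⊗ₜ[A] b) := by
    rw [← hbs', ← algebraMap_smul (K ⊗[A] B) (s : A) z, smul_eq_mul]
    exact (Commute.all _ _).isNilpotent_mul_left hznil
  have hs0 : algebraMap A K (s : A) ≠ 0 :=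
    IsFractionRing.to_map_ne_zero_of_mem_nonZeroDivisors s.2
  have hb0 : (1 : K) ⊗ₜ[A] b ≠ 0 := by
    rw [← hbs']
    intro h0
    apply hz0
    have : algebraMap A K (s : A) • z = 0 := by rw [algebraMap_smul]; exact h0
    exact (smul_eq_zero_iff_right hs0).1 this
  obtain ⟨n, hn⟩ := hb_nil
  rw [Algebra.TensorProduct.tmul_pow, one_pow] at hn
  have hn' : TensorProduct.mk A K B 1 (b ^ n) = 0 := hn
  obtain ⟨t, ht⟩ := (IsLocalizedModule.eq_zero_iff A⁰ _).1 hn'
  have hbtors : ∀ a : A, a ≠ 0 → a • b ≠ 0 := by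
    intro a ha hab
    apply hb0
    have : TensorProduct.mk A K B 1 b = 0 :=
      (IsLocalizedModule.eq_zero_iff A⁰ _).2 ⟨⟨a, mem_nonZeroDivisors_of_ne_zero ha⟩, hab⟩
    exact this
  -- generic freeness of `B`
  obtain ⟨f, hf, hfree⟩ := genFree_finiteType (R := A) (S := B) B
  haveI : Module.Free (Localization.Away f) (Localization.Away f ⊗[A] B) := hfree
  let β := Module.Free.chooseBasis (Localization.Away f) (Localization.Away f ⊗[A] B)
  haveI : IsLocalizedModule (Submonoid.powers f)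
      (TensorProduct.mk A (Localization.Away f) B 1) :=
    (isLocalizedModule_iff_isBaseChange (Submonoid.powers f) (Localization.Away f) _).2
      (TensorProduct.isBaseChange A B (Localization.Away f))
  have hbf : (1 : Localization.Away f) ⊗ₜ[A] b ≠ 0 := by
    intro h0
    have h1 : TensorProduct.mk A (Localization.Away f) B 1 b = 0 := h0
    obtain ⟨⟨c, k, rfl⟩, hc⟩ := (IsLocalizedModule.eq_zero_iff (Submonoid.powers f) _).1 h1
    exact hbtors (f ^ k) (pow_ne_zero k hf) hc
  have hrepr : β.repr ((1 : Localization.Away f) ⊗ₜ[A] b) ≠ 0 := by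
    intro h0
    exact hbf (β.repr.map_eq_zero_iff.1 h0)
  obtain ⟨i, hi⟩ := Finsupp.ne_iff.1 hrepr
  rw [Finsupp.zero_apply] at hi
  obtain ⟨⟨a, ⟨_, k, rfl⟩⟩, hak⟩ := IsLocalization.surj (Submonoid.powers f)
    (β.repr ((1 : Localization.Away f) ⊗ₜ[A] b) i)
  have hak' : β.repr ((1 : Localization.Away f) ⊗ₜ[A] b) i *
      algebraMap A (Localization.Away f) (f ^ k) = algebraMap A (Localization.Away f) a := hak
  have ha0 : a ≠ 0 := by
    rintro rfl
    rw [map_zero] at hak'
    haveI : IsDomain (Localization.Away f) := away_isDomain hf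
    rcases mul_eq_zero.1 hak' with h1 | h1
    · exact hi h1
    · exact away_algebraMap_ne_zero hf (pow_ne_zero k hf) h1
  refine ⟨(t : A) * f * a, mul_ne_zero (mul_ne_zero (nonZeroDivisors.ne_zero t.2) hf) ha0,
    fun L _ _ hgL => ?_⟩
  rw [map_mul, map_mul] at hgL
  have htL : algebraMap A L (t : A) ≠ 0 := fun h => hgL (by rw [h, zero_mul, zero_mul])
  have hfL : algebraMap A L f ≠ 0 := fun h => hgL (by rw [h, mul_zero, zero_mul])
  have haL : algebraMap A L a ≠ 0 := fun h => hgL (by rw [h, mul_zero])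
  -- the nilpotent element
  have hnilL : ((1 : L) ⊗ₜ[A] b) ^ n = 0 := by
    rw [Algebra.TensorProduct.tmul_pow, one_pow]
    have h1 : algebraMap A L (t : A) • ((1 : L) ⊗ₜ[A] (b ^ n)) = 0 := by
      rw [algebraMap_smul, ← TensorProduct.tmul_smul]
      have : (t : A) • b ^ n = 0 := ht
      rw [this, TensorProduct.tmul_zero]
    exact (smul_eq_zero_iff_right htL).1 h1
  -- it is nonzero
  have hu : IsUnit (algebraMap A L f) := IsUnit.mk0 _ hfL
  let ψ : Localization.Away f →+* L := IsLocalization.Away.lift f hu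
  letI : Algebra (Localization.Away f) L := ψ.toAlgebra
  haveI : IsScalarTower A (Localization.Away f) L :=
    IsScalarTower.of_algebraMap_eq (fun r => (IsLocalization.Away.lift_eq f hu r).symm)
  let φ : B →ₗ[A] L :=
    ((Algebra.linearMap (Localization.Away f) L).restrictScalars A) ∘ₗ
      ((Finsupp.lapply i : (_ →₀ Localization.Away f) →ₗ[Localization.Away f] _).restrictScalars
        A) ∘ₗ (β.repr.toLinearMap.restrictScalars A) ∘ₗ
      (TensorProduct.mk A (Localization.Away f) B 1)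
  have hφb : φ b * algebraMap A L (f ^ k) = algebraMap A L a := by
    have h1 : φ b = algebraMap (Localization.Away f) L
        (β.repr ((1 : Localization.Away f) ⊗ₜ[A] b) i) := rfl
    rw [h1, IsScalarTower.algebraMap_apply A (Localization.Away f) L (f ^ k), ← map_mul, hak',
      ← IsScalarTower.algebraMap_apply]
  have hφb0 : φ b ≠ 0 := by
    intro h0
    rw [h0, zero_mul] at hφb
    exact haL hφb.symm
  have hne : (1 : L) ⊗ₜ[A] b ≠ 0 := by
    intro h0
    have h1 := congrArg ((LinearMap.mul' A L) ∘ₗ (φ.lTensor L)) h0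
    simp only [LinearMap.coe_comp, Function.comp_apply, LinearMap.lTensor_tmul,
      LinearMap.mul'_apply, one_mul, map_zero] at h1
    exact hφb0 h1
  intro hred
  exact hne (IsReduced.eq_zero _ ⟨n, hnilL⟩)

end domain

section general

variable {R : Type u} [CommRing R] {B : Type u} [CommRing B] [Algebra R B]
  [Algebra.FiniteType R B]

/-- Transfer of reducedness through `R ⧸ p₀` for a field `L` over `R`, `p₀ ≤ nilradical R`. -/
theorem isReduced_quot_tensor_iff (p₀ : Ideal R) (hp₀ : p₀ ≤ nilradical R)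
    (L : Type u) [Field L] [Algebra R L] :
    ∃ (_ : Algebra (R ⧸ p₀) L) (_ : IsScalarTower R (R ⧸ p₀) L),
      (IsReduced (L ⊗[R ⧸ p₀] ((R ⧸ p₀) ⊗[R] B)) ↔ IsReduced (L ⊗[R] B)) := by
  have hker : ∀ a ∈ p₀, algebraMap R L a = 0 := by
    intro a ha
    obtain ⟨n, hn⟩ := hp₀ ha
    have : (algebraMap R L a) ^ n = 0 := by rw [← map_pow, hn, map_zero]
    exact pow_eq_zero_iff (by rintro rfl; simp at this) |>.1 this
  letI alg : Algebra (R ⧸ p₀) L := (Ideal.Quotient.lift p₀ (algebraMap R L) hker).toAlgebra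
  haveI tower : IsScalarTower R (R ⧸ p₀) L := IsScalarTower.of_algebraMap_eq (fun r => rfl)
  refine ⟨alg, tower, ?_⟩
  let e := Algebra.TensorProduct.cancelBaseChange R (R ⧸ p₀) L L B
  constructor
  · intro h
    exact isReduced_of_injective e.symm.toRingEquiv e.symm.injective
  · intro h
    exact isReduced_of_injective e.toRingEquiv e.injective

/-- General base: `p₀` a prime contained in the nilradical of `R`, `K` the fraction field of
`R ⧸ p₀` (expressed via kernel and fractions). If `K ⊗ B` is not reduced then there is `g ∉ p₀`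
such that `L ⊗ B` is not reduced for every field `L` over `R` in which `g` stays nonzero. -/
theorem not_isReduced_spread' (p₀ : Ideal R) [p₀.IsPrime] (hp₀ : p₀ ≤ nilradical R)
    (K : Type u) [Field K] [Algebra R K] (hker : RingHom.ker (algebraMap R K) = p₀)
    (hfrac : ∀ x : K, ∃ a s : R, s ∉ p₀ ∧ x * algebraMap R K s = algebraMap R K a)
    (h : ¬ IsReduced (K ⊗[R] B)) :
    ∃ g : R, g ∉ p₀ ∧ ∀ (L : Type u) [Field L] [Algebra R L], algebraMap R L g ≠ 0 →
      ¬ IsReduced (L ⊗[R] B) := by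
  obtain ⟨algK, towerK, hK⟩ := isReduced_quot_tensor_iff (B := B) p₀ hp₀ K
  haveI : IsFractionRing (R ⧸ p₀) K := by
    haveI : FaithfulSMul (R ⧸ p₀) K := by
      rw [faithfulSMul_iff_algebraMap_injective]
      rw [injective_iff_map_eq_zero]
      intro a ha
      obtain ⟨r, rfl⟩ := Ideal.Quotient.mk_surjective a
      have h1 : algebraMap R K r = 0 := by
        rw [IsScalarTower.algebraMap_apply R (R ⧸ p₀) K]; exact ha
      have h2 : r ∈ p₀ := by rw [← hker]; exact h1
      exact Ideal.Quotient.eq_zero_iff_mem.2 h2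
    refine IsFractionRing.of_field (R ⧸ p₀) K (fun x => ?_)
    obtain ⟨a, s, hs, hx⟩ := hfrac x
    refine ⟨Ideal.Quotient.mk p₀ a, Ideal.Quotient.mk p₀ s, ?_⟩
    have hs0 : algebraMap R K s ≠ 0 := by
      intro h0
      exact hs (by rw [← hker]; exact h0)
    have e1 : algebraMap (R ⧸ p₀) K (Ideal.Quotient.mk p₀ a) = algebraMap R K a :=
      (IsScalarTower.algebraMap_apply R (R ⧸ p₀) K a).symm
    have e2 : algebraMap (R ⧸ p₀) K (Ideal.Quotient.mk p₀ s) = algebraMap R K s :=
      (IsScalarTower.algebraMap_apply R (R ⧸ p₀) K s).symm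
    rw [e1, e2, eq_div_iff hs0, hx]
  obtain ⟨g', hg'0, hg'⟩ := not_isReduced_spread (A := R ⧸ p₀) (B := (R ⧸ p₀) ⊗[R] B) K
    (fun hred => h (hK.1 hred))
  obtain ⟨g, rfl⟩ := Ideal.Quotient.mk_surjective g'
  refine ⟨g, fun hg => hg'0 (Ideal.Quotient.eq_zero_iff_mem.2 hg), fun L _ _ hgL => ?_⟩
  obtain ⟨algL, towerL, hL⟩ := isReduced_quot_tensor_iff (B := B) p₀ hp₀ L
  intro hred
  refine hg' L ?_ (hL.2 hred)
  have e1 : algebraMap (R ⧸ p₀) L (Ideal.Quotient.mk p₀ g) = algebraMap R L g :=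
    (IsScalarTower.algebraMap_apply R (R ⧸ p₀) L g).symm
  rw [e1]
  exact hgL

end general

end Groth.Agent.Lib.Helper28.GenFibre
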