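import Mathlib
import Groth.Agent.Lib.Helper28.GenFibreRed

/-!
# Geometric non-reducedness of the generic fibre spreads out: algebra (helper28)
-/

set_option autoImplicit false
set_option linter.style.haveILetI false
universe u
open TensorProduct nonZeroDivisors

namespace Groth.Agent.Lib.Helper28.GenFibre

open Groth.Agent.Lib.Helper28.GenFree

section nonvanishing

variable {A : Type u} [CommRing A] [IsDomain A] {S : Type u} [CommRing S] [Algebra A S]
  [Algebra.FiniteType A S]

/-- A non-torsion element of a finite module over a finite type algebra stays nonzero in the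
fibres over a nonempty open. -/
theorem tmul_ne_zero_spread (M : Type u) [AddCommGroup M] [Module S M] [Module A M]
    [IsScalarTower A S M] [Module.Finite S M] (b : M) (hbtors : ∀ a : A, a ≠ 0 → a • b ≠ 0) :
    ∃ g : A, g ≠ 0 ∧ ∀ (L : Type u) [Field L] [Algebra A L], algebraMap A L g ≠ 0 →
      (1 : L) ⊗ₜ[A] b ≠ 0 := by
  classical
  obtain ⟨f, hf, hfree⟩ := genFree_finiteType (R := A) (S := S) M
  haveI : Module.Free (Localization.Away f) (Localization.Away f ⊗[A] M) := hfree
  let β := Module.Free.chooseBasis (Localization.Away f) (Localization.Away f ⊗[A] M)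
  haveI : IsLocalizedModule (Submonoid.powers f)
      (TensorProduct.mk A (Localization.Away f) M 1) :=
    (isLocalizedModule_iff_isBaseChange (Submonoid.powers f) (Localization.Away f) _).2
      (TensorProduct.isBaseChange A M (Localization.Away f))
  have hbf : (1 : Localization.Away f) ⊗ₜ[A] b ≠ 0 := by
    intro h0
    have h1 : TensorProduct.mk A (Localization.Away f) M 1 b = 0 := h0
    obtain ⟨⟨c, k, rfl⟩, hc⟩ := (IsLocalizedModule.eq_zero_iff (Submonoid.powers f) _).1 h1
    exact hbtors (f ^ k) (pow_ne_zero k hf) hc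
  have hrepr : β.repr ((1 : Localization.Away f) ⊗ₜ[A] b) ≠ 0 := by
    intro h0
    exact hbf (β.repr.map_eq_zero_iff.1 h0)
  obtain ⟨i, hi⟩ := Finsupp.ne_iff.1 hrepr
  rw [Finsupp.zero_apply] at hi
  obtain ⟨⟨a, ⟨_, k, rfl⟩⟩, hak⟩ := IsLocalization.surj (Submonoid.powers f)
    (β.repr ((1 : Localization.Away f) ⊗ₜ[A] b) i)
  have hak' : β.repr ((1 : Localization.Away f) ⊗ₜ[A] b) i *
      algebraMap A (Localization.Away f) (f ^ k) = algebraMap A (Localization.Away f) a := hak
  have ha0 : a ≠ 0 := by
    rintro rfl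
    rw [map_zero] at hak'
    haveI : IsDomain (Localization.Away f) := away_isDomain hf
    rcases mul_eq_zero.1 hak' with h1 | h1
    · exact hi h1
    · exact away_algebraMap_ne_zero hf (pow_ne_zero k hf) h1
  refine ⟨f * a, mul_ne_zero hf ha0, fun L _ _ hgL => ?_⟩
  rw [map_mul] at hgL
  have hfL : algebraMap A L f ≠ 0 := fun h => hgL (by rw [h, zero_mul])
  have haL : algebraMap A L a ≠ 0 := fun h => hgL (by rw [h, mul_zero])
  have hu : IsUnit (algebraMap A L f) := IsUnit.mk0 _ hfL
  let ψ : Localization.Away f →+* L := IsLocalization.Away.lift f hu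
  letI : Algebra (Localization.Away f) L := ψ.toAlgebra
  haveI : IsScalarTower A (Localization.Away f) L :=
    IsScalarTower.of_algebraMap_eq (fun r => (IsLocalization.Away.lift_eq f hu r).symm)
  let φ : M →ₗ[A] L :=
    ((Algebra.linearMap (Localization.Away f) L).restrictScalars A) ∘ₗ
      ((Finsupp.lapply i : (_ →₀ Localization.Away f) →ₗ[Localization.Away f] _).restrictScalars
        A) ∘ₗ (β.repr.toLinearMap.restrictScalars A) ∘ₗ
      (TensorProduct.mk A (Localization.Away f) M 1)
  have hφb : φ b * algebraMap A L (f ^ k) = algebraMap A L a := by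
    have h1 : φ b = algebraMap (Localization.Away f) L
        (β.repr ((1 : Localization.Away f) ⊗ₜ[A] b) i) := rfl
    rw [h1, IsScalarTower.algebraMap_apply A (Localization.Away f) L (f ^ k), ← map_mul, hak',
      ← IsScalarTower.algebraMap_apply]
  have hφb0 : φ b ≠ 0 := by
    intro h0
    rw [h0, zero_mul] at hφb
    exact haL hφb.symm
  intro h0
  have h1 := congrArg ((LinearMap.mul' A L) ∘ₗ (φ.lTensor L)) h0
  simp only [LinearMap.coe_comp, Function.comp_apply, LinearMap.lTensor_tmul,
    LinearMap.mul'_apply, one_mul, map_zero] at h1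
  exact hφb0 h1

end nonvanishing

section subext

variable {A : Type u} [CommRing A] {B : Type u} [CommRing B] [Algebra A B]

/-- Injectivity of `K'' ⊗ B → K' ⊗ B` for a field extension `K' / K''`. -/
theorem tensor_map_injective_of_field (K'' K' : Type u) [Field K''] [Field K'] [Algebra A K'']
    [Algebra A K'] [Algebra K'' K'] [IsScalarTower A K'' K'] :
    Function.Injective (Algebra.TensorProduct.map (IsScalarTower.toAlgHom A K'' K')
      (AlgHom.id A B)) := by
  obtain ⟨r, hr⟩ := LinearMap.exists_leftInverse_of_injective (Algebra.linearMap K'' K')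
    (LinearMap.ker_eq_bot.2 (algebraMap K'' K').injective)
  let Ψ : K' ⊗[A] B →ₗ[A] K'' ⊗[A] B := TensorProduct.map (r.restrictScalars A) LinearMap.id
  have hΨ : ∀ x : K'' ⊗[A] B, Ψ (Algebra.TensorProduct.map (IsScalarTower.toAlgHom A K'' K')
      (AlgHom.id A B) x) = x := by
    intro x
    induction x using TensorProduct.induction_on with
    | zero => simp
    | tmul c b =>
      have h1 : r (algebraMap K'' K' c) = c := by
        have := LinearMap.congr_fun hr c
        simpa using this
      simp [Ψ, h1]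
    | add x y hx hy => rw [map_add, map_add, hx, hy]
  exact Function.LeftInverse.injective hΨ

end subext

section ext

variable {A : Type u} [CommRing A] [IsDomain A] {B : Type u} [CommRing B] [Algebra A B]
  [Algebra.FiniteType A B]

/-- If `Frac(A') ⊗ B` is not reduced for a finite type domain `A' ⊇ A`, then for all fields `L`
over `A` outside a proper closed subset there is a field extension `L'` with `L' ⊗ B` not reduced. -/
theorem not_isReduced_spread_ext (A' : Type u) [CommRing A'] [IsDomain A'] [Algebra A A']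
    [Algebra.FiniteType A A'] (hinj : Function.Injective (algebraMap A A'))
    (K'' : Type u) [Field K''] [Algebra A' K''] [IsFractionRing A' K''] [Algebra A K'']
    [IsScalarTower A A' K''] (h : ¬ IsReduced (K'' ⊗[A] B)) :
    ∃ g : A, g ≠ 0 ∧ ∀ (L : Type u) [Field L] [Algebra A L], algebraMap A L g ≠ 0 →
      ∃ (L' : Type u) (_ : Field L') (_ : Algebra A L') (_ : Algebra L L')
        (_ : IsScalarTower A L L'), ¬ IsReduced (L' ⊗[A] B) := by
  classical
  let e₁ := Algebra.TensorProduct.cancelBaseChange A A' K'' K'' B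
  have h1 : ¬ IsReduced (K'' ⊗[A'] (A' ⊗[A] B)) := fun hred =>
    h (isReduced_of_injective e₁.symm.toRingEquiv e₁.symm.injective)
  obtain ⟨g', hg'0, hg'⟩ := not_isReduced_spread (A := A') (B := A' ⊗[A] B) K'' h1
  -- the localization `C = A'[1/g']`
  haveI : Algebra.FiniteType A (Localization.Away g') :=
    Algebra.FiniteType.trans (inferInstance : Algebra.FiniteType A A') inferInstance
  have hinjC : Function.Injective (algebraMap A' (Localization.Away g')) :=
    IsLocalization.injective _ (powers_le_nonZeroDivisors_of_noZeroDivisors hg'0)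
  have htors : ∀ a : A, a ≠ 0 → a • (1 : Localization.Away g') ≠ 0 := by
    intro a ha h0
    rw [← Algebra.algebraMap_eq_smul_one, IsScalarTower.algebraMap_apply A A'] at h0
    have h2 := hinjC (h0.trans (map_zero _).symm)
    exact ha (hinj (h2.trans (map_zero _).symm))
  obtain ⟨g, hg0, hg⟩ := tmul_ne_zero_spread (A := A) (S := Localization.Away g')
    (Localization.Away g') 1 htors
  refine ⟨g, hg0, fun L _ _ hgL => ?_⟩
  have hne : (1 : L) ⊗ₜ[A] (1 : Localization.Away g') ≠ 0 := hg L hgL
  haveI : Nontrivial (L ⊗[A] Localization.Away g') :=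
    ⟨⟨1, 0, by rw [Algebra.TensorProduct.one_def]; exact hne⟩⟩
  obtain ⟨m, hm⟩ := Ideal.exists_maximal (L ⊗[A] Localization.Away g')
  letI : Field ((L ⊗[A] Localization.Away g') ⧸ m) := Ideal.Quotient.field m
  let ρ : A' →+* (L ⊗[A] Localization.Away g') ⧸ m :=
    (Ideal.Quotient.mk m).comp ((Algebra.TensorProduct.includeRight :
      Localization.Away g' →ₐ[A] L ⊗[A] Localization.Away g').toRingHom.comp
        (algebraMap A' (Localization.Away g')))
  letI algA' : Algebra A' ((L ⊗[A] Localization.Away g') ⧸ m) := ρ.toAlgebra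
  haveI tw : IsScalarTower A A' ((L ⊗[A] Localization.Away g') ⧸ m) :=
    IsScalarTower.of_algebraMap_eq (fun a => by
      show _ = ρ (algebraMap A A' a)
      simp only [ρ, RingHom.coe_comp, Function.comp_apply, AlgHom.toRingHom_eq_coe,
        RingHom.coe_coe, ← IsScalarTower.algebraMap_apply A A' (Localization.Away g'),
        AlgHom.commutes]
      rfl)
  refine ⟨(L ⊗[A] Localization.Away g') ⧸ m, inferInstance, inferInstance, inferInstance,
    inferInstance, ?_⟩
  have hg'L : algebraMap A' ((L ⊗[A] Localization.Away g') ⧸ m) g' ≠ 0 := by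
    have hu : IsUnit (algebraMap A' (Localization.Away g') g') :=
      IsLocalization.Away.algebraMap_isUnit g'
    have hu' : IsUnit (ρ g') := by
      have := hu.map ((Ideal.Quotient.mk m).comp ((Algebra.TensorProduct.includeRight :
        Localization.Away g' →ₐ[A] L ⊗[A] Localization.Away g').toRingHom))
      exact this
    exact hu'.ne_zero
  have h2 := hg' ((L ⊗[A] Localization.Away g') ⧸ m) hg'L
  let e₂ := Algebra.TensorProduct.cancelBaseChange A A' ((L ⊗[A] Localization.Away g') ⧸ m)
    ((L ⊗[A] Localization.Away g') ⧸ m) B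
  intro hred
  exact h2 (isReduced_of_injective e₂.toRingEquiv e₂.injective)

attribute [local instance] FractionRing.liftAlgebra in
/-- Domain case: if `K' ⊗ B` is not reduced for some field `K' ⊇ A`, then for all fields `L` over
`A` outside a proper closed subset some extension `L'` of `L` has `L' ⊗ B` non-reduced. -/
theorem not_geomReduced_spread (K' : Type u) [Field K'] [Algebra A K']
    (hinj : Function.Injective (algebraMap A K')) (h : ¬ IsReduced (K' ⊗[A] B)) :
    ∃ g : A, g ≠ 0 ∧ ∀ (L : Type u) [Field L] [Algebra A L], algebraMap A L g ≠ 0 →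
      ∃ (L' : Type u) (_ : Field L') (_ : Algebra A L') (_ : Algebra L L')
        (_ : IsScalarTower A L L'), ¬ IsReduced (L' ⊗[A] B) := by
  classical
  obtain ⟨z, hz0, hznil⟩ : ∃ z : K' ⊗[A] B, z ≠ 0 ∧ IsNilpotent z := by
    by_contra hcon
    push_neg at hcon
    exact h ⟨fun z hz => by_contra fun hz0 => hcon z hz0 hz⟩
  obtain ⟨S, hS⟩ := TensorProduct.exists_finset z
  set s : Finset K' := S.image Prod.fst with hs
  haveI : FaithfulSMul A K' := (faithfulSMul_iff_algebraMap_injective A K').2 hinj
  haveI : Algebra.FiniteType A (Algebra.adjoin A (s : Set K')) :=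
    (Subalgebra.fg_iff_finiteType _).1 (Subalgebra.fg_adjoin_finset s)
  have hinjA' : Function.Injective (algebraMap A (Algebra.adjoin A (s : Set K'))) := by
    intro a b hab
    apply hinj
    have := congrArg (algebraMap (Algebra.adjoin A (s : Set K')) K') hab
    rwa [← IsScalarTower.algebraMap_apply, ← IsScalarTower.algebraMap_apply] at this
  have hmem : ∀ i ∈ S, i.1 ∈ Algebra.adjoin A (s : Set K') := fun i hi =>
    Algebra.subset_adjoin (Finset.mem_coe.2 (Finset.mem_image_of_mem Prod.fst hi))
  let K'' := FractionRing (Algebra.adjoin A (s : Set K'))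
  let Φ := Algebra.TensorProduct.map (IsScalarTower.toAlgHom A K'' K') (AlgHom.id A B)
  have hΦinj : Function.Injective Φ := tensor_map_injective_of_field K'' K'
  let z'' : K'' ⊗[A] B := ∑ i ∈ S.attach,
    (algebraMap (Algebra.adjoin A (s : Set K')) K'' ⟨i.1.1, hmem i.1 i.2⟩) ⊗ₜ[A] i.1.2
  have hΦz : Φ z'' = z := by
    rw [hS, ← Finset.sum_attach S, map_sum]
    refine Finset.sum_congr rfl fun i _ => ?_
    simp only [Φ, Algebra.TensorProduct.map_tmul, IsScalarTower.coe_toAlgHom', AlgHom.coe_id,
      id_eq]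
    rw [← IsScalarTower.algebraMap_apply (Algebra.adjoin A (s : Set K')) K'' K']
    rfl
  have hnr : ¬ IsReduced (K'' ⊗[A] B) := by
    intro hred
    obtain ⟨n, hn⟩ := hznil
    have h1 : z'' ^ n = 0 := by
      apply hΦinj
      rw [map_pow, hΦz, hn, map_zero]
    have h2 : z'' = 0 := IsReduced.eq_zero _ ⟨n, h1⟩
    apply hz0
    rw [← hΦz, h2, map_zero]
  exact not_isReduced_spread_ext (Algebra.adjoin A (s : Set K')) hinjA' K'' hnr

end ext

section general

variable {R : Type u} [CommRing R] {B : Type u} [CommRing B] [Algebra R B]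
  [Algebra.FiniteType R B]

/-- General base: `p₀` a prime contained in the nilradical of `R`, `K'` a field over `R` with
kernel `p₀`. If `K' ⊗ B` is not reduced then there is `g ∉ p₀` such that every field `L` over `R`
in which `g` stays nonzero has an extension `L'` with `L' ⊗ B` not reduced. -/
theorem not_geomReduced_spread' (p₀ : Ideal R) [p₀.IsPrime] (hp₀ : p₀ ≤ nilradical R)
    (K' : Type u) [Field K'] [Algebra R K'] (hker : RingHom.ker (algebraMap R K') = p₀)
    (h : ¬ IsReduced (K' ⊗[R] B)) :
    ∃ g : R, g ∉ p₀ ∧ ∀ (L : Type u) [Field L] [Algebra R L], algebraMap R L g ≠ 0 →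
      ∃ (L' : Type u) (_ : Field L') (j : L →+* L'),
        letI := (j.comp (algebraMap R L)).toAlgebra
        ¬ IsReduced (L' ⊗[R] B) := by
  obtain ⟨algK, towerK, hK⟩ := isReduced_quot_tensor_iff (B := B) p₀ hp₀ K'
  have hinj : Function.Injective (algebraMap (R ⧸ p₀) K') := by
    rw [injective_iff_map_eq_zero]
    intro a ha
    obtain ⟨r, rfl⟩ := Ideal.Quotient.mk_surjective a
    have h1 : algebraMap R K' r = 0 := by
      rw [IsScalarTower.algebraMap_apply R (R ⧸ p₀) K']; exact ha
    have h2 : r ∈ p₀ := by rw [← hker]; exact h1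
    exact Ideal.Quotient.eq_zero_iff_mem.2 h2
  obtain ⟨g', hg'0, hg'⟩ := not_geomReduced_spread (A := R ⧸ p₀) (B := (R ⧸ p₀) ⊗[R] B) K' hinj
    (fun hred => h (hK.1 hred))
  obtain ⟨g, rfl⟩ := Ideal.Quotient.mk_surjective g'
  refine ⟨g, fun hg => hg'0 (Ideal.Quotient.eq_zero_iff_mem.2 hg), fun L _ _ hgL => ?_⟩
  obtain ⟨algL, towerL, hL⟩ := isReduced_quot_tensor_iff (B := B) p₀ hp₀ L
  have e1 : algebraMap (R ⧸ p₀) L (Ideal.Quotient.mk p₀ g) = algebraMap R L g :=
    (IsScalarTower.algebraMap_apply R (R ⧸ p₀) L g).symm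
  obtain ⟨L', fL', aAL', aLL', tw, hnr⟩ := hg' L (by rw [e1]; exact hgL)
  letI algRL' : Algebra R L' := ((algebraMap L L').comp (algebraMap R L)).toAlgebra
  haveI twR : IsScalarTower R L L' := IsScalarTower.of_algebraMap_eq (fun _ => rfl)
  haveI twR' : IsScalarTower R (R ⧸ p₀) L' := IsScalarTower.of_algebraMap_eq (fun r => by
    show algebraMap L L' (algebraMap R L r) = _
    rw [IsScalarTower.algebraMap_apply R (R ⧸ p₀) L r,
      ← IsScalarTower.algebraMap_apply (R ⧸ p₀) L L'])
  refine ⟨L', fL', algebraMap L L', ?_⟩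
  show ¬ IsReduced (L' ⊗[R] B)
  let e := Algebra.TensorProduct.cancelBaseChange R (R ⧸ p₀) L' L' B
  intro hred
  exact hnr (isReduced_of_injective e.toRingEquiv e.injective)

theorem isReduced_tensor_congr {K : Type u} [CommRing K] (ρ₁ ρ₂ : R →+* K) (h : ρ₁ = ρ₂)
    (h1 : letI := ρ₁.toAlgebra
      IsReduced (K ⊗[R] B)) :
    letI := ρ₂.toAlgebra
    IsReduced (K ⊗[R] B) := by
  subst h
  exact h1

end general

end Groth.Agent.Lib.Helper28.GenFibre
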