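import Mathlib
import Groth.Agent.Lib.Helper28.GenFibreGeomRed
import Groth.Agent.Lib.Helper28.GenFibreTop
import Groth.Agent.Lib.Helper28.FibreChart

/-!
# Geometric non-reducedness of the generic fibre spreads out: schemes (helper28)
-/

set_option autoImplicit false
set_option linter.style.haveILetI false
universe u
open AlgebraicGeometry CategoryTheory Limits TensorProduct

namespace Groth.Agent.Lib.Helper28.GenFibreGeomRedSch

open Groth.Agent.Lib.Helper28.GenFibre Groth.Agent.Lib.Helper28.GenFibreTop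
  Groth.Agent.Lib.Helper28.FibreChart Groth.Agent.Lib.Helper3

theorem not_geometricallyReduced_fibre_near_generic_point {X Y : Scheme.{u}} (f : X ⟶ Y)
    [IrreducibleSpace ↑Y] [LocallyOfFiniteType f]
    (h : ¬ GeometricallyReduced (f.fiberToSpecResidueField (genericPoint ↑Y))) :
    ∃ V : Y.Opens, (V : Set ↑Y).Nonempty ∧
      ∀ y ∈ V, ¬ GeometricallyReduced (f.fiberToSpecResidueField y) := by
  classical
  set η := genericPoint ↑Y with hη
  rw [geometricallyReduced_iff] at h
  unfold geometrically at h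
  push_neg at h
  obtain ⟨K', fK', y', Z, fst, snd, hpb, hZ⟩ := h
  obtain ⟨_, ⟨W, hW, rfl⟩, hηW, -⟩ :=
    Y.isBasis_affineOpens.exists_subset_of_mem_open (Set.mem_univ η) isOpen_univ
  set φ : Y.residueField η ⟶ .of K' := Spec.preimage y' with hφ
  have hy' : Spec.map φ = y' := Spec.map_preimage y'
  set ψ : Spec (.of K') ⟶ Y := Spec.map φ ≫ Y.fromSpecResidueField η with hψdef
  have hpb' : IsPullback (fst ≫ f.fiberι η) snd f ψ := by
    rw [hψdef, hy']
    exact hpb.paste_horiz (IsPullback.of_hasPullback f (Y.fromSpecResidueField η))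
  have hψ : (⊤ : (Spec (.of K')).Opens) ≤ ψ ⁻¹ᵁ W := by
    intro s _
    show ψ s ∈ W
    rw [hψdef, Scheme.Hom.comp_apply, Scheme.fromSpecResidueField_apply]
    exact hηW
  obtain ⟨U, hU, hUW, hnr⟩ : ∃ (U : X.Opens) (_ : IsAffineOpen U) (hUW : U ≤ f ⁻¹ᵁ W),
      ¬ (letI := (f.appLE W U hUW).hom.toAlgebra
         letI := (ψ.appLE W ⊤ hψ ≫ (Scheme.ΓSpecIso (.of K')).hom).hom.toAlgebra
         _root_.IsReduced (K' ⊗[Γ(Y, W)] Γ(X, U))) := by
    by_contra hcon
    push_neg at hcon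
    exact hZ (isReduced_of_charts_point f ψ _ snd hpb' W hW hψ hcon)
  letI algRB : Algebra Γ(Y, W) Γ(X, U) := (f.appLE W U hUW).hom.toAlgebra
  haveI : Algebra.FiniteType Γ(Y, W) Γ(X, U) := f.finiteType_appLE hW hU hUW
  letI algRK : Algebra Γ(Y, W) K' :=
    (ψ.appLE W ⊤ hψ ≫ (Scheme.ΓSpecIso (.of K')).hom).hom.toAlgebra
  have hp₀ := primeIdealOf_genericPoint_le_nilradical hW hηW
  have hker : RingHom.ker (algebraMap Γ(Y, W) K') = (hW.primeIdealOf ⟨η, hηW⟩).asIdeal := by
    rw [← ker_evaluation W hW η hηW]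
    have h1 : algebraMap Γ(Y, W) K' = (Y.evaluation W η hηW ≫ φ).hom := by
      show (ψ.appLE W ⊤ hψ ≫ (Scheme.ΓSpecIso (.of K')).hom).hom = _
      rw [SpecMap_fromSpecResidueField_appLE η W hηW φ hψ]
    rw [h1]
    ext a
    simp only [RingHom.mem_ker, CommRingCat.hom_comp, RingHom.coe_comp, Function.comp_apply]
    exact map_eq_zero_iff _ (φ.hom.injective)
  obtain ⟨g, hg, hgL⟩ := not_geomReduced_spread' (R := Γ(Y, W)) (B := Γ(X, U))
    (hW.primeIdealOf ⟨η, hηW⟩).asIdeal hp₀ K' hker hnr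
  refine ⟨Y.basicOpen g, ⟨η, (mem_basicOpen_iff_notMem_primeIdealOf hW η hηW g).2 hg⟩, ?_⟩
  intro y hy hgr
  have hyW : y ∈ W := Y.basicOpen_le g hy
  letI algRL : Algebra Γ(Y, W) (Y.residueField y) := (Y.evaluation W y hyW).hom.toAlgebra
  have hne : algebraMap Γ(Y, W) (Y.residueField y) g ≠ 0 :=
    (Y.evaluation_ne_zero_iff_mem_basicOpen y hyW g).2 hy
  obtain ⟨L', fL', j, hnrL⟩ := hgL (Y.residueField y) hne
  set φy : Y.residueField y ⟶ .of L' := CommRingCat.ofHom j with hφy
  set ψy : Spec (.of L') ⟶ Y := Spec.map φy ≫ Y.fromSpecResidueField y with hψydef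
  have hψy : (⊤ : (Spec (.of L')).Opens) ≤ ψy ⁻¹ᵁ W := by
    intro s _
    show ψy s ∈ W
    rw [hψydef, Scheme.Hom.comp_apply, Scheme.fromSpecResidueField_apply]
    exact hyW
  have hpby : IsPullback (pullback.fst (f.fiberToSpecResidueField y) (Spec.map φy) ≫ f.fiberι y)
      (pullback.snd (f.fiberToSpecResidueField y) (Spec.map φy)) f ψy :=
    (IsPullback.of_hasPullback (f.fiberToSpecResidueField y) (Spec.map φy)).paste_horiz
      (IsPullback.of_hasPullback f (Y.fromSpecResidueField y))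
  haveI : IsReduced (pullback (f.fiberToSpecResidueField y) (Spec.map φy)) :=
    GeometricallyReduced.geometrically_isReduced _ _ _
      (IsPullback.of_hasPullback (f.fiberToSpecResidueField y) (Spec.map φy))
  have hred := isReduced_chart_point f ψy _ _ hpby W hW hψy U hU hUW
  refine hnrL (isReduced_tensor_congr _ _ ?_ hred)
  rw [SpecMap_fromSpecResidueField_appLE y W hyW φy hψy]
  rfl

end Groth.Agent.Lib.Helper28.GenFibreGeomRedSch
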