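import Mathlib
import Groth.Agent.Lib.Helper28.GenFibreTop
import Groth.Agent.S4585
import Groth.Agent.S9347

/-!
# Number of irreducible / connected components of fibres near the generic point (helper28)
-/

set_option autoImplicit false
set_option linter.style.haveILetI false
universe u
open AlgebraicGeometry CategoryTheory Limits TopologicalSpace

namespace Groth.Agent.Lib.Helper28.GenFibreComp

open Groth.Agent.Lib.Helper28.GenFibreTop

variable {X Y : Scheme.{u}} (f : X ⟶ Y)

/-- Image of an open subset containing a point over the generic point contains a neighbourhood of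
the generic point. -/
theorem genericPoint_mem_interior_image [IrreducibleSpace ↑Y] [LocallyOfFiniteType f]
    (U : X.Opens) (ξ : X) (hξU : ξ ∈ U) (hξ : f ξ = genericPoint Y) :
    genericPoint Y ∈ interior (f '' (U : Set X)) := by
  have h1 := Groth.Agent.S4585.result (U.ι ≫ f) ⟨⟨ξ, hξU⟩, hξ⟩
  have h2 : Set.range (U.ι ≫ f).base = f '' (U : Set X) := by
    ext y
    constructor
    · rintro ⟨x, rfl⟩
      exact ⟨x.1, x.2, rfl⟩
    · rintro ⟨x, hx, rfl⟩
      exact ⟨⟨x, hx⟩, rfl⟩
  rwa [h2] at h1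

/-- The engine: closed sets `T i` covering the generic fibre, each containing a point of the generic
fibre in no other `T j`. Then over a neighbourhood of the generic point the `T i` cover, and each
fibre has a point of `T i` in no other `T j`. -/
theorem exists_open_forall_fibre [IrreducibleSpace ↑Y] [LocallyOfFiniteType f] [QuasiCompact f]
    {ι : Type*} [Finite ι] (T : ι → Set X) (hT : ∀ i, IsClosed (T i))
    (hcov : f ⁻¹' {genericPoint Y} ⊆ ⋃ i, T i) (ξ : ι → X) (hξ : ∀ i, f (ξ i) = genericPoint Y)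
    (hξT : ∀ i j, j ≠ i → ξ i ∉ T j) :
    ∃ V : Y.Opens, genericPoint Y ∈ V ∧ f ⁻¹' (V : Set Y) ⊆ ⋃ i, T i ∧
      ∀ y ∈ V, ∀ i, ∃ x, f x = y ∧ x ∈ T i ∧ ∀ j, j ≠ i → x ∉ T j := by
  classical
  obtain ⟨V₁, hηV₁, hV₁⟩ := exists_open_preimage_subset_iUnion f T hT hcov
  have hUopen : ∀ i, IsOpen (⋃ j ∈ {j | j ≠ i}, T j)ᶜ := fun i =>
    (Set.Finite.isClosed_biUnion (Set.toFinite _) (fun j _ => hT j)).isOpen_compl
  let U : ι → X.Opens := fun i => ⟨(⋃ j ∈ {j | j ≠ i}, T j)ᶜ, hUopen i⟩
  have hξU : ∀ i, ξ i ∈ U i := by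
    intro i
    show ξ i ∈ (⋃ j ∈ {j | j ≠ i}, T j)ᶜ
    simp only [Set.mem_compl_iff, Set.mem_iUnion, not_exists]
    intro j hj
    exact hξT i j hj
  have hint : ∀ i, genericPoint Y ∈ interior (f '' (U i : Set X)) := fun i =>
    genericPoint_mem_interior_image f (U i) (ξ i) (hξU i) (hξ i)
  haveI := Fintype.ofFinite ι
  refine ⟨V₁ ⊓ ⟨⋂ i, interior (f '' (U i : Set X)), isOpen_iInter_of_finite fun i =>
    isOpen_interior⟩, ⟨hηV₁, Set.mem_iInter.2 hint⟩, fun x hx => hV₁ hx.1, ?_⟩
  rintro y ⟨hy₁, hy₂⟩ i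
  have hyi : y ∈ f '' (U i : Set X) := interior_subset (Set.mem_iInter.1 hy₂ i)
  obtain ⟨x, hxU, rfl⟩ := hyi
  have hxnot : ∀ j, j ≠ i → x ∉ T j := by
    intro j hj hxj
    apply hxU
    simp only [Set.mem_iUnion]
    exact ⟨j, hj, hxj⟩
  obtain ⟨k, hk⟩ := Set.mem_iUnion.1 (hV₁ (show x ∈ f ⁻¹' (V₁ : Set Y) from hy₁))
  have hki : k = i := by
    by_contra hne
    exact hxnot k hne hk
  exact ⟨x, rfl, hki ▸ hk, hxnot⟩

/-- If the generic fibre has exactly `n` irreducible components then nearby fibres have at least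
`n` irreducible components. -/
theorem le_card_irreducibleComponents [IrreducibleSpace ↑Y] [LocallyOfFiniteType f]
    [QuasiCompact f] (n : ℕ)
    (h : (irreducibleComponents ↑(f.fiber (genericPoint ↑Y))).encard = n) :
    ∃ V : Y.Opens, (V : Set ↑Y).Nonempty ∧
      ∀ y ∈ V, (n : ℕ∞) ≤ (irreducibleComponents ↑(f.fiber y)).encard := by
  classical
  set η := genericPoint ↑Y with hη
  have hfin : (irreducibleComponents ↑(f.fiber η)).Finite := Set.finite_of_encard_eq_coe h
  haveI : Finite ↥(irreducibleComponents ↑(f.fiber η)) := hfin.to_subtype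
  haveI : Fintype ↥(irreducibleComponents ↑(f.fiber η)) := Fintype.ofFinite _
  have hgen : ∀ i : ↥(irreducibleComponents ↑(f.fiber η)), ∃ x, IsGenericPoint x i.1 := fun i =>
    QuasiSober.sober i.2.1 (isClosed_of_mem_irreducibleComponents i.1 i.2)
  choose ξ' hξ' using hgen
  let ξ : ↥(irreducibleComponents ↑(f.fiber η)) → X := fun i => f.fiberι η (ξ' i)
  let T : ↥(irreducibleComponents ↑(f.fiber η)) → Set X := fun i => closure {ξ i}
  have hξ : ∀ i, f (ξ i) = η := by
    intro i
    have : ξ i ∈ Set.range (f.fiberι η) := ⟨_, rfl⟩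
    rwa [Scheme.Hom.range_fiberι] at this
  have hcov : f ⁻¹' {η} ⊆ ⋃ i, T i := by
    intro x hx
    rw [← Scheme.Hom.range_fiberι] at hx
    obtain ⟨x', rfl⟩ := hx
    let i : ↥(irreducibleComponents ↑(f.fiber η)) :=
      ⟨irreducibleComponent x', irreducibleComponent_mem_irreducibleComponents x'⟩
    have hx'i : x' ∈ closure {ξ' i} := by
      rw [(hξ' i).def]
      exact mem_irreducibleComponent
    refine Set.mem_iUnion.2 ⟨i, ?_⟩
    exact map_mem_closure (f.fiberι η).continuous hx'i (fun z hz => by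
      rw [Set.mem_singleton_iff] at hz; subst hz; exact Set.mem_singleton _)
  have hξT : ∀ i j, j ≠ i → ξ i ∉ T j := by
    intro i j hji hmem
    apply hji
    have h1 : ξ' i ∈ closure {ξ' j} := by
      rw [(f.fiberι η).isEmbedding.isInducing.closure_eq_preimage_closure_image, Set.image_singleton]
      exact hmem
    rw [(hξ' j).def] at h1
    have h2 : i.1 ⊆ j.1 := by
      rw [← (hξ' i).def]
      exact (isClosed_of_mem_irreducibleComponents j.1 j.2).closure_subset_iff.2
        (Set.singleton_subset_iff.2 h1)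
    have h3 : j.1 ⊆ i.1 := i.2.2 j.2.1 h2
    exact Subtype.ext (Set.Subset.antisymm h3 h2)
  obtain ⟨V, hηV, hVcov, hVpts⟩ :=
    exists_open_forall_fibre f T (fun i => isClosed_closure) hcov ξ hξ hξT
  refine ⟨V, ⟨η, hηV⟩, fun y hy => ?_⟩
  rw [← h]
  choose x hx using hVpts y hy
  have hx'ex : ∀ i, ∃ x' : ↑(f.fiber y), f.fiberι y x' = x i := by
    intro i
    have : x i ∈ Set.range (f.fiberι y) := by
      rw [Scheme.Hom.range_fiberι]; exact (hx i).1
    exact this
  choose x' hx' using hx'ex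
  have hD : ∀ i, irreducibleComponent (x' i) ⊆ (f.fiberι y) ⁻¹' (T i) := by
    intro i
    obtain ⟨z, hz, hDz⟩ := isIrreducible_iff_sUnion_isClosed.1
      (isIrreducible_irreducibleComponent (x := x' i))
      ((Finset.univ (α := ↥(irreducibleComponents ↑(f.fiber η)))).image
        (fun j => (f.fiberι y) ⁻¹' (T j)))
      (by
        intro z hz
        obtain ⟨j, -, rfl⟩ := Finset.mem_image.1 hz
        exact isClosed_closure.preimage (f.fiberι y).continuous)
      (by
        intro z' _
        have h1 : f.fiberι y z' ∈ f ⁻¹' (V : Set Y) := by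
          have : f.fiberι y z' ∈ Set.range (f.fiberι y) := ⟨_, rfl⟩
          rw [Scheme.Hom.range_fiberι] at this
          show f (f.fiberι y z') ∈ V
          rw [this]; exact hy
        obtain ⟨j, hj⟩ := Set.mem_iUnion.1 (hVcov h1)
        exact Set.mem_sUnion.2 ⟨_, Finset.mem_coe.2 (Finset.mem_image.2
          ⟨j, Finset.mem_univ j, rfl⟩), hj⟩)
    obtain ⟨j, -, rfl⟩ := Finset.mem_image.1 hz
    have h2 : x i ∈ T j := by
      have := hDz (mem_irreducibleComponent (x := x' i))
      rwa [Set.mem_preimage, hx' i] at this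
    have hji : j = i := by
      by_contra hne
      exact (hx i).2.2 j hne h2
    rw [hji] at hDz
    exact hDz
  refine Function.Embedding.encard_le ⟨fun i => ⟨irreducibleComponent (x' i),
    irreducibleComponent_mem_irreducibleComponents _⟩, ?_⟩
  intro i k hik
  have h1 : irreducibleComponent (x' i) = irreducibleComponent (x' k) :=
    congrArg Subtype.val hik
  have h2 : x i ∈ T k := by
    have := hD k (h1 ▸ mem_irreducibleComponent (x := x' i))
    rwa [Set.mem_preimage, hx' i] at this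
  by_contra hne
  exact (hx i).2.2 k (fun h => hne h.symm) h2

/-- A closed subset of the source missing the generic fibre misses the preimage of a
neighbourhood of the generic point. -/
theorem exists_open_disjoint_of_closed [IrreducibleSpace ↑Y] [QuasiCompact f] (Z' : Set X)
    (hZ' : IsClosed Z') (h : ∀ x ∈ Z', f x ≠ genericPoint Y) :
    ∃ V : Y.Opens, genericPoint Y ∈ V ∧ ∀ x ∈ Z', f x ∉ V := by
  let I := Scheme.IdealSheafData.vanishingIdeal (X := X) ⟨Z', hZ'⟩
  have hrange : Set.range I.subschemeι = Z' := by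
    rw [Scheme.IdealSheafData.range_subschemeι, Scheme.IdealSheafData.coe_support_vanishingIdeal]
    rfl
  have hη : closure {genericPoint Y} ∈ irreducibleComponents (↑Y : Type u) := by
    rw [genericPoint_closure, irreducibleComponents_eq_singleton]
    exact Set.mem_singleton _
  have hnot : genericPoint Y ∉ Set.range (I.subschemeι ≫ f).base := by
    rintro ⟨z, hz⟩
    have hzZ : I.subschemeι z ∈ Z' := by rw [← hrange]; exact ⟨z, rfl⟩
    exact h _ hzZ hz
  obtain ⟨V, hηV, hV⟩ := Groth.Agent.S9347.result (I.subschemeι ≫ f) (genericPoint Y) hη hnot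
  refine ⟨V, hηV, fun x hx hfx => ?_⟩
  rw [← hrange] at hx
  obtain ⟨z, rfl⟩ := hx
  have : z ∈ (I.subschemeι ≫ f) ⁻¹ᵁ V := hfx
  rw [hV] at this
  exact this

/-- If the generic fibre has exactly `n` connected components then nearby fibres have at least
`n` connected components. -/
theorem le_card_connectedComponents [IrreducibleSpace ↑Y] [LocallyOfFiniteType f]
    [QuasiCompact f] (n : ℕ)
    (h : ENat.card (_root_.ConnectedComponents ↑(f.fiber (genericPoint ↑Y))) = n) :
    ∃ V : Y.Opens, (V : Set ↑Y).Nonempty ∧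
      ∀ y ∈ V, (n : ℕ∞) ≤ ENat.card (_root_.ConnectedComponents ↑(f.fiber y)) := by
  classical
  set η := genericPoint ↑Y with hη
  haveI : Finite (_root_.ConnectedComponents ↑(f.fiber η)) := by
    rw [← ENat.card_lt_top, h]; exact ENat.coe_lt_top n
  haveI : Fintype (_root_.ConnectedComponents ↑(f.fiber η)) := Fintype.ofFinite _
  have hrep : ∀ c : _root_.ConnectedComponents ↑(f.fiber η), ∃ x : ↑(f.fiber η),
      (x : _root_.ConnectedComponents ↑(f.fiber η)) = c := fun c =>
    ConnectedComponents.surjective_coe c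
  choose rep hrepc using hrep
  let C : _root_.ConnectedComponents ↑(f.fiber η) → Set ↑(f.fiber η) := fun c =>
    connectedComponent (rep c)
  have hCclosed : ∀ c, IsClosed (C c) := fun c => isClosed_connectedComponent
  have hCmem : ∀ (c) (x' : ↑(f.fiber η)), x' ∈ C c ↔
      (x' : _root_.ConnectedComponents ↑(f.fiber η)) = c := by
    intro c x'
    have h1 : (x' : _root_.ConnectedComponents ↑(f.fiber η)) = c ↔
        (x' : _root_.ConnectedComponents ↑(f.fiber η)) = (rep c : ↑(f.fiber η)) := by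
      rw [hrepc c]
    rw [h1, ConnectedComponents.coe_eq_coe']
  let ξ : _root_.ConnectedComponents ↑(f.fiber η) → X := fun c => f.fiberι η (rep c)
  let T : _root_.ConnectedComponents ↑(f.fiber η) → Set X := fun c =>
    closure (f.fiberι η '' C c)
  have hTη : ∀ (c) (x' : ↑(f.fiber η)), f.fiberι η x' ∈ T c ↔ x' ∈ C c := by
    intro c x'
    have h1 := (f.fiberι η).isEmbedding.isInducing.closure_eq_preimage_closure_image (C c)
    rw [(hCclosed c).closure_eq] at h1
    rw [h1]
    rfl
  have hξ : ∀ c, f (ξ c) = η := by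
    intro c
    have : ξ c ∈ Set.range (f.fiberι η) := ⟨_, rfl⟩
    rwa [Scheme.Hom.range_fiberι] at this
  have hcov : f ⁻¹' {η} ⊆ ⋃ c, T c := by
    intro x hx
    rw [← Scheme.Hom.range_fiberι] at hx
    obtain ⟨x', rfl⟩ := hx
    exact Set.mem_iUnion.2 ⟨(x' : _root_.ConnectedComponents ↑(f.fiber η)),
      (hTη _ x').2 ((hCmem _ x').2 rfl)⟩
  have hξT : ∀ c d, d ≠ c → ξ c ∉ T d := by
    intro c d hdc hmem
    apply hdc
    have h1 := (hCmem d (rep c)).1 ((hTη d (rep c)).1 hmem)
    rw [← h1, hrepc]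
  -- disjointness over the generic point
  have hdisj : ∀ c d, c ≠ d → ∀ x ∈ T c ∩ T d, f x ≠ η := by
    intro c d hcd x hx hfx
    have hx' : x ∈ Set.range (f.fiberι η) := by rw [Scheme.Hom.range_fiberι]; exact hfx
    obtain ⟨x', rfl⟩ := hx'
    have h1 := (hCmem c x').1 ((hTη c x').1 hx.1)
    have h2 := (hCmem d x').1 ((hTη d x').1 hx.2)
    exact hcd (h1.symm.trans h2)
  have hV' : ∀ cd : _root_.ConnectedComponents ↑(f.fiber η) ×
      _root_.ConnectedComponents ↑(f.fiber η), ∃ V : Y.Opens, η ∈ V ∧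
      (cd.1 ≠ cd.2 → ∀ x ∈ T cd.1 ∩ T cd.2, f x ∉ V) := by
    intro cd
    by_cases hcd : cd.1 = cd.2
    · exact ⟨⊤, trivial, fun h => absurd hcd h⟩
    · obtain ⟨V, hηV, hV⟩ := exists_open_disjoint_of_closed f (T cd.1 ∩ T cd.2)
        (isClosed_closure.inter isClosed_closure) (hdisj cd.1 cd.2 hcd)
      exact ⟨V, hηV, fun _ => hV⟩
  choose V' hηV' hV'disj using hV'
  obtain ⟨V, hηV, hVcov, hVpts⟩ :=
    exists_open_forall_fibre f T (fun i => isClosed_closure) hcov ξ hξ hξT
  refine ⟨V ⊓ ⟨⋂ cd, (V' cd : Set Y), isOpen_iInter_of_finite fun cd => (V' cd).2⟩,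
    ⟨η, hηV, Set.mem_iInter.2 hηV'⟩, ?_⟩
  rintro y ⟨hy, hy'⟩
  rw [← h]
  choose x hx using hVpts y hy
  have hx'ex : ∀ c, ∃ x' : ↑(f.fiber y), f.fiberι y x' = x c := by
    intro c
    have : x c ∈ Set.range (f.fiberι y) := by
      rw [Scheme.Hom.range_fiberι]; exact (hx c).1
    exact this
  choose x' hx' using hx'ex
  let S : _root_.ConnectedComponents ↑(f.fiber η) → Set ↑(f.fiber y) := fun c =>
    (f.fiberι y) ⁻¹' (T c)
  have hSclosed : ∀ c, IsClosed (S c) := fun c =>
    isClosed_closure.preimage (f.fiberι y).continuous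
  have hfy : ∀ z' : ↑(f.fiber y), f (f.fiberι y z') = y := by
    intro z'
    have : f.fiberι y z' ∈ Set.range (f.fiberι y) := ⟨_, rfl⟩
    rwa [Scheme.Hom.range_fiberι] at this
  have hScov : ∀ z' : ↑(f.fiber y), ∃ c, z' ∈ S c := by
    intro z'
    have h1 : f.fiberι y z' ∈ f ⁻¹' (V : Set Y) := by
      show f (f.fiberι y z') ∈ V
      rw [hfy]; exact hy
    obtain ⟨c, hc⟩ := Set.mem_iUnion.1 (hVcov h1)
    exact ⟨c, hc⟩
  have hSdisj : ∀ c d, c ≠ d → ∀ z', z' ∈ S c → z' ∉ S d := by
    intro c d hcd z' hzc hzd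
    have h1 := hV'disj (c, d) hcd (f.fiberι y z') ⟨hzc, hzd⟩
    apply h1
    rw [hfy]
    exact Set.mem_iInter.1 hy' (c, d)
  have hSopen : ∀ c, IsOpen (S c) := by
    intro c
    have h1 : S c = (⋃ d ∈ {d | d ≠ c}, S d)ᶜ := by
      ext z'
      simp only [Set.mem_compl_iff, Set.mem_iUnion, not_exists]
      constructor
      · intro hz d hd hzd
        exact hSdisj c d (fun h => hd h.symm) z' hz hzd
      · intro hz
        obtain ⟨d, hd⟩ := hScov z'
        by_cases hdc : d = c
        · rw [← hdc]; exact hd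
        · exact absurd hd (hz d hdc)
    rw [h1]
    exact (Set.Finite.isClosed_biUnion (Set.toFinite _) (fun d _ => hSclosed d)).isOpen_compl
  have hx'S : ∀ c, x' c ∈ S c := fun c => by
    show f.fiberι y (x' c) ∈ T c
    rw [hx' c]; exact (hx c).2.1
  refine ENat.card_le_card_of_injective (f := fun c =>
    ((x' c : ↑(f.fiber y)) : _root_.ConnectedComponents ↑(f.fiber y))) ?_
  intro c d hcd
  have h1 : connectedComponent (x' c) = connectedComponent (x' d) :=
    ConnectedComponents.coe_eq_coe.1 hcd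
  have h2 : connectedComponent (x' c) ⊆ S c :=
    IsClopen.connectedComponent_subset ⟨hSclosed c, hSopen c⟩ (hx'S c)
  have h3 : x' d ∈ S c := h2 (h1 ▸ mem_connectedComponent)
  by_contra hne
  have h4 : x d ∈ T c := by
    have : f.fiberι y (x' d) ∈ T c := h3
    rwa [hx' d] at this
  exact (hx d).2.2 c hne h4

end Groth.Agent.Lib.Helper28.GenFibreComp
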