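import Mathlib
import Groth.Agent.Lib.Helper28.GenFreeFT

/-!
# Generic exactness on fibres (helper28)
-/

set_option autoImplicit false
universe u v w

namespace Groth.Agent.Lib.Helper28.GenFree

open TensorProduct nonZeroDivisors

section Frac

variable {R : Type u} [CommRing R] [IsDomain R] {M : Type v} [AddCommGroup M] [Module R M]

instance isLocalizedModule_mk_fractionRing :
    IsLocalizedModule R⁰ (TensorProduct.mk R (FractionRing R) M 1) :=
  (isLocalizedModule_iff_isBaseChange R⁰ (FractionRing R) _).2
    (TensorProduct.isBaseChange R M (FractionRing R))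

lemma exists_smul_eq_zero_of_tmul_eq_zero (x : M) (h : (1 : FractionRing R) ⊗ₜ[R] x = 0) :
    ∃ r ∈ R⁰, r • x = 0 := by
  have h2 : TensorProduct.mk R (FractionRing R) M 1 x = 0 := h
  rw [IsLocalizedModule.eq_zero_iff R⁰] at h2
  obtain ⟨c, hc⟩ := h2
  exact ⟨c, c.2, hc⟩

lemma exists_smul_eq_one_tmul (z : FractionRing R ⊗[R] M) :
    ∃ r ∈ R⁰, ∃ x : M, r • z = (1 : FractionRing R) ⊗ₜ[R] x := by
  obtain ⟨⟨x, s⟩, hxs⟩ := IsLocalizedModule.surj R⁰ (TensorProduct.mk R (FractionRing R) M 1) z
  exact ⟨s, s.2, x, hxs⟩

end Frac

section Exact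

variable {R : Type u} [CommRing R] {F : Type v} {G : Type v} {H : Type v} {C : Type v}
  [AddCommGroup F] [Module R F] [AddCommGroup G] [Module R G] [AddCommGroup H] [Module R H]
  [AddCommGroup C] [Module R C]

/-- exactness of a base-changed complex in terms of injectivity of the map induced on the
cokernel -/
lemma exact_baseChange_iff_injective (L : Type w) [CommRing L] [Algebra R L]
    (u : F →ₗ[R] G) (v : G →ₗ[R] H) (q : G →ₗ[R] C) (hq : Function.Surjective q)
    (huq : Function.Exact u q) (w : C →ₗ[R] H) (hw : w ∘ₗ q = v) :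
    Function.Exact (u.baseChange L) (v.baseChange L) ↔ Function.Injective (w.baseChange L) := by
  have hex : Function.Exact (u.baseChange L) (q.baseChange L) := lTensor_exact L huq hq
  have hsurj : Function.Surjective (q.baseChange L) := LinearMap.lTensor_surjective L hq
  have hcomp : ∀ z, v.baseChange L z = w.baseChange L (q.baseChange L z) := by
    intro z
    rw [← hw, LinearMap.baseChange_comp]
    rfl
  constructor
  · intro h
    rw [injective_iff_map_eq_zero]
    intro c hc
    obtain ⟨z, rfl⟩ := hsurj c
    rw [← hcomp] at hc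
    obtain ⟨y, rfl⟩ := (h z).1 hc
    exact (hex _).2 ⟨y, rfl⟩
  · intro h z
    constructor
    · intro hz
      rw [hcomp] at hz
      have : q.baseChange L z = 0 := h (by rw [hz, map_zero])
      exact (hex z).1 this
    · rintro ⟨y, rfl⟩
      rw [hcomp, (hex _).2 ⟨y, rfl⟩, map_zero]

lemma exact_baseChange_smul_iff (L : Type w) [CommRing L] [Algebra R L] (a : R)
    (ha : IsUnit (algebraMap R L a)) (u : F →ₗ[R] G) (v : G →ₗ[R] H) :
    Function.Exact (u.baseChange L) ((a • v).baseChange L) ↔
      Function.Exact (u.baseChange L) (v.baseChange L) := by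
  have key : ∀ z, (a • v).baseChange L z = 0 ↔ v.baseChange L z = 0 := by
    intro z
    rw [LinearMap.baseChange_smul, LinearMap.smul_apply, ← algebraMap_smul L a, ha.smul_eq_zero]
  constructor
  · intro h z
    rw [← key]
    exact h z
  · intro h z
    rw [key]
    exact h z

end Exact

section Fibre

variable {R : Type u} [CommRing R] [IsDomain R] {C : Type u} {H : Type u} {Q : Type u}
  [AddCommGroup C] [Module R C] [AddCommGroup H] [Module R H] [AddCommGroup Q] [Module R Q]

/-- the key fibrewise injectivity statement -/
theorem fibre_injective (w : C →ₗ[R] H) (q : H →ₗ[R] Q) (hq : Function.Surjective q)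
    (hwq : Function.Exact w q) (htors : ∀ c, w c = 0 → ∃ r ∈ R⁰, r • c = 0)
    {f : R} (hf : f ≠ 0) (hC : FreeAt f C) (hQ : FreeAt f Q)
    (κ : Type u) [CommRing κ] [Algebra R κ] (hu : IsUnit (algebraMap R κ f)) :
    Function.Injective (w.baseChange κ) := by
  let ψ : Localization.Away f →+* κ := IsLocalization.Away.lift f hu
  letI : Algebra (Localization.Away f) κ := ψ.toAlgebra
  haveI : IsScalarTower R (Localization.Away f) κ :=
    IsScalarTower.of_algebraMap_eq (fun r => (IsLocalization.Away.lift_eq f hu r).symm)
  -- injectivity after inverting `f`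
  have hinjL : Function.Injective (w.baseChange (Localization.Away f)) := by
    have h1 := baseChange_bijective_of_torsion_ker hf w.rangeRestrict
      w.surjective_rangeRestrict (fun z hz => htors z (by
        have : w.rangeRestrict z = 0 := hz
        have h2 := congrArg Subtype.val this
        exact h2)) hC
    have h2 : Function.Injective ((LinearMap.range w).subtype.baseChange (Localization.Away f)) :=
      Module.Flat.lTensor_preserves_injective_linearMap _ (Submodule.injective_subtype _)
    have h3 : w.baseChange (Localization.Away f) =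
        (LinearMap.range w).subtype.baseChange (Localization.Away f) ∘ₗ
          w.rangeRestrict.baseChange (Localization.Away f) := by
      rw [← LinearMap.baseChange_comp]
      congr 1
    rw [h3]
    exact h2.comp h1.1
  have hexL : Function.Exact (w.baseChange (Localization.Away f))
      (q.baseChange (Localization.Away f)) := lTensor_exact _ hwq hq
  have hsurjL : Function.Surjective (q.baseChange (Localization.Away f)) :=
    LinearMap.lTensor_surjective _ hq
  haveI : Module.Flat (Localization.Away f) (Localization.Away f ⊗[R] Q) := by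
    unfold FreeAt at hQ
    infer_instance
  have hκ : Function.Injective ((w.baseChange (Localization.Away f)).baseChange κ) :=
    LinearMap.lTensor_injective_of_exact_of_flat (q.baseChange (Localization.Away f)) hsurjL
      (w.baseChange (Localization.Away f)) hinjL hexL κ
  rw [LinearMap.baseChange_baseChange] at hκ
  intro a b hab
  have := @hκ ((TensorProduct.AlgebraTensorModule.cancelBaseChange R (Localization.Away f) κ κ
    C).symm a) ((TensorProduct.AlgebraTensorModule.cancelBaseChange R (Localization.Away f) κ κ
    C).symm b) (by simp [hab])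
  exact (LinearEquiv.injective _) this

end Fibre

section Main

variable {R B : Type u} [CommRing R] [IsDomain R] [CommRing B] [Algebra R B]
  {F G H : Type u} [AddCommGroup F] [Module B F] [Module R F] [IsScalarTower R B F]
  [AddCommGroup G] [Module B G] [Module R G] [IsScalarTower R B G]
  [AddCommGroup H] [Module B H] [Module R H] [IsScalarTower R B H]

/-- if the generic fibre of `v ∘ u` vanishes and `F` is finite, then a nonzero element of `R`
kills `v ∘ u`. -/
lemma exists_smul_comp_eq_zero [Module.Finite B F] (u : F →ₗ[B] G) (v : G →ₗ[B] H)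
    (hgen : Function.Exact ((u.restrictScalars R).baseChange (FractionRing R))
      ((v.restrictScalars R).baseChange (FractionRing R))) :
    ∃ r ∈ R⁰, ∀ x, r • v (u x) = 0 := by
  have h1 : ∀ x : F, ∃ r ∈ R⁰, r • v (u x) = 0 := by
    intro x
    apply exists_smul_eq_zero_of_tmul_eq_zero
    have := (hgen ((u.restrictScalars R).baseChange (FractionRing R) ((1 : FractionRing R) ⊗ₜ x))).2
      ⟨_, rfl⟩
    simpa using this
  obtain ⟨t, ht⟩ := (Module.Finite.fg_top : (⊤ : Submodule B F).FG)
  choose c hc hcx using h1
  classical
  refine ⟨∏ x ∈ t, c x, prod_mem (fun x _ => hc x), fun x => ?_⟩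
  have hx : x ∈ Submodule.span B (t : Set F) := by rw [ht]; exact Submodule.mem_top
  induction hx using Submodule.span_induction with
  | mem y hy =>
    rw [← Finset.mul_prod_erase t c hy, mul_comm, mul_smul, hcx, smul_zero]
  | zero => simp
  | add y z _ _ hy hz => rw [map_add, map_add, smul_add, hy, hz, add_zero]
  | smul b y _ hy => rw [map_smul, map_smul, smul_comm, hy, smul_zero]

/-- **Generic exactness on fibres.** -/
theorem fibre_exact_generic [Algebra.FiniteType R B] [Module.Finite B F] [Module.Finite B G]
    [Module.Finite B H] (u : F →ₗ[B] G) (v : G →ₗ[B] H)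
    (hgen : Function.Exact ((u.restrictScalars R).baseChange (FractionRing R))
      ((v.restrictScalars R).baseChange (FractionRing R))) :
    ∃ f : R, f ≠ 0 ∧ ∀ p : PrimeSpectrum R, f ∉ p.asIdeal →
      Function.Exact ((u.restrictScalars R).baseChange p.asIdeal.ResidueField)
        ((v.restrictScalars R).baseChange p.asIdeal.ResidueField) := by
  obtain ⟨f₀, hf₀, hvu⟩ := exists_smul_comp_eq_zero u v hgen
  have hf₀0 : f₀ ≠ 0 := nonZeroDivisors.ne_zero hf₀
  -- replace `v` by `f₀ • v`
  let v₁ : G →ₗ[B] H := algebraMap R B f₀ • v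
  have hv₁ : v₁.restrictScalars R = f₀ • v.restrictScalars R := by
    ext g
    show algebraMap R B f₀ • v g = f₀ • v g
    rw [algebraMap_smul]
  have hle : LinearMap.range u ≤ LinearMap.ker v₁ := by
    rintro _ ⟨x, rfl⟩
    show algebraMap R B f₀ • v (u x) = 0
    rw [algebraMap_smul]
    exact hvu x
  let q : G →ₗ[B] G ⧸ LinearMap.range u := (LinearMap.range u).mkQ
  let w : (G ⧸ LinearMap.range u) →ₗ[B] H := (LinearMap.range u).liftQ v₁ hle
  have hq : Function.Surjective (q.restrictScalars R) := Submodule.mkQ_surjective _
  have huq : Function.Exact (u.restrictScalars R) (q.restrictScalars R) := by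
    intro g
    show (LinearMap.range u).mkQ g = 0 ↔ g ∈ Set.range u
    rw [Submodule.mkQ_apply, Submodule.Quotient.mk_eq_zero]
    rfl
  have hwq : (w.restrictScalars R) ∘ₗ (q.restrictScalars R) = v₁.restrictScalars R := by
    ext g
    rfl
  -- injectivity at the generic point
  have hK : Function.Injective ((w.restrictScalars R).baseChange (FractionRing R)) := by
    rw [← exact_baseChange_iff_injective (FractionRing R) (u.restrictScalars R)
      (v₁.restrictScalars R) (q.restrictScalars R) hq huq (w.restrictScalars R) hwq, hv₁,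
      exact_baseChange_smul_iff]
    · exact hgen
    · exact (IsUnit.mk0 _ ((map_ne_zero_iff _ (IsFractionRing.injective R _)).2 hf₀0))
  have htors : ∀ c, (w.restrictScalars R) c = 0 → ∃ r ∈ R⁰, r • c = 0 := by
    intro c hc
    apply exists_smul_eq_zero_of_tmul_eq_zero
    apply hK
    rw [LinearMap.baseChange_tmul, hc, TensorProduct.tmul_zero, map_zero]
  -- generic freeness
  let qH : H →ₗ[B] H ⧸ LinearMap.range w := (LinearMap.range w).mkQ
  have hqH : Function.Surjective (qH.restrictScalars R) := Submodule.mkQ_surjective _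
  have hwqH : Function.Exact (w.restrictScalars R) (qH.restrictScalars R) := by
    intro h
    show (LinearMap.range w).mkQ h = 0 ↔ h ∈ Set.range w
    rw [Submodule.mkQ_apply, Submodule.Quotient.mk_eq_zero]
    rfl
  obtain ⟨f₁, hf₁, hC⟩ := genFree_finiteType (R := R) (S := B) (G ⧸ LinearMap.range u)
  obtain ⟨f₂, hf₂, hQ⟩ := genFree_finiteType (R := R) (S := B) (H ⧸ LinearMap.range w)
  have h0 : f₀ * f₁ * f₂ ≠ 0 := mul_ne_zero (mul_ne_zero hf₀0 hf₁) hf₂
  refine ⟨f₀ * f₁ * f₂, h0, fun p hp => ?_⟩
  have hunit : ∀ a : R, a ∣ f₀ * f₁ * f₂ → IsUnit (algebraMap R p.asIdeal.ResidueField a) := by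
    intro a ha
    apply IsUnit.mk0
    rw [Ne, Ideal.algebraMap_residueField_eq_zero]
    intro hap
    exact hp (Ideal.mem_of_dvd _ ha hap)
  have hinj := fibre_injective (w.restrictScalars R) (qH.restrictScalars R) hqH hwqH htors h0
    (hC.of_dvd (dvd_mul_of_dvd_left (dvd_mul_left _ _) _)) (hQ.of_dvd (dvd_mul_left _ _))
    p.asIdeal.ResidueField (hunit _ dvd_rfl)
  rw [← exact_baseChange_iff_injective p.asIdeal.ResidueField (u.restrictScalars R)
    (v₁.restrictScalars R) (q.restrictScalars R) hq huq (w.restrictScalars R) hwq, hv₁,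
    exact_baseChange_smul_iff] at hinj
  · exact hinj
  · exact hunit _ (dvd_mul_of_dvd_left (dvd_mul_right _ _) _)

end Main

end Groth.Agent.Lib.Helper28.GenFree
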