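import Groth.Agent.Lib.Helper19.Reynolds
import Groth.Prelude.Def_Hoch

/-!
# Comodule homomorphisms and subcomodules over a coalgebra over a field (helper28)

Builds on helper29/helper19's operator description `opT`, `isSubcomod_iff`.
-/

set_option autoImplicit false
set_option linter.unusedSectionVars false
universe u v w w'

open TensorProduct
open Groth.Agent.Lib.Helper19.Reynolds

namespace Groth.Agent.Lib.Helper28.ComodHom

variable {K : Type u} {C : Type v} [Field K] [AddCommGroup C] [Module K C] [Coalgebra K C]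
variable {V : Type w} [AddCommGroup V] [Module K V] [HopfRep.Comod K C V]
variable {W : Type w'} [AddCommGroup W] [Module K W] [HopfRep.Comod K C W]

/-- A morphism of comodules commutes with the operators `T_f` (general coalgebra). -/
lemma map_opT (φ : V →ₗ[K] W) (h : Hoch.IsComodHom C φ) (f : C →ₗ[K] K) (v : V) :
    φ (opT K C V f v) = opT K C W f (φ v) := by
  unfold Hoch.IsComodHom at h
  have h1 := LinearMap.congr_fun h v
  simp only [LinearMap.comp_apply] at h1
  rw [opT_apply, opT_apply, h1, slice_rTensor]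

/-- Conversely a linear map commuting with all `T_f` is a comodule map. -/
lemma isComodHom_of_map_opT (φ : V →ₗ[K] W)
    (h : ∀ (f : C →ₗ[K] K) (v : V), φ (opT K C V f v) = opT K C W f (φ v)) :
    Hoch.IsComodHom C φ := by
  unfold Hoch.IsComodHom
  ext v
  simp only [LinearMap.comp_apply]
  rw [← sub_eq_zero]
  apply eq_zero_of_slice_eq_zero
  intro f
  rw [map_sub, slice_rTensor, sub_eq_zero]
  have := h f v
  rw [opT_apply, opT_apply] at this
  exact this.symm

lemma isSubcomod_ker (φ : V →ₗ[K] W) (h : Hoch.IsComodHom C φ) :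
    HopfRep.IsSubcomod (k := K) (A := C) (LinearMap.ker φ) := by
  rw [isSubcomod_iff]
  intro f v hv
  rw [LinearMap.mem_ker] at hv ⊢
  rw [map_opT φ h, hv, map_zero]

lemma isSubcomod_map (φ : V →ₗ[K] W) (h : Hoch.IsComodHom C φ) (U : Submodule K V)
    (hU : HopfRep.IsSubcomod (k := K) (A := C) U) :
    HopfRep.IsSubcomod (k := K) (A := C) (U.map φ) := by
  rw [isSubcomod_iff] at hU ⊢
  rintro f _ ⟨v, hv, rfl⟩
  rw [← map_opT φ h]
  exact ⟨_, hU f v hv, rfl⟩

lemma isSubcomod_comap (φ : V →ₗ[K] W) (h : Hoch.IsComodHom C φ) (U : Submodule K W)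
    (hU : HopfRep.IsSubcomod (k := K) (A := C) U) :
    HopfRep.IsSubcomod (k := K) (A := C) (U.comap φ) := by
  rw [isSubcomod_iff] at hU ⊢
  intro f v hv
  rw [Submodule.mem_comap] at hv ⊢
  rw [map_opT φ h]
  exact hU f _ hv

lemma isSubcomod_top : HopfRep.IsSubcomod (k := K) (A := C) (⊤ : Submodule K V) := by
  rw [isSubcomod_iff]; intro f v _; trivial

lemma isSubcomod_bot : HopfRep.IsSubcomod (k := K) (A := C) (⊥ : Submodule K V) := by
  rw [isSubcomod_iff]; intro f v hv
  rw [Submodule.mem_bot] at hv ⊢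
  rw [hv, map_zero]

lemma isSubcomod_range (φ : V →ₗ[K] W) (h : Hoch.IsComodHom C φ) :
    HopfRep.IsSubcomod (k := K) (A := C) (LinearMap.range φ) := by
  rw [← Submodule.map_top]
  exact isSubcomod_map φ h ⊤ isSubcomod_top

lemma isSubcomod_iSup {ι : Sort*} (U : ι → Submodule K V)
    (hU : ∀ i, HopfRep.IsSubcomod (k := K) (A := C) (U i)) :
    HopfRep.IsSubcomod (k := K) (A := C) (⨆ i, U i) := by
  rw [isSubcomod_iff]
  intro f v hv
  have : (⨆ i, U i) ≤ (⨆ i, U i).comap (opT K C V f) := by
    refine iSup_le fun i => ?_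
    intro w hw
    exact Submodule.mem_iSup_of_mem i ((isSubcomod_iff (U i)).mp (hU i) f w hw)
  exact this hv

lemma isSubcomod_sup (U U' : Submodule K V)
    (hU : HopfRep.IsSubcomod (k := K) (A := C) U) (hU' : HopfRep.IsSubcomod (k := K) (A := C) U') :
    HopfRep.IsSubcomod (k := K) (A := C) (U ⊔ U') := by
  rw [sup_eq_iSup]
  exact isSubcomod_iSup _ (fun b => by cases b <;> assumption)

lemma isSubcomod_inf (U U' : Submodule K V)
    (hU : HopfRep.IsSubcomod (k := K) (A := C) U) (hU' : HopfRep.IsSubcomod (k := K) (A := C) U') :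
    HopfRep.IsSubcomod (k := K) (A := C) (U ⊓ U') := by
  rw [isSubcomod_iff] at hU hU' ⊢
  intro f v hv
  exact ⟨hU f v hv.1, hU' f v hv.2⟩

lemma isSubcomod_iInf {ι : Sort*} (U : ι → Submodule K V)
    (hU : ∀ i, HopfRep.IsSubcomod (k := K) (A := C) (U i)) :
    HopfRep.IsSubcomod (k := K) (A := C) (⨅ i, U i) := by
  rw [isSubcomod_iff]
  intro f v hv
  rw [Submodule.mem_iInf] at hv ⊢
  intro i
  exact (isSubcomod_iff (U i)).mp (hU i) f v (hv i)

/-- Schur's lemma for comodules. -/
theorem eq_zero_or_bijective (hV : HopfRep.IsSimpleComod K C V) (hW : HopfRep.IsSimpleComod K C W)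
    (φ : V →ₗ[K] W) (h : Hoch.IsComodHom C φ) : φ = 0 ∨ Function.Bijective φ := by
  rcases hV.2 _ (isSubcomod_ker φ h) with hk | hk
  · rcases hW.2 _ (isSubcomod_range φ h) with hr | hr
    · left
      exact LinearMap.range_eq_bot.mp hr
    · right
      exact ⟨LinearMap.ker_eq_bot.mp hk, LinearMap.range_eq_top.mp hr⟩
  · left
    exact LinearMap.ker_eq_top.mp hk

/-- A nonzero comodule map out of a simple comodule is injective. -/
lemma injective_of_isSimpleComod (hV : HopfRep.IsSimpleComod K C V) (φ : V →ₗ[K] W)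
    (h : Hoch.IsComodHom C φ) (h0 : φ ≠ 0) : Function.Injective φ := by
  rcases hV.2 _ (isSubcomod_ker φ h) with hk | hk
  · exact LinearMap.ker_eq_bot.mp hk
  · exact absurd (LinearMap.ker_eq_top.mp hk) h0

/-- The image of a nonzero comodule map out of a simple comodule is a minimal subcomodule. -/
lemma isAtom_toOp_range (hV : HopfRep.IsSimpleComod K C V) (φ : V →ₗ[K] W)
    (h : Hoch.IsComodHom C φ) (h0 : φ ≠ 0) :
    IsAtom (toOp (LinearMap.range φ) (isSubcomod_range φ h)) := by
  rw [isAtom_toOp_iff]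
  refine ⟨fun hr => h0 (LinearMap.range_eq_bot.mp hr), fun W' hW' hle => ?_⟩
  rcases hV.2 _ (isSubcomod_comap φ h W' hW') with hc | hc
  · left
    rw [eq_bot_iff]
    intro w hw
    obtain ⟨v, rfl⟩ := hle hw
    have : v ∈ W'.comap φ := hw
    rw [hc, Submodule.mem_bot] at this
    rw [this, map_zero]; exact Submodule.zero_mem _
  · right
    refine le_antisymm hle ?_
    rintro _ ⟨v, rfl⟩
    have : v ∈ W'.comap φ := by rw [hc]; trivial
    exact this

/-- The identity, as a `K`-linear equivalence between a subcomodule and the corresponding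
submodule over the operator algebra. -/
def toOpEquiv (U : Submodule K V) (hU : HopfRep.IsSubcomod (k := K) (A := C) U) :
    U ≃ₗ[K] toOp U hU where
  toFun x := ⟨x.1, x.2⟩
  invFun x := ⟨x.1, x.2⟩
  map_add' _ _ := rfl
  map_smul' _ _ := rfl
  left_inv _ := rfl
  right_inv _ := rfl

/-- An isomorphism over the operator algebra between the images of two injective comodule maps
gives a comodule isomorphism between the sources. -/
theorem exists_comodIso_of_linearEquiv_toOp_range
    {S : Type*} [AddCommGroup S] [Module K S] [HopfRep.Comod K C S]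
    {T : Type*} [AddCommGroup T] [Module K T] [HopfRep.Comod K C T]
    (f : S →ₗ[K] V) (hf : Hoch.IsComodHom C f) (hfinj : Function.Injective f)
    (g : T →ₗ[K] V) (hg : Hoch.IsComodHom C g) (hginj : Function.Injective g)
    (φ : toOp (LinearMap.range f) (isSubcomod_range f hf) ≃ₗ[opAlg K C V]
      toOp (LinearMap.range g) (isSubcomod_range g hg)) :
    ∃ e : S ≃ₗ[K] T, Hoch.IsComodHom C (e : S →ₗ[K] T) := by
  let e1 : S ≃ₗ[K] LinearMap.range f := LinearEquiv.ofInjective f hfinj
  let e3 : T ≃ₗ[K] LinearMap.range g := LinearEquiv.ofInjective g hginj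
  let e : S ≃ₗ[K] T := e1.trans ((toOpEquiv _ (isSubcomod_range f hf)).trans
    ((φ.restrictScalars K).trans ((toOpEquiv _ (isSubcomod_range g hg)).symm.trans
      e3.symm)))
  refine ⟨e, ?_⟩
  apply isComodHom_of_map_opT
  intro h x
  apply hginj
  have hmem : opT K C V h ∈ opAlg K C V := Algebra.subset_adjoin ⟨h, rfl⟩
  have key : ∀ x : S, g (e x) = ((φ ⟨f x, ⟨x, rfl⟩⟩ : toOp _ _) : V) := by
    intro x
    have : e3 (e x) = (toOpEquiv _ (isSubcomod_range g hg)).symm
        (φ (toOpEquiv _ (isSubcomod_range f hf) (e1 x))) := by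
      simp [e]
    exact congrArg Subtype.val this
  rw [map_opT g hg]
  show g (e (opT K C S h x)) = opT K C V h (g (e x))
  rw [key, key]
  have h3 : (⟨f (opT K C S h x), ⟨_, rfl⟩⟩ : toOp (LinearMap.range f) (isSubcomod_range f hf)) =
      (⟨opT K C V h, hmem⟩ : opAlg K C V) •
        (⟨f x, ⟨x, rfl⟩⟩ : toOp (LinearMap.range f) (isSubcomod_range f hf)) := by
    apply Subtype.ext
    exact map_opT f hf h x
  rw [h3, φ.map_smul]
  rfl

/-- A simple comodule mapping nontrivially into a sum of images of simple comodules is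
isomorphic (as a comodule) to one of them. -/
theorem exists_comodIso_of_iSup_range_eq_top {ι : Type*} (Kc : ι → Type w')
    [∀ i, AddCommGroup (Kc i)] [∀ i, Module K (Kc i)] [∀ i, HopfRep.Comod K C (Kc i)]
    (hK : ∀ i, HopfRep.IsSimpleComod K C (Kc i)) (g : ∀ i, Kc i →ₗ[K] V)
    (hg : ∀ i, Hoch.IsComodHom C (g i)) (hsum : (⨆ i, LinearMap.range (g i)) = ⊤)
    (S : Type w') [AddCommGroup S] [Module K S] [HopfRep.Comod K C S]
    (hS : HopfRep.IsSimpleComod K C S)
    (f : S →ₗ[K] V) (hf : Hoch.IsComodHom C f) (hf0 : f ≠ 0) :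
    ∃ (i : ι) (e : S ≃ₗ[K] Kc i), Hoch.IsComodHom C (e : S →ₗ[K] Kc i) := by
  classical
  let N : Submodule (opAlg K C V) V := toOp (LinearMap.range f) (isSubcomod_range f hf)
  haveI : IsSimpleModule (opAlg K C V) N :=
    isSimpleModule_iff_isAtom.mpr (isAtom_toOp_range hS f hf hf0)
  let s : Set (Submodule (opAlg K C V) V) :=
    {m | ∃ i, g i ≠ 0 ∧ m = toOp (LinearMap.range (g i)) (isSubcomod_range (g i) (hg i))}
  haveI : ∀ m : s, IsSimpleModule (opAlg K C V) m := by
    rintro ⟨m, i, hi, rfl⟩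
    exact isSimpleModule_iff_isAtom.mpr (isAtom_toOp_range (hK i) (g i) (hg i) hi)
  have hs : sSup s = ⊤ := by
    rw [eq_top_iff]
    intro v _
    have hv : v ∈ ⨆ i, LinearMap.range (g i) := by rw [hsum]; trivial
    have hle : (⨆ i, LinearMap.range (g i)) ≤ (sSup s).restrictScalars K := by
      refine iSup_le fun i => ?_
      by_cases hi : g i = 0
      · rw [hi, LinearMap.range_zero]; exact bot_le
      · intro x hx
        exact (le_sSup (show toOp (LinearMap.range (g i)) (isSubcomod_range (g i) (hg i)) ∈ s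
          from ⟨i, hi, rfl⟩)) hx
    exact hle hv
  obtain ⟨m, ⟨i, hi, rfl⟩, ⟨φ⟩⟩ := Submodule.linearEquiv_of_sSup_eq_top N s hs
  have hfinj := injective_of_isSimpleComod hS f hf hf0
  have hginj := injective_of_isSimpleComod (hK i) (g i) (hg i) hi
  obtain ⟨e, he⟩ := exists_comodIso_of_linearEquiv_toOp_range f hf hfinj (g i) (hg i) hginj φ
  exact ⟨i, e, he⟩

/-- Isotypic components for pairwise non-isomorphic simple comodules are independent. -/
theorem iSupIndep_isotypic {ι : Type*} (S : ι → Type w')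
    [∀ j, AddCommGroup (S j)] [∀ j, Module K (S j)] [∀ j, HopfRep.Comod K C (S j)]
    (hS : ∀ j, HopfRep.IsSimpleComod K C (S j))
    (hne : ∀ j j', j ≠ j' → ∀ e : S j ≃ₗ[K] S j', ¬ Hoch.IsComodHom C (e : S j →ₗ[K] S j')) :
    iSupIndep (fun j => ⨆ f : {f : S j →ₗ[K] V // Hoch.IsComodHom C f}, LinearMap.range f.1) := by
  classical
  let R := opAlg K C V
  let s : ι → Set (Submodule R V) := fun j =>
    {m | ∃ (f : S j →ₗ[K] V) (hf : Hoch.IsComodHom C f), f ≠ 0 ∧
      m = toOp (LinearMap.range f) (isSubcomod_range f hf)}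
  have hsimple : ∀ j, ∀ m : s j, IsSimpleModule R m := by
    rintro j ⟨m, f, hf, hf0, rfl⟩
    exact isSimpleModule_iff_isAtom.mpr (isAtom_toOp_range (hS j) f hf hf0)
  let A : ι → Submodule R V := fun j => sSup (s j)
  have h1 : ∀ j, (⨆ f : {f : S j →ₗ[K] V // Hoch.IsComodHom C f}, LinearMap.range f.1) ≤
      (A j).restrictScalars K := by
    intro j
    refine iSup_le fun f => ?_
    by_cases hf0 : f.1 = 0
    · rw [hf0, LinearMap.range_zero]; exact bot_le
    · intro x hx
      exact (le_sSup (show toOp (LinearMap.range f.1) (isSubcomod_range f.1 f.2) ∈ s j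
        from ⟨f.1, f.2, hf0, rfl⟩)) hx
  have h2 : iSupIndep A := by
    rw [iSupIndep_def]
    intro j
    rw [disjoint_iff]
    set B : Submodule R V := ⨆ (k : ι) (_ : k ≠ j), A k with hB
    have hAss : IsSemisimpleModule R (A j) := by
      have : A j = ⨆ m ∈ s j, (id m : Submodule R V) := by
        simp only [A, sSup_eq_iSup, id]
      rw [this]
      exact isSemisimpleModule_biSup_of_isSemisimpleModule_submodule
        (fun m hm => by
          haveI := hsimple j ⟨m, hm⟩
          show IsSemisimpleModule R m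
          infer_instance)
    have hPss : IsSemisimpleModule R ↥(A j ⊓ B) :=
      IsSemisimpleModule.of_injective (R := R) (M := ↥(A j))
        (Submodule.inclusion (inf_le_left : A j ⊓ B ≤ A j))
        (Submodule.inclusion_injective _)
    rcases IsSemisimpleModule.eq_bot_or_exists_simple_le (A j ⊓ B) with h | ⟨T, hT, hTs⟩
    · exact h
    · exfalso
      obtain ⟨m, ⟨f, hf, hf0, rfl⟩, ⟨φ⟩⟩ :=
        Submodule.linearEquiv_of_le_sSup T (s j) (simple := hsimple j) (hT.trans inf_le_left)
      have hB' : B = sSup (⋃ (k : ι) (_ : k ≠ j), s k) := by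
        simp only [hB, A, sSup_iUnion]
      have hsimple' : ∀ m : (⋃ (k : ι) (_ : k ≠ j), s k), IsSimpleModule R m := by
        rintro ⟨m, hm⟩
        simp only [Set.mem_iUnion] at hm
        obtain ⟨k, _, hk⟩ := hm
        exact hsimple k ⟨m, hk⟩
      obtain ⟨m', hm', ⟨φ'⟩⟩ :=
        Submodule.linearEquiv_of_le_sSup T _ (simple := hsimple') (hB' ▸ hT.trans inf_le_right)
      simp only [Set.mem_iUnion] at hm'
      obtain ⟨k, hkj, f', hf', hf'0, rfl⟩ := hm'
      obtain ⟨e, he⟩ := exists_comodIso_of_linearEquiv_toOp_range f hf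
        (injective_of_isSimpleComod (hS j) f hf hf0) f' hf'
        (injective_of_isSimpleComod (hS k) f' hf' hf'0) (φ.symm.trans φ')
      exact hne j k (Ne.symm hkj) e he
  have h3 : iSupIndep (fun j => (A j).restrictScalars K) := by
    rw [iSupIndep_def] at h2 ⊢
    intro j
    rw [Submodule.disjoint_def]
    intro x hx hx'
    have hle : (⨆ (k : ι) (_ : k ≠ j), (A k).restrictScalars K) ≤
        (⨆ (k : ι) (_ : k ≠ j), A k).restrictScalars K := by
      refine iSup_le fun k => iSup_le fun hk => ?_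
      intro y hy
      exact (le_iSup₂ (f := fun (k : ι) (_ : k ≠ j) => A k) k hk) hy
    exact (Submodule.disjoint_def.mp (h2 j)) x hx (hle hx')
  exact h3.mono h1

end Groth.Agent.Lib.Helper28.ComodHom
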