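import Groth.Prelude.Def_CAlg
import Groth.Agent.Lib.Helper4.Depth
import Mathlib.AlgebraicGeometry.Noetherian
import Mathlib.AlgebraicGeometry.AffineScheme
import Mathlib.RingTheory.Ideal.AssociatedPrime.Localization

/-!
# Associated points of the structure sheaf of a locally Noetherian scheme, via affine charts
-/

set_option autoImplicit false
universe u

open CategoryTheory AlgebraicGeometry TopologicalSpace Opposite

namespace Groth.Agent.Lib.Helper28.StalkAss

variable {X : Scheme.{u}}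

/-- the germ of a section at a point of an affine open vanishes iff the section is killed by a
function not vanishing at the point -/
theorem germ_eq_zero_iff {U : X.Opens} (hU : IsAffineOpen U) (x : X) (hx : x ∈ U) (s : Γ(X, U)) :
    X.presheaf.germ U x hx s = 0 ↔
      ∃ c : Γ(X, U), c ∉ (hU.primeIdealOf ⟨x, hx⟩).asIdeal ∧ c * s = 0 := by
  let _ := X.presheaf.algebra_section_stalk ⟨x, hx⟩
  have := hU.isLocalization_stalk ⟨x, hx⟩
  change algebraMap Γ(X, U) (X.presheaf.stalk x) s = 0 ↔ _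
  rw [IsLocalization.map_eq_zero_iff (hU.primeIdealOf ⟨x, hx⟩).asIdeal.primeCompl]
  constructor
  · rintro ⟨c, hc⟩; exact ⟨c.1, c.2, hc⟩
  · rintro ⟨c, hc, h⟩; exact ⟨⟨c, hc⟩, h⟩

/-- specialization from inclusion of primes in an affine open -/
theorem specializes_of_le {V : X.Opens} (hV : IsAffineOpen V) (x y : X)
    (hx : x ∈ V) (hy : y ∈ V)
    (hle : (hV.primeIdealOf ⟨x, hx⟩).asIdeal ≤ (hV.primeIdealOf ⟨y, hy⟩).asIdeal) : x ⤳ y := by
  have hspec : hV.primeIdealOf ⟨x, hx⟩ ⤳ hV.primeIdealOf ⟨y, hy⟩ :=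
    (PrimeSpectrum.le_iff_specializes _ _).mp hle
  have hspec' := hspec.map hV.fromSpec.continuous
  rwa [hV.fromSpec_primeIdealOf ⟨x, hx⟩, hV.fromSpec_primeIdealOf ⟨y, hy⟩] at hspec'

/-- every prime of the coordinate ring of an affine open is the prime of a point -/
theorem exists_point_of_prime {U : X.Opens} (hU : IsAffineOpen U) (p : Ideal Γ(X, U)) [hp : p.IsPrime] :
    ∃ (z : X) (hz : z ∈ U), (hU.primeIdealOf ⟨z, hz⟩).asIdeal = p := by
  let q : PrimeSpectrum Γ(X, U) := ⟨p, hp⟩
  have hzU : hU.fromSpec q ∈ U := by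
    have : hU.fromSpec q ∈ Set.range hU.fromSpec := ⟨q, rfl⟩
    rw [hU.range_fromSpec] at this
    exact this
  have hzq : hU.primeIdealOf ⟨hU.fromSpec q, hzU⟩ = q := by
    apply hU.fromSpec.isOpenEmbedding.injective
    rw [hU.fromSpec_primeIdealOf ⟨hU.fromSpec q, hzU⟩]
  exact ⟨hU.fromSpec q, hzU, by rw [hzq]⟩

/-- sections of the structure sheaf vanish if all germs vanish -/
theorem section_eq_zero (W : X.Opens) (n : Γ(X, W))
    (h : ∀ (x : X) (hx : x ∈ W), X.presheaf.germ W x hx n = 0) : n = 0 := by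
  refine TopCat.Presheaf.section_ext X.sheaf W n 0 fun x hx => ?_
  exact (h x hx).trans (map_zero (X.presheaf.germ W x hx).hom).symm

/-- `m_x ∈ Ass(O_{X,x})` iff the prime of `x` in an affine chart is an associated prime of the
coordinate ring. -/
theorem ass_stalk_iff [IsLocallyNoetherian X] {U : X.Opens} (hU : IsAffineOpen U) (x : X) (hx : x ∈ U) :
    IsAssociatedPrime (IsLocalRing.maximalIdeal (X.presheaf.stalk x)) (X.presheaf.stalk x) ↔
      (hU.primeIdealOf ⟨x, hx⟩).asIdeal ∈ associatedPrimes Γ(X, U) Γ(X, U) := by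
  have : IsNoetherianRing Γ(X, U) := IsLocallyNoetherian.component_noetherian ⟨U, hU⟩
  let _ := X.presheaf.algebra_section_stalk ⟨x, hx⟩
  have := hU.isLocalization_stalk ⟨x, hx⟩
  have h := Module.associatedPrimes.preimage_comap_associatedPrimes_eq_associatedPrimes_of_isLocalizedModule
    (hU.primeIdealOf ⟨x, hx⟩).asIdeal.primeCompl (X.presheaf.stalk x)
    (Algebra.linearMap Γ(X, U) (X.presheaf.stalk x))
  have hcomap : Ideal.comap (algebraMap Γ(X, U) (X.presheaf.stalk x))
      (IsLocalRing.maximalIdeal (X.presheaf.stalk x)) = (hU.primeIdealOf ⟨x, hx⟩).asIdeal :=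
    IsLocalization.AtPrime.under_maximalIdeal (X.presheaf.stalk x) _
  change IsLocalRing.maximalIdeal (X.presheaf.stalk x) ∈
    associatedPrimes (X.presheaf.stalk x) (X.presheaf.stalk x) ↔ _
  rw [← h, Set.mem_preimage, hcomap]

/-- depth zero of the local ring at a point, in an affine chart -/
theorem depth_eq_zero_iff [IsLocallyNoetherian X] {U : X.Opens} (hU : IsAffineOpen U) (x : X)
    (hx : x ∈ U) :
    LocCoh.depth (X.presheaf.stalk x) (X.presheaf.stalk x) = 0 ↔
      (hU.primeIdealOf ⟨x, hx⟩).asIdeal ∈ associatedPrimes Γ(X, U) Γ(X, U) := by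
  rw [Groth.Agent.Lib.Helper4.depth_eq_zero_iff_maximalIdeal_mem_associatedPrimes]
  exact ass_stalk_iff hU x hx

end Groth.Agent.Lib.Helper28.StalkAss
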