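import Groth.Agent.Lib.Helper28.MeroDivTriv
import Groth.Agent.Lib.Helper28.StalkAss
import Groth.Agent.Lib.Helper4.Depth
import Groth.Prelude.Def_MeroDiv
import Mathlib.RingTheory.Ideal.AssociatedPrime.Localization

/-!
# Divisors of a locally Noetherian scheme are controlled by the points of depth one

* algebra: `mem_span_of_forall_ass`, `exists_notMem_mul_mem_span` (`a ∈ bR` can be tested at the
  associated primes of `R/bR`), `depth_eq_one_of_mem_associatedPrimes` (these primes have local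
  rings of depth one when `b` is regular);
* divisors: `exists_local_fraction` (a divisor is locally the class of `a/b` with `a`, `b` regular
  sections over an affine open), `isEffective_of_depth_one`, `eq_one_of_depth_one`,
  `depth_eq_one_of_maximal_supp`.
-/

set_option autoImplicit false
universe u

open CategoryTheory AlgebraicGeometry TopologicalSpace Opposite

namespace Groth.Agent.Lib.Helper28.MeroDivLocal

section algebra

variable {R : Type u} [CommRing R]

theorem mem_colon_mk_iff (b z r : R) :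
    r ∈ (⊥ : Submodule R (R ⧸ Ideal.span {b})).colon {Ideal.Quotient.mk (Ideal.span {b}) z} ↔
      r * z ∈ Ideal.span {b} := by
  rw [Submodule.mem_colon_singleton, Submodule.mem_bot]
  change Ideal.Quotient.mk (Ideal.span {b}) (r * z) = 0 ↔ _
  exact Ideal.Quotient.eq_zero_iff_mem

variable [IsNoetherianRing R]

/-- `a ∈ bR` may be tested at the associated primes of `R/bR`. -/
theorem mem_span_of_forall_ass (a b : R)
    (h : ∀ q ∈ associatedPrimes R (R ⧸ Ideal.span {b}),
      ∃ s : R, s ∉ q ∧ s * a ∈ Ideal.span {b}) :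
    a ∈ Ideal.span {b} := by
  by_contra ha
  have hne : (Ideal.Quotient.mk (Ideal.span {b}) a) ≠ 0 :=
    fun h0 => ha (Ideal.Quotient.eq_zero_iff_mem.mp h0)
  obtain ⟨P, hP, hle⟩ := exists_le_isAssociatedPrime_of_isNoetherianRing R _ hne
  obtain ⟨s, hs, hsa⟩ := h P hP
  exact hs (hle ((mem_colon_mk_iff b a s).mpr hsa))

/-- local version: `a ∈ bR_p` may be tested at the associated primes of `R/bR` contained in `p`. -/
theorem exists_notMem_mul_mem_span (a b : R) (p : Ideal R) [hp : p.IsPrime]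
    (h : ∀ q ∈ associatedPrimes R (R ⧸ Ideal.span {b}), q ≤ p →
      ∃ s : R, s ∉ q ∧ s * a ∈ Ideal.span {b}) :
    ∃ s : R, s ∉ p ∧ s * a ∈ Ideal.span {b} := by
  by_contra hcon
  push Not at hcon
  have hRpn : IsNoetherianRing (Localization.AtPrime p) :=
    IsLocalization.isNoetherianRing p.primeCompl _ inferInstance
  have hne : LocalizedModule.mkLinearMap p.primeCompl (R ⧸ Ideal.span {b})
      (Ideal.Quotient.mk (Ideal.span {b}) a) ≠ 0 := by
    intro h0
    rw [IsLocalizedModule.eq_zero_iff p.primeCompl] at h0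
    obtain ⟨c, hc⟩ := h0
    have hc' : Ideal.Quotient.mk (Ideal.span {b}) ((c : R) * a) = 0 := hc
    exact hcon c.1 c.2 (Ideal.Quotient.eq_zero_iff_mem.mp hc')
  obtain ⟨P, hP, hle⟩ := exists_le_isAssociatedPrime_of_isNoetherianRing
    (Localization.AtPrime p) _ hne
  have hPprime : P.IsPrime := hP.isPrime
  have hcomap :=
    Module.associatedPrimes.preimage_comap_associatedPrimes_eq_associatedPrimes_of_isLocalizedModule
      p.primeCompl (Localization.AtPrime p)
      (LocalizedModule.mkLinearMap p.primeCompl (R ⧸ Ideal.span {b}))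
  have hq : Ideal.comap (algebraMap R (Localization.AtPrime p)) P ∈
      associatedPrimes R (R ⧸ Ideal.span {b}) := by
    have h1 : P ∈ associatedPrimes (Localization.AtPrime p)
        (LocalizedModule p.primeCompl (R ⧸ Ideal.span {b})) := hP
    rw [← hcomap] at h1
    exact h1
  have hqp : Ideal.comap (algebraMap R (Localization.AtPrime p)) P ≤ p := by
    have h1 : P ≤ IsLocalRing.maximalIdeal (Localization.AtPrime p) :=
      IsLocalRing.le_maximalIdeal hPprime.ne_top
    have h2 := Ideal.comap_mono (f := algebraMap R (Localization.AtPrime p)) h1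
    have h3 : Ideal.comap (algebraMap R (Localization.AtPrime p))
        (IsLocalRing.maximalIdeal (Localization.AtPrime p)) = p :=
      IsLocalization.AtPrime.under_maximalIdeal (Localization.AtPrime p) p
    rwa [h3] at h2
  obtain ⟨s, hs, hsa⟩ := h _ hq hqp
  apply hs
  rw [Ideal.mem_comap]
  apply hle
  rw [Submodule.mem_colon_singleton, Submodule.mem_bot, algebraMap_smul, ← map_smul]
  have h0 : s • (Ideal.Quotient.mk (Ideal.span {b}) a) = 0 := by
    change Ideal.Quotient.mk (Ideal.span {b}) (s * a) = 0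
    exact Ideal.Quotient.eq_zero_iff_mem.mpr hsa
  rw [h0, map_zero]

/-- If `b` is a non-zero-divisor of the Noetherian ring `R` and `q` is an associated prime of
`R/bR`, then the local ring `R_q` has depth one. -/
theorem depth_eq_one_of_mem_associatedPrimes (b : R) (hb : b ∈ nonZeroDivisors R) (q : Ideal R)
    [hqp : q.IsPrime] (hq : q ∈ associatedPrimes R (R ⧸ Ideal.span {b}))
    (S : Type u) [CommRing S] [IsLocalRing S] [Algebra R S] [IsLocalization.AtPrime S q] :
    LocCoh.depth S S = 1 := by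
  have hSn : IsNoetherianRing S := IsLocalization.isNoetherianRing q.primeCompl S inferInstance
  obtain ⟨-, z', hz'⟩ := isAssociatedPrime_iff.mp hq
  obtain ⟨z, rfl⟩ := Ideal.Quotient.mk_surjective z'
  have hmem : ∀ r : R, r ∈ q ↔ r * z ∈ Ideal.span {b} := fun r => by
    conv_lhs => rw [hz']
    exact mem_colon_mk_iff b z r
  have hbq : b ∈ q := (hmem b).mpr (Ideal.mul_mem_right z _ (Ideal.mem_span_singleton_self b))
  have hβm : algebraMap R S b ∈ IsLocalRing.maximalIdeal S :=
    (IsLocalization.AtPrime.to_map_mem_maximal_iff S q b).mpr hbq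
  have hβnzd : algebraMap R S b ∈ nonZeroDivisors S :=
    IsLocalization.map_nonZeroDivisors_le q.primeCompl S (Submonoid.mem_map_of_mem _ hb)
  have hβreg : IsSMulRegular S (algebraMap R S b) :=
    isSMulRegular_iff_right_eq_zero_of_smul.mpr
      (fun m hm => (mem_nonZeroDivisors_iff_left.mp hβnzd) m hm)
  have hstep := Groth.Agent.Lib.Helper4.idealDepth_quotSMulTop_add_one (M := S)
    (IsLocalRing.maximalIdeal S) (algebraMap R S b) hβm hβreg
  have hne : IsLocalRing.maximalIdeal S •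
      (⊤ : Submodule S (QuotSMulTop (algebraMap R S b) S)) ≠ ⊤ :=
    Groth.Agent.Lib.Helper4.smul_top_quotSMulTop_ne_top _ hβm
      Groth.Agent.Lib.Helper4.maximalIdeal_smul_top_ne_top
  have hzero : LocCoh.idealDepth (IsLocalRing.maximalIdeal S)
      (QuotSMulTop (algebraMap R S b) S) = 0 := by
    rw [Groth.Agent.Lib.Helper4.idealDepth_eq_zero_iff _ hne]
    intro r hr hreg
    have hw0 : (Submodule.Quotient.mk (algebraMap R S z) : QuotSMulTop (algebraMap R S b) S) ≠ 0 := by
      intro hw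
      rw [Submodule.Quotient.mk_eq_zero] at hw
      obtain ⟨m, -, hm⟩ := (Submodule.mem_smul_pointwise_iff_exists _ _ _).mp hw
      obtain ⟨c, s, rfl⟩ := IsLocalization.exists_mk'_eq q.primeCompl m
      have h1 : algebraMap R S (z * s) = algebraMap R S (b * c) := by
        rw [map_mul, map_mul, ← hm, smul_eq_mul, mul_assoc, IsLocalization.mk'_spec]
      obtain ⟨t, ht⟩ := (IsLocalization.eq_iff_exists q.primeCompl S).mp h1
      have h2 : (t : R) * s ∈ q := (hmem _).mpr (by
        rw [Ideal.mem_span_singleton']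
        exact ⟨t * c, by linear_combination (-1 : R) * ht⟩)
      rcases hqp.mem_or_mem h2 with h | h
      · exact t.2 h
      · exact s.2 h
    have hrw : r • (Submodule.Quotient.mk (algebraMap R S z) :
        QuotSMulTop (algebraMap R S b) S) = 0 := by
      obtain ⟨r', s, rfl⟩ := IsLocalization.exists_mk'_eq q.primeCompl r
      have hr' : r' ∈ q := (IsLocalization.AtPrime.mk'_mem_maximal_iff S q r' s).mp hr
      obtain ⟨c, hc⟩ := Ideal.mem_span_singleton'.mp ((hmem r').mp hr')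
      change (Submodule.Quotient.mk (IsLocalization.mk' S r' s • algebraMap R S z) :
        QuotSMulTop (algebraMap R S b) S) = 0
      rw [Submodule.Quotient.mk_eq_zero]
      refine (Submodule.mem_smul_pointwise_iff_exists _ _ _).mpr
        ⟨IsLocalization.mk' S c s, Submodule.mem_top, ?_⟩
      have hbc : b * c = z * r' := by linear_combination hc
      rw [smul_eq_mul, smul_eq_mul, mul_comm (IsLocalization.mk' S r' s),
        IsLocalization.mul_mk'_eq_mk'_of_mul, IsLocalization.mul_mk'_eq_mk'_of_mul, hbc]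
    exact hw0 (hreg (hrw.trans (smul_zero r).symm))
  rw [LocCoh.depth, ← hstep, hzero, zero_add]

end algebra

section mero

open Mero Groth.Agent.Lib.Helper28.MeroBasic Groth.Agent.Lib.Helper28.MeroDivTriv

variable {X : Scheme.{u}}

/-- the unit `a / b` of `K_{X,x}` for `a b ∈ S_x` -/
noncomputable def fracUnit {x : X} (a b : regStalk X x) : (KStalk X x)ˣ where
  val := LocalizedModule.mk a.1 b
  inv := LocalizedModule.mk b.1 a
  val_inv := by
    have h : (LocalizedModule.mk (a.1 * b.1) (b * a) : KStalk X x) = 1 :=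
      (mk_congr (mul_comm a.1 b.1) rfl).trans (mk_self_eq_one (b * a))
    exact LocalizedModule.mk_mul_mk.trans h
  inv_val := by
    have h : (LocalizedModule.mk (b.1 * a.1) (a * b) : KStalk X x) = 1 :=
      (mk_congr (mul_comm b.1 a.1) rfl).trans (mk_self_eq_one (a * b))
    exact LocalizedModule.mk_mul_mk.trans h

theorem fracUnit_inv {x : X} (a b : regStalk X x) : (fracUnit a b)⁻¹ = fracUnit b a :=
  Units.ext rfl

theorem regSub_le_nonZeroDivisors {W : X.Opens} (b : regSub X W) :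
    b.1 ∈ nonZeroDivisors Γ(X, W) := by
  rw [mem_nonZeroDivisors_iff_left]
  intro c hc
  apply MeroBasic.section_eq_zero W c
  intro y hy
  have hb : X.presheaf.germ W y hy b.1 ∈ nonZeroDivisors (X.presheaf.stalk y) := b.2 ⟨y, hy⟩
  have h1 : X.presheaf.germ W y hy b.1 * X.presheaf.germ W y hy c = 0 := by
    rw [← map_mul, hc, map_zero]
  exact (mem_nonZeroDivisors_iff_left.mp hb) _ h1

/-- A divisor is, near every point, the class of a fraction `a / b` of regular sections over an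
affine open. -/
theorem exists_local_fraction (D : Divisor X) (x : X) :
    ∃ (W : X.Opens) (_ : IsAffineOpen W) (_ : x ∈ W) (a b : regSub X W),
      ∀ y : W, D.1 y.1 = QuotientGroup.mk (fracUnit (regGerm y a) (regGerm y b)) := by
  obtain ⟨U, hxU, f, hf⟩ := D.2 x
  obtain ⟨W1, hx1, hW1U, a, b, hab⟩ := kmod_local (f : Γ(kmod X, U)) ⟨x, hxU⟩
  obtain ⟨W2, hx2, hW2U, a', b', hab'⟩ :=
    kmod_local ((f⁻¹ : (Γ(kmod X, U))ˣ) : Γ(kmod X, U)) ⟨x, hxU⟩
  obtain ⟨W, hWaff, hxW, hW12⟩ : ∃ W : X.Opens, IsAffineOpen W ∧ x ∈ W ∧ W ≤ W1 ⊓ W2 := by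
    obtain ⟨W, hW, hxW, hWle⟩ := Opens.isBasis_iff_nbhd.mp X.isBasis_affineOpens
      (show x ∈ W1 ⊓ W2 from ⟨hx1, hx2⟩)
    exact ⟨W, hW, hxW, hWle⟩
  have hW1 : W ≤ W1 := hW12.trans inf_le_left
  have hW2 : W ≤ W2 := hW12.trans inf_le_right
  have hkey : ∀ y : W, X.presheaf.germ W1 y.1 (hW1 y.2) a ∈
      nonZeroDivisors (X.presheaf.stalk y.1) := by
    intro y
    have h7 : (f : Γ(kmod X, U)).1 ⟨y.1, hW1U (hW1 y.2)⟩ =
        LocalizedModule.mk (X.presheaf.germ W1 y.1 (hW1 y.2) a)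
          (regGerm (⟨y.1, hW1 y.2⟩ : W1) b) := hab ⟨y.1, hW1 y.2⟩
    have h8 : ((f⁻¹ : (Γ(kmod X, U))ˣ) : Γ(kmod X, U)).1 ⟨y.1, hW1U (hW1 y.2)⟩ =
        LocalizedModule.mk (X.presheaf.germ W2 y.1 (hW2 y.2) a')
          (regGerm (⟨y.1, hW2 y.2⟩ : W2) b') := hab' ⟨y.1, hW2 y.2⟩
    have hprod : (f : Γ(kmod X, U)).1 ⟨y.1, hW1U (hW1 y.2)⟩ *
        ((f⁻¹ : (Γ(kmod X, U))ˣ) : Γ(kmod X, U)).1 ⟨y.1, hW1U (hW1 y.2)⟩ = 1 := by
      rw [← kmod_mul_apply, Units.mul_inv, kmod_one_apply]
    have h5 : (LocalizedModule.mk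
        (X.presheaf.germ W1 y.1 (hW1 y.2) a * X.presheaf.germ W2 y.1 (hW2 y.2) a')
        (regGerm (⟨y.1, hW1 y.2⟩ : W1) b * regGerm (⟨y.1, hW2 y.2⟩ : W2) b') : KStalk X y.1) =
        LocalizedModule.mk 1 1 := by
      have h6 : (LocalizedModule.mk (X.presheaf.germ W1 y.1 (hW1 y.2) a)
            (regGerm (⟨y.1, hW1 y.2⟩ : W1) b) : KStalk X y.1) *
          LocalizedModule.mk (X.presheaf.germ W2 y.1 (hW2 y.2) a')
            (regGerm (⟨y.1, hW2 y.2⟩ : W2) b') = 1 := by
        rw [← h7, ← h8]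
        exact hprod
      exact (LocalizedModule.mk_mul_mk.symm.trans h6).trans
        (mk_self_eq_one (1 : regStalk X y.1)).symm
    rw [LocalizedModule.mk_eq] at h5
    obtain ⟨u, hu⟩ := h5
    simp only [one_smul, Submonoid.smul_def, smul_eq_mul, mul_one, Submonoid.coe_mul] at hu
    have h9 : X.presheaf.germ W1 y.1 (hW1 y.2) a * X.presheaf.germ W2 y.1 (hW2 y.2) a' =
        X.presheaf.germ W1 y.1 (hW1 y.2) b.1 * X.presheaf.germ W2 y.1 (hW2 y.2) b'.1 :=
      (mul_cancel_left_mem_nonZeroDivisors (regStalk_le_nonZeroDivisors y.1 u.2)).mp hu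
    have h10 : X.presheaf.germ W1 y.1 (hW1 y.2) a * X.presheaf.germ W2 y.1 (hW2 y.2) a' ∈
        nonZeroDivisors (X.presheaf.stalk y.1) := by
      rw [h9]
      exact mul_mem (b.2 ⟨y.1, hW1 y.2⟩) (b'.2 ⟨y.1, hW2 y.2⟩)
    exact (mul_mem_nonZeroDivisors.mp h10).1
  have ha₀ : X.presheaf.map (homOfLE hW1).op a ∈ regSub X W := by
    intro y
    change X.presheaf.germ W y.1 y.2 (X.presheaf.map (homOfLE hW1).op a) ∈ _
    rw [TopCat.Presheaf.germ_res_apply]
    exact hkey y
  refine ⟨W, hWaff, hxW, ⟨X.presheaf.map (homOfLE hW1).op a, ha₀⟩,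
    ⟨X.presheaf.map (homOfLE hW1).op b.1, regSub_res _ b.2⟩, fun y => ?_⟩
  refine (hf ⟨y.1, hW1U (hW1 y.2)⟩).trans (congrArg _ (Units.ext ?_))
  change (f : Γ(kmod X, U)).1 ⟨y.1, hW1U (hW1 y.2)⟩ =
    LocalizedModule.mk (X.presheaf.germ W y.1 y.2 (X.presheaf.map (homOfLE hW1).op a))
      (regGerm y ⟨X.presheaf.map (homOfLE hW1).op b.1, regSub_res _ b.2⟩)
  refine (hab ⟨y.1, hW1 y.2⟩).trans (mk_congr ?_ ?_)
  · exact (TopCat.Presheaf.germ_res_apply X.presheaf (homOfLE hW1) y.1 y.2 a).symm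
  · exact (TopCat.Presheaf.germ_res_apply X.presheaf (homOfLE hW1) y.1 y.2 b.1).symm

/-- If `D_y` is the class of `a/b` and is effective, then `b` divides `a` in `O_{X,y}`. -/
theorem dvd_of_isEffectiveAt {D : Divisor X} {y : X} (a b : regStalk X y)
    (hD : D.1 y = QuotientGroup.mk (fracUnit a b)) (he : IsEffectiveAt D y) :
    ∃ c : X.presheaf.stalk y, a.1 = b.1 * c := by
  obtain ⟨e, he⟩ := he
  rw [hD, QuotientGroup.eq] at he
  obtain ⟨v, hv⟩ := MonoidHom.mem_range.mp he
  have h1 : algebraMap (X.presheaf.stalk y) (KStalk X y) (v : X.presheaf.stalk y) =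
      (LocalizedModule.mk b.1 a : KStalk X y) *
        algebraMap (X.presheaf.stalk y) (KStalk X y) e.1 :=
    congrArg (fun w : (KStalk X y)ˣ => (w : KStalk X y)) hv
  have h2 : (LocalizedModule.mk (v : X.presheaf.stalk y) 1 : KStalk X y) =
      LocalizedModule.mk (b.1 * e.1) (a * 1) := h1.trans LocalizedModule.mk_mul_mk
  obtain ⟨u, hu⟩ := LocalizedModule.mk_eq.mp h2
  have hu' : (u : X.presheaf.stalk y) * (a.1 * v) = u * (b.1 * e.1) := by
    simpa only [one_smul, Submonoid.smul_def, smul_eq_mul, mul_one, Submonoid.coe_mul,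
      Submonoid.coe_one] using hu
  have h3 : a.1 * (v : X.presheaf.stalk y) = b.1 * e.1 :=
    (mul_cancel_left_mem_nonZeroDivisors (regStalk_le_nonZeroDivisors y u.2)).mp hu'
  refine ⟨e.1 * ((v⁻¹ : (X.presheaf.stalk y)ˣ) : X.presheaf.stalk y), ?_⟩
  calc a.1 = a.1 * v * ((v⁻¹ : (X.presheaf.stalk y)ˣ) : X.presheaf.stalk y) := by
        rw [mul_assoc, Units.mul_inv, mul_one]
    _ = b.1 * (e.1 * ((v⁻¹ : (X.presheaf.stalk y)ˣ) : X.presheaf.stalk y)) := by
        rw [h3, mul_assoc]

/-- If `D_y` is the class of `a/b` with `a = b c` and `c ∈ S_y`, then `D` is effective at `y`. -/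
theorem isEffectiveAt_of_mul {D : Divisor X} {y : X} (a b : regStalk X y)
    (c : X.presheaf.stalk y) (hc : c ∈ regStalk X y)
    (hD : D.1 y = QuotientGroup.mk (fracUnit a b)) (h : a.1 = b.1 * c) : IsEffectiveAt D y := by
  refine ⟨⟨c, hc⟩, hD.trans (congrArg _ (Units.ext ?_))⟩
  change (LocalizedModule.mk a.1 b : KStalk X y) = LocalizedModule.mk c 1
  rw [LocalizedModule.mk_eq]
  refine ⟨1, ?_⟩
  simp only [one_smul, Submonoid.smul_def, smul_eq_mul]
  exact h

/-- If `D_x` is the class of `a/b` with `b ∣ a` and `a ∣ b` in `O_{X,x}`, then `D_x = 1`. -/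
theorem germ_eq_one_of_dvd_dvd {D : Divisor X} {x : X} (a b : regStalk X x)
    (hD : D.1 x = QuotientGroup.mk (fracUnit a b))
    (c c' : X.presheaf.stalk x) (h : a.1 = b.1 * c) (h' : b.1 = a.1 * c') : D.1 x = 1 := by
  have hcu : IsUnit c := by
    have h1 : a.1 * (c' * c) = a.1 * 1 := by rw [← mul_assoc, ← h', ← h, mul_one]
    have h2 : c' * c = 1 :=
      (mul_cancel_left_mem_nonZeroDivisors (regStalk_le_nonZeroDivisors x a.2)).mp h1
    exact IsUnit.of_mul_eq_one_right c' h2
  rw [hD, QuotientGroup.eq_one_iff]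
  refine MonoidHom.mem_range.mpr ⟨hcu.unit, Units.ext ?_⟩
  change algebraMap _ (KStalk X x) c = LocalizedModule.mk a.1 b
  rw [algebraMap_eq_mk, LocalizedModule.mk_eq]
  refine ⟨1, ?_⟩
  simp only [one_smul, Submonoid.smul_def, smul_eq_mul]
  exact h.symm

theorem isEffectiveAt_of_germ_eq_one {D : Divisor X} {x : X} (h : D.1 x = 1) :
    IsEffectiveAt D x := by
  refine ⟨1, h.trans ?_⟩
  have h1 : (IsLocalization.map_units (KStalk X x) (1 : regStalk X x)).unit = 1 :=
    Units.ext (map_one _)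
  rw [h1, QuotientGroup.mk_one]

theorem germ_eq_one_of_isEffectiveAt_inv {D : Divisor X} {x : X} (h1 : IsEffectiveAt D x)
    (h2 : IsEffectiveAt D⁻¹ x) : D.1 x = 1 := by
  obtain ⟨e, he⟩ := h1
  obtain ⟨e', he'⟩ := h2
  have hinv : (D⁻¹).1 x = (D.1 x)⁻¹ := rfl
  rw [hinv, he] at he'
  have h3 : (QuotientGroup.mk ((IsLocalization.map_units (KStalk X x) e).unit *
      (IsLocalization.map_units (KStalk X x) e').unit) : Germ X x) = 1 := by
    rw [QuotientGroup.mk_mul, ← he', mul_inv_cancel]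
  rw [QuotientGroup.eq_one_iff] at h3
  obtain ⟨v, hv⟩ := MonoidHom.mem_range.mp h3
  have h4 : algebraMap (X.presheaf.stalk x) (KStalk X x) (v : X.presheaf.stalk x) =
      algebraMap (X.presheaf.stalk x) (KStalk X x) (e.1 * e'.1) := by
    rw [map_mul]
    exact congrArg (fun w : (KStalk X x)ˣ => (w : KStalk X x)) hv
  have h5 : (v : X.presheaf.stalk x) = e.1 * e'.1 := algebraMap_KStalk_injective x h4
  have heu : IsUnit e.1 := isUnit_of_mul_isUnit_left (h5 ▸ v.isUnit)
  rw [he, QuotientGroup.eq_one_iff]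
  exact MonoidHom.mem_range.mpr ⟨heu.unit, Units.ext rfl⟩

/-- effectivity at a point of an affine chart, in terms of the coordinate ring -/
theorem exists_mul_mem_span_of_isEffectiveAt {W : X.Opens} (hW : IsAffineOpen W) (D : Divisor X)
    (a b : regSub X W)
    (hab : ∀ y : W, D.1 y.1 = QuotientGroup.mk (fracUnit (regGerm y a) (regGerm y b)))
    (y : X) (hy : y ∈ W) (he : IsEffectiveAt D y) :
    ∃ s : Γ(X, W), s ∉ (hW.primeIdealOf ⟨y, hy⟩).asIdeal ∧ s * a.1 ∈ Ideal.span {b.1} := by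
  let _ := X.presheaf.algebra_section_stalk ⟨y, hy⟩
  have hloc := hW.isLocalization_stalk ⟨y, hy⟩
  obtain ⟨c, hc⟩ := dvd_of_isEffectiveAt (regGerm ⟨y, hy⟩ a) (regGerm ⟨y, hy⟩ b)
    (hab ⟨y, hy⟩) he
  obtain ⟨r, s, rfl⟩ := IsLocalization.exists_mk'_eq
    (hW.primeIdealOf ⟨y, hy⟩).asIdeal.primeCompl c
  have hc' : algebraMap Γ(X, W) (X.presheaf.stalk y) a.1 =
      algebraMap Γ(X, W) (X.presheaf.stalk y) b.1 *
        IsLocalization.mk' (X.presheaf.stalk y) r s := hc
  have h1 : algebraMap Γ(X, W) (X.presheaf.stalk y) (a.1 * s) =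
      algebraMap Γ(X, W) (X.presheaf.stalk y) (b.1 * r) := by
    rw [map_mul, map_mul, hc', mul_assoc, IsLocalization.mk'_spec]
  obtain ⟨t, ht⟩ := (IsLocalization.eq_iff_exists
    (hW.primeIdealOf ⟨y, hy⟩).asIdeal.primeCompl (X.presheaf.stalk y)).mp h1
  refine ⟨t * s, ?_, ?_⟩
  · intro hts
    rcases (hW.primeIdealOf ⟨y, hy⟩).isPrime.mem_or_mem hts with h | h
    · exact t.2 h
    · exact s.2 h
  · rw [Ideal.mem_span_singleton']
    exact ⟨t * r, by linear_combination (-1 : Γ(X, W)) * ht⟩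

variable [IsLocallyNoetherian X]

/-- A divisor on a locally Noetherian scheme which is effective at the points of depth one is
effective. -/
theorem isEffective_of_depth_one (D : Divisor X)
    (H : ∀ x : X, LocCoh.depth (X.presheaf.stalk x) (X.presheaf.stalk x) = 1 →
      IsEffectiveAt D x) : IsEffective D := by
  intro x
  obtain ⟨W, hW, hxW, a, b, hab⟩ := exists_local_fraction D x
  have hN : IsNoetherianRing Γ(X, W) := IsLocallyNoetherian.component_noetherian ⟨W, hW⟩
  have hbnzd : b.1 ∈ nonZeroDivisors Γ(X, W) := regSub_le_nonZeroDivisors b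
  have hmem : a.1 ∈ Ideal.span {b.1} := by
    apply mem_span_of_forall_ass
    intro q hq
    have hqp : q.IsPrime := hq.isPrime
    obtain ⟨y, hy, rfl⟩ := Groth.Agent.Lib.Helper28.StalkAss.exists_point_of_prime hW q
    let _ := X.presheaf.algebra_section_stalk ⟨y, hy⟩
    have hloc := hW.isLocalization_stalk ⟨y, hy⟩
    have hdepth : LocCoh.depth (X.presheaf.stalk y) (X.presheaf.stalk y) = 1 :=
      depth_eq_one_of_mem_associatedPrimes b.1 hbnzd _ hq (X.presheaf.stalk y)
    exact exists_mul_mem_span_of_isEffectiveAt hW D a b hab y hy (H y hdepth)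
  obtain ⟨c, hc⟩ := Ideal.mem_span_singleton'.mp hmem
  have hcreg : c ∈ regSub X W := by
    intro y
    have ha' : X.presheaf.germ W y.1 y.2 a.1 ∈ nonZeroDivisors (X.presheaf.stalk y.1) := a.2 y
    have h1 : X.presheaf.germ W y.1 y.2 a.1 =
        X.presheaf.germ W y.1 y.2 c * X.presheaf.germ W y.1 y.2 b.1 := by
      rw [← map_mul, hc]
    rw [h1] at ha'
    exact (mul_mem_nonZeroDivisors.mp ha').1
  refine isEffectiveAt_of_mul (regGerm ⟨x, hxW⟩ a) (regGerm ⟨x, hxW⟩ b)
    (X.presheaf.germ W x hxW c) (germ_mem_regStalk ⟨x, hxW⟩ hcreg) (hab ⟨x, hxW⟩) ?_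
  change X.presheaf.germ W x hxW a.1 = X.presheaf.germ W x hxW b.1 * X.presheaf.germ W x hxW c
  rw [← map_mul, mul_comm, hc]

/-- A divisor on a locally Noetherian scheme which is trivial at the points of depth one is
trivial. -/
theorem eq_one_of_depth_one (D : Divisor X)
    (H : ∀ x : X, LocCoh.depth (X.presheaf.stalk x) (X.presheaf.stalk x) = 1 → D.1 x = 1) :
    D = 1 := by
  have h1 : IsEffective D :=
    isEffective_of_depth_one D fun x hx => isEffectiveAt_of_germ_eq_one (H x hx)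
  have h2 : IsEffective D⁻¹ :=
    isEffective_of_depth_one D⁻¹ fun x hx => isEffectiveAt_of_germ_eq_one (by
      change (D.1 x)⁻¹ = 1
      rw [H x hx, inv_one])
  apply Subtype.ext
  funext x
  exact germ_eq_one_of_isEffectiveAt_inv (h1 x) (h2 x)

/-- local divisibility at a point whose local ring is not of depth one -/
theorem local_dvd {W : X.Opens} (hW : IsAffineOpen W) (x : X) (hxW : x ∈ W)
    (hdep : LocCoh.depth (X.presheaf.stalk x) (X.presheaf.stalk x) ≠ 1)
    (D : Divisor X) (a b : regSub X W)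
    (hab : ∀ y : W, D.1 y.1 = QuotientGroup.mk (fracUnit (regGerm y a) (regGerm y b)))
    (hD : ∀ y : X, y ⤳ x → y ≠ x → IsEffectiveAt D y) :
    ∃ c : X.presheaf.stalk x,
      X.presheaf.germ W x hxW a.1 = X.presheaf.germ W x hxW b.1 * c := by
  have hN : IsNoetherianRing Γ(X, W) := IsLocallyNoetherian.component_noetherian ⟨W, hW⟩
  have hbnzd : b.1 ∈ nonZeroDivisors Γ(X, W) := regSub_le_nonZeroDivisors b
  obtain ⟨s, hs, hsa⟩ := exists_notMem_mul_mem_span a.1 b.1 (hW.primeIdealOf ⟨x, hxW⟩).asIdeal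
    (by
      intro q hq hqle
      have hqp : q.IsPrime := hq.isPrime
      obtain ⟨y, hy, rfl⟩ := Groth.Agent.Lib.Helper28.StalkAss.exists_point_of_prime hW q
      let _ := X.presheaf.algebra_section_stalk ⟨y, hy⟩
      have hloc := hW.isLocalization_stalk ⟨y, hy⟩
      have hdepth : LocCoh.depth (X.presheaf.stalk y) (X.presheaf.stalk y) = 1 :=
        depth_eq_one_of_mem_associatedPrimes b.1 hbnzd _ hq (X.presheaf.stalk y)
      have hyx : y ⤳ x := Groth.Agent.Lib.Helper28.StalkAss.specializes_of_le hW y x hy hxW hqle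
      have hne : y ≠ x := by
        rintro rfl
        exact hdep hdepth
      exact exists_mul_mem_span_of_isEffectiveAt hW D a b hab y hy (hD y hyx hne))
  obtain ⟨c, hc⟩ := Ideal.mem_span_singleton'.mp hsa
  let _ := X.presheaf.algebra_section_stalk ⟨x, hxW⟩
  have hloc := hW.isLocalization_stalk ⟨x, hxW⟩
  have hsu : IsUnit (algebraMap Γ(X, W) (X.presheaf.stalk x) s) :=
    IsLocalization.map_units (X.presheaf.stalk x)
      (⟨s, hs⟩ : (hW.primeIdealOf ⟨x, hxW⟩).asIdeal.primeCompl)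
  obtain ⟨v, hv⟩ := hsu.exists_left_inv
  refine ⟨algebraMap Γ(X, W) (X.presheaf.stalk x) c * v, ?_⟩
  change algebraMap Γ(X, W) (X.presheaf.stalk x) a.1 =
    algebraMap Γ(X, W) (X.presheaf.stalk x) b.1 * (algebraMap Γ(X, W) (X.presheaf.stalk x) c * v)
  have h1 : algebraMap Γ(X, W) (X.presheaf.stalk x) s *
      algebraMap Γ(X, W) (X.presheaf.stalk x) a.1 =
      algebraMap Γ(X, W) (X.presheaf.stalk x) c * algebraMap Γ(X, W) (X.presheaf.stalk x) b.1 := by
    rw [← map_mul, ← map_mul, hc]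
  calc algebraMap Γ(X, W) (X.presheaf.stalk x) a.1
      = v * algebraMap Γ(X, W) (X.presheaf.stalk x) s *
          algebraMap Γ(X, W) (X.presheaf.stalk x) a.1 := by rw [hv, one_mul]
    _ = algebraMap Γ(X, W) (X.presheaf.stalk x) b.1 *
          (algebraMap Γ(X, W) (X.presheaf.stalk x) c * v) := by
        rw [mul_assoc, h1]; ring

/-- At a maximal point of the support of a divisor on a locally Noetherian scheme the local ring
has depth one. -/
theorem depth_eq_one_of_maximal_supp (D : Divisor X) (x : X) (hx : x ∈ supp D)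
    (hmax : ∀ z : X, z ∈ supp D → z ⤳ x → z = x) :
    LocCoh.depth (X.presheaf.stalk x) (X.presheaf.stalk x) = 1 := by
  by_contra hdep
  have hx' : D.1 x ≠ 1 := hx
  apply hx'
  obtain ⟨W, hW, hxW, a, b, hab⟩ := exists_local_fraction D x
  have htriv : ∀ y : X, y ⤳ x → y ≠ x → D.1 y = 1 := by
    intro y hyx hne
    by_contra h1
    exact hne (hmax y h1 hyx)
  have hab' : ∀ y : W, (D⁻¹).1 y.1 = QuotientGroup.mk (fracUnit (regGerm y b) (regGerm y a)) := by
    intro y
    change (D.1 y.1)⁻¹ = _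
    rw [hab y, ← QuotientGroup.mk_inv, fracUnit_inv]
  obtain ⟨c, hc⟩ := local_dvd hW x hxW hdep D a b hab
    (fun y hyx hne => isEffectiveAt_of_germ_eq_one (htriv y hyx hne))
  obtain ⟨c', hc'⟩ := local_dvd hW x hxW hdep D⁻¹ b a hab'
    (fun y hyx hne => isEffectiveAt_of_germ_eq_one (by
      change (D.1 y)⁻¹ = 1
      rw [htriv y hyx hne, inv_one]))
  exact germ_eq_one_of_dvd_dvd (regGerm ⟨x, hxW⟩ a) (regGerm ⟨x, hxW⟩ b) (hab ⟨x, hxW⟩) c c' hc hc'

end mero

end Groth.Agent.Lib.Helper28.MeroDivLocal
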