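/-
Helper28 library (Takeuchi program, part 2): for a bialgebra map `g : B' → B` of commutative Hopf
algebras over a field, the Hopf ideal `augMap g = g(B'⁺)B`, the quotient Hopf algebra, and the
shear isomorphism `X ⊗[B'] B ≃ X ⊗[k] (B ⧸ augMap g)` for a commutative `B`-algebra `X`.
-/
import Mathlib

set_option autoImplicit false
universe u v w x
open TensorProduct WithConv

namespace Groth.Agent.Lib.Helper28.TakShear

section Antipode

variable {k : Type u} [CommRing k] {B' : Type v} [CommRing B'] [HopfAlgebra k B']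
  {B : Type w} [CommRing B] [HopfAlgebra k B] (g : B' →ₐc[k] B)

/-- bialgebra maps commute with the antipode -/
theorem antipode_comp_bialgHom :
    (HopfAlgebra.antipodeAlgHom k B).comp (g : B' →ₐ[k] B) =
      (g : B' →ₐ[k] B).comp (HopfAlgebra.antipodeAlgHom k B') := by
  have h1 := AlgHom.convMul_comp_bialgHom_distrib
    (toConv (HopfAlgebra.antipodeAlgHom k B)) (toConv (AlgHom.id k B)) g
  rw [AlgHom.antipode_id_cancel] at h1
  have h2 : (1 : WithConv (B →ₐ[k] B)).ofConv.comp (g : B' →ₐ[k] B) =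
      (1 : WithConv (B' →ₐ[k] B)).ofConv := by
    ext b
    simp
  rw [h2] at h1
  have h3 : toConv ((HopfAlgebra.antipodeAlgHom k B).comp (g : B' →ₐ[k] B)) *
      toConv (g : B' →ₐ[k] B) = 1 := by
    apply WithConv.ofConv_injective
    rw [h1]
    rfl
  have h4 := eq_inv_of_mul_eq_one_left h3
  have h5 := congrArg WithConv.ofConv h4
  exact h5

theorem antipode_bialgHom (b : B') :
    HopfAlgebra.antipode k (g b) = g (HopfAlgebra.antipode k b) :=
  congrArg (fun f => f b) (antipode_comp_bialgHom g)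

end Antipode

section AugMap

variable {k : Type u} [Field k] {B' : Type v} [CommRing B'] [HopfAlgebra k B']
  {B : Type w} [CommRing B] [HopfAlgebra k B] (g : B' →ₐc[k] B)

/-- the ideal of `B` generated by the image of the augmentation ideal of `B'` -/
def augMap : Ideal B := Ideal.map g (RingHom.ker (Bialgebra.counitAlgHom k B'))

lemma sub_counit_mem (b : B') :
    b - algebraMap k B' (Coalgebra.counit (R := k) b) ∈
      RingHom.ker (Bialgebra.counitAlgHom k B') := by
  rw [RingHom.mem_ker, map_sub, AlgHom.commutes]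
  simp

lemma mk_augMap (b : B') :
    Ideal.Quotient.mk (augMap g) (g b) = algebraMap k (B ⧸ augMap g) (Coalgebra.counit (R := k) b) := by
  have h1 : g (b - algebraMap k B' (Coalgebra.counit (R := k) b)) ∈ augMap g :=
    Ideal.mem_map_of_mem _ (sub_counit_mem b)
  have h2 := Ideal.Quotient.eq_zero_iff_mem.2 h1
  rw [map_sub, map_sub, sub_eq_zero] at h2
  rw [h2]
  have h3 : g (algebraMap k B' (Coalgebra.counit (R := k) b)) =
      algebraMap k B (Coalgebra.counit (R := k) b) := AlgHomClass.commutes g _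
  rw [h3]
  rfl

lemma mkₐ_comp_g : (Ideal.Quotient.mkₐ k (augMap g)).comp (g : B' →ₐ[k] B) =
    (Algebra.ofId k (B ⧸ augMap g)).comp (Bialgebra.counitAlgHom k B') :=
  AlgHom.ext fun b => mk_augMap g b

lemma augMap_le_ker {R : Type x} [CommRing R] (ψ : B →+* R)
    (h : ∀ b : B', Coalgebra.counit (R := k) b = 0 → ψ (g b) = 0) : augMap g ≤ RingHom.ker ψ := by
  rw [augMap, Ideal.map_le_iff_le_comap]
  intro b hb
  rw [Ideal.mem_comap, RingHom.mem_ker]
  exact h b (by simpa [RingHom.mem_ker] using hb)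

instance augMap_isHopfIdeal : (augMap g).IsHopfIdeal k := by
  set J := augMap g with hJ
  let q : B →ₐ[k] B ⧸ J := Ideal.Quotient.mkₐ k J
  have hcounit : ∀ x ∈ J, Coalgebra.counit (R := k) x = 0 := by
    have hle : J ≤ RingHom.ker (Bialgebra.counitAlgHom k B : B →+* k) := by
      apply augMap_le_ker
      intro b hb
      show Coalgebra.counit (R := k) (g b) = 0
      rw [CoalgHomClass.counit_comp_apply, hb]
    intro x hx
    exact hle hx
  have hcomul : ∀ x ∈ J, TensorProduct.map q.toLinearMap q.toLinearMap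
      (Coalgebra.comul (R := k) x) = 0 := by
    let ψ : B →ₐ[k] (B ⧸ J) ⊗[k] (B ⧸ J) :=
      (Algebra.TensorProduct.map q q).comp (Bialgebra.comulAlgHom k B)
    have hψ : ψ = (toConv ((Algebra.TensorProduct.includeLeft :
          B ⧸ J →ₐ[k] (B ⧸ J) ⊗[k] (B ⧸ J)).comp q) *
        toConv ((Algebra.TensorProduct.includeRight :
          B ⧸ J →ₐ[k] (B ⧸ J) ⊗[k] (B ⧸ J)).comp q)).ofConv := by
      have e0 : (Algebra.TensorProduct.lmul' k).comp (Algebra.TensorProduct.map
          ((Algebra.TensorProduct.includeLeft : B ⧸ J →ₐ[k] (B ⧸ J) ⊗[k] (B ⧸ J)).comp q)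
          ((Algebra.TensorProduct.includeRight : B ⧸ J →ₐ[k] (B ⧸ J) ⊗[k] (B ⧸ J)).comp q)) =
          Algebra.TensorProduct.map q q := by
        ext <;> simp
      rw [AlgHom.convMul_def]
      rw [ofConv_toConv, ofConv_toConv, ofConv_toConv, ← AlgHom.comp_assoc, e0]
    have h1 : ψ.comp (g : B' →ₐ[k] B) = (1 : WithConv (B' →ₐ[k] (B ⧸ J) ⊗[k] (B ⧸ J))).ofConv := by
      rw [hψ, AlgHom.convMul_comp_bialgHom_distrib]
      have e1 : ((Algebra.TensorProduct.includeLeft :
          B ⧸ J →ₐ[k] (B ⧸ J) ⊗[k] (B ⧸ J)).comp q).comp (g : B' →ₐ[k] B) =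
          (1 : WithConv (B' →ₐ[k] (B ⧸ J) ⊗[k] (B ⧸ J))).ofConv := by
        rw [AlgHom.comp_assoc, mkₐ_comp_g]
        ext b; simp [Algebra.ofId_apply, Algebra.TensorProduct.algebraMap_apply]
        rfl
      have e2 : ((Algebra.TensorProduct.includeRight :
          B ⧸ J →ₐ[k] (B ⧸ J) ⊗[k] (B ⧸ J)).comp q).comp (g : B' →ₐ[k] B) =
          (1 : WithConv (B' →ₐ[k] (B ⧸ J) ⊗[k] (B ⧸ J))).ofConv := by
        rw [AlgHom.comp_assoc, mkₐ_comp_g]
        ext b
        simp only [AlgHom.coe_comp, Function.comp_apply, Bialgebra.counitAlgHom_apply,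
          Algebra.ofId_apply, Algebra.TensorProduct.includeRight_apply, AlgHom.convOne_apply,
          Algebra.TensorProduct.algebraMap_apply]
        show (1 : B ⧸ J) ⊗ₜ[k] algebraMap k (B ⧸ J) (Coalgebra.counit (R := k) b) =
          algebraMap k (B ⧸ J) (Coalgebra.counit (R := k) b) ⊗ₜ[k] (1 : B ⧸ J)
        rw [Algebra.algebraMap_eq_smul_one, TensorProduct.tmul_smul, ← TensorProduct.smul_tmul']
      rw [e1, e2, toConv_ofConv]
      exact congrArg WithConv.ofConv
        (mul_one (1 : WithConv (B' →ₐ[k] (B ⧸ J) ⊗[k] (B ⧸ J))))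
    have hle : J ≤ RingHom.ker (ψ : B →+* (B ⧸ J) ⊗[k] (B ⧸ J)) := by
      apply augMap_le_ker
      intro b hb
      have := congrArg (fun f => f b) h1
      simp only [AlgHom.coe_comp, Function.comp_apply, AlgHom.convOne_apply, hb, map_zero] at this
      exact this
    intro x hx
    exact hle hx
  have hanti : ∀ x ∈ J, HopfAlgebra.antipode k x ∈ J := by
    have hle : J ≤ RingHom.ker ((q.comp (HopfAlgebra.antipodeAlgHom k B) : B →ₐ[k] B ⧸ J) :
        B →+* B ⧸ J) := by
      apply augMap_le_ker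
      intro b hb
      show Ideal.Quotient.mk J (HopfAlgebra.antipode k (g b)) = 0
      rw [antipode_bialgHom, mk_augMap]
      have : Coalgebra.counit (R := k) (HopfAlgebra.antipode k b) = 0 := by
        rw [HopfAlgebra.counit_antipode, hb]
      rw [this, map_zero]
    intro x hx
    have := hle hx
    rw [RingHom.mem_ker] at this
    exact Ideal.Quotient.eq_zero_iff_mem.1 this
  exact { toIsCoideal := ⟨fun x hx => hcounit x hx, fun x hx => hcomul x hx⟩
          antipode_mem := fun x hx => hanti x hx }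

end AugMap

section ConvInv

variable {k : Type u} [CommRing k] {B : Type w} [CommRing B] [HopfAlgebra k B]
  {R : Type x} [CommRing R] [Algebra k R] (u : B →ₐ[k] R)

lemma id_antipode_cancel :
    toConv (AlgHom.id k B) * toConv (HopfAlgebra.antipodeAlgHom k B) = 1 := by
  have h := AlgHom.antipode_id_cancel (R := k) (A := B)
  have h4 := eq_inv_of_mul_eq_one_left h
  rw [h4]
  exact mul_inv_cancel _

lemma convInv_mul : toConv (u.comp (HopfAlgebra.antipodeAlgHom k B)) * toConv u = 1 := by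
  have h := AlgHom.comp_convMul_distrib u (toConv (HopfAlgebra.antipodeAlgHom k B))
    (toConv (AlgHom.id k B))
  rw [AlgHom.antipode_id_cancel] at h
  apply WithConv.ofConv_injective
  simp only [ofConv_toConv, AlgHom.comp_id] at h
  rw [← h]
  ext b
  simp

lemma conv_mul_inv : toConv u * toConv (u.comp (HopfAlgebra.antipodeAlgHom k B)) = 1 := by
  have h := AlgHom.comp_convMul_distrib u (toConv (AlgHom.id k B))
    (toConv (HopfAlgebra.antipodeAlgHom k B))
  rw [id_antipode_cancel] at h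
  apply WithConv.ofConv_injective
  simp only [ofConv_toConv, AlgHom.comp_id] at h
  rw [← h]
  ext b
  simp

end ConvInv

section Shear

variable {k : Type u} [Field k] {B' : Type v} [CommRing B'] [HopfAlgebra k B']
  {B : Type w} [CommRing B] [HopfAlgebra k B] (g : B' →ₐc[k] B)
  {X : Type x} [CommRing X] [Algebra k X] (φ : B →ₐ[k] X)
  [Algebra B' B] [Algebra B' X] [IsScalarTower k B' B] [IsScalarTower k B' X]

/-- `b ↦ φ b ⊗ 1` into `X ⊗[B'] B` -/
noncomputable def u1 : B →ₐ[k] X ⊗[B'] B :=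
  (Algebra.TensorProduct.includeLeft : X →ₐ[k] X ⊗[B'] B).comp φ

/-- `b ↦ 1 ⊗ b` into `X ⊗[B'] B` -/
noncomputable def v1 : B →ₐ[k] X ⊗[B'] B :=
  (Algebra.TensorProduct.includeRight : B →ₐ[B'] X ⊗[B'] B).restrictScalars k

/-- `b ↦ φ b ⊗ 1` into `X ⊗[k] (B ⧸ augMap g)` -/
noncomputable def u2 : B →ₐ[k] X ⊗[k] (B ⧸ augMap g) :=
  (Algebra.TensorProduct.includeLeft : X →ₐ[k] X ⊗[k] (B ⧸ augMap g)).comp φ

/-- `b ↦ 1 ⊗ b̄` into `X ⊗[k] (B ⧸ augMap g)` -/
noncomputable def v2 : B →ₐ[k] X ⊗[k] (B ⧸ augMap g) :=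
  (Algebra.TensorProduct.includeRight : (B ⧸ augMap g) →ₐ[k] X ⊗[k] (B ⧸ augMap g)).comp
    (Ideal.Quotient.mkₐ k (augMap g))

/-- `b ↦ Σ φ b₁ ⊗ b̄₂` -/
noncomputable def PhiB0 : B →ₐ[k] X ⊗[k] (B ⧸ augMap g) :=
  (toConv (u2 g φ) * toConv (v2 (X := X) g)).ofConv

/-- `b ↦ Σ φ (S b₁) ⊗ b₂` -/
noncomputable def PsiB0 : B →ₐ[k] X ⊗[B'] B :=
  (toConv ((u1 (B' := B') φ).comp (HopfAlgebra.antipodeAlgHom k B)) *
    toConv (v1 (B' := B') (X := X))).ofConv

variable (hg : ∀ b, algebraMap B' B b = g b) (hφ : ∀ b, algebraMap B' X b = φ (g b))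

omit [Algebra B' B] [Algebra B' X] [IsScalarTower k B' B] [IsScalarTower k B' X] in
lemma v2_comp_g : (v2 (X := X) g).comp (g : B' →ₐ[k] B) =
    (1 : WithConv (B' →ₐ[k] X ⊗[k] (B ⧸ augMap g))).ofConv := by
  ext b
  simp only [v2, AlgHom.coe_comp, Function.comp_apply, AlgHom.convOne_apply,
    Ideal.Quotient.mkₐ_eq_mk, Algebra.TensorProduct.includeRight_apply]
  have h := mk_augMap g b
  rw [show ((g : B' →ₐ[k] B) b) = g b from rfl, h, Algebra.algebraMap_eq_smul_one,
    Algebra.algebraMap_eq_smul_one, TensorProduct.tmul_smul]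
  rfl

omit [Algebra B' B] [Algebra B' X] [IsScalarTower k B' B] [IsScalarTower k B' X] in
lemma PhiB0_comp_g : (PhiB0 g φ).comp (g : B' →ₐ[k] B) = (u2 g φ).comp (g : B' →ₐ[k] B) := by
  unfold PhiB0
  rw [AlgHom.convMul_comp_bialgHom_distrib, ofConv_toConv, ofConv_toConv, v2_comp_g]
  exact congrArg WithConv.ofConv (mul_one (toConv ((u2 g φ).comp (g : B' →ₐ[k] B))))

omit [IsScalarTower k B' B] in
include hg hφ in
lemma PhiB0_commutes (b : B') :
    PhiB0 g φ (algebraMap B' B b) = algebraMap B' (X ⊗[k] (B ⧸ augMap g)) b := by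
  rw [hg]
  have h := congrArg (fun f => f b) (PhiB0_comp_g g φ)
  simp only [AlgHom.coe_comp, Function.comp_apply] at h
  rw [show ((g : B' →ₐ[k] B) b) = g b from rfl] at h
  rw [h, Algebra.TensorProduct.algebraMap_apply, hφ]
  rfl

/-- `PhiB0` as a `B'`-algebra map -/
noncomputable def PhiB : B →ₐ[B'] X ⊗[k] (B ⧸ augMap g) :=
  { (PhiB0 g φ : B →+* X ⊗[k] (B ⧸ augMap g)) with
    commutes' := PhiB0_commutes g φ hg hφ }

/-- the shear map `X ⊗[B'] B → X ⊗[k] (B ⧸ augMap g)` -/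
noncomputable def Phi : X ⊗[B'] B →ₐ[X] X ⊗[k] (B ⧸ augMap g) :=
  Algebra.TensorProduct.lift (Algebra.ofId X _) (PhiB g φ hg hφ) (fun _ _ => Commute.all _ _)

include hg hφ in
lemma u1_comp_g : (u1 (B' := B') φ).comp (g : B' →ₐ[k] B) =
    (v1 (B' := B') (X := X)).comp (g : B' →ₐ[k] B) := by
  ext b
  simp only [u1, v1, AlgHom.coe_comp, Function.comp_apply, AlgHom.coe_restrictScalars',
    Algebra.TensorProduct.includeLeft_apply, Algebra.TensorProduct.includeRight_apply]
  rw [show ((g : B' →ₐ[k] B) b) = g b from rfl, ← hφ, ← hg, Algebra.algebraMap_eq_smul_one,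
    Algebra.algebraMap_eq_smul_one, TensorProduct.smul_tmul]

include hg hφ in
lemma PsiB0_comp_g : (PsiB0 (B' := B') (X := X) φ).comp (g : B' →ₐ[k] B) =
    (1 : WithConv (B' →ₐ[k] X ⊗[B'] B)).ofConv := by
  unfold PsiB0
  rw [AlgHom.convMul_comp_bialgHom_distrib, ofConv_toConv, ofConv_toConv,
    AlgHom.comp_assoc, antipode_comp_bialgHom, ← AlgHom.comp_assoc, u1_comp_g g φ hg hφ,
    convInv_mul]

include hg hφ in
lemma PsiB0_kills (a : B) (ha : a ∈ augMap g) : PsiB0 (B' := B') (X := X) φ a = 0 := by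
  have hle : augMap g ≤ RingHom.ker (PsiB0 (B' := B') (X := X) φ : B →+* X ⊗[B'] B) := by
    apply augMap_le_ker
    intro b hb
    have h := congrArg (fun f => f b) (PsiB0_comp_g g φ hg hφ)
    simp only [AlgHom.coe_comp, Function.comp_apply, AlgHom.convOne_apply, hb, map_zero] at h
    exact h
  exact hle ha

/-- `b̄ ↦ Σ φ (S b₁) ⊗ b₂` -/
noncomputable def PsiBbar : (B ⧸ augMap g) →ₐ[k] X ⊗[B'] B :=
  Ideal.Quotient.liftₐ (augMap g) (PsiB0 (B' := B') (X := X) φ) (PsiB0_kills g φ hg hφ)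

/-- the inverse shear map -/
noncomputable def Psi : X ⊗[k] (B ⧸ augMap g) →ₐ[X] X ⊗[B'] B :=
  Algebra.TensorProduct.lift (Algebra.ofId X _) (PsiBbar g φ hg hφ) (fun _ _ => Commute.all _ _)

lemma Phi_u1 : ((Phi g φ hg hφ).restrictScalars k).comp (u1 (B' := B') φ) = u2 g φ := by
  ext b
  simp [Phi, u1, u2, Algebra.ofId_apply, Algebra.TensorProduct.algebraMap_apply]

lemma Phi_v1 : ((Phi g φ hg hφ).restrictScalars k).comp (v1 (B' := B') (X := X)) = PhiB0 g φ := by
  ext b
  simp [Phi, v1, PhiB]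
  rw [← Algebra.TensorProduct.one_def, one_mul]

lemma Psi_u2 : ((Psi g φ hg hφ).restrictScalars k).comp (u2 g φ) = u1 (B' := B') φ := by
  ext b
  simp [Psi, u1, u2, Algebra.ofId_apply, Algebra.TensorProduct.algebraMap_apply]

lemma Psi_v2 : ((Psi g φ hg hφ).restrictScalars k).comp (v2 (X := X) g) =
    PsiB0 (B' := B') (X := X) φ := by
  ext b
  simp [Psi, v2, PsiBbar]
  rw [← Algebra.TensorProduct.one_def, one_mul]

lemma Psi_Phi_v1 : ((Psi g φ hg hφ).restrictScalars k).comp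
    (((Phi g φ hg hφ).restrictScalars k).comp (v1 (B' := B') (X := X))) =
    v1 (B' := B') (X := X) := by
  rw [Phi_v1]
  unfold PhiB0
  rw [AlgHom.comp_convMul_distrib, ofConv_toConv, ofConv_toConv, Psi_u2, Psi_v2]
  unfold PsiB0
  simp only [toConv_ofConv]
  rw [← mul_assoc, conv_mul_inv, one_mul, ofConv_toConv]

lemma Phi_Psi_v2 : ((Phi g φ hg hφ).restrictScalars k).comp
    (((Psi g φ hg hφ).restrictScalars k).comp (v2 (X := X) g)) = v2 (X := X) g := by
  rw [Psi_v2]
  unfold PsiB0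
  rw [AlgHom.comp_convMul_distrib, ofConv_toConv, ofConv_toConv, ← AlgHom.comp_assoc, Phi_u1,
    Phi_v1]
  unfold PhiB0
  simp only [toConv_ofConv]
  have e : toConv ((u2 g φ).comp (HopfAlgebra.antipodeAlgHom k B)) *
      (toConv (u2 g φ) * toConv (v2 (X := X) g)) = toConv (v2 (X := X) g) :=
    calc _ = (toConv ((u2 g φ).comp (HopfAlgebra.antipodeAlgHom k B)) * toConv (u2 g φ)) *
          toConv (v2 (X := X) g) :=
            (mul_assoc (toConv ((u2 g φ).comp (HopfAlgebra.antipodeAlgHom k B)))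
              (toConv (u2 g φ)) (toConv (v2 (X := X) g))).symm
      _ = 1 * toConv (v2 (X := X) g) :=
          congrArg (· * toConv (v2 (X := X) g)) (convInv_mul (u2 g φ))
      _ = _ := one_mul (toConv (v2 (X := X) g))
  rw [e, ofConv_toConv]

lemma Psi_comp_Phi : (Psi g φ hg hφ).comp (Phi g φ hg hφ) = AlgHom.id X _ := by
  apply Algebra.TensorProduct.ext
  · ext
  · ext b
    have h := congrArg (fun f => f b) (Psi_Phi_v1 g φ hg hφ)
    exact h

lemma Phi_comp_Psi : (Phi g φ hg hφ).comp (Psi g φ hg hφ) = AlgHom.id X _ := by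
  apply Algebra.TensorProduct.ext
  · ext
  · ext b
    obtain ⟨b, rfl⟩ := Ideal.Quotient.mk_surjective b
    have h := congrArg (fun f => f b) (Phi_Psi_v2 g φ hg hφ)
    exact h

/-- **The shear isomorphism** `X ⊗[B'] B ≃ X ⊗[k] (B ⧸ g(B'⁺)B)`. -/
noncomputable def shearEquiv : X ⊗[B'] B ≃ₐ[X] X ⊗[k] (B ⧸ augMap g) :=
  AlgEquiv.ofAlgHom (Phi g φ hg hφ) (Psi g φ hg hφ) (Phi_comp_Psi g φ hg hφ)
    (Psi_comp_Phi g φ hg hφ)

lemma shearEquiv_one_tmul (b : B) :
    shearEquiv g φ hg hφ ((1 : X) ⊗ₜ[B'] b) = PhiB0 g φ b := by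
  have h := congrArg (fun f => f b) (Phi_v1 g φ hg hφ)
  exact h

end Shear

end Groth.Agent.Lib.Helper28.TakShear
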