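import Mathlib
import Groth.Prelude.Def_SGA3b

/-!
# Quotients of groups of multiplicative type over a field (helper28)
-/

set_option autoImplicit false
set_option linter.unusedSectionVars false
universe u v w

open TensorProduct

namespace Groth.Agent.Lib.Helper28.MultQuot

section Diag

variable {K : Type u} [Field K] {H : Type u} [CommRing H] [HopfAlgebra K H]

theorem isDiag_of_span (h : Submodule.span K {a : H | IsGroupLikeElem K a} = ⊤) :
    SGA3b.IsDiag K H := by
  classical
  let φ : MonoidAlgebra K (GroupLike K H) →ₐc[K] H := MonoidAlgebra.liftGroupLikeBialgHom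
  have hφ : ∀ x, φ x =
      Finsupp.linearCombination K (GroupLike.val (R := K) (A := H)) x.coeff := by
    intro x
    simp [φ, MonoidAlgebra.lift_apply, Finsupp.linearCombination_apply]
  have hinj : Function.Injective φ := by
    intro x y hxy
    rw [hφ, hφ] at hxy
    have := (linearIndependent_iff_injective_finsuppLinearCombination.1
      (linearIndep_groupLikeVal (R := K) (A := H))) hxy
    exact MonoidAlgebra.coeff_injective this
  have hsurj : Function.Surjective φ := by
    have hr : LinearMap.range ((φ : MonoidAlgebra K (GroupLike K H) →ₐ[K] H).toLinearMap) = ⊤ := by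
      rw [eq_top_iff, ← h]
      refine Submodule.span_le.2 ?_
      intro a ha
      exact ⟨MonoidAlgebra.single ⟨a, ha⟩ 1, by simp [φ]⟩
    intro y
    have : y ∈ LinearMap.range ((φ : MonoidAlgebra K (GroupLike K H) →ₐ[K] H).toLinearMap) := by
      rw [hr]; exact Submodule.mem_top
    obtain ⟨x, hx⟩ := this
    exact ⟨x, hx⟩
  exact ⟨GroupLike K H, inferInstance, ⟨(BialgEquiv.ofBijective φ ⟨hinj, hsurj⟩).symm⟩⟩

end Diag

section Cancel

variable {L R' K B : Type u} [CommRing L] [CommRing R'] [CommRing K] [CommRing B]
  [Algebra L R'] [Algebra L K] [Algebra R' K] [IsScalarTower L R' K] [Bialgebra L B]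

/-- `K ⊗[R'] (R' ⊗[L] B) → K ⊗[L] B` as a bialgebra map -/
noncomputable def cancelBialgHom : K ⊗[R'] (R' ⊗[L] B) →ₐc[K] K ⊗[L] B :=
  BialgHom.ofAlgHom (Algebra.TensorProduct.cancelBaseChange L R' K K B).toAlgHom
    (by
      ext x
      simp [Algebra.smul_def])
    (by
      ext x
      simp
      generalize CoalgebraStruct.comul (R := L) x = s
      induction s using TensorProduct.induction_on with
      | zero => simp
      | tmul a b => simp
      | add s t hs ht => simp only [TensorProduct.tmul_add, map_add, hs, ht])

lemma cancelBialgHom_apply (y : K ⊗[R'] (R' ⊗[L] B)) :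
    cancelBialgHom (L := L) y = Algebra.TensorProduct.cancelBaseChange L R' K K B y := rfl

lemma cancelBialgHom_surjective :
    Function.Surjective (cancelBialgHom : K ⊗[R'] (R' ⊗[L] B) →ₐc[K] K ⊗[L] B) := by
  intro w
  exact ⟨(Algebra.TensorProduct.cancelBaseChange L R' K K B).symm w, by
    rw [cancelBialgHom_apply, AlgEquiv.apply_symm_apply]⟩

lemma isGroupLikeElem_one_tmul {H' : Type u} [CommRing H'] [Bialgebra R' H'] {g : H'}
    (hg : IsGroupLikeElem R' g) : IsGroupLikeElem K ((1 : K) ⊗ₜ[R'] g) where
  counit_eq_one := by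
    simp [hg.counit_eq_one]
  comul_eq_tmul_self := by
    rw [TensorProduct.comul_tmul, hg.comul_eq_tmul_self]
    simp

end Cancel

section Span

variable {L R' K B B' M : Type u} [CommRing L] [CommRing R'] [Field K] [CommRing B] [CommRing B']
  [CommGroup M] [Algebra L R'] [Algebra L K] [Algebra R' K] [IsScalarTower L R' K]
  [Bialgebra L B] [Bialgebra L B']

theorem span_groupLike_of_diag (e : R' ⊗[L] B ≃ₐc[R'] MonoidAlgebra R' M) (q : B →ₐc[L] B')
    (hq : Function.Surjective q) :
    Submodule.span K {a : K ⊗[L] B' | IsGroupLikeElem K a} = ⊤ := by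
  classical
  let Φ : K ⊗[R'] (R' ⊗[L] B) →ₐc[K] K ⊗[L] B' :=
    (Bialgebra.TensorProduct.map (BialgHom.id K K) q).comp cancelBialgHom
  have hΦsurj : Function.Surjective Φ := by
    have h1 : Function.Surjective (Bialgebra.TensorProduct.map (BialgHom.id K K) q) := by
      have : Function.Surjective (TensorProduct.map (LinearMap.id : K →ₗ[L] K) (q : B →ₗ[L] B')) :=
        TensorProduct.map_surjective Function.surjective_id hq
      exact this
    exact h1.comp cancelBialgHom_surjective
  set S := Submodule.span K {a : K ⊗[L] B' | IsGroupLikeElem K a} with hS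
  have key1 : ∀ z : MonoidAlgebra R' M, Φ ((1 : K) ⊗ₜ[R'] e.symm z) ∈ S := by
    intro z
    induction z using MonoidAlgebra.induction_linear with
    | zero => simp
    | add x y hx hy =>
      rw [map_add, TensorProduct.tmul_add, map_add]
      exact S.add_mem hx hy
    | single m r =>
      have h1 : (MonoidAlgebra.single m r : MonoidAlgebra R' M) = r • MonoidAlgebra.single m 1 := by
        rw [MonoidAlgebra.smul_single, smul_eq_mul, mul_one]
      have hg : IsGroupLikeElem R' (e.symm (MonoidAlgebra.single m (1 : R'))) :=
        (MonoidAlgebra.isGroupLikeElem_single_one (R := R') m).map e.symm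
      have h2 : (1 : K) ⊗ₜ[R'] (r • e.symm (MonoidAlgebra.single m (1 : R'))) =
          (algebraMap R' K r) • ((1 : K) ⊗ₜ[R'] e.symm (MonoidAlgebra.single m (1 : R'))) := by
        rw [TensorProduct.tmul_smul, TensorProduct.smul_tmul', TensorProduct.smul_tmul',
          Algebra.smul_def, smul_eq_mul]
      rw [h1, map_smul, h2, map_smul]
      exact S.smul_mem _ (Submodule.subset_span ((isGroupLikeElem_one_tmul hg).map Φ))
  have key2 : ∀ y : K ⊗[R'] (R' ⊗[L] B), Φ y ∈ S := by
    intro y
    induction y using TensorProduct.induction_on with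
    | zero => simp
    | tmul c x =>
      have h3 : c ⊗ₜ[R'] x = c • ((1 : K) ⊗ₜ[R'] e.symm (e x)) := by
        rw [TensorProduct.smul_tmul', smul_eq_mul, mul_one, BialgEquiv.symm_apply_apply]
      rw [h3, map_smul]
      exact S.smul_mem _ (key1 _)
    | add x y hx hy => rw [map_add]; exact S.add_mem hx hy
  rw [eq_top_iff]
  intro w _
  obtain ⟨y, rfl⟩ := hΦsurj w
  exact key2 y

end Span

section Main

lemma map_id_surjective {k S A A' : Type*} [CommRing k] [CommRing S] [Algebra k S] [CommRing A]
    [CommRing A'] [Bialgebra k A] [Bialgebra k A'] (q : A →ₐc[k] A') (hq : Function.Surjective q) :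
    Function.Surjective (Bialgebra.TensorProduct.map (BialgHom.id S S) q) := by
  have : Function.Surjective (TensorProduct.map (LinearMap.id : S →ₗ[k] S) (q : A →ₗ[k] A')) :=
    TensorProduct.map_surjective Function.surjective_id hq
  exact this

theorem faithfullyFlat_of_isField {L N : Type*} [CommRing L] (hL : IsField L) [AddCommGroup N]
    [Module L N] [Nontrivial N] : Module.FaithfullyFlat L N := by
  letI : Field L := hL.toField
  haveI : Module.Free L N := Module.Free.of_divisionRing L N
  infer_instance

theorem quotient_isMultType (k : Type u) [Field k] (A : Type u) [CommRing A] [HopfAlgebra k A]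
    (h : SGA3b.IsMultType k A) (J : Ideal A) [J.IsHopfIdeal k] :
    SGA3b.IsMultType k (A ⧸ J) := by
  classical
  obtain ⟨s, hs, hmt⟩ := h
  obtain ⟨f, hfs, hf0⟩ : ∃ f ∈ s, f ≠ 0 := by
    by_contra hcon
    push Not at hcon
    have : Ideal.span s ≤ (⊥ : Ideal k) := by
      refine Ideal.span_le.2 ?_
      intro x hx
      rw [hcon x hx]
      exact Submodule.zero_mem _
    rw [hs] at this
    exact absurd (le_bot_iff.1 this) top_ne_bot
  refine ⟨{f}, Ideal.span_singleton_eq_top.2 (isUnit_iff_ne_zero.2 hf0), ?_⟩
  intro g hg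
  obtain rfl : g = f := hg
  obtain ⟨R', _, _, hff, M, _, ⟨e⟩⟩ := hmt g hfs
  -- `Localization.Away g` is a field
  have hle : Submonoid.powers g ≤ IsUnit.submonoid k := by
    rintro _ ⟨n, rfl⟩
    exact (isUnit_iff_ne_zero.2 hf0).pow n
  let eL : k ≃ₐ[k] Localization.Away g := IsLocalization.atUnits k (Submonoid.powers g) hle
  have hL : IsField (Localization.Away g) :=
    MulEquiv.isField (Field.toIsField k) eL.symm.toMulEquiv
  haveI : Nontrivial (Localization.Away g) := hL.nontrivial
  haveI : Nontrivial R' := by
    haveI := hff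
    have : Nontrivial (Localization.Away g ⊗[Localization.Away g] R') := inferInstance
    exact (TensorProduct.lid (Localization.Away g) R').symm.toEquiv.nontrivial
  obtain ⟨m, hm⟩ := Ideal.exists_maximal R'
  letI : Field (R' ⧸ m) := Ideal.Quotient.field m
  refine ⟨R' ⧸ m, inferInstance, inferInstance, ?_, ?_⟩
  · exact faithfullyFlat_of_isField hL
  · apply isDiag_of_span
    exact span_groupLike_of_diag (L := Localization.Away g) (R' := R') (K := R' ⧸ m) e
      (Bialgebra.TensorProduct.map (BialgHom.id (Localization.Away g) (Localization.Away g))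
        (Bialgebra.Quotient.mkBialgHom (R := k) J))
      (map_id_surjective _ Ideal.Quotient.mk_surjective)

end Main

end Groth.Agent.Lib.Helper28.MultQuot
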