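/-
Helper28 library (Takeuchi program, part 5): if `f : B → A` is an injective bialgebra map of
commutative Hopf algebras over a field and the augmentation ideal of `B` is nilpotent, then `A` is a
free (in particular flat) `B`-module.
-/
import Groth.Agent.Lib.Helper28.TakShear

set_option autoImplicit false
universe u v w x
open TensorProduct

namespace Groth.Agent.Lib.Helper28.TakArt

open Groth.Agent.Lib.Helper28.TakShear

section Nak

variable {R : Type u} [CommRing R] {M : Type v} [AddCommGroup M] [Module R M]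

theorem eq_top_of_sup_smul_of_nilpotent (I : Ideal R) (N : Submodule R M)
    (h : N ⊔ I • (⊤ : Submodule R M) = ⊤) (n : ℕ) (hn : I ^ n = ⊥) : N = ⊤ := by
  have key : ∀ m : ℕ, N ⊔ (I ^ m) • (⊤ : Submodule R M) = ⊤ := by
    intro m
    induction m with
    | zero => rw [pow_zero, Ideal.one_eq_top, Submodule.top_smul, sup_top_eq]
    | succ m ih =>
      apply top_le_iff.1
      calc (⊤ : Submodule R M) = N ⊔ I • (N ⊔ (I ^ m) • (⊤ : Submodule R M)) := by
            rw [ih, h]
        _ = N ⊔ (I • N ⊔ I • ((I ^ m) • (⊤ : Submodule R M))) := by rw [Submodule.smul_sup]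
        _ ≤ N ⊔ (I ^ (m + 1)) • (⊤ : Submodule R M) := by
            refine sup_le le_sup_left (sup_le (le_trans Submodule.smul_le_right le_sup_left) ?_)
            rw [← Submodule.smul_assoc, pow_succ', smul_eq_mul]
            exact le_sup_right
  have := key n
  rw [hn, Submodule.bot_smul, sup_bot_eq] at this
  exact this

end Nak

section Main

variable {k : Type u} [Field k] {B : Type w} [CommRing B] [HopfAlgebra k B]
  {A : Type x} [CommRing A] [HopfAlgebra k A] (f : B →ₐc[k] A)
  [Algebra B A] [IsScalarTower k B A] (hf : ∀ b, algebraMap B A b = f b)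

/-- `x ⊗ a ↦ x̄ ⊗ ā`, `A ⊗[B] A → (A/B⁺A) ⊗[k] (A/B⁺A)` -/
noncomputable def rho : A ⊗[B] A →+ (A ⧸ augMap f) ⊗[k] (A ⧸ augMap f) :=
  TensorProduct.liftAddHom
    (AddMonoidHom.mk' (fun x : A => (((TensorProduct.mk k (A ⧸ augMap f) (A ⧸ augMap f)).compl₁₂
      (Ideal.Quotient.mkₐ k (augMap f)).toLinearMap
      (Ideal.Quotient.mkₐ k (augMap f)).toLinearMap) x).toAddMonoidHom)
      (fun x y => by ext a; simp [TensorProduct.add_tmul]))
    (fun b x a => by
      have hb : ∀ y : A, Ideal.Quotient.mk (augMap f) (b • y) =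
          (Coalgebra.counit (R := k) b) • Ideal.Quotient.mk (augMap f) y := by
        intro y
        rw [Algebra.smul_def, hf, map_mul, mk_augMap, ← Algebra.smul_def]
      simp only [AddMonoidHom.mk'_apply, LinearMap.toAddMonoidHom_coe, LinearMap.compl₁₂_apply,
        AlgHom.toLinearMap_apply, Ideal.Quotient.mkₐ_eq_mk, TensorProduct.mk_apply]
      rw [hb, hb, TensorProduct.smul_tmul])

lemma rho_tmul (x a : A) :
    rho f hf (x ⊗ₜ[B] a) = Ideal.Quotient.mk (augMap f) x ⊗ₜ[k] Ideal.Quotient.mk (augMap f) a :=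
  rfl

include hf in
lemma augMap_eq_map : augMap f =
    Ideal.map (algebraMap B A) (RingHom.ker (Bialgebra.counitAlgHom k B)) := by
  unfold augMap Ideal.map
  congr 1
  ext y
  simp [hf]

include hf in
/-- **Nilpotent augmentation case**: `A` is free over `B`. -/
theorem free_of_nilpotent (hinj : Function.Injective f) (n : ℕ)
    (hn : (RingHom.ker (Bialgebra.counitAlgHom k B)) ^ n = ⊥) : Module.Free B A := by
  classical
  set J := augMap f with hJ
  have hJn : J ^ n = ⊥ := by
    rw [hJ, augMap_eq_map f hf, ← Ideal.map_pow, hn, Ideal.map_bot]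
  let bC := Module.Free.chooseBasis k (A ⧸ J)
  let ι := Module.Free.ChooseBasisIndex k (A ⧸ J)
  have hlift : ∀ j : ι, ∃ a : A, Ideal.Quotient.mk J a = bC j :=
    fun j => Ideal.Quotient.mk_surjective _
  choose a ha using hlift
  let φ : (ι →₀ B) →ₗ[B] A := Finsupp.linearCombination B a
  -- surjectivity by Nakayama
  have hsurj : Function.Surjective φ := by
    rw [← LinearMap.range_eq_top]
    apply eq_top_of_sup_smul_of_nilpotent (RingHom.ker (Bialgebra.counitAlgHom k B)) _ _ n hn
    rw [eq_top_iff]
    intro y _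
    let c := bC.repr (Ideal.Quotient.mk J y)
    let y0 : A := c.sum (fun j r => r • a j)
    have hy0mem : y0 ∈ LinearMap.range φ := by
      refine Submodule.sum_mem _ (fun j _ => ?_)
      refine ⟨Finsupp.single j (algebraMap k B (c j)), ?_⟩
      show Finsupp.linearCombination B a _ = _
      rw [Finsupp.linearCombination_single, algebraMap_smul]
    have hy0 : Ideal.Quotient.mk J y0 = Ideal.Quotient.mk J y := by
      have h1 : Ideal.Quotient.mk J y0 = c.sum (fun j r => r • bC j) := by
        show (Ideal.Quotient.mkₐ k J) (c.sum (fun j r => r • a j)) = _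
        rw [map_finsuppSum]
        refine Finsupp.sum_congr (fun j _ => ?_)
        rw [map_smul, Ideal.Quotient.mkₐ_eq_mk, ha]
      rw [h1]
      exact bC.linearCombination_repr _
    have hmem : y - y0 ∈ J := Ideal.Quotient.eq.1 hy0.symm
    have hsplit : y = y0 + (y - y0) := by ring
    rw [hsplit]
    refine Submodule.add_mem _ (Submodule.mem_sup_left hy0mem) (Submodule.mem_sup_right ?_)
    rw [Ideal.smul_top_eq_map, Submodule.restrictScalars_mem, ← augMap_eq_map f hf]
    exact hmem
  -- base change to `A`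
  let Ψ : A ⊗[B] (ι →₀ B) →ₗ[A] A ⊗[B] A := LinearMap.baseChange A φ
  have hΨsurj : Function.Surjective Ψ := by
    have : Function.Surjective (LinearMap.lTensor A φ) := LinearMap.lTensor_surjective A hsurj
    exact this
  let θ : A ⊗[B] A ≃ₐ[A] A ⊗[k] (A ⧸ J) :=
    shearEquiv f (AlgHom.id k A) hf (fun b => by rw [hf]; rfl)
  haveI : Module.Projective A (A ⊗[B] A) := Module.Projective.of_equiv θ.toLinearEquiv.symm
  obtain ⟨s, hs⟩ := Module.projective_lifting_property Ψ LinearMap.id hΨsurj
  have hs' : ∀ y, Ψ (s y) = y := fun y => LinearMap.congr_fun hs y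
  let β : Module.Basis ι A (A ⊗[B] (ι →₀ B)) :=
    Algebra.TensorProduct.basis A (Finsupp.basisSingleOne)
  have hΨβ : ∀ j, Ψ (β j) = (1 : A) ⊗ₜ[B] a j := by
    intro j
    simp [Ψ, β, φ, Algebra.TensorProduct.basis_apply]
  let γ : Module.Basis ι (A ⧸ J) ((A ⧸ J) ⊗[k] (A ⧸ J)) := Algebra.TensorProduct.basis (A ⧸ J) bC
  -- the key formula
  have hform : ∀ x : ι →₀ A, rho f hf (Ψ (Finsupp.linearCombination A β x)) =
      Finsupp.linearCombination (A ⧸ J) γ (x.mapRange (Ideal.Quotient.mk J) (map_zero _)) := by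
    intro x
    induction x using Finsupp.induction_linear with
    | zero => simp
    | add x y hx hy => rw [map_add, map_add, map_add, hx, hy, Finsupp.mapRange_add (by simp), map_add]
    | single l r =>
      rw [Finsupp.linearCombination_single, map_smul, hΨβ, Finsupp.mapRange_single,
        Finsupp.linearCombination_single, TensorProduct.smul_tmul', smul_eq_mul, mul_one, rho_tmul,
        ha]
      simp [γ, Algebra.TensorProduct.basis_apply, TensorProduct.smul_tmul']
      rfl
  have hd : ∀ p, Ψ p = 0 → ∀ j, β.repr p j ∈ J := by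
    intro p hp j
    have h1 := hform (β.repr p)
    rw [β.linearCombination_repr, hp, map_zero] at h1
    have h2 := (linearIndependent_iff.1 γ.linearIndependent) _ h1.symm
    have h3 := DFunLike.congr_fun h2 j
    rw [Finsupp.mapRange_apply, Finsupp.zero_apply] at h3
    exact Ideal.Quotient.eq_zero_iff_mem.1 h3
  -- the projection onto the kernel
  let κ : A ⊗[B] (ι →₀ B) →ₗ[A] A ⊗[B] (ι →₀ B) := LinearMap.id - s ∘ₗ Ψ
  have hκ0 : ∀ p, Ψ (κ p) = 0 := by
    intro p
    simp [κ, hs']
  have hκp : ∀ p, Ψ p = 0 → κ p = p := by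
    intro p hp
    simp [κ, hp]
  have he : ∀ m : ℕ, ∀ p, Ψ p = 0 → ∀ l, β.repr p l ∈ J ^ m := by
    intro m
    induction m with
    | zero => intro p _ l; simp
    | succ m ih =>
      intro p hp l
      have h1 : p = Finsupp.linearCombination A (fun j => κ (β j)) (β.repr p) := by
        conv_lhs => rw [← hκp p hp, ← β.linearCombination_repr p]
        rw [Finsupp.apply_linearCombination]
        rfl
      have h2 : β.repr p l = (β.repr p).sum (fun j r => r * β.repr (κ (β j)) l) := by
        conv_lhs => rw [h1]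
        rw [Finsupp.linearCombination_apply, map_finsuppSum, Finsupp.sum_apply]
        refine Finsupp.sum_congr (fun j _ => ?_)
        rw [map_smul, Finsupp.smul_apply, smul_eq_mul]
      rw [h2, pow_succ']
      refine Ideal.sum_mem _ (fun j _ => ?_)
      exact Ideal.mul_mem_mul (hd p hp j) (ih _ (hκ0 _) l)
  -- injectivity
  have hinjφ : Function.Injective φ := by
    rw [← LinearMap.ker_eq_bot, LinearMap.ker_eq_bot']
    intro x hx
    have h1 : Ψ ((1 : A) ⊗ₜ[B] x) = 0 := by
      show LinearMap.baseChange A φ ((1 : A) ⊗ₜ[B] x) = 0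
      rw [LinearMap.baseChange_tmul, hx, TensorProduct.tmul_zero]
    ext l
    have h2 := he n _ h1 l
    rw [hJn, Ideal.mem_bot] at h2
    have h3 : β.repr ((1 : A) ⊗ₜ[B] x) l = algebraMap B A (x l) := by
      simp [β, Algebra.TensorProduct.basis_repr_tmul]
    rw [h3, hf] at h2
    have := hinj (h2.trans (map_zero f).symm)
    simpa using this
  exact Module.Free.of_equiv (LinearEquiv.ofBijective φ ⟨hinjφ, hsurj⟩)

end Main

end Groth.Agent.Lib.Helper28.TakArt
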