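/-
Helper28 library (Takeuchi program, part 4): devissage.  For bialgebra maps `B' → B → A` of
commutative Hopf algebras over a field with `A` faithfully flat over `B'`:
`A` is flat over `B` as soon as `A/B'⁺A` is flat over `B/B'⁺B`; moreover `B/B'⁺B → A/B'⁺A` is
injective when `B → A` is.
-/
import Groth.Agent.Lib.Helper28.TakShear
import Groth.Agent.Lib.Helper28.TakCancel

set_option autoImplicit false
universe u v w x
open TensorProduct WithConv

namespace Groth.Agent.Lib.Helper28.TakDev

open Groth.Agent.Lib.Helper28.TakShear Groth.Agent.Lib.Helper28.TakCancel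

variable {k : Type u} [Field k] {B' : Type v} [CommRing B'] [HopfAlgebra k B']
  {B : Type w} [CommRing B] [HopfAlgebra k B] {A : Type x} [CommRing A] [HopfAlgebra k A]
  (g : B' →ₐc[k] B) (f : B →ₐc[k] A)

lemma augMap_le_comap : augMap g ≤ (augMap (f.comp g)).comap (f : B →ₐ[k] A) := by
  rw [augMap, Ideal.map_le_iff_le_comap]
  intro b hb
  exact Ideal.mem_map_of_mem (f.comp g) hb

/-- the induced map `B/B'⁺B → A/B'⁺A` -/
noncomputable def fbar : (B ⧸ augMap g) →ₐ[k] (A ⧸ augMap (f.comp g)) :=
  Ideal.quotientMapₐ (augMap (f.comp g)) (f : B →ₐ[k] A) (augMap_le_comap g f)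

lemma fbar_mk (b : B) : fbar g f (Ideal.Quotient.mk _ b) = Ideal.Quotient.mk _ (f b) := rfl

/-- compatibility of the two shear maps -/
lemma lTensor_comp_PhiB0 :
    (Algebra.TensorProduct.lTensor (S := k) A (fbar g f)).comp (PhiB0 g (f : B →ₐ[k] A)) =
      (PhiB0 (f.comp g) (AlgHom.id k A)).comp (f : B →ₐ[k] A) := by
  unfold PhiB0
  rw [AlgHom.comp_convMul_distrib, AlgHom.convMul_comp_bialgHom_distrib]
  simp only [ofConv_toConv]
  have e1 : (Algebra.TensorProduct.lTensor (S := k) A (fbar g f)).comp (u2 g (f : B →ₐ[k] A)) =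
      (u2 (f.comp g) (AlgHom.id k A)).comp (f : B →ₐ[k] A) := by
    ext b
    simp [u2]
  have e2 : (Algebra.TensorProduct.lTensor (S := k) A (fbar g f)).comp (v2 (X := A) g) =
      (v2 (X := A) (f.comp g)).comp (f : B →ₐ[k] A) := by
    ext b
    simp [v2, fbar]
  rw [e1, e2]

section Main

variable [Algebra B' B] [Algebra B A] [Algebra B' A] [IsScalarTower B' B A]
  [IsScalarTower k B' B] [IsScalarTower k B' A]
  (hg : ∀ b, algebraMap B' B b = g b) (hf : ∀ b, algebraMap B A b = f b)

include hg hf in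
lemma algebraMap_comp (b : B') : algebraMap B' A b = (AlgHom.id k A) ((f.comp g) b) := by
  rw [IsScalarTower.algebraMap_apply B' B A, hg, hf]
  rfl

/-- the shear isomorphism for `B' → B`, with coefficients in `A` -/
noncomputable def θB : A ⊗[B'] B ≃ₐ[A] A ⊗[k] (B ⧸ augMap g) :=
  shearEquiv g (f : B →ₐ[k] A) hg (fun b => by
    rw [IsScalarTower.algebraMap_apply B' B A, hg, hf]; rfl)

/-- the shear isomorphism for `B' → A`, with coefficients in `A` -/
noncomputable def θA : A ⊗[B'] A ≃ₐ[A] A ⊗[k] (A ⧸ augMap (f.comp g)) :=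
  shearEquiv (f.comp g) (AlgHom.id k A) (fun b => by
    rw [IsScalarTower.algebraMap_apply B' B A, hg, hf]; rfl) (algebraMap_comp g f hg hf)

lemma square_one_tmul (b : B) :
    (Algebra.TensorProduct.lTensor (S := k) A (fbar g f)) (θB g f hg hf ((1 : A) ⊗ₜ[B'] b)) =
      θA g f hg hf ((1 : A) ⊗ₜ[B'] f b) := by
  unfold θB θA
  rw [shearEquiv_one_tmul, shearEquiv_one_tmul]
  exact congrArg (fun F => F b) (lTensor_comp_PhiB0 g f)

lemma square (z : A ⊗[B'] B) :
    (Algebra.TensorProduct.lTensor (S := k) A (fbar g f)) (θB g f hg hf z) =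
      θA g f hg hf (Algebra.TensorProduct.map (AlgHom.id B' A)
        (IsScalarTower.toAlgHom B' B A) z) := by
  induction z using TensorProduct.induction_on with
  | zero => simp
  | add x y hx hy => simp only [map_add, hx, hy]
  | tmul a b =>
    have e1 : (a ⊗ₜ[B'] b : A ⊗[B'] B) = a • ((1 : A) ⊗ₜ[B'] b) := by
      rw [TensorProduct.smul_tmul', smul_eq_mul, mul_one]
    have e2 : (a ⊗ₜ[B'] (f b) : A ⊗[B'] A) = a • ((1 : A) ⊗ₜ[B'] f b) := by
      rw [TensorProduct.smul_tmul', smul_eq_mul, mul_one]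
    show (Algebra.TensorProduct.lTensor (S := k) A (fbar g f)) (θB g f hg hf (a ⊗ₜ[B'] b)) =
      θA g f hg hf (a ⊗ₜ[B'] (algebraMap B A b))
    rw [hf, e1, e2]
    calc (Algebra.TensorProduct.lTensor (S := k) A (fbar g f))
          (θB g f hg hf (a • ((1 : A) ⊗ₜ[B'] b)))
        = (Algebra.TensorProduct.lTensor (S := k) A (fbar g f))
          (algebraMap A _ a * θB g f hg hf ((1 : A) ⊗ₜ[B'] b)) := by
          rw [map_smul (θB g f hg hf)]
          exact congrArg _ (Algebra.smul_def a (θB g f hg hf ((1 : A) ⊗ₜ[B'] b)))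
      _ = algebraMap A _ a * θA g f hg hf ((1 : A) ⊗ₜ[B'] f b) := by
          rw [map_mul, square_one_tmul]
          congr 1
          simp [Algebra.TensorProduct.algebraMap_apply]
      _ = θA g f hg hf (a • ((1 : A) ⊗ₜ[B'] f b)) := by
          rw [map_smul (θA g f hg hf)]
          exact (Algebra.smul_def a (θA g f hg hf ((1 : A) ⊗ₜ[B'] f b))).symm

include hg hf in
/-- `B/B'⁺B → A/B'⁺A` is injective when `B → A` is and `A` is flat over `B'`. -/
theorem fbar_injective' [Module.Flat B' A] (hinj : Function.Injective f) :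
    Function.Injective (fbar g f) := by
  have h1 : Function.Injective (Algebra.TensorProduct.map (AlgHom.id B' A)
      (IsScalarTower.toAlgHom B' B A)) := by
    have : Function.Injective (LinearMap.lTensor A (IsScalarTower.toAlgHom B' B A).toLinearMap) :=
      Module.Flat.lTensor_preserves_injective_linearMap _ (fun x y hxy => hinj (by
        simpa [hf] using hxy))
    exact this
  have h2 : Function.Injective (Algebra.TensorProduct.lTensor (S := k) A (fbar g f)) := by
    intro y₁ y₂ hy
    obtain ⟨z₁, rfl⟩ := (θB g f hg hf).surjective y₁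
    obtain ⟨z₂, rfl⟩ := (θB g f hg hf).surjective y₂
    rw [square, square] at hy
    rw [h1 ((θA g f hg hf).injective hy)]
  have h3 : Function.Injective (LinearMap.lTensor A (fbar g f).toLinearMap) := h2
  have : Nontrivial A := (Bialgebra.counitAlgHom k A).toRingHom.domain_nontrivial
  exact (Module.FaithfullyFlat.lTensor_injective_iff_injective k A _).1 h3

include hg hf in
/-- **Devissage**: `A` is flat over `B` if it is faithfully flat over `B'` and `A/B'⁺A` is flat
over `B/B'⁺B`. -/
theorem flat_of_fbar_flat' [Module.FaithfullyFlat B' A] (hbar : (fbar g f).toRingHom.Flat) :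
    Module.Flat B A := by
  -- `B → A ⊗[B'] B`
  let r1 : B →+* A ⊗[B'] B := (Algebra.TensorProduct.includeRight : B →ₐ[B'] A ⊗[B'] B).toRingHom
  have hr1 : r1.Flat := by
    have e : r1 = ((Algebra.TensorProduct.comm B' B A : B ⊗[B'] A ≃ₐ[B'] A ⊗[B'] B) :
        B ⊗[B'] A →+* A ⊗[B'] B).comp (algebraMap B (B ⊗[B'] A)) := by
      ext b
      simp [r1, Algebra.TensorProduct.algebraMap_apply]
    rw [e]
    refine RingHom.Flat.comp (RingHom.flat_algebraMap_iff.2 inferInstance) ?_
    exact RingHom.Flat.of_bijective (Algebra.TensorProduct.comm B' B A).bijective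
  let r2 : A →+* A ⊗[B'] A := (Algebra.TensorProduct.includeRight : A →ₐ[B'] A ⊗[B'] A).toRingHom
  have hr2 : r2.FaithfullyFlat := by
    have e : r2 = ((Algebra.TensorProduct.comm B' A A : A ⊗[B'] A ≃ₐ[B'] A ⊗[B'] A) :
        A ⊗[B'] A →+* A ⊗[B'] A).comp (algebraMap A (A ⊗[B'] A)) := by
      ext b
      simp [r2, Algebra.TensorProduct.algebraMap_apply]
    rw [e]
    refine RingHom.FaithfullyFlat.stableUnderComposition _ _
      (RingHom.faithfullyFlat_algebraMap_iff.2 inferInstance) ?_
    exact RingHom.FaithfullyFlat.of_bijective (Algebra.TensorProduct.comm B' A A).bijective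
  let c : B →+* A ⊗[B'] A :=
    ((θA g f hg hf).symm : A ⊗[k] (A ⧸ augMap (f.comp g)) →+* A ⊗[B'] A).comp
      ((Algebra.TensorProduct.lTensor (S := k) A (fbar g f)).toRingHom.comp
        (((θB g f hg hf) : A ⊗[B'] B →+* A ⊗[k] (B ⧸ augMap g)).comp r1))
  have hc : c.Flat := by
    refine RingHom.Flat.comp (RingHom.Flat.comp (RingHom.Flat.comp hr1 ?_) ?_) ?_
    · exact RingHom.Flat.of_bijective (θB g f hg hf).bijective
    · exact RingHom.Flat.lTensor (S := k) A hbar
    · exact RingHom.Flat.of_bijective (θA g f hg hf).symm.bijective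
  have hce : c = r2.comp (algebraMap B A) := by
    ext b
    show (θA g f hg hf).symm ((Algebra.TensorProduct.lTensor (S := k) A (fbar g f))
      (θB g f hg hf ((1 : A) ⊗ₜ[B'] b))) = (1 : A) ⊗ₜ[B'] (algebraMap B A b)
    rw [square_one_tmul, AlgEquiv.symm_apply_apply, hf]
  rw [hce] at hc
  exact RingHom.flat_algebraMap_iff.1 (RingHom.Flat.of_comp_of_faithfullyFlat hc hr2)

end Main

end Groth.Agent.Lib.Helper28.TakDev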