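/-
Helper28 library (Takeuchi program, part 12): ring-hom level wrappers for the devissage and the
nilpotent case; `fbar` as a bialgebra map.
-/
import Groth.Agent.Lib.Helper28.TakDev
import Groth.Agent.Lib.Helper28.TakArt

set_option autoImplicit false
universe u v w x
open TensorProduct

namespace Groth.Agent.Lib.Helper28.TakDev2

open Groth.Agent.Lib.Helper28.TakShear Groth.Agent.Lib.Helper28.TakCancel
  Groth.Agent.Lib.Helper28.TakDev Groth.Agent.Lib.Helper28.TakArt

section Bar

variable {k : Type u} [Field k] {B' : Type v} [CommRing B'] [HopfAlgebra k B']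
  {B : Type w} [CommRing B] [HopfAlgebra k B] {A : Type x} [CommRing A] [HopfAlgebra k A]
  (g : B' →ₐc[k] B) (f : B →ₐc[k] A)

/-- `fbar` as a bialgebra map -/
noncomputable def fbarBialg : (B ⧸ augMap g) →ₐc[k] (A ⧸ augMap (f.comp g)) :=
  BialgHom.ofAlgHom (fbar g f)
    (by
      apply Ideal.Quotient.algHom_ext
      ext b
      show Coalgebra.counit (R := k) (Ideal.Quotient.mk (augMap (f.comp g)) (f b)) =
        Coalgebra.counit (R := k) (Ideal.Quotient.mk (augMap g) b)
      rw [Bialgebra.Quotient.counit_mk, Bialgebra.Quotient.counit_mk]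
      exact CoalgHomClass.counit_comp_apply f b)
    (by
      apply Ideal.Quotient.algHom_ext
      ext b
      show (Algebra.TensorProduct.map (fbar g f) (fbar g f))
          (Coalgebra.comul (R := k) (Ideal.Quotient.mk (augMap g) b)) =
        Coalgebra.comul (R := k) (Ideal.Quotient.mk (augMap (f.comp g)) (f b))
      rw [Bialgebra.Quotient.comul_mk, Bialgebra.Quotient.comul_mk,
        ← CoalgHomClass.map_comp_comul_apply f b]
      generalize Coalgebra.comul (R := k) b = t
      induction t using TensorProduct.induction_on with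
      | zero => simp
      | add y z hy hz => simp only [map_add, hy, hz]
      | tmul a b => rfl)

lemma fbarBialg_apply (x : B ⧸ augMap g) : fbarBialg g f x = fbar g f x := rfl

lemma fbarBialg_toAlgHom : ((fbarBialg g f : (B ⧸ augMap g) →ₐc[k] (A ⧸ augMap (f.comp g))) :
    (B ⧸ augMap g) →ₐ[k] (A ⧸ augMap (f.comp g))) = fbar g f := rfl

end Bar

section Nilp

variable {k : Type u} [Field k] {B : Type w} [CommRing B] [HopfAlgebra k B]
  {A : Type x} [CommRing A] [HopfAlgebra k A] (f : B →ₐc[k] A)

/-- **nilpotent augmentation case**, ring hom version -/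
theorem flat_of_nilpotent (hinj : Function.Injective f) (n : ℕ)
    (hn : (RingHom.ker (Bialgebra.counitAlgHom k B)) ^ n = ⊥) :
    (f : B →ₐ[k] A).toRingHom.Flat := by
  letI : Algebra B A := (f : B →ₐ[k] A).toRingHom.toAlgebra
  haveI : IsScalarTower k B A := IsScalarTower.of_algebraMap_eq (fun c => by
    rw [RingHom.algebraMap_toAlgebra]
    exact ((f : B →ₐ[k] A).commutes c).symm)
  haveI : Module.Free B A := free_of_nilpotent f (fun _ => rfl) hinj n hn
  show Module.Flat B A
  infer_instance

end Nilp

section Dev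

variable {k : Type u} [Field k] {B' : Type v} [CommRing B'] [HopfAlgebra k B']
  {B : Type w} [CommRing B] [HopfAlgebra k B] {A : Type x} [CommRing A] [HopfAlgebra k A]
  (g : B' →ₐc[k] B) (f : B →ₐc[k] A)

/-- `B/B'⁺B → A/B'⁺A` is injective when `B → A` is and `A` is flat over `B'` -/
theorem fbar_injective (hflat : ((f.comp g : B' →ₐc[k] A) : B' →ₐ[k] A).toRingHom.Flat)
    (hinj : Function.Injective f) : Function.Injective (fbar g f) := by
  letI : Algebra B' B := (g : B' →ₐ[k] B).toRingHom.toAlgebra
  letI : Algebra B A := (f : B →ₐ[k] A).toRingHom.toAlgebra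
  letI : Algebra B' A := ((f.comp g : B' →ₐc[k] A) : B' →ₐ[k] A).toRingHom.toAlgebra
  haveI : IsScalarTower B' B A := IsScalarTower.of_algebraMap_eq (fun _ => rfl)
  haveI : IsScalarTower k B' B := IsScalarTower.of_algebraMap_eq (fun c => by
    rw [RingHom.algebraMap_toAlgebra]
    exact ((g : B' →ₐ[k] B).commutes c).symm)
  haveI : IsScalarTower k B' A := IsScalarTower.of_algebraMap_eq (fun c => by
    rw [RingHom.algebraMap_toAlgebra]
    exact (((f.comp g : B' →ₐc[k] A) : B' →ₐ[k] A).commutes c).symm)
  haveI : Module.Flat B' A := hflat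
  exact fbar_injective' g f (fun _ => rfl) (fun _ => rfl) hinj

/-- **Devissage**, ring hom version -/
theorem flat_of_fbar_flat
    (hff : ((f.comp g : B' →ₐc[k] A) : B' →ₐ[k] A).toRingHom.FaithfullyFlat)
    (hbar : (fbar g f).toRingHom.Flat) : (f : B →ₐ[k] A).toRingHom.Flat := by
  letI : Algebra B' B := (g : B' →ₐ[k] B).toRingHom.toAlgebra
  letI : Algebra B A := (f : B →ₐ[k] A).toRingHom.toAlgebra
  letI : Algebra B' A := ((f.comp g : B' →ₐc[k] A) : B' →ₐ[k] A).toRingHom.toAlgebra
  haveI : IsScalarTower B' B A := IsScalarTower.of_algebraMap_eq (fun _ => rfl)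
  haveI : IsScalarTower k B' B := IsScalarTower.of_algebraMap_eq (fun c => by
    rw [RingHom.algebraMap_toAlgebra]
    exact ((g : B' →ₐ[k] B).commutes c).symm)
  haveI : IsScalarTower k B' A := IsScalarTower.of_algebraMap_eq (fun c => by
    rw [RingHom.algebraMap_toAlgebra]
    exact (((f.comp g : B' →ₐc[k] A) : B' →ₐ[k] A).commutes c).symm)
  haveI : Module.FaithfullyFlat B' A := hff
  exact flat_of_fbar_flat' g f (fun _ => rfl) (fun _ => rfl) hbar

end Dev

end Groth.Agent.Lib.Helper28.TakDev2
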