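/-
Helper28 library (Takeuchi program, part 6): the reduced case.  For an injective bialgebra map
`f : B → A` of commutative Hopf algebras over a field with `B` reduced and `A` of finite type,
`A` is flat over `B`.  Method: flatness at a geometric generic point plus translations.
-/
import Groth.Agent.Lib.Helper28.TakCancel

set_option autoImplicit false
universe u v w x
open TensorProduct

namespace Groth.Agent.Lib.Helper28.TakRed

open Groth.Agent.Lib.Helper28.TakCancel

section Generic

variable {B : Type v} {A : Type w} [CommRing B] [CommRing A]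

/-- For an injective ring map out of a reduced ring, the target is flat over the source at some
prime. -/
theorem exists_prime_flat [IsReduced B] [Nontrivial B] (f : B →+* A)
    (hinj : Function.Injective f) :
    ∃ (P : Ideal A) (_ : P.IsPrime), ((algebraMap A (Localization.AtPrime P)).comp f).Flat := by
  obtain ⟨⟨p, hp⟩⟩ : Nonempty (minimalPrimes B) :=
    Ideal.nonempty_minimalPrimes (I := (⊥ : Ideal B)) bot_ne_top
  obtain ⟨P, hP, hPp⟩ := Ideal.exists_comap_eq_of_mem_minimalPrimes_of_injective hinj p hp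
  haveI := hp.1.1
  haveI : Ring.KrullDimLE 0 (Localization.AtPrime p) :=
    Ring.KrullDimLE.of_isLocalization p hp (Localization.AtPrime p)
  have hL : IsField (Localization.AtPrime p) := Ring.KrullDimLE.isField_of_isReduced
  refine ⟨P, hP, ?_⟩
  have e : (algebraMap A (Localization.AtPrime P)).comp f =
      (Localization.localRingHom p P f hPp.symm).comp (algebraMap B (Localization.AtPrime p)) := by
    ext b
    simp [Localization.localRingHom_to_map]
  rw [e]
  exact RingHom.Flat.comp (RingHom.flat_algebraMap_iff.2 (IsLocalization.flat _ p.primeCompl))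
    (RingHom.Flat.of_isField hL _)

end Generic

section FlatAt

variable {R : Type v} {S : Type w} [CommRing R] [CommRing S]

/-- flatness of `F : R → S` at a prime of the target -/
def FlatAt (F : R →+* S) (Q : Ideal S) [Q.IsPrime] : Prop :=
  ((algebraMap S (Localization.AtPrime Q)).comp F).Flat

/-- flatness at a prime is invariant under compatible automorphisms -/
theorem flatAt_of_comap (F : R →+* S) (σS : S ≃+* S) (σR : R ≃+* R)
    (hσ : ∀ r, σS (F r) = F (σR r)) (Q : Ideal S) [Q.IsPrime]
    (h : FlatAt F (Q.comap (σS : S →+* S))) : FlatAt F Q := by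
  have H : (Q.comap (σS : S →+* S)).primeCompl.map σS.toMonoidHom = Q.primeCompl := by
    ext y
    constructor
    · rintro ⟨x, hx, rfl⟩
      exact hx
    · intro hy
      refine ⟨σS.symm y, ?_, by simp⟩
      show σS.symm y ∉ Q.comap (σS : S →+* S)
      rw [Ideal.mem_comap]
      simpa using hy
  let e := IsLocalization.ringEquivOfRingEquiv (Localization.AtPrime (Q.comap (σS : S →+* S)))
    (Localization.AtPrime Q) σS H
  have he : (algebraMap S (Localization.AtPrime Q)).comp F =
      (e : _ →+* _).comp (((algebraMap S (Localization.AtPrime (Q.comap (σS : S →+* S)))).comp F).comp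
        (σR.symm : R →+* R)) := by
    ext r
    simp only [RingHom.coe_comp, RingHom.coe_coe, Function.comp_apply]
    rw [IsLocalization.ringEquivOfRingEquiv_eq, hσ, RingEquiv.apply_symm_apply]
  unfold FlatAt
  rw [he]
  exact RingHom.Flat.comp (RingHom.Flat.comp (RingHom.Flat.of_bijective σR.symm.bijective) h)
    (RingHom.Flat.of_bijective e.bijective)

/-- flatness can be checked at the maximal ideals of the target -/
theorem flat_of_flatAt_maximal (F : R →+* S)
    (h : ∀ (Q : Ideal S) [Q.IsMaximal], FlatAt F Q) : F.Flat := by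
  algebraize_only [F]
  rw [RingHom.Flat]
  apply Module.flat_of_isLocalized_maximal S S (fun P => Localization.AtPrime P)
    (fun P => Algebra.linearMap S _)
  intro P _
  have h1 := h P
  unfold FlatAt RingHom.Flat at h1
  convert! h1
  ext
  apply Algebra.smul_def

end FlatAt

section BaseChangePoint

variable {k : Type u} [Field k] {B : Type v} {A : Type w} [CommRing B] [CommRing A]
  [Algebra k B] [Algebra k A] (f : B →ₐ[k] A) (P : Ideal A) [P.IsPrime]
  (Ω : Type x) [Field Ω] [Algebra k Ω] (x : A →ₐ[k] Ω)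

/-- the `Ω`-point of `Ω ⊗ A` defined by `x : A → Ω` -/
noncomputable def ptΩ : Ω ⊗[k] A →ₐ[Ω] Ω :=
  Algebra.TensorProduct.lift (Algebra.ofId Ω Ω) x (fun _ _ => Commute.all _ _)

lemma ptΩ_tmul (ω : Ω) (a : A) : ptΩ Ω x (ω ⊗ₜ[k] a) = ω * x a := by
  simp [ptΩ, Algebra.ofId_apply]

instance ker_ptΩ_isMaximal : (RingHom.ker (ptΩ Ω x)).IsMaximal :=
  RingHom.ker_isMaximal_of_surjective _ (fun ω => ⟨ω ⊗ₜ[k] 1, by simp [ptΩ_tmul]⟩)

/-- If `A` is flat over `B` at `P = ker x`, then `Ω ⊗ A` is flat over `Ω ⊗ B` at the point `x`. -/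
theorem flatAt_baseChange (hP : P = RingHom.ker x)
    (h : ((algebraMap A (Localization.AtPrime P)).comp f.toRingHom).Flat) :
    FlatAt (Algebra.TensorProduct.lTensor (S := Ω) Ω f).toRingHom (RingHom.ker (ptΩ Ω x)) := by
  set Q := RingHom.ker (ptΩ Ω x) with hQ
  let AP := Localization.AtPrime P
  let SQ := Localization.AtPrime Q
  let incl : A →ₐ[k] Ω ⊗[k] A := Algebra.TensorProduct.includeRight
  have hPQ : P = Q.comap (incl : A →+* Ω ⊗[k] A) := by
    ext a
    rw [Ideal.mem_comap, hQ, RingHom.mem_ker, hP, RingHom.mem_ker]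
    show x a = 0 ↔ ptΩ Ω x ((1 : Ω) ⊗ₜ[k] a) = 0
    rw [ptΩ_tmul, one_mul]
  -- `A_P → (Ω ⊗ A)_Q`
  let ℓ : AP →+* SQ := Localization.localRingHom P Q (incl : A →+* Ω ⊗[k] A) hPQ
  have hℓ : ∀ a : A, ℓ (algebraMap A AP a) = algebraMap (Ω ⊗[k] A) SQ ((1 : Ω) ⊗ₜ[k] a) :=
    fun a => Localization.localRingHom_to_map _ _ _ hPQ a
  let ℓₐ : AP →ₐ[k] SQ :=
    { ℓ with
      commutes' := fun r => by
        show ℓ (algebraMap k AP r) = algebraMap k SQ r
        rw [IsScalarTower.algebraMap_apply k A AP, hℓ,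
          IsScalarTower.algebraMap_apply k (Ω ⊗[k] A) SQ]
        congr 1
        rw [Algebra.TensorProduct.algebraMap_apply, Algebra.algebraMap_eq_smul_one,
          Algebra.algebraMap_eq_smul_one, TensorProduct.smul_tmul] }
  let ψ : Ω ⊗[k] AP →ₐ[Ω] SQ :=
    Algebra.TensorProduct.lift (Algebra.ofId Ω SQ) ℓₐ (fun _ _ => Commute.all _ _)
  let locT : Ω ⊗[k] A →ₐ[Ω] Ω ⊗[k] AP :=
    Algebra.TensorProduct.lTensor (S := Ω) Ω (IsScalarTower.toAlgHom k A AP)
  have hψloc : ∀ z : Ω ⊗[k] A, ψ (locT z) = algebraMap (Ω ⊗[k] A) SQ z := by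
    intro z
    induction z using TensorProduct.induction_on with
    | zero => simp
    | add y z hy hz => simp only [map_add, hy, hz]
    | tmul ω a =>
      have e1 : (ω ⊗ₜ[k] a : Ω ⊗[k] A) = ω • ((1 : Ω) ⊗ₜ[k] a) := by
        rw [TensorProduct.smul_tmul', smul_eq_mul, mul_one]
      have e2 : ψ (locT (ω ⊗ₜ[k] a)) = ω • ℓ (algebraMap A AP a) := by
        simp [ψ, locT, ℓₐ, Algebra.ofId_apply, Algebra.smul_def]
      rw [e2, hℓ, e1, Algebra.smul_def ω, Algebra.smul_def ω, map_mul,
        ← IsScalarTower.algebraMap_apply Ω (Ω ⊗[k] A) SQ]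
  -- algebra structures
  letI : Algebra (Ω ⊗[k] A) (Ω ⊗[k] AP) := locT.toRingHom.toAlgebra
  letI : Algebra (Ω ⊗[k] AP) SQ := ψ.toRingHom.toAlgebra
  haveI : IsScalarTower (Ω ⊗[k] A) (Ω ⊗[k] AP) SQ :=
    IsScalarTower.of_algebraMap_eq (fun z => (hψloc z).symm)
  haveI : IsScalarTower Ω (Ω ⊗[k] A) (Ω ⊗[k] AP) :=
    IsScalarTower.of_algebraMap_eq (fun ω => (locT.commutes ω).symm)
  haveI : IsLocalization (Submonoid.map (Algebra.TensorProduct.includeRight :
      A →ₐ[k] Ω ⊗[k] A) P.primeCompl) (Ω ⊗[k] AP) :=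
    IsLocalization.tensorProduct_tensorProduct_right k Ω P.primeCompl AP (by
      ext a
      show locT ((1 : Ω) ⊗ₜ[k] a) = (1 : Ω) ⊗ₜ[k] algebraMap A AP a
      simp [locT])
  have hflatψ : Module.Flat (Ω ⊗[k] AP) SQ := by
    rw [Module.flat_iff_of_isLocalization (Ω ⊗[k] AP) (Submonoid.map
      (Algebra.TensorProduct.includeRight : A →ₐ[k] Ω ⊗[k] A) P.primeCompl)]
    exact IsLocalization.flat SQ Q.primeCompl
  have hψflat : ψ.toRingHom.Flat := hflatψ
  -- the base change of `B → A_P`
  let fP : B →ₐ[k] AP := (IsScalarTower.toAlgHom k A AP).comp f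
  have hfP : fP.toRingHom.Flat := h
  have hG : (Algebra.TensorProduct.lTensor (S := Ω) Ω fP).toRingHom.Flat :=
    RingHom.Flat.lTensor (S := Ω) Ω hfP
  have hcomp : (algebraMap (Ω ⊗[k] A) SQ).comp
      (Algebra.TensorProduct.lTensor (S := Ω) Ω f).toRingHom =
      ψ.toRingHom.comp (Algebra.TensorProduct.lTensor (S := Ω) Ω fP).toRingHom := by
    apply RingHom.ext
    intro z
    show algebraMap (Ω ⊗[k] A) SQ ((Algebra.TensorProduct.lTensor (S := Ω) Ω f) z) =
      ψ ((Algebra.TensorProduct.lTensor (S := Ω) Ω fP) z)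
    rw [← hψloc]
    congr 1
    induction z using TensorProduct.induction_on with
    | zero => simp
    | add y z hy hz => simp only [map_add, hy, hz]
    | tmul ω b => simp [locT, fP]
  unfold FlatAt
  rw [hcomp]
  exact RingHom.Flat.comp hG hψflat

end BaseChangePoint

end Groth.Agent.Lib.Helper28.TakRed
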