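/-
Helper28 library (Takeuchi program, part 7): homogeneity.  Over an algebraically closed field,
a bialgebra map of commutative Hopf algebras with finitely generated target which is flat at one
rational point of the target is flat.
-/
import Groth.Agent.Lib.Helper28.TakRed
import Groth.Agent.Lib.Helper19.Cartier2

set_option autoImplicit false
universe u v w
open TensorProduct

namespace Groth.Agent.Lib.Helper28.TakTrans

open Groth.Agent.Lib.Helper28.TakRed Groth.Agent.Lib.Helper19.Cartier

variable {K : Type u} [Field K] {R : Type v} {S : Type w} [CommRing R] [CommRing S]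
  [HopfAlgebra K R] [HopfAlgebra K S] (F : R →ₐc[K] S)

instance ker_point_isMaximal (x : S →ₐ[K] K) : (RingHom.ker x).IsMaximal :=
  RingHom.ker_isMaximal_of_surjective x (fun c => ⟨algebraMap K S c, by simp⟩)

/-- translations are compatible with bialgebra maps -/
lemma transl_comp (g : S →ₐ[K] K) :
    (transl g).comp (F : R →ₐ[K] S) = (F : R →ₐ[K] S).comp (transl (g.comp (F : R →ₐ[K] S))) := by
  ext r
  have key : ∀ t : R ⊗[K] R,
      (Algebra.TensorProduct.rid K K S) ((Algebra.TensorProduct.map (AlgHom.id K S) g)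
        (TensorProduct.map (F : R →ₗ[K] S) (F : R →ₗ[K] S) t)) =
      F ((Algebra.TensorProduct.rid K K R) ((Algebra.TensorProduct.map (AlgHom.id K R)
        (g.comp (F : R →ₐ[K] S))) t)) := by
    intro t
    induction t using TensorProduct.induction_on with
    | zero => simp
    | add y z hy hz => simp only [map_add, hy, hz]
    | tmul a b => simp
  have h1 := key (Coalgebra.comul (R := K) r)
  rw [CoalgHomClass.map_comp_comul_apply] at h1
  exact h1

lemma flatAt_congr {F' : R →+* S} {Q Q' : Ideal S} [Q.IsPrime] [Q'.IsPrime] (h : Q = Q')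
    (hF : FlatAt F' Q) : FlatAt F' Q' := by
  subst h
  exact hF

/-- the kernel of a point is the translate of the kernel of the counit -/
lemma comap_transl_ker (z : S →ₐ[K] K) :
    (RingHom.ker (Bialgebra.counitAlgHom K S)).comap
      ((AlgEquiv.ofBijective (transl z) (transl_bijective z)).toRingEquiv : S →+* S) =
      RingHom.ker z := by
  ext a
  rw [Ideal.mem_comap, RingHom.mem_ker, RingHom.mem_ker]
  show Coalgebra.counit (R := K) (transl z a) = 0 ↔ z a = 0
  rw [counit_transl]

lemma flatAt_point_iff (z : S →ₐ[K] K) :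
    FlatAt (F : R →ₐ[K] S).toRingHom (RingHom.ker z) ↔
      FlatAt (F : R →ₐ[K] S).toRingHom (RingHom.ker (Bialgebra.counitAlgHom K S)) := by
  let σS : S ≃+* S := (AlgEquiv.ofBijective (transl z) (transl_bijective z)).toRingEquiv
  let σR : R ≃+* R := (AlgEquiv.ofBijective (transl (z.comp (F : R →ₐ[K] S)))
    (transl_bijective _)).toRingEquiv
  have hσ : ∀ r, σS ((F : R →ₐ[K] S).toRingHom r) = (F : R →ₐ[K] S).toRingHom (σR r) :=
    fun r => congrArg (fun G => G r) (transl_comp F z)
  constructor
  · intro h
    exact flatAt_of_comap _ σS σR hσ _ (flatAt_congr (comap_transl_ker z).symm h)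
  · intro h
    have hσ' : ∀ r, σS.symm ((F : R →ₐ[K] S).toRingHom r) =
        (F : R →ₐ[K] S).toRingHom (σR.symm r) := by
      intro r
      apply σS.injective
      rw [RingEquiv.apply_symm_apply, hσ, RingEquiv.apply_symm_apply]
    have hcomap : (RingHom.ker z).comap (σS.symm : S →+* S) =
        RingHom.ker (Bialgebra.counitAlgHom K S) := by
      rw [← comap_transl_ker z]
      ext a
      simp only [Ideal.mem_comap]
      show σS (σS.symm a) ∈ _ ↔ _
      rw [RingEquiv.apply_symm_apply]
    have := flatAt_of_comap _ σS.symm σR.symm hσ' (RingHom.ker z) (flatAt_congr hcomap.symm h)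
    exact this

omit [HopfAlgebra K S] in
/-- Nullstellensatz: maximal ideals of a finite type algebra over an algebraically closed field
are kernels of rational points. -/
lemma exists_point_of_isMaximal [Algebra K S] [IsAlgClosed K] [Algebra.FiniteType K S] (Q : Ideal S)
    [Q.IsMaximal] : ∃ z : S →ₐ[K] K, RingHom.ker z = Q := by
  let _ := Ideal.Quotient.field Q
  have hfin : Module.Finite K (S ⧸ Q) := finite_of_finite_type_of_isJacobsonRing K (S ⧸ Q)
  have hbij : Function.Bijective (algebraMap K (S ⧸ Q)) :=
    IsAlgClosed.algebraMap_bijective_of_isIntegral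
  let e : K ≃ₐ[K] (S ⧸ Q) := AlgEquiv.ofBijective (Algebra.ofId K (S ⧸ Q)) hbij
  refine ⟨(e.symm : (S ⧸ Q) →ₐ[K] K).comp (Ideal.Quotient.mkₐ K Q), ?_⟩
  ext a
  rw [RingHom.mem_ker]
  show e.symm (Ideal.Quotient.mk Q a) = 0 ↔ a ∈ Q
  rw [map_eq_zero_iff _ e.symm.injective, Ideal.Quotient.eq_zero_iff_mem]

/-- **Homogeneity**: flat at one rational point implies flat. -/
theorem flat_of_flatAt_point [IsAlgClosed K] [Algebra.FiniteType K S] (x : S →ₐ[K] K)
    (hx : FlatAt (F : R →ₐ[K] S).toRingHom (RingHom.ker x)) :
    (F : R →ₐ[K] S).toRingHom.Flat := by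
  apply flat_of_flatAt_maximal
  intro Q _
  obtain ⟨z, hz⟩ := exists_point_of_isMaximal (K := K) Q
  exact flatAt_congr hz ((flatAt_point_iff F z).2 ((flatAt_point_iff F x).1 hx))

end Groth.Agent.Lib.Helper28.TakTrans
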