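/-
Helper28 library (Takeuchi program, part 9): over an algebraically closed field, a flat injective
bialgebra map of finitely generated commutative Hopf algebras is faithfully flat.
Method: the image of `Spec S → Spec R` is dense open; rational points in the image form a subgroup;
translate.
-/
import Groth.Agent.Lib.Helper28.TakTrans
import Groth.Agent.Lib.Helper28.TakShear

set_option autoImplicit false
universe u v w
open TensorProduct WithConv

namespace Groth.Agent.Lib.Helper28.TakFaithful

open Groth.Agent.Lib.Helper28.TakRed Groth.Agent.Lib.Helper28.TakTrans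
  Groth.Agent.Lib.Helper28.TakShear Groth.Agent.Lib.Helper19.Cartier

section Points

variable {K : Type u} [Field K] {R : Type v} [CommRing R] [Algebra K R]

/-- two points with comparable kernels agree -/
lemma point_eq_of_ker_le (z z' : R →ₐ[K] K) (h : RingHom.ker z ≤ RingHom.ker z') : z' = z := by
  ext a
  have h1 : a - algebraMap K R (z a) ∈ RingHom.ker z := by
    rw [RingHom.mem_ker, map_sub, AlgHom.commutes]
    simp
  have h2 := h h1
  rw [RingHom.mem_ker, map_sub, AlgHom.commutes] at h2
  simpa [sub_eq_zero] using h2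

end Points

variable {K : Type u} [Field K] {R : Type v} {S : Type w} [CommRing R] [CommRing S]
  [HopfAlgebra K R] [HopfAlgebra K S] (F : R →ₐc[K] S)

/-- `z ∘ (right translation by y) = z * y` -/
lemma comp_transl (z y : R →ₐ[K] K) : z.comp (transl y) = (toConv z * toConv y).ofConv := by
  ext a
  have key : ∀ t : R ⊗[K] R,
      z ((Algebra.TensorProduct.rid K K R) ((Algebra.TensorProduct.map (AlgHom.id K R) y) t)) =
      Algebra.TensorProduct.lmul' K (Algebra.TensorProduct.map z y t) := by
    intro t
    induction t using TensorProduct.induction_on with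
    | zero => simp
    | add s t hs ht => simp only [map_add, hs, ht]
    | tmul a b => simp [mul_comm]
  exact key (Coalgebra.comul (R := K) a)

/-- if the kernel of the point `z` is in the image of `Spec S → Spec R`, then `z` lifts -/
lemma exists_lift_of_mem_range [IsAlgClosed K] [Algebra.FiniteType K S] (z : R →ₐ[K] K)
    (Q : Ideal S) [Q.IsPrime] (hQ : Q.comap (F : R →ₐ[K] S).toRingHom = RingHom.ker z) :
    ∃ x : S →ₐ[K] K, x.comp (F : R →ₐ[K] S) = z := by
  obtain ⟨M, hM, hQM⟩ := Ideal.exists_le_maximal Q (Ideal.IsPrime.ne_top inferInstance)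
  obtain ⟨x, hx⟩ := exists_point_of_isMaximal (K := K) M
  refine ⟨x, point_eq_of_ker_le z _ ?_⟩
  intro a ha
  rw [← hQ, Ideal.mem_comap] at ha
  have h1 := hQM ha
  rw [← hx, RingHom.mem_ker] at h1
  rw [RingHom.mem_ker]
  exact h1

/-- **lifting of rational points** along an injective flat bialgebra map -/
theorem exists_point_lift [IsAlgClosed K] [Algebra.FiniteType K R] [Algebra.FiniteType K S]
    (hinj : Function.Injective F) (hflat : (F : R →ₐ[K] S).toRingHom.Flat) (y : R →ₐ[K] K) :
    ∃ x : S →ₐ[K] K, x.comp (F : R →ₐ[K] S) = y := by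
  set φ : R →+* S := (F : R →ₐ[K] S).toRingHom with hφ
  haveI : Nontrivial R := (Bialgebra.counitAlgHom K R).toRingHom.domain_nontrivial
  haveI : IsNoetherianRing R := Algebra.FiniteType.isNoetherianRing K R
  haveI : IsJacobsonRing R := isJacobsonRing_of_finiteType (A := K)
  -- the image of `Spec S → Spec R` is dense and open
  have hdense : Dense (Set.range (PrimeSpectrum.comap φ)) := by
    have : DenseRange (PrimeSpectrum.comap φ) := by
      rw [PrimeSpectrum.denseRange_comap_iff_ker_le_nilRadical,
        (RingHom.injective_iff_ker_eq_bot φ).1 hinj]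
      exact bot_le
    exact this
  have hopen : IsOpen (Set.range (PrimeSpectrum.comap φ)) := by
    algebraize [φ]
    haveI : Module.Flat R S := hflat
    haveI : Algebra.FiniteType R S := by
      haveI : IsScalarTower K R S := IsScalarTower.of_algebraMap_eq (fun c => by
        rw [RingHom.algebraMap_toAlgebra]
        exact ((F : R →ₐ[K] S).commutes c).symm)
      exact Algebra.FiniteType.of_restrictScalars_finiteType K R S
    haveI : Algebra.FinitePresentation R S := Algebra.FinitePresentation.of_finiteType.1 inferInstance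
    exact (PrimeSpectrum.isOpenMap_comap_of_hasGoingDown_of_finitePresentation
      (R := R) (S := S)).isOpen_range
  set U := Set.range (PrimeSpectrum.comap φ) with hU
  -- translation homeomorphism
  let e : R ≃+* R := (AlgEquiv.ofBijective (transl y) (transl_bijective y)).toRingEquiv
  let T : PrimeSpectrum R ≃ₜ PrimeSpectrum R := (PrimeSpectrum.homeomorphOfRingEquiv e).symm
  have hT : ∀ q : PrimeSpectrum R, (T q).asIdeal = q.asIdeal.comap (transl y).toRingHom := fun q => rfl
  have hV : (U ∩ T ⁻¹' U).Nonempty := by
    have hd : Dense (U ∩ T ⁻¹' U) :=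
      Dense.inter_of_isOpen_left hdense (hdense.preimage T.isOpenMap) hopen
    exact hd.nonempty
  have hVo : IsOpen (U ∩ T ⁻¹' U) := hopen.inter (hopen.preimage T.continuous)
  obtain ⟨q, ⟨hqU, hqT⟩, hqc⟩ := nonempty_inter_closedPoints hV hVo.isLocallyClosed
  have hqmax : q.asIdeal.IsMaximal := (PrimeSpectrum.isClosed_singleton_iff_isMaximal q).1 hqc
  obtain ⟨z, hz⟩ := exists_point_of_isMaximal (K := K) q.asIdeal
  -- `z` lifts
  obtain ⟨Q1, hQ1⟩ := hqU
  obtain ⟨x1, hx1⟩ := exists_lift_of_mem_range F z Q1.asIdeal (by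
    rw [hz]
    exact congrArg PrimeSpectrum.asIdeal hQ1)
  -- `z * y` lifts
  obtain ⟨Q2, hQ2⟩ := hqT
  obtain ⟨x2, hx2⟩ := exists_lift_of_mem_range F ((toConv z * toConv y).ofConv) Q2.asIdeal (by
    have h1 : Q2.asIdeal.comap φ = (T q).asIdeal := congrArg PrimeSpectrum.asIdeal hQ2
    rw [h1, hT, ← hz, ← comp_transl]
    rfl)
  -- conclude
  refine ⟨(toConv (x1.comp (HopfAlgebra.antipodeAlgHom K S)) * toConv x2).ofConv, ?_⟩
  rw [AlgHom.convMul_comp_bialgHom_distrib, ofConv_toConv, ofConv_toConv, hx2, AlgHom.comp_assoc,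
    antipode_comp_bialgHom, ← AlgHom.comp_assoc, hx1, toConv_ofConv]
  have h3 : toConv (z.comp (HopfAlgebra.antipodeAlgHom K R)) * (toConv z * toConv y) = toConv y := by
    rw [← mul_assoc (toConv (z.comp (HopfAlgebra.antipodeAlgHom K R))) (toConv z) (toConv y),
      convInv_mul, one_mul]
  rw [h3, ofConv_toConv]

/-- **Faithful flatness** from flatness, over an algebraically closed field. -/
theorem faithfullyFlat_of_flat [IsAlgClosed K] [Algebra.FiniteType K R] [Algebra.FiniteType K S]
    (hinj : Function.Injective F) (hflat : (F : R →ₐ[K] S).toRingHom.Flat) :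
    (F : R →ₐ[K] S).toRingHom.FaithfullyFlat := by
  have hlift := exists_point_lift F hinj hflat
  algebraize [(F : R →ₐ[K] S).toRingHom]
  haveI : Module.Flat R S := hflat
  show Module.FaithfullyFlat R S
  refine ⟨fun m hm htop => ?_⟩
  obtain ⟨y, hy⟩ := exists_point_of_isMaximal (K := K) m
  obtain ⟨x, hx⟩ := hlift y
  have hle : m • (⊤ : Submodule R S) ≤ (RingHom.ker x).restrictScalars R := by
    rw [Submodule.smul_le]
    intro r hr s _
    show r • s ∈ RingHom.ker x
    rw [Algebra.smul_def, RingHom.mem_ker, map_mul]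
    have h1 : x (algebraMap R S r) = y r := congrArg (fun f => f r) hx
    rw [h1]
    rw [← hy, RingHom.mem_ker] at hr
    rw [hr, zero_mul]
  have h0 : (1 : S) ∈ m • (⊤ : Submodule R S) := by
    rw [htop]
    exact Submodule.mem_top
  have h1 : (1 : S) ∈ (RingHom.ker x).restrictScalars R := hle h0
  have h2 : x 1 = 0 := h1
  rw [map_one] at h2
  exact one_ne_zero h2

end Groth.Agent.Lib.Helper28.TakFaithful
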