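/-
Helper28 library (Takeuchi program, part 1): Hopf algebra structure induced on a commutative
algebra `B` by an injective algebra map `ι : B → A` into a commutative Hopf algebra over a field,
when the image is stable under comultiplication and antipode.  In particular Hopf subalgebras.
-/
import Mathlib

set_option autoImplicit false
universe u v w
open TensorProduct

namespace Groth.Agent.Lib.Helper28.TakSub

variable {k : Type u} [Field k] {A : Type v} [CommRing A] [HopfAlgebra k A]
  {B : Type w} [CommRing B] [Algebra k B] (ι : B →ₐ[k] A)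

/-- `ι ⊗ ι`. -/
noncomputable abbrev ii : B ⊗[k] B →ₐ[k] A ⊗[k] A := Algebra.TensorProduct.map ι ι

lemma ii_injective (hι : Function.Injective ι) : Function.Injective (ii ι) :=
  TensorProduct.map_injective_of_flat_flat ι.toLinearMap ι.toLinearMap hι hι

lemma iii_injective (hι : Function.Injective ι) :
    Function.Injective (Algebra.TensorProduct.map ι (ii ι)) :=
  TensorProduct.map_injective_of_flat_flat ι.toLinearMap (ii ι).toLinearMap hι (ii_injective ι hι)

variable (hι : Function.Injective ι)
  (hΔ : ∀ b, Coalgebra.comul (R := k) (ι b) ∈ (ii ι).range)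
  (hS : ∀ b, HopfAlgebra.antipode k (ι b) ∈ ι.range)

/-- the induced comultiplication -/
noncomputable def comulB : B →ₐ[k] B ⊗[k] B :=
  ((AlgEquiv.ofInjective (ii ι) (ii_injective ι hι)).symm : (ii ι).range →ₐ[k] B ⊗[k] B).comp
    (((Bialgebra.comulAlgHom k A).comp ι).codRestrict (ii ι).range (fun b => hΔ b))

lemma ii_comulB (b : B) : ii ι (comulB ι hι hΔ b) = Coalgebra.comul (R := k) (ι b) := by
  have h := (AlgEquiv.ofInjective (ii ι) (ii_injective ι hι)).apply_symm_apply
    ((((Bialgebra.comulAlgHom k A).comp ι).codRestrict (ii ι).range (fun b => hΔ b)) b)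
  have h2 := congrArg Subtype.val h
  exact h2

lemma ii_comp_comulB : (ii ι).comp (comulB ι hι hΔ) = (Bialgebra.comulAlgHom k A).comp ι :=
  AlgHom.ext fun b => ii_comulB ι hι hΔ b

/-- the induced counit -/
noncomputable def counitB : B →ₐ[k] k := (Bialgebra.counitAlgHom k A).comp ι

lemma coassocA : (Algebra.TensorProduct.assoc k k k A A A).toAlgHom.comp
      ((Algebra.TensorProduct.map (Bialgebra.comulAlgHom k A) (.id k A)).comp
        (Bialgebra.comulAlgHom k A))
      = (Algebra.TensorProduct.map (.id k A) (Bialgebra.comulAlgHom k A)).comp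
        (Bialgebra.comulAlgHom k A) :=
  AlgHom.ext fun a => Coalgebra.coassoc_apply a

lemma coassocB : (Algebra.TensorProduct.assoc k k k B B B).toAlgHom.comp
      ((Algebra.TensorProduct.map (comulB ι hι hΔ) (.id k B)).comp (comulB ι hι hΔ))
      = (Algebra.TensorProduct.map (.id k B) (comulB ι hι hΔ)).comp (comulB ι hι hΔ) := by
  have hinj := iii_injective ι hι
  have key : (Algebra.TensorProduct.map ι (ii ι)).comp
      ((Algebra.TensorProduct.assoc k k k B B B).toAlgHom.comp
      ((Algebra.TensorProduct.map (comulB ι hι hΔ) (.id k B)).comp (comulB ι hι hΔ))) =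
      (Algebra.TensorProduct.map ι (ii ι)).comp
      ((Algebra.TensorProduct.map (.id k B) (comulB ι hι hΔ)).comp (comulB ι hι hΔ)) := by
    have e1 : (Algebra.TensorProduct.map ι (ii ι)).comp
        (Algebra.TensorProduct.assoc k k k B B B).toAlgHom =
        (Algebra.TensorProduct.assoc k k k A A A).toAlgHom.comp
          (Algebra.TensorProduct.map (ii ι) ι) := by
      ext <;> simp [Algebra.TensorProduct.one_def]
    have e2 : (Algebra.TensorProduct.map (ii ι) ι).comp
        (Algebra.TensorProduct.map (comulB ι hι hΔ) (.id k B)) =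
        (Algebra.TensorProduct.map (Bialgebra.comulAlgHom k A) (.id k A)).comp (ii ι) := by
      rw [← Algebra.TensorProduct.map_comp, ii_comp_comulB]
      show _ = (Algebra.TensorProduct.map (Bialgebra.comulAlgHom k A) (.id k A)).comp
        (Algebra.TensorProduct.map ι ι)
      rw [← Algebra.TensorProduct.map_comp]
      rfl
    have e3 : (Algebra.TensorProduct.map ι (ii ι)).comp
        (Algebra.TensorProduct.map (.id k B) (comulB ι hι hΔ)) =
        (Algebra.TensorProduct.map (.id k A) (Bialgebra.comulAlgHom k A)).comp (ii ι) := by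
      rw [← Algebra.TensorProduct.map_comp, ii_comp_comulB]
      show _ = (Algebra.TensorProduct.map (.id k A) (Bialgebra.comulAlgHom k A)).comp
        (Algebra.TensorProduct.map ι ι)
      rw [← Algebra.TensorProduct.map_comp]
      rfl
    calc _ = (Algebra.TensorProduct.assoc k k k A A A).toAlgHom.comp
          ((Algebra.TensorProduct.map (Bialgebra.comulAlgHom k A) (.id k A)).comp
            ((ii ι).comp (comulB ι hι hΔ))) := by
          rw [← AlgHom.comp_assoc, e1, AlgHom.comp_assoc, ← AlgHom.comp_assoc _ _ (comulB ι hι hΔ),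
            e2, AlgHom.comp_assoc]
      _ = (Algebra.TensorProduct.map (.id k A) (Bialgebra.comulAlgHom k A)).comp
            ((ii ι).comp (comulB ι hι hΔ)) := by
          rw [ii_comp_comulB, ← AlgHom.comp_assoc, ← AlgHom.comp_assoc, ← AlgHom.comp_assoc,
            AlgHom.comp_assoc _ _ (Bialgebra.comulAlgHom k A), coassocA]
      _ = _ := by
          rw [← AlgHom.comp_assoc, ← e3, AlgHom.comp_assoc]
  exact AlgHom.ext fun b => hinj (congrArg (fun f => f b) key)

lemma rTensorA : (Algebra.TensorProduct.map (Bialgebra.counitAlgHom k A) (.id k A)).comp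
      (Bialgebra.comulAlgHom k A) = (Algebra.TensorProduct.lid k A).symm :=
  AlgHom.ext fun a => Coalgebra.rTensor_counit_comul a

lemma lTensorA : (Algebra.TensorProduct.map (.id k A) (Bialgebra.counitAlgHom k A)).comp
      (Bialgebra.comulAlgHom k A) = (Algebra.TensorProduct.rid k k A).symm :=
  AlgHom.ext fun a => Coalgebra.lTensor_counit_comul a

lemma rTensorB : (Algebra.TensorProduct.map (counitB ι) (.id k B)).comp (comulB ι hι hΔ)
      = (Algebra.TensorProduct.lid k B).symm := by
  have hinj : Function.Injective (Algebra.TensorProduct.map (AlgHom.id k k) ι) :=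
    TensorProduct.map_injective_of_flat_flat (AlgHom.id k k).toLinearMap ι.toLinearMap
      (fun _ _ h => h) hι
  have e1 : (Algebra.TensorProduct.map (AlgHom.id k k) ι).comp
      (Algebra.TensorProduct.map (counitB ι) (.id k B)) =
      (Algebra.TensorProduct.map (Bialgebra.counitAlgHom k A) (.id k A)).comp (ii ι) := by
    ext <;> simp [counitB]
  have e2 : (Algebra.TensorProduct.map (AlgHom.id k k) ι).comp
      ((Algebra.TensorProduct.lid k B).symm : B →ₐ[k] k ⊗[k] B) =
      ((Algebra.TensorProduct.lid k A).symm : A →ₐ[k] k ⊗[k] A).comp ι := by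
    ext b; simp
  have key : (Algebra.TensorProduct.map (AlgHom.id k k) ι).comp
      ((Algebra.TensorProduct.map (counitB ι) (.id k B)).comp (comulB ι hι hΔ)) =
      (Algebra.TensorProduct.map (AlgHom.id k k) ι).comp
      ((Algebra.TensorProduct.lid k B).symm : B →ₐ[k] k ⊗[k] B) := by
    rw [← AlgHom.comp_assoc, e1, AlgHom.comp_assoc, ii_comp_comulB, ← AlgHom.comp_assoc,
      rTensorA, e2]
  exact AlgHom.ext fun b => hinj (congrArg (fun f => f b) key)

lemma lTensorB : (Algebra.TensorProduct.map (.id k B) (counitB ι)).comp (comulB ι hι hΔ)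
      = (Algebra.TensorProduct.rid k k B).symm := by
  have hinj : Function.Injective (Algebra.TensorProduct.map ι (AlgHom.id k k)) :=
    TensorProduct.map_injective_of_flat_flat ι.toLinearMap (AlgHom.id k k).toLinearMap
      hι (fun _ _ h => h)
  have e1 : (Algebra.TensorProduct.map ι (AlgHom.id k k)).comp
      (Algebra.TensorProduct.map (.id k B) (counitB ι)) =
      (Algebra.TensorProduct.map (.id k A) (Bialgebra.counitAlgHom k A)).comp (ii ι) := by
    ext <;> simp [counitB]
  have e2 : (Algebra.TensorProduct.map ι (AlgHom.id k k)).comp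
      ((Algebra.TensorProduct.rid k k B).symm : B →ₐ[k] B ⊗[k] k) =
      ((Algebra.TensorProduct.rid k k A).symm : A →ₐ[k] A ⊗[k] k).comp ι := by
    ext b; simp
  have key : (Algebra.TensorProduct.map ι (AlgHom.id k k)).comp
      ((Algebra.TensorProduct.map (.id k B) (counitB ι)).comp (comulB ι hι hΔ)) =
      (Algebra.TensorProduct.map ι (AlgHom.id k k)).comp
      ((Algebra.TensorProduct.rid k k B).symm : B →ₐ[k] B ⊗[k] k) := by
    rw [← AlgHom.comp_assoc, e1, AlgHom.comp_assoc, ii_comp_comulB, ← AlgHom.comp_assoc,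
      lTensorA, e2]
  exact AlgHom.ext fun b => hinj (congrArg (fun f => f b) key)

/-- the induced bialgebra structure -/
@[reducible] noncomputable def bialgebraB : Bialgebra k B :=
  Bialgebra.ofAlgHom (comulB ι hι hΔ) (counitB ι) (coassocB ι hι hΔ) (rTensorB ι hι hΔ)
    (lTensorB ι hι hΔ)

/-- the induced antipode -/
noncomputable def antipodeB : B →ₗ[k] B :=
  ((LinearEquiv.ofInjective ι.toLinearMap hι).symm :
      LinearMap.range ι.toLinearMap →ₗ[k] B) ∘ₗ
    ((HopfAlgebra.antipode k ∘ₗ ι.toLinearMap).codRestrict (LinearMap.range ι.toLinearMap)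
      (fun b => by obtain ⟨c, hc⟩ := hS b; exact ⟨c, hc⟩))

lemma ι_antipodeB (b : B) : ι (antipodeB ι hι hS b) = HopfAlgebra.antipode k (ι b) := by
  have h := (LinearEquiv.ofInjective ι.toLinearMap hι).apply_symm_apply
    (((HopfAlgebra.antipode k ∘ₗ ι.toLinearMap).codRestrict (LinearMap.range ι.toLinearMap)
      (fun b => by obtain ⟨c, hc⟩ := hS b; exact ⟨c, hc⟩)) b)
  exact congrArg Subtype.val h

lemma ι_mul' : ι.toLinearMap ∘ₗ LinearMap.mul' k B =
    LinearMap.mul' k A ∘ₗ TensorProduct.map ι.toLinearMap ι.toLinearMap := by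
  ext a b; simp

lemma ii_apply (x : B ⊗[k] B) : ii ι x = TensorProduct.map ι.toLinearMap ι.toLinearMap x := rfl

/-- the induced Hopf algebra structure -/
@[reducible] noncomputable def hopfAlgebraB : HopfAlgebra k B :=
  letI := bialgebraB ι hι hΔ
  { antipode := antipodeB ι hι hS
    mul_antipode_rTensor_comul := by
      have L2 : TensorProduct.map ι.toLinearMap ι.toLinearMap ∘ₗ
          LinearMap.rTensor B (antipodeB ι hι hS) =
          LinearMap.rTensor A (HopfAlgebra.antipode k) ∘ₗ
            TensorProduct.map ι.toLinearMap ι.toLinearMap := by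
        ext a b; simp [ι_antipodeB]
      ext b
      apply hι
      show ι.toLinearMap ((LinearMap.mul' k B) ((LinearMap.rTensor B (antipodeB ι hι hS))
        (comulB ι hι hΔ b))) = ι (algebraMap k B (counitB ι b))
      have h1 := LinearMap.congr_fun (ι_mul' ι)
        ((LinearMap.rTensor B (antipodeB ι hι hS)) (comulB ι hι hΔ b))
      simp only [LinearMap.comp_apply] at h1
      rw [h1]
      have h2 := LinearMap.congr_fun L2 (comulB ι hι hΔ b)
      simp only [LinearMap.comp_apply] at h2
      rw [h2, ← ii_apply, ii_comulB, HopfAlgebra.mul_antipode_rTensor_comul_apply,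
        AlgHom.commutes]
      rfl
    mul_antipode_lTensor_comul := by
      have L2 : TensorProduct.map ι.toLinearMap ι.toLinearMap ∘ₗ
          LinearMap.lTensor B (antipodeB ι hι hS) =
          LinearMap.lTensor A (HopfAlgebra.antipode k) ∘ₗ
            TensorProduct.map ι.toLinearMap ι.toLinearMap := by
        ext a b; simp [ι_antipodeB]
      ext b
      apply hι
      show ι.toLinearMap ((LinearMap.mul' k B) ((LinearMap.lTensor B (antipodeB ι hι hS))
        (comulB ι hι hΔ b))) = ι (algebraMap k B (counitB ι b))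
      have h1 := LinearMap.congr_fun (ι_mul' ι)
        ((LinearMap.lTensor B (antipodeB ι hι hS)) (comulB ι hι hΔ b))
      simp only [LinearMap.comp_apply] at h1
      rw [h1]
      have h2 := LinearMap.congr_fun L2 (comulB ι hι hΔ b)
      simp only [LinearMap.comp_apply] at h2
      rw [h2, ← ii_apply, ii_comulB, HopfAlgebra.mul_antipode_lTensor_comul_apply,
        AlgHom.commutes]
      rfl }

/-- `ι` as a bialgebra map for the induced structure. -/
noncomputable def bialgHomB :
    letI := hopfAlgebraB ι hι hΔ hS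
    B →ₐc[k] A :=
  letI := hopfAlgebraB ι hι hΔ hS
  BialgHom.ofAlgHom ι rfl (ii_comp_comulB ι hι hΔ)

lemma bialgHomB_apply (b : B) :
    letI := hopfAlgebraB ι hι hΔ hS
    bialgHomB ι hι hΔ hS b = ι b := rfl

end Groth.Agent.Lib.Helper28.TakSub
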