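/-
Helper28 library (Takeuchi program, part 10): Hopf subalgebras (as subalgebras) of a commutative
Hopf algebra over a field carry a Hopf algebra structure making the inclusion a bialgebra map.
-/
import Groth.Agent.Lib.Helper28.TakSub

set_option autoImplicit false
universe u v
open TensorProduct

namespace Groth.Agent.Lib.Helper28.TakSubalg

open Groth.Agent.Lib.Helper28.TakSub

variable {k : Type u} [Field k] {A : Type v} [CommRing A] [HopfAlgebra k A]

/-- universe-polymorphic version of `SGA3.IsHopfSubalgebra` -/
structure IsHopfSub (B : Subalgebra k A) : Prop where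
  comul_mem : ∀ b ∈ B, Coalgebra.comul (R := k) b ∈
    LinearMap.range (TensorProduct.map B.val.toLinearMap B.val.toLinearMap)
  antipode_mem : ∀ b ∈ B, HopfAlgebra.antipode k b ∈ B

variable (B : Subalgebra k A) (hB : IsHopfSub B)

include hB in
lemma hΔ_of : ∀ b : B, Coalgebra.comul (R := k) (B.val b) ∈ (ii B.val).range := by
  intro b
  obtain ⟨y, hy⟩ := hB.comul_mem b.1 b.2
  exact ⟨y, hy⟩

include hB in
lemma hS_of : ∀ b : B, HopfAlgebra.antipode k (B.val b) ∈ B.val.range := by
  intro b
  exact ⟨⟨_, hB.antipode_mem b.1 b.2⟩, rfl⟩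

/-- the Hopf algebra structure on a Hopf subalgebra -/
@[reducible] noncomputable def hopfAlgebra : HopfAlgebra k ↥B :=
  hopfAlgebraB B.val Subtype.val_injective (hΔ_of B hB) (hS_of B hB)

/-- the inclusion as a bialgebra map -/
noncomputable def valBialgHom :
    letI := hopfAlgebra B hB
    ↥B →ₐc[k] A :=
  bialgHomB B.val Subtype.val_injective (hΔ_of B hB) (hS_of B hB)

lemma valBialgHom_apply (b : B) :
    letI := hopfAlgebra B hB
    valBialgHom B hB b = (b : A) := rfl

lemma valBialgHom_injective :
    letI := hopfAlgebra B hB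
    Function.Injective (valBialgHom B hB) := fun _ _ h => Subtype.val_injective h

lemma counit_val (b : B) :
    letI := hopfAlgebra B hB
    Coalgebra.counit (R := k) b = Coalgebra.counit (R := k) (b : A) := rfl

end Groth.Agent.Lib.Helper28.TakSubalg
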