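/-
Helper28 library (Takeuchi program, part 11): the Frobenius Hopf subalgebras `B^(p^n)` of a
commutative Hopf algebra over a perfect field of characteristic `p`.
-/
import Groth.Agent.Lib.Helper28.TakSubalg
import Groth.Agent.Lib.Helper28.TakShear

set_option autoImplicit false
universe u v w
open TensorProduct

namespace Groth.Agent.Lib.Helper28.TakFrob

open Groth.Agent.Lib.Helper28.TakSub Groth.Agent.Lib.Helper28.TakSubalg
  Groth.Agent.Lib.Helper28.TakShear

section Basic

lemma nontrivial_of_hopf (k : Type u) [Field k] (B : Type v) [CommRing B] [HopfAlgebra k B] :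
    Nontrivial B :=
  (Bialgebra.counitAlgHom k B).toRingHom.domain_nontrivial

lemma charP_of_hopf (k : Type u) [Field k] (p : ℕ) [CharP k p] (B : Type v) [CommRing B]
    [HopfAlgebra k B] : CharP B p :=
  haveI := nontrivial_of_hopf k B
  charP_of_injective_algebraMap (algebraMap k B).injective p

variable (k : Type u) [Field k] (p : ℕ) [Fact p.Prime] [CharP k p]
  (B : Type v) [CommRing B] [HopfAlgebra k B]

variable [PerfectField k]

/-- the subalgebra of `p^n`-th powers -/
noncomputable def frobSub (n : ℕ) : Subalgebra k B where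
  carrier := Set.range (fun a : B => a ^ p ^ n)
  mul_mem' := by
    rintro _ _ ⟨a, rfl⟩ ⟨b, rfl⟩
    exact ⟨a * b, mul_pow a b _⟩
  add_mem' := by
    rintro _ _ ⟨a, rfl⟩ ⟨b, rfl⟩
    haveI := charP_of_hopf k p B
    exact ⟨a + b, add_pow_char_pow a b p n⟩
  one_mem' := ⟨1, one_pow _⟩
  zero_mem' := ⟨0, zero_pow (pow_ne_zero _ (Fact.out : p.Prime).ne_zero)⟩
  algebraMap_mem' := fun c => by
    obtain ⟨d, hd⟩ := (bijective_iterateFrobenius (R := k) (p := p) (n := n)).surjective c
    refine ⟨algebraMap k B d, ?_⟩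
    show (algebraMap k B d) ^ p ^ n = algebraMap k B c
    rw [← map_pow, ← hd, iterateFrobenius_def]

lemma mem_frobSub {n : ℕ} {x : B} : x ∈ frobSub k p B n ↔ ∃ a : B, a ^ p ^ n = x := Iff.rfl

lemma coe_frobSub (n : ℕ) : (frobSub k p B n : Set B) = Set.range (fun a : B => a ^ p ^ n) := rfl

lemma pow_mem_frobSub (n : ℕ) (a : B) : a ^ p ^ n ∈ frobSub k p B n := ⟨a, rfl⟩

lemma frobSub_antitone {m n : ℕ} (h : m ≤ n) : frobSub k p B n ≤ frobSub k p B m := by
  rintro _ ⟨a, rfl⟩
  obtain ⟨d, rfl⟩ := Nat.exists_eq_add_of_le h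
  refine ⟨a ^ p ^ d, ?_⟩
  show (a ^ p ^ d) ^ p ^ m = a ^ p ^ (m + d)
  rw [← pow_mul, ← pow_add, add_comm]

/-- `p^n`-th powers in `B ⊗ B` come from `B^(p^n) ⊗ B^(p^n)` -/
lemma pow_mem_range (n : ℕ) (t : B ⊗[k] B) :
    t ^ p ^ n ∈ LinearMap.range (TensorProduct.map (frobSub k p B n).val.toLinearMap
      (frobSub k p B n).val.toLinearMap) := by
  haveI : CharP (B ⊗[k] B) p := charP_of_hopf k p (B ⊗[k] B)
  have hq : p ^ n ≠ 0 := pow_ne_zero _ (Fact.out : p.Prime).ne_zero
  induction t using TensorProduct.induction_on with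
  | zero =>
    rw [zero_pow hq]
    exact Submodule.zero_mem _
  | tmul a b =>
    rw [Algebra.TensorProduct.tmul_pow]
    exact ⟨(⟨a ^ p ^ n, a, rfl⟩ : frobSub k p B n) ⊗ₜ[k] (⟨b ^ p ^ n, b, rfl⟩ : frobSub k p B n), rfl⟩
  | add s t hs ht =>
    rw [add_pow_char_pow]
    exact Submodule.add_mem _ hs ht

/-- the `p^n`-th powers form a Hopf subalgebra -/
theorem frobSub_isHopfSub (n : ℕ) : IsHopfSub (frobSub k p B n) where
  comul_mem := by
    rintro _ ⟨a, rfl⟩
    have h : Coalgebra.comul (R := k) (a ^ p ^ n) = (Coalgebra.comul (R := k) a) ^ p ^ n :=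
      map_pow (Bialgebra.comulAlgHom k B) a _
    rw [h]
    exact pow_mem_range k p B n _
  antipode_mem := by
    rintro _ ⟨a, rfl⟩
    refine ⟨HopfAlgebra.antipode k a, ?_⟩
    exact (map_pow (HopfAlgebra.antipodeAlgHom k B) a _).symm

/-- the Frobenius subalgebras are reduced for `n` large -/
theorem exists_isReduced_frobSub [IsNoetherianRing B] :
    ∃ n₀ : ℕ, ∀ n, n₀ ≤ n → IsReduced ↥(frobSub k p B n) := by
  obtain ⟨m, hm⟩ := IsNoetherianRing.isNilpotent_nilradical B
  refine ⟨m, fun n hn => ⟨?_⟩⟩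
  rintro ⟨x, a, rfl⟩ ⟨j, hj⟩
  have hj' : (a ^ p ^ n) ^ j = 0 := congrArg Subtype.val hj
  have ha : a ∈ nilradical B := by
    rw [mem_nilradical]
    exact ⟨p ^ n * j, by rw [pow_mul]; exact hj'⟩
  have hmq : m ≤ p ^ n := le_trans hn (Nat.lt_pow_self (Fact.out : p.Prime).one_lt).le
  have h1 : a ^ p ^ n ∈ (nilradical B) ^ (p ^ n) := Ideal.pow_mem_pow ha _
  have h2 : a ^ p ^ n ∈ (nilradical B) ^ m := Ideal.pow_le_pow_right hmq h1
  rw [hm] at h2
  have h3 : a ^ p ^ n = 0 := h2
  exact Subtype.ext h3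

/-- the Frobenius subalgebras are finitely generated -/
theorem finiteType_frobSub [Algebra.FiniteType k B] (n : ℕ) :
    Algebra.FiniteType k ↥(frobSub k p B n) := by
  classical
  haveI := charP_of_hopf k p B
  obtain ⟨s, hs⟩ := (Algebra.FiniteType.out : (⊤ : Subalgebra k B).FG)
  rw [← Subalgebra.fg_iff_finiteType]
  refine ⟨s.image (fun a => a ^ p ^ n), ?_⟩
  set T := Algebra.adjoin k ((s.image (fun a => a ^ p ^ n) : Finset B) : Set B) with hT
  apply le_antisymm
  · apply Algebra.adjoin_le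
    intro x hx
    rw [Finset.mem_coe, Finset.mem_image] at hx
    obtain ⟨a, _, rfl⟩ := hx
    exact ⟨a, rfl⟩
  · let C : Subalgebra k B :=
      { carrier := {x | x ^ p ^ n ∈ T}
        mul_mem' := by
          intro x y hx hy
          show (x * y) ^ p ^ n ∈ T
          rw [mul_pow]
          exact T.mul_mem hx hy
        add_mem' := by
          intro x y hx hy
          show (x + y) ^ p ^ n ∈ T
          rw [add_pow_char_pow]
          exact T.add_mem hx hy
        one_mem' := by
          show (1 : B) ^ p ^ n ∈ T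
          rw [one_pow]
          exact T.one_mem
        zero_mem' := by
          show (0 : B) ^ p ^ n ∈ T
          rw [zero_pow (pow_ne_zero _ (Fact.out : p.Prime).ne_zero)]
          exact T.zero_mem
        algebraMap_mem' := fun c => by
          show (algebraMap k B c) ^ p ^ n ∈ T
          rw [← map_pow]
          exact T.algebraMap_mem _ }
    have hC : C = ⊤ := by
      rw [eq_top_iff, ← hs]
      apply Algebra.adjoin_le
      intro a ha
      show a ^ p ^ n ∈ T
      apply Algebra.subset_adjoin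
      rw [Finset.mem_coe, Finset.mem_image]
      exact ⟨a, ha, rfl⟩
    rintro _ ⟨a, rfl⟩
    have : a ∈ C := hC ▸ Algebra.mem_top
    exact this

end Basic

section Nilp

variable {k : Type u} [Field k] {B' : Type v} [CommRing B'] [HopfAlgebra k B']
  {B : Type w} [CommRing B] [HopfAlgebra k B] (g : B' →ₐc[k] B)

/-- if `q`-th powers of `B` lie in the image of `B'`, then `B/B'⁺B` has nilpotent augmentation
ideal -/
theorem exists_pow_ker_counit_quot_eq_bot [IsNoetherianRing B] (q : ℕ) (hq0 : 0 < q)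
    (hq : ∀ b : B, ∃ b' : B', g b' = b ^ q) :
    ∃ N : ℕ, (RingHom.ker (Bialgebra.counitAlgHom k (B ⧸ augMap g))) ^ N = ⊥ := by
  set I := RingHom.ker (Bialgebra.counitAlgHom k (B ⧸ augMap g)) with hI
  have hfg : I.FG := IsNoetherian.noetherian I
  have hle : I ≤ nilradical (B ⧸ augMap g) := by
    intro x hx
    obtain ⟨b, rfl⟩ := Ideal.Quotient.mk_surjective x
    rw [hI, RingHom.mem_ker] at hx
    have hb : Coalgebra.counit (R := k) b = 0 := hx
    obtain ⟨b', hb'⟩ := hq b
    have hb'0 : Coalgebra.counit (R := k) b' = 0 := by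
      have h1 : Coalgebra.counit (R := k) (g b') = Coalgebra.counit (R := k) b' :=
        CoalgHomClass.counit_comp_apply g b'
      rw [← h1, hb']
      have h2 : Coalgebra.counit (R := k) (b ^ q) = (Coalgebra.counit (R := k) b) ^ q :=
        map_pow (Bialgebra.counitAlgHom k B) b q
      rw [h2, hb, zero_pow hq0.ne']
    have hmem : b ^ q ∈ augMap g := by
      rw [← hb']
      exact Ideal.mem_map_of_mem _ (by rw [RingHom.mem_ker]; exact hb'0)
    rw [mem_nilradical]
    refine ⟨q, ?_⟩
    rw [← map_pow]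
    exact Ideal.Quotient.eq_zero_iff_mem.2 hmem
  obtain ⟨N, hN⟩ := (Ideal.FG.isNilpotent_iff_le_nilradical hfg).2 hle
  exact ⟨N, hN⟩

end Nilp

end Groth.Agent.Lib.Helper28.TakFrob
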