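/-
Helper28 library (Takeuchi program, part 8): flatness in the reduced case.  An injective bialgebra
map `f : B → A` of commutative Hopf algebras over a field with `B` reduced and `A` of finite type
is flat.
-/
import Groth.Agent.Lib.Helper28.TakTrans

set_option autoImplicit false
universe u v w x
open TensorProduct

namespace Groth.Agent.Lib.Helper28.TakRedFlat

open Groth.Agent.Lib.Helper28.TakCancel Groth.Agent.Lib.Helper28.TakRed
  Groth.Agent.Lib.Helper28.TakTrans

section Comp

variable {R : Type u} {S : Type v} {T : Type w} [CommRing R] [CommRing S] [CommRing T]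

/-- composition of faithfully flat ring maps (universe polymorphic) -/
lemma faithfullyFlat_comp {f : R →+* S} {g : S →+* T} (hf : f.FaithfullyFlat)
    (hg : g.FaithfullyFlat) : (g.comp f).FaithfullyFlat := by
  algebraize [f, g, g.comp f]
  rw [← RingHom.algebraMap_toAlgebra (g.comp f), RingHom.faithfullyFlat_algebraMap_iff]
  exact .trans R S T

end Comp

section Incl

variable {k : Type u} [Field k] (Ω : Type x) [Field Ω] [Algebra k Ω]
  (A : Type w) [CommRing A] [Algebra k A]

/-- `A → Ω ⊗ A` is faithfully flat -/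
lemma includeRight_faithfullyFlat :
    (Algebra.TensorProduct.includeRight : A →ₐ[k] Ω ⊗[k] A).toRingHom.FaithfullyFlat := by
  have h1 : (algebraMap A (A ⊗[k] Ω)).FaithfullyFlat := by
    rw [RingHom.faithfullyFlat_algebraMap_iff]
    infer_instance
  have h2 : ((Algebra.TensorProduct.comm k A Ω : A ⊗[k] Ω ≃ₐ[k] Ω ⊗[k] A) :
      A ⊗[k] Ω →+* Ω ⊗[k] A).FaithfullyFlat :=
    RingHom.FaithfullyFlat.of_bijective (Algebra.TensorProduct.comm k A Ω).bijective
  have e : (Algebra.TensorProduct.includeRight : A →ₐ[k] Ω ⊗[k] A).toRingHom =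
      ((Algebra.TensorProduct.comm k A Ω : A ⊗[k] Ω ≃ₐ[k] Ω ⊗[k] A) :
        A ⊗[k] Ω →+* Ω ⊗[k] A).comp (algebraMap A (A ⊗[k] Ω)) := by
    ext a
    simp [Algebra.TensorProduct.algebraMap_apply]
  rw [e]
  exact faithfullyFlat_comp h1 h2

end Incl

variable {k : Type u} [Field k] {B : Type v} {A : Type w} [CommRing B] [CommRing A]
  [HopfAlgebra k B] [HopfAlgebra k A]

/-- **Reduced case, flatness.** -/
theorem flat_of_isReduced [IsReduced B] [Algebra.FiniteType k A] (f : B →ₐc[k] A)
    (hinj : Function.Injective f) : (f : B →ₐ[k] A).toRingHom.Flat := by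
  haveI : Nontrivial B := (Bialgebra.counitAlgHom k B).toRingHom.domain_nontrivial
  obtain ⟨P, hP, hflat⟩ := exists_prime_flat (f : B →ₐ[k] A).toRingHom hinj
  let Ω := AlgebraicClosure P.ResidueField
  let x : A →ₐ[k] Ω := (IsScalarTower.toAlgHom k P.ResidueField Ω).comp
    (IsScalarTower.toAlgHom k A P.ResidueField)
  have hx : P = RingHom.ker x := by
    ext a
    rw [RingHom.mem_ker]
    show a ∈ P ↔ algebraMap P.ResidueField Ω (algebraMap A P.ResidueField a) = 0
    rw [map_eq_zero_iff _ (algebraMap P.ResidueField Ω).injective,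
      Ideal.algebraMap_residueField_eq_zero]
  let F : Ω ⊗[k] B →ₐc[Ω] Ω ⊗[k] A := Bialgebra.TensorProduct.map (BialgHom.id Ω Ω) f
  have hF : (F : Ω ⊗[k] B →ₐ[Ω] Ω ⊗[k] A) =
      Algebra.TensorProduct.lTensor (S := Ω) Ω (f : B →ₐ[k] A) := rfl
  have h1 := flatAt_baseChange (f : B →ₐ[k] A) P Ω x hx hflat
  rw [← hF] at h1
  have h2 : (F : Ω ⊗[k] B →ₐ[Ω] Ω ⊗[k] A).toRingHom.Flat := flat_of_flatAt_point F (ptΩ Ω x) h1
  have h3 : ((Algebra.TensorProduct.includeRight : A →ₐ[k] Ω ⊗[k] A).toRingHom.comp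
      (f : B →ₐ[k] A).toRingHom).Flat := by
    have e : (Algebra.TensorProduct.includeRight : A →ₐ[k] Ω ⊗[k] A).toRingHom.comp
        (f : B →ₐ[k] A).toRingHom = (F : Ω ⊗[k] B →ₐ[Ω] Ω ⊗[k] A).toRingHom.comp
        (Algebra.TensorProduct.includeRight : B →ₐ[k] Ω ⊗[k] B).toRingHom := by
      ext b
      simp [F]
    rw [e]
    exact RingHom.Flat.comp (includeRight_faithfullyFlat Ω B).flat h2
  exact RingHom.Flat.of_comp_of_faithfullyFlat h3 (includeRight_faithfullyFlat Ω A)

end Groth.Agent.Lib.Helper28.TakRedFlat
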