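/-
Helper28 library (Takeuchi program, part 13): over an algebraically closed field, an injective
bialgebra map of finitely generated commutative Hopf algebras is faithfully flat.
-/
import Groth.Agent.Lib.Helper28.TakRedFlat
import Groth.Agent.Lib.Helper28.TakFaithful
import Groth.Agent.Lib.Helper28.TakFrob
import Groth.Agent.Lib.Helper28.TakDev2

set_option autoImplicit false
universe u v w
open TensorProduct

namespace Groth.Agent.Lib.Helper28.TakAlgClosed

open Groth.Agent.Lib.Helper28.TakShear Groth.Agent.Lib.Helper28.TakDev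
  Groth.Agent.Lib.Helper28.TakDev2 Groth.Agent.Lib.Helper28.TakFrob
  Groth.Agent.Lib.Helper28.TakSubalg Groth.Agent.Lib.Helper28.TakRedFlat
  Groth.Agent.Lib.Helper28.TakFaithful Groth.Agent.Lib.Helper19.Cartier

variable {K : Type u} [Field K] {B : Type v} {A : Type w} [CommRing B] [CommRing A]
  [HopfAlgebra K B] [HopfAlgebra K A]

/-- flatness in positive characteristic -/
theorem flat_of_charP [IsAlgClosed K] (p : ℕ) [Fact p.Prime] [CharP K p]
    [Algebra.FiniteType K B] [Algebra.FiniteType K A]
    (f : B →ₐc[K] A) (hinj : Function.Injective f) : (f : B →ₐ[K] A).toRingHom.Flat := by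
  haveI : IsNoetherianRing B := Algebra.FiniteType.isNoetherianRing K B
  obtain ⟨n, hn⟩ := exists_isReduced_frobSub K p B
  set C := frobSub K p B n with hC
  have hCH : IsHopfSub C := frobSub_isHopfSub K p B n
  haveI hred : IsReduced ↥C := hn n le_rfl
  have hft : Algebra.FiniteType K ↥C := finiteType_frobSub K p B n
  letI := hopfAlgebra C hCH
  let g : ↥C →ₐc[K] B := valBialgHom C hCH
  have hginj : Function.Injective g := valBialgHom_injective C hCH
  have hfginj : Function.Injective (f.comp g) := hinj.comp hginj
  haveI : Algebra.FiniteType K ↥C := hft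
  have h1 : ((f.comp g : ↥C →ₐc[K] A) : ↥C →ₐ[K] A).toRingHom.Flat :=
    flat_of_isReduced (f.comp g) hfginj
  have h1' : ((f.comp g : ↥C →ₐc[K] A) : ↥C →ₐ[K] A).toRingHom.FaithfullyFlat :=
    faithfullyFlat_of_flat (f.comp g) hfginj h1
  have hbinj : Function.Injective (fbar g f) := fbar_injective g f h1 hinj
  obtain ⟨N, hN⟩ := exists_pow_ker_counit_quot_eq_bot g (p ^ n)
    (pow_pos (Fact.out : p.Prime).pos n) (fun b => ⟨⟨b ^ p ^ n, b, rfl⟩, rfl⟩)
  have hbar : (fbar g f).toRingHom.Flat :=
    flat_of_nilpotent (fbarBialg g f) hbinj N hN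
  exact flat_of_fbar_flat g f h1' hbar

/-- flatness over an algebraically closed field -/
theorem flat_of_isAlgClosed [IsAlgClosed K] [Algebra.FiniteType K B] [Algebra.FiniteType K A]
    (f : B →ₐc[K] A) (hinj : Function.Injective f) : (f : B →ₐ[K] A).toRingHom.Flat := by
  obtain ⟨p, hp⟩ := CharP.exists K
  rcases CharP.char_is_prime_or_zero K p with hpp | hp0
  · haveI : Fact p.Prime := ⟨hpp⟩
    exact flat_of_charP p f hinj
  · subst hp0
    haveI : CharZero K := CharP.charP_to_charZero K
    haveI : IsReduced B := isReduced_of_charZero K B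
    exact flat_of_isReduced f hinj

/-- **Takeuchi's theorem** for finitely generated Hopf algebras over an algebraically closed
field -/
theorem faithfullyFlat_of_isAlgClosed [IsAlgClosed K] [Algebra.FiniteType K B]
    [Algebra.FiniteType K A] (f : B →ₐc[K] A) (hinj : Function.Injective f) :
    (f : B →ₐ[K] A).toRingHom.FaithfullyFlat :=
  faithfullyFlat_of_flat f hinj (flat_of_isAlgClosed f hinj)

end Groth.Agent.Lib.Helper28.TakAlgClosed
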