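/-
Helper28 library (Takeuchi program, part 14): an injective bialgebra map of finitely generated
commutative Hopf algebras over a field is faithfully flat.
-/
import Groth.Agent.Lib.Helper28.TakAlgClosed

set_option autoImplicit false
universe u v w
open TensorProduct

namespace Groth.Agent.Lib.Helper28.TakFG

open Groth.Agent.Lib.Helper28.TakCancel Groth.Agent.Lib.Helper28.TakRedFlat
  Groth.Agent.Lib.Helper28.TakAlgClosed

variable {k : Type u} [Field k] {B : Type v} {A : Type w} [CommRing B] [CommRing A]
  [HopfAlgebra k B] [HopfAlgebra k A]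

/-- **Takeuchi's theorem**, finitely generated case -/
theorem faithfullyFlat_of_finiteType [Algebra.FiniteType k B] [Algebra.FiniteType k A]
    (f : B →ₐc[k] A) (hinj : Function.Injective f) :
    (f : B →ₐ[k] A).toRingHom.FaithfullyFlat := by
  let K := AlgebraicClosure k
  let F : K ⊗[k] B →ₐc[K] K ⊗[k] A := Bialgebra.TensorProduct.map (BialgHom.id K K) f
  have hFinj : Function.Injective F := by
    have h := Module.Flat.lTensor_preserves_injective_linearMap (M := K)
      (f : B →ₐ[k] A).toLinearMap hinj
    intro x y hxy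
    apply h
    exact hxy
  have hF : (F : K ⊗[k] B →ₐ[K] K ⊗[k] A).toRingHom.FaithfullyFlat :=
    faithfullyFlat_of_isAlgClosed F hFinj
  have h3 : ((Algebra.TensorProduct.includeRight : A →ₐ[k] K ⊗[k] A).toRingHom.comp
      (f : B →ₐ[k] A).toRingHom).FaithfullyFlat := by
    have e : (Algebra.TensorProduct.includeRight : A →ₐ[k] K ⊗[k] A).toRingHom.comp
        (f : B →ₐ[k] A).toRingHom = (F : K ⊗[k] B →ₐ[K] K ⊗[k] A).toRingHom.comp
        (Algebra.TensorProduct.includeRight : B →ₐ[k] K ⊗[k] B).toRingHom := by
      ext b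
      simp [F]
    rw [e]
    exact faithfullyFlat_comp (includeRight_faithfullyFlat K B) hF
  exact RingHom.FaithfullyFlat.of_comp_of_faithfullyFlat h3 (includeRight_faithfullyFlat K A)

end Groth.Agent.Lib.Helper28.TakFG
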