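/-
Helper28 library (Takeuchi program, part 15): the range of a bialgebra map of commutative Hopf
algebras is a Hopf subalgebra; faithful flatness over it in the finitely generated case.
-/
import Groth.Agent.Lib.Helper28.TakFG

set_option autoImplicit false
universe u v w
open TensorProduct

namespace Groth.Agent.Lib.Helper28.TakRange

open Groth.Agent.Lib.Helper28.TakSubalg Groth.Agent.Lib.Helper28.TakShear
  Groth.Agent.Lib.Helper28.TakFG

variable {k : Type u} [Field k] {A : Type v} {B : Type w} [CommRing A] [CommRing B]
  [HopfAlgebra k A] [HopfAlgebra k B] (f : A →ₐc[k] B)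

theorem range_isHopfSub : IsHopfSub (f : A →ₐ[k] B).range where
  comul_mem := by
    rintro _ ⟨a, rfl⟩
    have h : Coalgebra.comul (R := k) (f a) =
        TensorProduct.map (f : A →ₗ[k] B) (f : A →ₗ[k] B) (Coalgebra.comul (R := k) a) :=
      (CoalgHomClass.map_comp_comul_apply f a).symm
    show Coalgebra.comul (R := k) (f a) ∈ _
    rw [h]
    generalize Coalgebra.comul (R := k) a = t
    induction t using TensorProduct.induction_on with
    | zero => rw [map_zero]; exact Submodule.zero_mem _
    | add y z hy hz => rw [map_add]; exact Submodule.add_mem _ hy hz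
    | tmul a b =>
      exact ⟨(⟨f a, a, rfl⟩ : (f : A →ₐ[k] B).range) ⊗ₜ[k]
        (⟨f b, b, rfl⟩ : (f : A →ₐ[k] B).range), rfl⟩
  antipode_mem := by
    rintro _ ⟨a, rfl⟩
    exact ⟨HopfAlgebra.antipode k a, (antipode_bialgHom f a).symm⟩

/-- the target is faithfully flat over the image, finitely generated case -/
theorem faithfullyFlat_range [Algebra.FiniteType k A] [Algebra.FiniteType k B] :
    ((f : A →ₐ[k] B).range.val : (f : A →ₐ[k] B).range →+* B).FaithfullyFlat := by
  set C := (f : A →ₐ[k] B).range with hC
  have hCH : IsHopfSub C := range_isHopfSub f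
  have hft : Algebra.FiniteType k ↥C := by
    rw [← Subalgebra.fg_iff_finiteType, hC, ← Algebra.map_top]
    exact Subalgebra.FG.map _ Algebra.FiniteType.out
  letI := hopfAlgebra C hCH
  haveI : Algebra.FiniteType k ↥C := hft
  exact faithfullyFlat_of_finiteType (valBialgHom C hCH) (valBialgHom_injective C hCH)

end Groth.Agent.Lib.Helper28.TakRange
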