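/-
Helper28 library (Takeuchi program, part 16): finitely generated Hopf subalgebras.
Every finite subset of a Hopf subalgebra `B` of a commutative Hopf algebra over a field lies in a
finitely generated Hopf subalgebra contained in `B`.  (Universe-polymorphic port and extension of
helper19's `HopfSub.exists_fg_hopfSubalgebra`.)
-/
import Groth.Agent.Lib.Helper28.TakRange
import Groth.Agent.Lib.Helper19.Coalg2
import Groth.Agent.Lib.Helper25.HopfLib

set_option autoImplicit false
universe u v
open TensorProduct WithConv

namespace Groth.Agent.Lib.Helper28.TakFGSub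

open Groth.Agent.Lib.Helper19.Reynolds Groth.Agent.Lib.Helper19.Coalg
  Groth.Agent.Lib.Helper28.TakSubalg Groth.Agent.Lib.Helper28.TakShear
  Groth.Agent.Lib.Helper28.TakSub

section Antipode

variable {k : Type u} [CommRing k] {A : Type v} [CommRing A] [HopfAlgebra k A]

theorem antipode_antipode (a : A) :
    HopfAlgebra.antipode k (HopfAlgebra.antipode k a) = a := by
  have h1 : toConv ((HopfAlgebra.antipodeAlgHom k A).comp (HopfAlgebra.antipodeAlgHom k A)) *
      toConv (HopfAlgebra.antipodeAlgHom k A) = 1 := convInv_mul (HopfAlgebra.antipodeAlgHom k A)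
  have h2 : toConv (HopfAlgebra.antipodeAlgHom k A) * toConv (AlgHom.id k A) = 1 :=
    AlgHom.antipode_id_cancel
  have h3 := left_inv_eq_right_inv h1 h2
  exact congrArg (fun f : WithConv (A →ₐ[k] A) => f.ofConv a) h3

end Antipode

section Main

variable {k : Type u} [Field k] {A : Type v} [CommRing A] [HopfAlgebra k A]

/-- membership in the range of `D ⊗ D → A ⊗ A` in terms of the algebra map -/
lemma mem_range_iff (D : Subalgebra k A) (z : A ⊗[k] A) :
    z ∈ (Algebra.TensorProduct.map D.val D.val).range ↔
      z ∈ LinearMap.range (TensorProduct.map D.val.toLinearMap D.val.toLinearMap) := by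
  constructor
  · rintro ⟨y, rfl⟩
    exact ⟨y, rfl⟩
  · rintro ⟨y, rfl⟩
    exact ⟨y, rfl⟩

lemma range_mono {D₁ D₂ : Subalgebra k A} (h : D₁ ≤ D₂) :
    (Algebra.TensorProduct.map D₁.val D₁.val).range ≤
      (Algebra.TensorProduct.map D₂.val D₂.val).range := by
  rintro _ ⟨y, rfl⟩
  refine ⟨Algebra.TensorProduct.map (Subalgebra.inclusion h) (Subalgebra.inclusion h) y, ?_⟩
  induction y using TensorProduct.induction_on with
  | zero => simp
  | add y z hy hz => simp only [map_add, hy, hz]
  | tmul a b => rfl

/-- the subalgebra generated by a set which is "closed" under comultiplication and antipode is a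
Hopf subalgebra -/
theorem isHopfSub_of_le (D : Subalgebra k A) (G : Set A) (hG : D = Algebra.adjoin k G)
    (h1 : ∀ a ∈ G, Coalgebra.comul (R := k) a ∈ (Algebra.TensorProduct.map D.val D.val).range)
    (h2 : ∀ a ∈ G, HopfAlgebra.antipode k a ∈ D) : IsHopfSub D where
  comul_mem := by
    have hle : D ≤ (Algebra.TensorProduct.map D.val D.val).range.comap
        (Bialgebra.comulAlgHom k A) := by
      rw [hG]
      apply Algebra.adjoin_le
      intro a ha
      have := h1 a ha
      rw [hG] at this
      exact this
    intro b hb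
    exact (mem_range_iff D _).1 (hle hb)
  antipode_mem := by
    have hle : D ≤ D.comap (HopfAlgebra.antipodeAlgHom k A) := by
      conv_lhs => rw [hG]
      apply Algebra.adjoin_le
      intro a ha
      exact h2 a ha
    intro b hb
    exact hle hb

/-- the supremum of two Hopf subalgebras is a Hopf subalgebra -/
theorem isHopfSub_sup {D₁ D₂ : Subalgebra k A} (h₁ : IsHopfSub D₁) (h₂ : IsHopfSub D₂) :
    IsHopfSub (D₁ ⊔ D₂) := by
  apply isHopfSub_of_le (D₁ ⊔ D₂) ((D₁ : Set A) ∪ (D₂ : Set A))
  · rw [Algebra.adjoin_union, Algebra.adjoin_eq, Algebra.adjoin_eq]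
  · rintro a (ha | ha)
    · exact range_mono le_sup_left ((mem_range_iff D₁ _).2 (h₁.comul_mem a ha))
    · exact range_mono le_sup_right ((mem_range_iff D₂ _).2 (h₂.comul_mem a ha))
  · rintro a (ha | ha)
    · exact (le_sup_left : D₁ ≤ D₁ ⊔ D₂) (h₁.antipode_mem a ha)
    · exact (le_sup_right : D₂ ≤ D₁ ⊔ D₂) (h₂.antipode_mem a ha)

theorem isHopfSub_bot : IsHopfSub (⊥ : Subalgebra k A) := by
  apply isHopfSub_of_le ⊥ ∅
  · exact (Algebra.adjoin_empty k A).symm
  · intro a ha
    exact absurd ha (Set.notMem_empty a)
  · intro a ha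
    exact absurd ha (Set.notMem_empty a)

/-- every element lies in a finitely generated Hopf subalgebra -/
theorem exists_fg_hopfSub_mem (x : A) :
    ∃ B : Subalgebra k A, x ∈ B ∧ B.FG ∧ IsHopfSub B := by
  classical
  -- a finite-dimensional subcoalgebra containing x
  let E : Submodule k A := gen (K := k) (C := A) (V := A) x
  have hE : HopfRep.IsSubcomod (k := k) (A := A) E := isSubcomod_gen x
  haveI : FiniteDimensional k E := finiteDimensional_gen x
  let D : Submodule k A := cfS (C := A) (V := A) E
  have hD : IsSubcoalg D := isSubcoalg_cfS E hE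
  have hxD : x ∈ D := le_cfS_regular E (mem_gen x)
  haveI hDfin : FiniteDimensional k D := finiteDimensional_cfS E
  let S : A →ₗ[k] A := HopfAlgebra.antipode k
  let G : Set A := (D : Set A) ∪ S '' (D : Set A)
  let B : Subalgebra k A := Algebra.adjoin k G
  have hGB : G ⊆ B := Algebra.subset_adjoin
  have hDB : ∀ d ∈ D, d ∈ B := fun d hd => hGB (Or.inl hd)
  have hSDB : ∀ d ∈ D, S d ∈ B := fun d hd => hGB (Or.inr ⟨d, hd, rfl⟩)
  refine ⟨B, hDB x hxD, ?_, ?_⟩
  · -- finitely generated
    obtain ⟨t', hspan⟩ := (Submodule.fg_iff_finiteDimensional D).mpr hDfin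
    refine ⟨t' ∪ t'.image S, ?_⟩
    apply le_antisymm
    · apply Algebra.adjoin_mono
      intro a ha
      rw [Finset.mem_coe, Finset.mem_union, Finset.mem_image] at ha
      rcases ha with ha | ⟨b, hb, rfl⟩
      · exact Or.inl (hspan ▸ Submodule.subset_span (Finset.mem_coe.mpr ha))
      · exact Or.inr ⟨b, hspan ▸ Submodule.subset_span (Finset.mem_coe.mpr hb), rfl⟩
    · apply Algebra.adjoin_le
      have h1 : ∀ d ∈ D, d ∈ Algebra.adjoin k ((t' ∪ t'.image S : Finset A) : Set A) := by
        intro d hd
        rw [← hspan] at hd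
        induction hd using Submodule.span_induction with
        | mem a ha => exact Algebra.subset_adjoin (by simp [ha])
        | zero => exact Subalgebra.zero_mem _
        | add a b _ _ ha hb => exact Subalgebra.add_mem _ ha hb
        | smul c a _ ha => exact Subalgebra.smul_mem _ ha c
      have h2 : ∀ d ∈ D, S d ∈ Algebra.adjoin k ((t' ∪ t'.image S : Finset A) : Set A) := by
        intro d hd
        rw [← hspan] at hd
        induction hd using Submodule.span_induction with
        | mem a ha =>
          exact Algebra.subset_adjoin (by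
            rw [Finset.mem_coe, Finset.mem_union, Finset.mem_image]
            exact Or.inr ⟨a, Finset.mem_coe.mp ha, rfl⟩)
        | zero => rw [map_zero]; exact Subalgebra.zero_mem _
        | add a b _ _ ha hb => rw [map_add]; exact Subalgebra.add_mem _ ha hb
        | smul c a _ ha => rw [map_smul]; exact Subalgebra.smul_mem _ ha c
      rintro a (ha | ⟨d, hd, rfl⟩)
      · exact h1 a ha
      · exact h2 d hd
  · apply isHopfSub_of_le B G rfl
    · rintro a (ha | ⟨d, hd, rfl⟩)
      · -- a ∈ D
        rw [mem_range_iff]
        obtain ⟨y, hy⟩ := hD a ha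
        have hfac : ∀ y : D ⊗[k] D, TensorProduct.map D.subtype D.subtype y ∈
            LinearMap.range (TensorProduct.map B.val.toLinearMap B.val.toLinearMap) := by
          intro y
          induction y using TensorProduct.induction_on with
          | zero => rw [map_zero]; exact Submodule.zero_mem _
          | tmul d₁ d₂ =>
            exact ⟨(⟨d₁, hDB _ d₁.2⟩ : B) ⊗ₜ[k] (⟨d₂, hDB _ d₂.2⟩ : B), rfl⟩
          | add y z hy hz => rw [map_add]; exact Submodule.add_mem _ hy hz
        have := hfac y
        rw [hy] at this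
        exact this
      · rw [mem_range_iff]
        obtain ⟨y, hy⟩ := hD d hd
        have hfac : ∀ y : D ⊗[k] D,
            TensorProduct.map S S (TensorProduct.comm k A A
              (TensorProduct.map D.subtype D.subtype y)) ∈
            LinearMap.range (TensorProduct.map B.val.toLinearMap B.val.toLinearMap) := by
          intro y
          induction y using TensorProduct.induction_on with
          | zero => simp only [map_zero]; exact Submodule.zero_mem _
          | tmul d₁ d₂ =>
            exact ⟨(⟨S d₂, hSDB _ d₂.2⟩ : B) ⊗ₜ[k] (⟨S d₁, hSDB _ d₁.2⟩ : B), rfl⟩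
          | add y z hy hz => simp only [map_add]; exact Submodule.add_mem _ hy hz
        have := hfac y
        rw [hy] at this
        have hca := Groth.Agent.Lib.Helper25.HopfLib.comul_antipode (k := k) d
        show Coalgebra.comul (R := k) (HopfAlgebra.antipode k d) ∈ _
        rw [hca]
        exact this
    · rintro a (ha | ⟨d, hd, rfl⟩)
      · exact hSDB a ha
      · show HopfAlgebra.antipode k (HopfAlgebra.antipode k d) ∈ B
        rw [antipode_antipode]
        exact hDB d hd

/-- every finite set lies in a finitely generated Hopf subalgebra -/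
theorem exists_fg_hopfSub_finset (s : Finset A) :
    ∃ B : Subalgebra k A, (s : Set A) ⊆ B ∧ B.FG ∧ IsHopfSub B := by
  classical
  induction s using Finset.induction_on with
  | empty => exact ⟨⊥, by simp, Subalgebra.fg_bot, isHopfSub_bot⟩
  | insert x s _ ih =>
    obtain ⟨B₁, h1, h2, h3⟩ := ih
    obtain ⟨B₂, g1, g2, g3⟩ := exists_fg_hopfSub_mem (k := k) x
    refine ⟨B₁ ⊔ B₂, ?_, h2.sup g2, isHopfSub_sup h3 g3⟩
    intro a ha
    rw [Finset.coe_insert, Set.mem_insert_iff] at ha
    rcases ha with rfl | ha
    · exact (le_sup_right : B₂ ≤ B₁ ⊔ B₂) g1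
    · exact (le_sup_left : B₁ ≤ B₁ ⊔ B₂) (h1 ha)

end Main

end Groth.Agent.Lib.Helper28.TakFGSub
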