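/-
Helper28 library (Takeuchi program, part 17): **Takeuchi's theorem**.  A commutative Hopf algebra
over a field is faithfully flat over every Hopf subalgebra.
-/
import Groth.Agent.Lib.Helper28.TakFGSub

set_option autoImplicit false
universe u v
open TensorProduct

namespace Groth.Agent.Lib.Helper28.TakMain

open Groth.Agent.Lib.Helper28.TakSubalg Groth.Agent.Lib.Helper28.TakSub
  Groth.Agent.Lib.Helper28.TakFGSub Groth.Agent.Lib.Helper28.TakFG

variable {k : Type u} [Field k] {A : Type v} [CommRing A] [HopfAlgebra k A]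

/-- the image in `A` of a Hopf subalgebra of the Hopf algebra `↥B` -/
theorem isHopfSub_map (B : Subalgebra k A) (hB : IsHopfSub B) (D' : Subalgebra k ↥B)
    (hD' : letI := hopfAlgebra B hB; IsHopfSub D') : IsHopfSub (D'.map B.val) := by
  letI := hopfAlgebra B hB
  let e : ↥D' →ₗ[k] ↥(D'.map B.val) :=
    { toFun := fun d => ⟨B.val d.1, d.1, d.2, rfl⟩
      map_add' := fun _ _ => rfl
      map_smul' := fun _ _ => rfl }
  constructor
  · rintro _ ⟨d, hd, rfl⟩
    obtain ⟨y, hy⟩ := hD'.comul_mem d hd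
    have h1 : Coalgebra.comul (R := k) (B.val d) =
        ii B.val (Coalgebra.comul (R := k) d) :=
      (ii_comulB B.val Subtype.val_injective (hΔ_of B hB) d).symm
    show Coalgebra.comul (R := k) (B.val d) ∈ _
    rw [h1, ← hy]
    refine ⟨TensorProduct.map e e y, ?_⟩
    clear hy
    induction y using TensorProduct.induction_on with
    | zero => simp
    | add y z hy hz => simp only [map_add, hy, hz]
    | tmul a b => rfl
  · rintro _ ⟨d, hd, rfl⟩
    have h1 : HopfAlgebra.antipode k (B.val d) = B.val (HopfAlgebra.antipode k d) :=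
      (ι_antipodeB B.val Subtype.val_injective (hS_of B hB) d).symm
    show HopfAlgebra.antipode k (B.val d) ∈ _
    rw [h1]
    exact ⟨_, hD'.antipode_mem d hd, rfl⟩

/-- finite subsets of a Hopf subalgebra `B` lie in finitely generated Hopf subalgebras inside
`B` -/
theorem exists_fg_hopfSub_le (B : Subalgebra k A) (hB : IsHopfSub B) (s : Finset A)
    (hs : (s : Set A) ⊆ B) :
    ∃ D : Subalgebra k A, D ≤ B ∧ (s : Set A) ⊆ D ∧ D.FG ∧ IsHopfSub D := by
  classical
  letI := hopfAlgebra B hB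
  let s' : Finset ↥B := s.attach.image (fun x => ⟨x.1, hs x.2⟩)
  obtain ⟨D', h1, h2, h3⟩ := exists_fg_hopfSub_finset (k := k) (A := ↥B) s'
  refine ⟨D'.map B.val, ?_, ?_, h2.map _, isHopfSub_map B hB D' h3⟩
  · rintro _ ⟨d, _, rfl⟩
    exact d.2
  · intro a ha
    refine ⟨⟨a, hs ha⟩, h1 ?_, rfl⟩
    rw [Finset.mem_coe, Finset.mem_image]
    exact ⟨⟨a, ha⟩, Finset.mem_attach _ _, rfl⟩

/-- faithful flatness for an inclusion of finitely generated Hopf subalgebras -/
theorem inclusion_faithfullyFlat (B₀ A₀ : Subalgebra k A) (hB₀ : IsHopfSub B₀)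
    (hA₀ : IsHopfSub A₀) (h : B₀ ≤ A₀) (fgB : B₀.FG) (fgA : A₀.FG) :
    (Subalgebra.inclusion h).toRingHom.FaithfullyFlat := by
  letI iB := hopfAlgebra B₀ hB₀
  letI iA := hopfAlgebra A₀ hA₀
  haveI : Algebra.FiniteType k ↥B₀ := (Subalgebra.fg_iff_finiteType B₀).1 fgB
  haveI : Algebra.FiniteType k ↥A₀ := (Subalgebra.fg_iff_finiteType A₀).1 fgA
  let j : ↥B₀ →ₐc[k] ↥A₀ := BialgHom.ofAlgHom (Subalgebra.inclusion h) rfl (by
    ext b
    apply ii_injective A₀.val Subtype.val_injective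
    have hR : ii A₀.val (Coalgebra.comul (R := k) (Subalgebra.inclusion h b)) =
        Coalgebra.comul (R := k) ((b : A)) :=
      ii_comulB A₀.val Subtype.val_injective (hΔ_of A₀ hA₀) (Subalgebra.inclusion h b)
    have hL : ii B₀.val (Coalgebra.comul (R := k) b) = Coalgebra.comul (R := k) ((b : A)) :=
      ii_comulB B₀.val Subtype.val_injective (hΔ_of B₀ hB₀) b
    show ii A₀.val ((Algebra.TensorProduct.map (Subalgebra.inclusion h) (Subalgebra.inclusion h))
      (Coalgebra.comul (R := k) b)) = ii A₀.val (Coalgebra.comul (R := k)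
        (Subalgebra.inclusion h b))
    rw [hR, ← hL]
    generalize Coalgebra.comul (R := k) b = t
    induction t using TensorProduct.induction_on with
    | zero => simp
    | add y z hy hz => simp only [map_add, hy, hz]
    | tmul a b => rfl)
  exact faithfullyFlat_of_finiteType j (Subalgebra.inclusion_injective h)

/-- **Takeuchi's theorem.** -/
theorem faithfullyFlat_of_isHopfSub (B : Subalgebra k A) (hB : IsHopfSub B) :
    Module.FaithfullyFlat ↥B A := by
  classical
  -- a common refinement step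
  have key : ∀ (sB sA : Finset A), (sB : Set A) ⊆ B →
      ∃ (B₀ A₀ : Subalgebra k A) (h : B₀ ≤ A₀), B₀ ≤ B ∧ (sB : Set A) ⊆ B₀ ∧ (sA : Set A) ⊆ A₀ ∧
        (Subalgebra.inclusion h).toRingHom.FaithfullyFlat := by
    intro sB sA hsB
    obtain ⟨B₀, hB₀B, hsB₀, fgB₀, hHB₀⟩ := exists_fg_hopfSub_le B hB sB hsB
    obtain ⟨A₁, hsA₁, fgA₁, hHA₁⟩ := exists_fg_hopfSub_finset (k := k) sA
    refine ⟨B₀, B₀ ⊔ A₁, le_sup_left, hB₀B, hsB₀, fun a ha => (le_sup_right : A₁ ≤ B₀ ⊔ A₁) (hsA₁ ha),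
      inclusion_faithfullyFlat B₀ (B₀ ⊔ A₁) hHB₀ (isHopfSub_sup hHB₀ hHA₁) le_sup_left fgB₀
        (fgB₀.sup fgA₁)⟩
  have hflat : Module.Flat ↥B A := by
    rw [Module.Flat.iff_forall_isTrivialRelation]
    intro l f x hfx
    obtain ⟨B₀, A₀, h, hB₀B, hsB₀, hsA₀, hff⟩ := key (Finset.univ.image (fun i => (f i : A)))
      (Finset.univ.image x) (by
        intro a ha
        rw [Finset.mem_coe, Finset.mem_image] at ha
        obtain ⟨i, _, rfl⟩ := ha
        exact (f i).2)
    letI : Algebra ↥B₀ ↥A₀ := (Subalgebra.inclusion h).toRingHom.toAlgebra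
    haveI : Module.FaithfullyFlat ↥B₀ ↥A₀ := hff
    have hfB₀ : ∀ i, (f i : A) ∈ B₀ := fun i => hsB₀ (by
      rw [Finset.mem_coe, Finset.mem_image]; exact ⟨i, Finset.mem_univ _, rfl⟩)
    have hxA₀ : ∀ i, x i ∈ A₀ := fun i => hsA₀ (by
      rw [Finset.mem_coe, Finset.mem_image]; exact ⟨i, Finset.mem_univ _, rfl⟩)
    let f₀ : Fin l → ↥B₀ := fun i => ⟨f i, hfB₀ i⟩
    let x₀ : Fin l → ↥A₀ := fun i => ⟨x i, hxA₀ i⟩
    have hsmul : ∀ (b : ↥B₀) (a : ↥A₀), ((b • a : ↥A₀) : A) = (b : A) * (a : A) := fun _ _ => rfl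
    have h0 : ∑ i, f₀ i • x₀ i = 0 := by
      apply Subtype.val_injective
      rw [← Subalgebra.coe_val, map_sum]
      simp only [Subalgebra.coe_val, hsmul]
      rw [ZeroMemClass.coe_zero, ← hfx]
      rfl
    obtain ⟨κ, a, y, hxy, hfa⟩ := Module.Flat.iff_forall_isTrivialRelation.1
      (inferInstance : Module.Flat ↥B₀ ↥A₀) h0
    refine ⟨κ, fun i j => ⟨(a i j : A), hB₀B (a i j).2⟩, fun j => (y j : A), ?_, ?_⟩
    · intro i
      have h1 := congrArg (fun z : ↥A₀ => (z : A)) (hxy i)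
      beta_reduce at h1
      rw [← Subalgebra.coe_val, map_sum] at h1
      simp only [Subalgebra.coe_val, hsmul] at h1
      exact h1
    · intro j
      have h1 := congrArg (fun z : ↥B₀ => (z : A)) (hfa j)
      beta_reduce at h1
      rw [← Subalgebra.coe_val, map_sum] at h1
      apply Subtype.val_injective
      rw [← Subalgebra.coe_val, map_sum]
      simpa using h1
  refine ⟨fun m hm htop => ?_⟩
  have h1 : (1 : A) ∈ m.map (algebraMap ↥B A) := by
    have : (1 : A) ∈ m • (⊤ : Submodule ↥B A) := by rw [htop]; exact Submodule.mem_top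
    rw [Ideal.smul_top_eq_map] at this
    exact this
  rw [Ideal.map, Ideal.span, Submodule.mem_span_set'] at h1
  obtain ⟨n, c, g, hcg⟩ := h1
  choose mm hmm hmg using fun i => (g i).2
  obtain ⟨B₀, A₀, h, hB₀B, hsB₀, hsA₀, hff⟩ := key (Finset.univ.image (fun i => ((mm i : ↥B) : A)))
    (Finset.univ.image c) (by
      intro a ha
      rw [Finset.mem_coe, Finset.mem_image] at ha
      obtain ⟨i, _, rfl⟩ := ha
      exact (mm i).2)
  letI : Algebra ↥B₀ ↥A₀ := (Subalgebra.inclusion h).toRingHom.toAlgebra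
  haveI : Module.FaithfullyFlat ↥B₀ ↥A₀ := hff
  have hmB₀ : ∀ i, ((mm i : ↥B) : A) ∈ B₀ := fun i => hsB₀ (by
    rw [Finset.mem_coe, Finset.mem_image]; exact ⟨i, Finset.mem_univ _, rfl⟩)
  have hcA₀ : ∀ i, c i ∈ A₀ := fun i => hsA₀ (by
    rw [Finset.mem_coe, Finset.mem_image]; exact ⟨i, Finset.mem_univ _, rfl⟩)
  let I₀ : Ideal ↥B₀ := m.comap (Subalgebra.inclusion hB₀B)
  have hI₀ : I₀ ≠ ⊤ := by
    intro htop'
    have : (1 : ↥B₀) ∈ I₀ := by rw [htop']; exact Submodule.mem_top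
    rw [Ideal.mem_comap, map_one] at this
    exact hm.ne_top ((Ideal.eq_top_iff_one m).2 this)
  have h2 : I₀.map (algebraMap ↥B₀ ↥A₀) = ⊤ := by
    rw [Ideal.eq_top_iff_one]
    have h3 : (1 : ↥A₀) = ∑ i, (⟨c i, hcA₀ i⟩ : ↥A₀) *
        algebraMap ↥B₀ ↥A₀ ⟨((mm i : ↥B) : A), hmB₀ i⟩ := by
      apply Subtype.val_injective
      rw [← Subalgebra.coe_val, map_sum, map_one, ← hcg]
      apply Finset.sum_congr rfl
      intro i _
      rw [← hmg i]
      rfl
    rw [h3]
    apply Ideal.sum_mem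
    intro i _
    apply Ideal.mul_mem_left
    apply Ideal.mem_map_of_mem
    show Subalgebra.inclusion hB₀B ⟨((mm i : ↥B) : A), hmB₀ i⟩ ∈ m
    have : Subalgebra.inclusion hB₀B ⟨((mm i : ↥B) : A), hmB₀ i⟩ = mm i := Subtype.ext rfl
    rw [this]
    exact hmm i
  have h4 := Ideal.comap_map_eq_self_of_faithfullyFlat (B := ↥A₀) I₀
  rw [h2, Ideal.comap_top] at h4
  exact hI₀ h4.symm

end Groth.Agent.Lib.Helper28.TakMain
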