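/-
Helper28 library (Takeuchi program, part 18): applications of faithful flatness.
-/
import Groth.Agent.Lib.Helper28.TakMain

set_option autoImplicit false
universe u v w
open TensorProduct

namespace Groth.Agent.Lib.Helper28.TakApps

open Groth.Agent.Lib.Helper28.TakSubalg Groth.Agent.Lib.Helper28.TakMain
  Groth.Agent.Lib.Helper28.TakFG Groth.Agent.Lib.Helper28.TakRange
  Groth.Agent.Lib.Helper28.TakTrans Groth.Agent.Lib.Helper28.TakFGSub

section Dvd

variable {R : Type u} {S : Type v} [CommRing R] [CommRing S]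

/-- divisibility descends along faithfully flat maps -/
theorem dvd_of_faithfullyFlat [Algebra R S] [Module.FaithfullyFlat R S] {a c : R}
    (h : algebraMap R S c ∣ algebraMap R S a) : c ∣ a := by
  have h1 := Ideal.comap_map_eq_self_of_faithfullyFlat (B := S) (Ideal.span {c})
  have h2 : a ∈ (Ideal.map (algebraMap R S) (Ideal.span {c})).comap (algebraMap R S) := by
    rw [Ideal.mem_comap, Ideal.map_span, Set.image_singleton, Ideal.mem_span_singleton]
    exact h
  rw [h1, Ideal.mem_span_singleton] at h2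
  exact h2

theorem dvd_of_ringHom_faithfullyFlat {f : R →+* S} (hf : f.FaithfullyFlat) {a c : R}
    (h : f c ∣ f a) : c ∣ a := by
  algebraize [f]
  exact dvd_of_faithfullyFlat (S := S) h

end Dvd

section Epi

variable {k : Type u} [Field k] {A' : Type v} {A : Type w} [CommRing A'] [CommRing A]
  [HopfAlgebra k A'] [HopfAlgebra k A] (φ : A' →ₐc[k] A)

/-- a bialgebra map of commutative Hopf algebras over a field for which the two canonical maps
`A ⇉ A ⊗[φ(A')] A` coincide is surjective -/
theorem surjective_of_tmul_eq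
    (h : ∀ a : A, (a ⊗ₜ[(φ : A' →ₐ[k] A).range] (1 : A)) = (1 : A) ⊗ₜ[(φ : A' →ₐ[k] A).range] a) :
    Function.Surjective φ := by
  set C := (φ : A' →ₐ[k] A).range with hC
  haveI : Module.FaithfullyFlat ↥C A := faithfullyFlat_of_isHopfSub C (range_isHopfSub φ)
  have hsurj : Function.Surjective ((Algebra.linearMap ↥C A).lTensor A) := by
    intro z
    induction z using TensorProduct.induction_on with
    | zero => exact ⟨0, map_zero _⟩
    | add y z hy hz =>
      obtain ⟨y', rfl⟩ := hy
      obtain ⟨z', rfl⟩ := hz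
      exact ⟨y' + z', map_add _ _ _⟩
    | tmul x y =>
      refine ⟨(x * y) ⊗ₜ[↥C] (1 : ↥C), ?_⟩
      rw [LinearMap.lTensor_tmul]
      show (x * y) ⊗ₜ[↥C] ((1 : ↥C) : A) = x ⊗ₜ[↥C] y
      have e1 : x ⊗ₜ[↥C] y = (x ⊗ₜ[↥C] (1 : A)) * ((1 : A) ⊗ₜ[↥C] y) := by
        rw [Algebra.TensorProduct.tmul_mul_tmul, mul_one, one_mul]
      rw [e1, ← h y, Algebra.TensorProduct.tmul_mul_tmul, mul_one]
      rfl
  have h2 : Function.Surjective (Algebra.linearMap ↥C A) :=
    (Module.FaithfullyFlat.lTensor_surjective_iff_surjective ↥C A _).1 hsurj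
  intro a
  obtain ⟨c, hc⟩ := h2 a
  obtain ⟨a', ha'⟩ := c.2
  exact ⟨a', ha'.trans hc⟩

/-- a bialgebra map of commutative Hopf algebras over a field which is an epimorphism of
commutative rings is surjective -/
theorem surjective_of_epi
    (hepi : ∀ f g : A →+* A ⊗[(φ : A' →ₐ[k] A).range] A,
      f.comp (φ : A' →+* A) = g.comp (φ : A' →+* A) → f = g) :
    Function.Surjective φ := by
  apply surjective_of_tmul_eq φ
  intro a
  have h := hepi
    (Algebra.TensorProduct.includeLeft :
      A →ₐ[(φ : A' →ₐ[k] A).range] A ⊗[(φ : A' →ₐ[k] A).range] A).toRingHom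
    (Algebra.TensorProduct.includeRight :
      A →ₐ[(φ : A' →ₐ[k] A).range] A ⊗[(φ : A' →ₐ[k] A).range] A).toRingHom
    (by
      ext a'
      show (φ a') ⊗ₜ[(φ : A' →ₐ[k] A).range] (1 : A) = (1 : A) ⊗ₜ[(φ : A' →ₐ[k] A).range] (φ a')
      have e : φ a' = (⟨φ a', a', rfl⟩ : (φ : A' →ₐ[k] A).range) • (1 : A) := by
        rw [Algebra.smul_def, mul_one]; rfl
      conv_lhs => rw [e]
      conv_rhs => rw [e]
      rw [TensorProduct.smul_tmul])
  exact congrArg (fun F : A →+* A ⊗[(φ : A' →ₐ[k] A).range] A => F a) h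

end Epi

section Points

variable {k : Type u} [Field k] {A : Type v} {B : Type w} [CommRing A] [CommRing B]
  [HopfAlgebra k A] [HopfAlgebra k B] [Algebra.FiniteType k A] [Algebra.FiniteType k B]

/-- geometric points lift along injective bialgebra maps (finitely generated case) -/
theorem exists_lift_point (ψ : B →ₐc[k] A) (hψ : Function.Injective ψ) (k' : Type*) [Field k']
    [IsAlgClosed k'] [Algebra k k'] (q : B →ₐ[k] k') :
    ∃ g : A →ₐ[k] k', g.comp (ψ : B →ₐ[k] A) = q := by
  have hff := faithfullyFlat_of_finiteType ψ hψ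
  letI : Algebra B A := (ψ : B →ₐ[k] A).toRingHom.toAlgebra
  letI : Algebra B k' := q.toRingHom.toAlgebra
  haveI : Module.FaithfullyFlat B A := hff
  haveI : IsScalarTower k B A := IsScalarTower.of_algebraMap_eq (fun c => by
    rw [RingHom.algebraMap_toAlgebra]
    exact ((ψ : B →ₐ[k] A).commutes c).symm)
  haveI : IsScalarTower k B k' := IsScalarTower.of_algebraMap_eq (fun c => by
    rw [RingHom.algebraMap_toAlgebra]
    exact (q.commutes c).symm)
  haveI : Algebra.FiniteType B A := Algebra.FiniteType.of_restrictScalars_finiteType k B A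
  haveI : Nontrivial (k' ⊗[B] A) :=
    (Module.FaithfullyFlat.nontrivial_tensorProduct_iff_left B k').2 inferInstance
  obtain ⟨M, hM⟩ := Ideal.exists_maximal (k' ⊗[B] A)
  obtain ⟨z, -⟩ := exists_point_of_isMaximal (K := k') M
  let g0 : A →+* k' := (z : k' ⊗[B] A →+* k').comp
    (Algebra.TensorProduct.includeRight : A →ₐ[B] k' ⊗[B] A).toRingHom
  have hg0 : ∀ b : B, g0 (ψ b) = q b := by
    intro b
    show z ((1 : k') ⊗ₜ[B] (algebraMap B A b)) = q b
    have e : ((1 : k') ⊗ₜ[B] (algebraMap B A b) : k' ⊗[B] A) = (q b) ⊗ₜ[B] (1 : A) := by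
      rw [Algebra.algebraMap_eq_smul_one, ← TensorProduct.smul_tmul, Algebra.smul_def, mul_one]
      rfl
    rw [e]
    have e2 : ((q b) ⊗ₜ[B] (1 : A) : k' ⊗[B] A) = algebraMap k' (k' ⊗[B] A) (q b) := rfl
    rw [e2, AlgHom.commutes]
    rfl
  refine ⟨{ g0 with commutes' := fun c => ?_ }, ?_⟩
  · show g0 (algebraMap k A c) = algebraMap k k' c
    have : algebraMap k A c = ψ (algebraMap k B c) := ((ψ : B →ₐ[k] A).commutes c).symm
    rw [this, hg0, AlgHom.commutes]
  · ext b
    exact hg0 b

end Points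

end Groth.Agent.Lib.Helper28.TakApps
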