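/-
Helper28 library (normal subgroups, part 1): the group of `R`-points of a commutative Hopf algebra,
points killing a Hopf ideal, normal Hopf ideals, and the Hopf subalgebra of coinvariants of a
normal Hopf ideal.
-/
import Groth.Agent.Lib.Helper28.TakApps
import Groth.Prelude.Def_SGA3

set_option autoImplicit false
universe u
open TensorProduct WithConv

namespace Groth.Agent.Lib.Helper28.NrmPts

open Groth.Agent.Lib.Helper28.TakShear Groth.Agent.Lib.Helper28.TakSubalg

section Grp

variable {k : Type u} [Field k] {A : Type u} [CommRing A] [HopfAlgebra k A]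
  {R : Type u} [CommRing R] [Algebra k R] {R' : Type u} [CommRing R'] [Algebra k R']

/-- the group of `R`-points -/
@[reducible] noncomputable def ptGroup : Group (WithConv (A →ₐ[k] R)) :=
  { (inferInstance : Monoid (WithConv (A →ₐ[k] R))) with
    inv := fun f => toConv (f.ofConv.comp (HopfAlgebra.antipodeAlgHom k A))
    inv_mul_cancel := fun f => convInv_mul f.ofConv }

attribute [local instance] ptGroup

lemma inv_apply (g : WithConv (A →ₐ[k] R)) (x : A) :
    (g⁻¹).ofConv x = g.ofConv (HopfAlgebra.antipode k x) := rfl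

lemma one_apply (x : A) : (1 : WithConv (A →ₐ[k] R)).ofConv x =
    algebraMap k R (Coalgebra.counit (R := k) x) := rfl

lemma mul_apply (g h : WithConv (A →ₐ[k] R)) (x : A) :
    (g * h).ofConv x = Algebra.TensorProduct.lmul' k
      (Algebra.TensorProduct.map g.ofConv h.ofConv (Coalgebra.comul (R := k) x)) := rfl

/-- push a point forward along an algebra map -/
noncomputable def push (φ : R →ₐ[k] R') (g : WithConv (A →ₐ[k] R)) : WithConv (A →ₐ[k] R') :=
  toConv (φ.comp g.ofConv)

lemma push_one (φ : R →ₐ[k] R') : push φ (1 : WithConv (A →ₐ[k] R)) = 1 := by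
  apply WithConv.ofConv_injective
  ext x
  show φ (algebraMap k R (Coalgebra.counit (R := k) x)) = algebraMap k R' _
  exact φ.commutes _

lemma push_mul (φ : R →ₐ[k] R') (g h : WithConv (A →ₐ[k] R)) :
    push φ (g * h) = push φ g * push φ h := by
  apply WithConv.ofConv_injective
  exact AlgHom.comp_convMul_distrib φ g h

lemma push_inv (φ : R →ₐ[k] R') (g : WithConv (A →ₐ[k] R)) :
    push φ g⁻¹ = (push φ g)⁻¹ := rfl

lemma push_apply (φ : R →ₐ[k] R') (g : WithConv (A →ₐ[k] R)) (x : A) :
    (push φ g).ofConv x = φ (g.ofConv x) := rfl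

lemma push_toConv (φ : R →ₐ[k] R') (g : A →ₐ[k] R) :
    push φ (toConv g) = toConv (φ.comp g) := rfl

end Grp

section Incl

variable {k : Type u} [Field k] {A : Type u} [CommRing A] [Bialgebra k A]
  {X : Type u} [CommRing X] [Algebra k X] {Y : Type u} [CommRing Y] [Algebra k Y]

/-- the product of a point into the left factor and a point into the right factor -/
lemma conv_incl (P : A →ₐ[k] X) (Q : A →ₐ[k] Y) :
    (toConv ((Algebra.TensorProduct.includeLeft : X →ₐ[k] X ⊗[k] Y).comp P) *
      toConv ((Algebra.TensorProduct.includeRight : Y →ₐ[k] X ⊗[k] Y).comp Q)).ofConv =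
      (Algebra.TensorProduct.map P Q).comp (Bialgebra.comulAlgHom k A) := by
  have e0 : (Algebra.TensorProduct.lmul' k).comp (Algebra.TensorProduct.map
      ((Algebra.TensorProduct.includeLeft : X →ₐ[k] X ⊗[k] Y).comp P)
      ((Algebra.TensorProduct.includeRight : Y →ₐ[k] X ⊗[k] Y).comp Q)) =
      Algebra.TensorProduct.map P Q := by
    ext <;> simp
  rw [AlgHom.convMul_def, ofConv_toConv, ofConv_toConv, ofConv_toConv, ← AlgHom.comp_assoc, e0]

end Incl

section Kills

variable {k : Type u} [Field k] {A : Type u} [CommRing A] [HopfAlgebra k A] (I : Ideal A)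
  {R : Type u} [CommRing R] [Algebra k R] {R' : Type u} [CommRing R'] [Algebra k R']

attribute [local instance] ptGroup

/-- the point `g` kills the ideal `I` -/
def Kills (g : WithConv (A →ₐ[k] R)) : Prop := ∀ a ∈ I, g.ofConv a = 0

variable {I}

lemma Kills.push {g : WithConv (A →ₐ[k] R)} (hg : Kills I g) (φ : R →ₐ[k] R') :
    Kills I (push φ g) := fun a ha => by
  rw [push_apply, hg a ha, map_zero]

lemma kills_mk : Kills I (toConv (Ideal.Quotient.mkₐ k I)) := fun a ha =>
  Ideal.Quotient.eq_zero_iff_mem.2 ha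

variable [I.IsHopfIdeal k]

lemma kills_one : Kills I (1 : WithConv (A →ₐ[k] R)) := fun a ha => by
  rw [one_apply, Submodule.IsCoideal.counit_eq_zero (I := I.restrictScalars k) ha, map_zero]

lemma Kills.inv {g : WithConv (A →ₐ[k] R)} (hg : Kills I g) : Kills I g⁻¹ := fun a ha => by
  rw [inv_apply]
  exact hg _ (Ideal.IsHopfIdeal.antipode_mem (R := k) ha)

lemma Kills.mul {g h : WithConv (A →ₐ[k] R)} (hg : Kills I g) (hh : Kills I h) :
    Kills I (g * h) := fun a ha => by
  rw [mul_apply]
  let J : Submodule k A := I.restrictScalars k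
  let gb : A ⧸ J →ₗ[k] R := J.liftQ g.ofConv.toLinearMap (fun x hx => hg x hx)
  let hb : A ⧸ J →ₗ[k] R := J.liftQ h.ofConv.toLinearMap (fun x hx => hh x hx)
  have key : ∀ t : A ⊗[k] A, Algebra.TensorProduct.map g.ofConv h.ofConv t =
      TensorProduct.map gb hb (TensorProduct.map J.mkQ J.mkQ t) := by
    intro t
    induction t using TensorProduct.induction_on with
    | zero => simp
    | add y z hy hz => simp only [map_add, hy, hz]
    | tmul a b => rfl
  have h0 : TensorProduct.map J.mkQ J.mkQ (Coalgebra.comul (R := k) a) = 0 :=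
    Submodule.IsCoideal.map_mkQ_comul_eq_zero (I := I.restrictScalars k) ha
  rw [key, h0, map_zero, map_zero]

end Kills

section Normal

variable (k : Type u) [Field k] {A : Type u} [CommRing A] [HopfAlgebra k A] (I : Ideal A)

attribute [local instance] ptGroup

/-- normality in terms of the group of points -/
def IsNormal : Prop :=
  ∀ (R : Type u) [CommRing R] [Algebra k R] (g h : WithConv (A →ₐ[k] R)), Kills I h →
    Kills I (g * h * g⁻¹)

variable {k} in
lemma conv3_eq {R : Type u} [CommRing R] [Algebra k R] (f g h : A →ₐ[k] R) :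
    Dyn.conv3 k A f g h = (toConv f * toConv g * toConv h).ofConv := by
  rw [AlgHom.convMul_def, AlgHom.convMul_def]
  simp only [ofConv_toConv]
  unfold Dyn.conv3
  have e : Algebra.TensorProduct.map ((Algebra.TensorProduct.lmul' (S := R) k).comp
      ((Algebra.TensorProduct.map f g).comp (Bialgebra.comulAlgHom k A))) h =
      (Algebra.TensorProduct.map ((Algebra.TensorProduct.lmul' (S := R) k).comp
        (Algebra.TensorProduct.map f g)) h).comp
      (Algebra.TensorProduct.map (Bialgebra.comulAlgHom k A) (AlgHom.id k A)) := by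
    rw [← Algebra.TensorProduct.map_comp, AlgHom.comp_id]
    rfl
  rw [e]
  rfl

theorem isNormal_of_sga3 (h : SGA3.IsNormalHopfIdeal k A I) : IsNormal k I := by
  intro R _ _ g n hn a ha
  have h1 := h R g.ofConv n.ofConv hn a ha
  rw [conv3_eq] at h1
  exact h1

theorem sga3_of_isNormal (h : IsNormal k I) : SGA3.IsNormalHopfIdeal k A I := by
  intro R _ _ g n hn a ha
  rw [conv3_eq]
  exact h R (toConv g) (toConv n) hn a ha

end Normal

section Coinv

variable (k : Type u) [Field k] {A : Type u} [CommRing A] [HopfAlgebra k A] (I : Ideal A)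
  [I.IsHopfIdeal k]

attribute [local instance] ptGroup

/-- the right coaction of `A ⧸ I` on `A` -/
noncomputable def rhoI : A →ₐ[k] A ⊗[k] (A ⧸ I) :=
  (Algebra.TensorProduct.map (AlgHom.id k A) (Ideal.Quotient.mkₐ k I)).comp
    (Bialgebra.comulAlgHom k A)

/-- the subalgebra of right coinvariants of `A ⧸ I` -/
noncomputable def coinv : Subalgebra k A :=
  AlgHom.equalizer (rhoI k I) (Algebra.TensorProduct.includeLeft : A →ₐ[k] A ⊗[k] (A ⧸ I))

lemma mem_coinv {x : A} : x ∈ coinv k I ↔ rhoI k I x = x ⊗ₜ[k] (1 : A ⧸ I) := Iff.rfl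

/-- the universal point of `G` over `A ⊗ A/I` -/
noncomputable def gU : WithConv (A →ₐ[k] A ⊗[k] (A ⧸ I)) :=
  toConv (Algebra.TensorProduct.includeLeft : A →ₐ[k] A ⊗[k] (A ⧸ I))

/-- the universal point of `N` over `A ⊗ A/I` -/
noncomputable def nU : WithConv (A →ₐ[k] A ⊗[k] (A ⧸ I)) :=
  toConv ((Algebra.TensorProduct.includeRight : A ⧸ I →ₐ[k] A ⊗[k] (A ⧸ I)).comp
    (Ideal.Quotient.mkₐ k I))

lemma kills_nU : Kills I (nU k I) := fun a ha => by
  show (1 : A) ⊗ₜ[k] (Ideal.Quotient.mk I a) = 0
  rw [Ideal.Quotient.eq_zero_iff_mem.2 ha, TensorProduct.tmul_zero]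

lemma gU_mul_nU : (gU k I * nU k I).ofConv = rhoI k I := by
  have h := conv_incl (AlgHom.id k A) (Ideal.Quotient.mkₐ k I)
  rw [AlgHom.comp_id] at h
  exact h

variable {k} {I}

/-- right coinvariants in terms of points -/
theorem mem_coinv_iff_pts {x : A} : x ∈ coinv k I ↔
    ∀ (R : Type u) [CommRing R] [Algebra k R] (g n : WithConv (A →ₐ[k] R)), Kills I n →
      (g * n).ofConv x = g.ofConv x := by
  constructor
  · intro hx R _ _ g n hn
    let nb : A ⧸ I →ₐ[k] R := Ideal.Quotient.liftₐ I n.ofConv hn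
    have key : ∀ t : A ⊗[k] A, Algebra.TensorProduct.lmul' k
        (Algebra.TensorProduct.map g.ofConv n.ofConv t) =
        Algebra.TensorProduct.lift g.ofConv nb (fun _ _ => Commute.all _ _)
          (Algebra.TensorProduct.map (AlgHom.id k A) (Ideal.Quotient.mkₐ k I) t) := by
      intro t
      induction t using TensorProduct.induction_on with
      | zero => simp
      | add y z hy hz => simp only [map_add, hy, hz]
      | tmul a b => simp [nb]
    rw [mul_apply, key]
    have hx' : Algebra.TensorProduct.map (AlgHom.id k A) (Ideal.Quotient.mkₐ k I)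
        (Coalgebra.comul (R := k) x) = x ⊗ₜ[k] (1 : A ⧸ I) := hx
    rw [hx']
    simp
  · intro h
    have h1 := h (A ⊗[k] (A ⧸ I)) (gU k I) (nU k I) (kills_nU k I)
    rw [gU_mul_nU] at h1
    exact h1

theorem coinv_apply_mul {x : A} (hx : x ∈ coinv k I) {R : Type u} [CommRing R] [Algebra k R]
    (g n : WithConv (A →ₐ[k] R)) (hn : Kills I n) : (g * n).ofConv x = g.ofConv x :=
  mem_coinv_iff_pts.1 hx R g n hn

/-- for normal `I`, right coinvariants are left coinvariants -/
theorem coinv_apply_mul_left (hI : IsNormal k I) {x : A} (hx : x ∈ coinv k I) {R : Type u} [CommRing R]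
    [Algebra k R] (g n : WithConv (A →ₐ[k] R)) (hn : Kills I n) :
    (n * g).ofConv x = g.ofConv x := by
  have e : n * g = g * (g⁻¹ * n * g⁻¹⁻¹) := by group
  rw [e]
  exact coinv_apply_mul hx g _ (hI R g⁻¹ n hn)

/-- generic form: invariance under right multiplication by points killing `I` gives
`(g₁ (g₂ n))(x) = (g₁ g₂)(x)` -/
theorem apply_assoc_of_inv {x : A}
    (hx : ∀ (R : Type u) [CommRing R] [Algebra k R] (g n : WithConv (A →ₐ[k] R)), Kills I n →
      (g * n).ofConv x = g.ofConv x) {R : Type u} [CommRing R] [Algebra k R]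
    (g₁ g₂ n : WithConv (A →ₐ[k] R)) (hn : Kills I n) :
    (g₁ * (g₂ * n)).ofConv x = (g₁ * g₂).ofConv x := by
  have e : g₁ * (g₂ * n) = (g₁ * g₂) * n := (mul_assoc g₁ g₂ n).symm
  rw [e]
  exact hx R _ n hn

/-- generic form, using normality: `(g₁ n g₂)(x) = (g₁ g₂)(x)` -/
theorem apply_conj_of_inv (hI : IsNormal k I) {x : A}
    (hx : ∀ (R : Type u) [CommRing R] [Algebra k R] (g n : WithConv (A →ₐ[k] R)), Kills I n →
      (g * n).ofConv x = g.ofConv x) {R : Type u} [CommRing R] [Algebra k R]
    (g₁ n g₂ : WithConv (A →ₐ[k] R)) (hn : Kills I n) :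
    ((g₁ * n) * g₂).ofConv x = (g₁ * g₂).ofConv x := by
  have e : (g₁ * n) * g₂ = (g₁ * g₂) * (g₂⁻¹ * n * g₂⁻¹⁻¹) := by group
  rw [e]
  exact hx R _ _ (hI R g₂⁻¹ n hn)

theorem antipode_mem_coinv (hI : IsNormal k I) {x : A} (hx : x ∈ coinv k I) :
    HopfAlgebra.antipode k x ∈ coinv k I := by
  rw [mem_coinv_iff_pts]
  intro R _ _ g n hn
  rw [← inv_apply, ← inv_apply, mul_inv_rev]
  exact coinv_apply_mul_left hI hx g⁻¹ n⁻¹ hn.inv

/-- the augmentation ideal of the coinvariants lies in `I` -/
theorem mem_of_mem_coinv_of_counit {x : A} (hx : x ∈ coinv k I)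
    (h0 : Coalgebra.counit (R := k) x = 0) : x ∈ I := by
  have h1 := coinv_apply_mul hx (1 : WithConv (A →ₐ[k] A ⧸ I)) (toConv (Ideal.Quotient.mkₐ k I))
    kills_mk
  rw [one_mul, one_apply, h0, map_zero] at h1
  exact Ideal.Quotient.eq_zero_iff_mem.1 h1

end Coinv

end Groth.Agent.Lib.Helper28.NrmPts
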