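import Mathlib
import Groth.Prelude.Def_HopfRep

/-!
# Points of an affine group acting on comodules (helper28)

`pt g : V → V ⊗ R` is the action of the point `g : A →ₐ[k] R` on the comodule `V`.
* `isUnit_of_pt_eq`: if `g · v = v ⊗ c` and some linear form takes value `1` at `v`, then `c` is a unit
  (uses the antipode).
* `rsm s : V ⊗ R → V ⊗ R`, right multiplication by `s : R`.
-/

set_option autoImplicit false
set_option linter.unusedSectionVars false
universe u v w w'

open TensorProduct

namespace Groth.Agent.Lib.Helper28.PtAct

section General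

variable {k : Type u} [CommRing k] {A : Type v} [CommRing A] [Bialgebra k A]
  {V : Type w} [AddCommGroup V] [Module k V] [HopfRep.Comod k A V]
  {R : Type w'} [CommRing R] [Algebra k R]

/-- The action of the point `g` on a comodule. -/
noncomputable def pt (g : A →ₐ[k] R) : V →ₗ[k] V ⊗[k] R :=
  LinearMap.lTensor V g.toLinearMap ∘ₗ HopfRep.Comod.coact (k := k) (A := A)

lemma pt_apply (g : A →ₐ[k] R) (v : V) :
    pt g v = LinearMap.lTensor V g.toLinearMap (HopfRep.Comod.coact (k := k) (A := A) v) := rfl

lemma coact_rTensor_coact (m : V) :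
    (HopfRep.Comod.coact (k := k) (A := A)).rTensor A
        (HopfRep.Comod.coact (k := k) (A := A) m) =
      (TensorProduct.assoc k V A A).symm ((Coalgebra.comul (R := k) (A := A)).lTensor V
        (HopfRep.Comod.coact (k := k) (A := A) m)) := by
  have h3 := LinearMap.congr_fun (HopfRep.Comod.coassoc (k := k) (A := A) (V := V)) m
  simp only [LinearMap.comp_apply, LinearEquiv.coe_coe] at h3
  rw [← h3, LinearEquiv.symm_apply_apply]

lemma counit_lTensor_coact (m : V) :
    (Coalgebra.counit (R := k) (A := A)).lTensor V (HopfRep.Comod.coact (k := k) (A := A) m) =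
      m ⊗ₜ[k] (1 : k) :=
  LinearMap.congr_fun (HopfRep.Comod.counit_comp (k := k) (A := A) (V := V)) m

variable (V) in
/-- right multiplication by `s` on `V ⊗ R` -/
noncomputable def rsm (s : R) : V ⊗[k] R →ₗ[k] V ⊗[k] R :=
  LinearMap.lTensor V (LinearMap.mulRight k s)

@[simp] lemma rsm_tmul (s : R) (v : V) (r : R) : rsm V s (v ⊗ₜ[k] r) = v ⊗ₜ[k] (r * s) := rfl

lemma rsm_rsm (s s' : R) (x : V ⊗[k] R) : rsm V s (rsm V s' x) = rsm V (s' * s) x := by
  induction x using TensorProduct.induction_on with
  | zero => simp
  | tmul v r => simp [mul_assoc]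
  | add x y hx hy => simp only [map_add, hx, hy]

lemma rsm_add (s s' : R) (x : V ⊗[k] R) : rsm V (s + s') x = rsm V s x + rsm V s' x := by
  induction x using TensorProduct.induction_on with
  | zero => simp
  | tmul v r => simp [mul_add, TensorProduct.tmul_add]
  | add x y hx hy => simp only [map_add, hx, hy]; abel

lemma rsm_one (x : V ⊗[k] R) : rsm V (1 : R) x = x := by
  induction x using TensorProduct.induction_on with
  | zero => simp
  | tmul v r => simp
  | add x y hx hy => simp only [map_add, hx, hy]

end General

section Hopf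

variable {k : Type u} [CommRing k] {A : Type v} [CommRing A] [HopfAlgebra k A]
  {V : Type w} [AddCommGroup V] [Module k V] [HopfRep.Comod k A V]
  {R : Type w'} [CommRing R] [Algebra k R]

lemma mul_map_antipode (g : A →ₐ[k] R) (s : A ⊗[k] A) :
    LinearMap.mul' k R (TensorProduct.map (g.comp (HopfAlgebra.antipodeAlgHom k A)).toLinearMap
      g.toLinearMap s) =
    g (LinearMap.mul' k A ((HopfAlgebra.antipode k (A := A)).rTensor A s)) := by
  induction s using TensorProduct.induction_on with
  | zero => simp
  | tmul a b => simp [HopfAlgebra.antipodeAlgHom_apply]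
  | add x y hx hy => simp only [map_add, hx, hy]

/-- If `g · v = v ⊗ c` and a linear form takes the value `1` at `v`, then `c` is a unit. -/
theorem isUnit_of_pt_eq (g : A →ₐ[k] R) (v : V) (c : R) (Φ : V →ₗ[k] k) (hΦ : Φ v = 1)
    (h : pt g v = v ⊗ₜ[k] c) : IsUnit c := by
  set hS : A →ₐ[k] R := g.comp (HopfAlgebra.antipodeAlgHom k A) with hSdef
  let Θ₀ : V ⊗[k] A →ₗ[k] R :=
    (TensorProduct.lid k R).toLinearMap ∘ₗ TensorProduct.map Φ hS.toLinearMap
  let Θ : V →ₗ[k] R := Θ₀ ∘ₗ HopfRep.Comod.coact (k := k) (A := A)
  let G : V ⊗[k] R →ₗ[k] R := LinearMap.mul' k R ∘ₗ TensorProduct.map Θ LinearMap.id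
  have hG1 : G (v ⊗ₜ[k] c) = Θ v * c := by simp [G]
  -- `G (g · v) = 1`
  have hG2 : ∀ t : V ⊗[k] A, G (LinearMap.lTensor V g.toLinearMap t) =
      LinearMap.mul' k R (TensorProduct.map Θ g.toLinearMap t) := by
    intro t
    induction t using TensorProduct.induction_on with
    | zero => simp
    | tmul x a => simp [G]
    | add x y hx hy => simp only [map_add, hx, hy]
  have hG3 : ∀ t : V ⊗[k] A, TensorProduct.map Θ g.toLinearMap t =
      TensorProduct.map Θ₀ g.toLinearMap
        ((HopfRep.Comod.coact (k := k) (A := A)).rTensor A t) := by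
    intro t
    induction t using TensorProduct.induction_on with
    | zero => simp
    | tmul x a => simp [Θ]
    | add x y hx hy => simp only [map_add, hx, hy]
  have hG4 : ∀ (x : V) (s : A ⊗[k] A),
      LinearMap.mul' k R (TensorProduct.map Θ₀ g.toLinearMap
        ((TensorProduct.assoc k V A A).symm (x ⊗ₜ[k] s))) =
      Φ x • LinearMap.mul' k R (TensorProduct.map hS.toLinearMap g.toLinearMap s) := by
    intro x s
    induction s using TensorProduct.induction_on with
    | zero => simp
    | tmul a b => simp [Θ₀, smul_mul_assoc]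
    | add x y hx hy => simp only [TensorProduct.tmul_add, map_add, hx, hy, smul_add]
  have hG5 : ∀ t : V ⊗[k] A,
      LinearMap.mul' k R (TensorProduct.map Θ₀ g.toLinearMap
        ((TensorProduct.assoc k V A A).symm
          ((Coalgebra.comul (R := k) (A := A)).lTensor V t))) =
      algebraMap k R (TensorProduct.lid k k (TensorProduct.map Φ
        (Coalgebra.counit (R := k) (A := A)) t)) := by
    intro t
    induction t using TensorProduct.induction_on with
    | zero => simp
    | tmul x a =>
      rw [LinearMap.lTensor_tmul, hG4, hSdef, mul_map_antipode,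
        HopfAlgebra.mul_antipode_rTensor_comul_apply]
      simp [Algebra.smul_def]
    | add x y hx hy => simp only [map_add, hx, hy]
  have hfin : G (pt g v) = 1 := by
    rw [pt_apply, hG2, hG3, coact_rTensor_coact, hG5]
    have h1 : TensorProduct.map Φ (Coalgebra.counit (R := k) (A := A))
        (HopfRep.Comod.coact (k := k) (A := A) v) =
        TensorProduct.map Φ LinearMap.id
          ((Coalgebra.counit (R := k) (A := A)).lTensor V
            (HopfRep.Comod.coact (k := k) (A := A) v)) := by
      generalize HopfRep.Comod.coact (k := k) (A := A) v = t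
      induction t using TensorProduct.induction_on with
      | zero => simp
      | tmul x a => simp
      | add x y hx hy => simp only [map_add, hx, hy]
    rw [h1, counit_lTensor_coact]
    simp [hΦ]
  rw [h, hG1] at hfin
  exact IsUnit.of_mul_eq_one _ (by rw [mul_comm]; exact hfin)

end Hopf

end Groth.Agent.Lib.Helper28.PtAct
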