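import Groth.Prelude.Def_HopfRep
import Mathlib

/-!
# The largest subcomodule inside a submodule, over a flat coalgebra (helper28)

`R` a commutative ring, `C` a flat `R`-coalgebra, `V` a comodule, `N` a submodule of `V`.
* `core N := {v | ρ v ∈ N ⊗ C}`; `core_le`, `isSubcomod_core`, `le_core`.
* `exists_fg_subcomod`: over a noetherian ring every f.g. submodule lies in a f.g. subcomodule.
-/

set_option autoImplicit false
set_option linter.unusedSectionVars false
set_option linter.style.haveILetI false
universe u v w

open TensorProduct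

namespace Groth.Agent.Lib.Helper28.SubcomodCore

section

variable {R : Type u} [CommRing R] {C : Type v} [AddCommGroup C] [Module R C] [Coalgebra R C]
variable {V : Type w} [AddCommGroup V] [Module R V] [HopfRep.Comod R C V]

local notation "ρ" => HopfRep.Comod.coact (k := R) (A := C) (V := V)

variable (C) in
/-- the largest subcomodule contained in `N` (for flat `C`) -/
noncomputable def core (N : Submodule R V) : Submodule R V :=
  LinearMap.ker (N.mkQ.rTensor C ∘ₗ ρ)

lemma mem_core_iff (N : Submodule R V) (w : V) :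
    w ∈ core C N ↔ ρ w ∈ LinearMap.range (N.subtype.rTensor C) := by
  rw [core, LinearMap.mem_ker, LinearMap.comp_apply, ← LinearMap.mem_ker, rTensor_mkQ]

lemma counit_rTensor_subtype (N : Submodule R V) (t : N ⊗[R] C) :
    TensorProduct.rid R V ((Coalgebra.counit (R := R) (A := C)).lTensor V (N.subtype.rTensor C t)) ∈ N := by
  induction t using TensorProduct.induction_on with
  | zero => simp
  | tmul x c =>
    simp only [LinearMap.rTensor_tmul, Submodule.subtype_apply, LinearMap.lTensor_tmul,
      TensorProduct.rid_tmul]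
    exact N.smul_mem _ x.2
  | add t₁ t₂ h₁ h₂ => simp only [map_add]; exact N.add_mem h₁ h₂

lemma core_le (N : Submodule R V) : core C N ≤ N := by
  intro w hw
  obtain ⟨t, ht⟩ := (mem_core_iff N w).mp hw
  have h := LinearMap.congr_fun (HopfRep.Comod.counit_comp (k := R) (A := C) (V := V)) w
  simp only [LinearMap.comp_apply, LinearMap.flip_apply, TensorProduct.mk_apply] at h
  have h2 := counit_rTensor_subtype N t
  rw [ht, h, TensorProduct.rid_tmul, one_smul] at h2
  exact h2

lemma le_core (N M : Submodule R V)
    (hM : ∀ m ∈ M, ρ m ∈ LinearMap.range (N.subtype.rTensor C)) : M ≤ core C N :=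
  fun m hm => (mem_core_iff N m).mpr (hM m hm)

variable [Module.Flat R C]

/-- the core is a subcomodule -/
theorem isSubcomod_core (N : Submodule R V) : HopfRep.IsSubcomod (k := R) (A := C) (core C N) := by
  intro w hw
  obtain ⟨t, ht⟩ := (mem_core_iff N w).mp hw
  -- exactness of `0 → core ⊗ C → V ⊗ C → ((V/N) ⊗ C) ⊗ C`
  have hex : Function.Exact ((core C N).subtype.rTensor C) ((N.mkQ.rTensor C ∘ₗ ρ).rTensor C) :=
    Module.Flat.rTensor_exact C (LinearMap.exact_subtype_ker_map (N.mkQ.rTensor C ∘ₗ ρ))
  rw [LinearMap.mem_range]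
  apply (hex (ρ w)).mp
  -- compute `(φ ⊗ id)(ρ w)`
  have hco := LinearMap.congr_fun (HopfRep.Comod.coassoc (k := R) (A := C) (V := V)) w
  simp only [LinearMap.comp_apply, LinearEquiv.coe_coe] at hco
  have h1 : (ρ).rTensor C (ρ w) = (TensorProduct.assoc R V C C).symm
      ((Coalgebra.comul (R := R) (A := C)).lTensor V (ρ w)) := by
    rw [← hco, LinearEquiv.symm_apply_apply]
  rw [LinearMap.rTensor_comp, LinearMap.comp_apply, h1, ← ht]
  clear ht hco h1
  induction t using TensorProduct.induction_on with
  | zero => simp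
  | tmul x c =>
    rw [LinearMap.rTensor_tmul, LinearMap.lTensor_tmul, Submodule.subtype_apply]
    generalize Coalgebra.comul (R := R) c = z
    induction z using TensorProduct.induction_on with
    | zero => simp
    | tmul c₁ c₂ =>
      rw [TensorProduct.assoc_symm_tmul, LinearMap.rTensor_tmul, LinearMap.rTensor_tmul,
        Submodule.mkQ_apply, (Submodule.Quotient.mk_eq_zero N).mpr x.2, TensorProduct.zero_tmul,
        TensorProduct.zero_tmul]
    | add z₁ z₂ h₁ h₂ => simp only [TensorProduct.tmul_add, map_add, h₁, h₂, add_zero]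
  | add t₁ t₂ h₁ h₂ => simp only [map_add, h₁, h₂, add_zero]

omit [Module.Flat R C] in
lemma range_rTensor_mono {N N' : Submodule R V} (h : N ≤ N') :
    LinearMap.range (N.subtype.rTensor C) ≤ LinearMap.range (N'.subtype.rTensor C) := by
  have h1 : N.subtype = N'.subtype ∘ₗ Submodule.inclusion h := rfl
  rw [h1, LinearMap.rTensor_comp]
  exact LinearMap.range_comp_le_range _ _

omit [Module.Flat R C] in
/-- a subcomodule contained in `N` is contained in the core -/
lemma le_core_of_isSubcomod (N W : Submodule R V) (hW : HopfRep.IsSubcomod (k := R) (A := C) W)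
    (h : W ≤ N) : W ≤ core C N :=
  le_core N W (fun m hm => range_rTensor_mono h (hW m hm))

omit [Module.Flat R C] in
lemma exists_fg_le (t : V ⊗[R] C) :
    ∃ N : Submodule R V, N.FG ∧ t ∈ LinearMap.range (N.subtype.rTensor C) := by
  induction t using TensorProduct.induction_on with
  | zero => exact ⟨⊥, Submodule.fg_bot, Submodule.zero_mem _⟩
  | tmul x c =>
    refine ⟨Submodule.span R {x}, Submodule.fg_span_singleton x,
      ⟨(⟨x, Submodule.mem_span_singleton_self x⟩ : Submodule.span R {x}) ⊗ₜ[R] c, ?_⟩⟩
    rw [LinearMap.rTensor_tmul]; rfl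
  | add t₁ t₂ h₁ h₂ =>
    obtain ⟨N₁, hN₁, ht₁⟩ := h₁
    obtain ⟨N₂, hN₂, ht₂⟩ := h₂
    exact ⟨N₁ ⊔ N₂, hN₁.sup hN₂, Submodule.add_mem _ (range_rTensor_mono le_sup_left ht₁)
      (range_rTensor_mono le_sup_right ht₂)⟩

/-- over a noetherian ring every finitely generated submodule lies in a finitely generated subcomodule -/
theorem exists_fg_subcomod [IsNoetherianRing R] (M : Submodule R V) (hM : M.FG) :
    ∃ W : Submodule R V, HopfRep.IsSubcomod (k := R) (A := C) W ∧ M ≤ W ∧ W.FG := by
  classical
  obtain ⟨s, rfl⟩ := hM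
  choose N hN hNt using fun m : V => exists_fg_le (ρ m)
  let N' : Submodule R V := ⨆ m ∈ s, N m
  have hN' : N'.FG := by
    have : N' = ⨆ m : s, N (m : V) := by
      simp only [N']
      rw [iSup_subtype']
    rw [this]
    exact Submodule.fg_iSup _ (fun m => hN _)
  refine ⟨core C N', isSubcomod_core N', ?_, ?_⟩
  · apply Submodule.span_le.mpr
    intro m hm
    apply (mem_core_iff N' m).mpr
    exact range_rTensor_mono (le_biSup N hm) (hNt m)
  · haveI : IsNoetherian R N' := isNoetherian_of_fg_of_noetherian N' hN'
    have h1 : (Submodule.comap N'.subtype (core C N')).FG := IsNoetherian.noetherian _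
    have h2 := h1.map N'.subtype
    rwa [Submodule.map_comap_subtype, inf_eq_right.mpr (core_le N')] at h2

end

end Groth.Agent.Lib.Helper28.SubcomodCore
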