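import Groth.Agent.Lib.Helper28.LineStab
import Groth.Agent.Lib.Helper28.PtAct
import Groth.Agent.Lib.Helper28.SubcomodCore
import Groth.Agent.Lib.Helper19.Reynolds
import Groth.Prelude.Def_SGA3
import Groth.Prelude.Def_Dyn

/-!
# Chevalley's theorem: a closed subgroup is the stabilizer of a line (helper28)

* `stab_line_iff`: for a comodule `W` with adapted basis, a point `g` stabilizes the line through
  `vtop = m_0 ∧ … ∧ m_{d-1}` in the exterior algebra comodule iff it stabilizes `M = span (m_l)`.
* `chevalley`: for a Hopf ideal `I` of a finitely generated commutative Hopf algebra over a field there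
  are a finite-dimensional comodule and a nonzero vector whose line has stabilizer `I`.
-/

set_option autoImplicit false
set_option linter.unusedSectionVars false
universe u v v' w w'

open TensorProduct

namespace Groth.Agent.Lib.Helper28.Chevalley

open Groth.Agent.Lib.Helper28.ExtComod Groth.Agent.Lib.Helper28.LineStab
  Groth.Agent.Lib.Helper28.PtAct

section Act

variable {k : Type u} [CommRing k] {A : Type v} [CommRing A] [Bialgebra k A]
  {W : Type w} [AddCommGroup W] [Module k W] [HopfRep.Comod k A W]
  {R : Type w'} [CommRing R] [Algebra k R]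

/-- the action of a point on the exterior algebra, an algebra map -/
noncomputable def actAlg (g : A →ₐ[k] R) :
    ExteriorAlgebra k W →ₐ[k] ExteriorAlgebra k W ⊗[k] R :=
  (Algebra.TensorProduct.map (AlgHom.id k _) g).comp coactAlg

lemma actAlg_eq (g : A →ₐ[k] R) (p : ExteriorAlgebra k W) :
    actAlg g p = LinearMap.lTensor (ExteriorAlgebra k W) g.toLinearMap
      ((extComod k A W).coact p) := rfl

lemma map_jmap (g : A →ₐ[k] R) (t : W ⊗[k] A) :
    Algebra.TensorProduct.map (AlgHom.id k (ExteriorAlgebra k W)) g (jmap k W A t) =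
      jmap k W R (LinearMap.lTensor W g.toLinearMap t) := by
  induction t using TensorProduct.induction_on with
  | zero => simp
  | tmul x a => simp
  | add x y hx hy => simp only [map_add, hx, hy]

lemma actAlg_ι (g : A →ₐ[k] R) (w : W) :
    actAlg g (ExteriorAlgebra.ι k w) = jmap k W R (pt g w) := by
  rw [actAlg, AlgHom.comp_apply, coactAlg_ι, map_jmap, pt_apply]

lemma actAlg_ιMulti (g : A →ₐ[k] R) (n : ℕ) (m : Fin n → W) :
    actAlg g (ExteriorAlgebra.ιMulti k n m) =
      (List.ofFn fun l => jmap k W R (pt g (m l))).prod := by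
  rw [ExteriorAlgebra.ιMulti_apply, map_list_prod, List.map_ofFn]
  congr 1
  congr 1
  funext l
  exact actAlg_ι g (m l)

end Act

section Core

variable {k : Type u} [Field k] {A : Type v} [CommRing A] [HopfAlgebra k A]
  {W : Type w} [AddCommGroup W] [Module k W] [HopfRep.Comod k A W]
  {R : Type w'} [CommRing R] [Algebra k R]
  {I : Type v'} {b : Module.Basis I k W} {d : ℕ} {emb : Fin d → I}

theorem stab_line_iff (hemb : Function.Injective emb) (g : A →ₐ[k] R) :
    (∃ c : R, LinearMap.lTensor (ExteriorAlgebra k W) g.toLinearMap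
        ((extComod k A W).coact (vtop b emb)) = vtop b emb ⊗ₜ[k] c) ↔
      ∀ w ∈ Msub b emb, pt g w ∈ LinearMap.range ((Msub b emb).subtype.rTensor R) := by
  constructor
  · rintro ⟨c, hc⟩
    obtain ⟨Φ, hΦ⟩ := exists_dual_vtop (b := b) hemb
    letI := extComod k A W
    have hu : IsUnit c := isUnit_of_pt_eq (V := ExteriorAlgebra k W) g (vtop b emb) c Φ hΦ hc
    obtain ⟨u, rfl⟩ := hu
    intro w hw
    have h0 : actAlg g (ExteriorAlgebra.ι k w * vtop b emb) = 0 := by
      rw [ι_mul_vtop_of_mem hw, map_zero]
    rw [map_mul, actAlg_ι, actAlg_eq g (vtop b emb), hc] at h0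
    have h1 : jmap k W R (pt g w) * (vtop b emb ⊗ₜ[k] (1 : R)) =
        jmap k W R (pt g w) * (vtop b emb ⊗ₜ[k] (u : R)) * ((1 : ExteriorAlgebra k W) ⊗ₜ[k] ((u⁻¹ : Rˣ) : R)) := by
      rw [mul_assoc, Algebra.TensorProduct.tmul_mul_tmul, mul_one, Units.mul_inv]
    rw [h0, zero_mul] at h1
    exact mem_of_mul_vtop_eq_zero hemb _ h1
  · intro h
    obtain ⟨c, hc⟩ := prod_mem (b := b) (emb := emb) (R := R) (fun l => pt g (mvec b emb l))
      (fun l => h _ (mvec_mem l))
    refine ⟨c, ?_⟩
    rw [← actAlg_eq, vtop, actAlg_ιMulti]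
    exact hc

end Core

section Adapted

variable {k : Type u} [Field k] {W : Type w} [AddCommGroup W] [Module k W]

lemma exists_adapted_basis [Module.Finite k W] (M : Submodule k W) :
    ∃ (I : Type w) (b : Module.Basis I k W) (d : ℕ) (emb : Fin d → I),
      Function.Injective emb ∧ Msub b emb = M := by
  classical
  let bM := Module.finBasis k M
  let m : Fin (Module.finrank k M) → W := fun l => (bM l : W)
  have hli : LinearIndependent k m :=
    bM.linearIndependent.map' M.subtype (Submodule.ker_subtype M)
  have hs : LinearIndepOn k id (Set.range m) := hli.linearIndepOn_id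
  let b := Module.Basis.extend hs
  let emb : Fin (Module.finrank k M) → ↥(hs.extend (Set.subset_univ _)) :=
    fun l => ⟨m l, hs.subset_extend _ ⟨l, rfl⟩⟩
  refine ⟨_, b, _, emb, ?_, ?_⟩
  · intro l l' h
    exact hli.injective (congrArg (fun x : ↥(hs.extend (Set.subset_univ _)) => (x : W)) h)
  · have h1 : mvec b emb = m := funext fun l => Module.Basis.extend_apply_self hs _
    unfold Msub
    rw [h1]
    have h2 : Set.range m = M.subtype '' Set.range bM := by
      rw [← Set.range_comp]; rfl
    rw [h2, ← Submodule.map_span, bM.span_eq, Submodule.map_top, Submodule.range_subtype]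

instance finite_exteriorAlgebra [Module.Finite k W] : Module.Finite k (ExteriorAlgebra k W) := by
  classical
  let b := Module.finBasis k W
  exact Module.Finite.of_basis b.ExteriorAlgebra

end Adapted

section Main

open Groth.Agent.Lib.Helper19.Reynolds

variable {k : Type u} [Field k] {A : Type u} [CommRing A] [HopfAlgebra k A]

lemma mem_range_ker_rTensor {k : Type*} [Field k] {W Q R : Type*} [AddCommGroup W] [Module k W]
    [AddCommGroup Q] [Module k Q] [AddCommGroup R] [Module k R] (π : W →ₗ[k] Q) (x : W ⊗[k] R)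
    (hx : π.rTensor R x = 0) : x ∈ LinearMap.range ((LinearMap.ker π).subtype.rTensor R) := by
  have h0 := LinearMap.exact_subtype_ker_map π
  have hex : Function.Exact ((LinearMap.ker π).subtype.rTensor R) (π.rTensor R) :=
    Module.Flat.rTensor_exact R h0
  exact (hex _).1 hx

/-- the regular coaction restricted to a subcomodule `W₀`, points killing a coideal `I`, and the
subspace `M = W₀ ∩ I`. -/
lemma pt_mem_of_kills (I : Ideal A) (hco : (I.restrictScalars k).IsCoideal) (W₀ : Submodule k A)
    (hW₀ : HopfRep.IsSubcomod (k := k) (A := A) W₀)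
    {R : Type u} [CommRing R] [Algebra k R] (g : A →ₐ[k] R) (hg : ∀ a ∈ I, g a = 0)
    (w : W₀) (hw : (w : A) ∈ I) :
    letI := subComod W₀ hW₀
    pt g w ∈ LinearMap.range
      ((LinearMap.ker ((I.restrictScalars k).mkQ ∘ₗ W₀.subtype)).subtype.rTensor R) := by
  letI := subComod W₀ hW₀
  apply mem_range_ker_rTensor
  have hle : I.restrictScalars k ≤ LinearMap.ker g.toLinearMap := by
    intro a ha
    exact hg a ha
  let gbar : (A ⧸ (I.restrictScalars k)) →ₗ[k] R := (I.restrictScalars k).liftQ g.toLinearMap hle
  have h1 : ∀ t : W₀ ⊗[k] A,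
      ((I.restrictScalars k).mkQ ∘ₗ W₀.subtype).rTensor R (LinearMap.lTensor W₀ g.toLinearMap t) =
      TensorProduct.map (I.restrictScalars k).mkQ g.toLinearMap (W₀.subtype.rTensor A t) := by
    intro t
    induction t using TensorProduct.induction_on with
    | zero => simp
    | tmul x a => simp
    | add x y hx hy => simp only [map_add, hx, hy]
  have h2 : ∀ s : A ⊗[k] A, TensorProduct.map (I.restrictScalars k).mkQ g.toLinearMap s =
      LinearMap.lTensor _ gbar
        (TensorProduct.map (I.restrictScalars k).mkQ (I.restrictScalars k).mkQ s) := by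
    intro s
    induction s using TensorProduct.induction_on with
    | zero => simp
    | tmul x a => simp [gbar]
    | add x y hx hy => simp only [map_add, hx, hy]
  rw [pt_apply, h1]
  have h3 : W₀.subtype.rTensor A (HopfRep.Comod.coact (k := k) (A := A) w) =
      Coalgebra.comul (R := k) (w : A) := rTensor_coactSub W₀ hW₀ w
  rw [h3, h2]
  rw [hco.map_mkQ_comul_eq_zero hw, map_zero]

lemma kills_of_pt_mem (I : Ideal A) (hco : (I.restrictScalars k).IsCoideal) (W₀ : Submodule k A)
    (hW₀ : HopfRep.IsSubcomod (k := k) (A := A) W₀)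
    {R : Type u} [CommRing R] [Algebra k R] (g : A →ₐ[k] R)
    (w : W₀)
    (h : letI := subComod W₀ hW₀
      pt g w ∈ LinearMap.range
        ((LinearMap.ker ((I.restrictScalars k).mkQ ∘ₗ W₀.subtype)).subtype.rTensor R)) :
    g (w : A) = 0 := by
  letI := subComod W₀ hW₀
  let ev : W₀ ⊗[k] R →ₗ[k] R :=
    (TensorProduct.lid k R).toLinearMap ∘ₗ
      ((Coalgebra.counit (R := k) (A := A)) ∘ₗ W₀.subtype).rTensor R
  have hev1 : ∀ t : W₀ ⊗[k] A, ev (LinearMap.lTensor W₀ g.toLinearMap t) =
      g (TensorProduct.lid k A ((Coalgebra.counit (R := k) (A := A)).rTensor A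
        (W₀.subtype.rTensor A t))) := by
    intro t
    induction t using TensorProduct.induction_on with
    | zero => simp
    | tmul x a => simp [ev]
    | add x y hx hy => simp only [map_add, hx, hy]
  have hev2 : ev (pt g w) = g (w : A) := by
    rw [pt_apply, hev1]
    have h3 : W₀.subtype.rTensor A (HopfRep.Comod.coact (k := k) (A := A) w) =
        Coalgebra.comul (R := k) (w : A) := rTensor_coactSub W₀ hW₀ w
    rw [h3, Coalgebra.rTensor_counit_comul]
    simp
  rw [← hev2]
  obtain ⟨z, hz⟩ := h
  rw [← hz]
  clear hz hev2 hev1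
  induction z using TensorProduct.induction_on with
  | zero => simp
  | add x y hx hy => simp only [map_add, hx, hy, add_zero]
  | tmul x r =>
    have hx : ((x : W₀) : A) ∈ I := by
      have := x.2
      rw [LinearMap.mem_ker, LinearMap.comp_apply, Submodule.mkQ_apply,
        Submodule.Quotient.mk_eq_zero] at this
      exact this
    have : Coalgebra.counit (R := k) (((x : W₀) : A)) = 0 := hco.counit_eq_zero hx
    simp [ev, this]

variable (k A) in
/-- **Chevalley's theorem**: every closed subgroup is the stabilizer of a line. -/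
theorem chevalley_of_isCoideal [Algebra.FiniteType k A] (I : Ideal A)
    (hco : (I.restrictScalars k).IsCoideal) :
    ∃ (V : Type u) (_ : AddCommGroup V) (_ : Module k V) (_ : HopfRep.Comod k A V)
      (_ : Module.Finite k V) (v : V),
      v ≠ 0 ∧ Dyn.Represents k A I (fun R _ _ g => SGA3.StabilizesLine k A v R g) := by
  classical
  haveI : IsNoetherianRing A := Algebra.FiniteType.isNoetherianRing k A
  obtain ⟨s, hs⟩ : I.FG := (isNoetherianRing_iff_ideal_fg A).mp inferInstance I
  obtain ⟨W₀, hW₀, hsW, hfg⟩ := Groth.Agent.Lib.Helper28.SubcomodCore.exists_fg_subcomod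
    (R := k) (C := A) (V := A) (Submodule.span k (s : Set A)) (Submodule.fg_span s.finite_toSet)
  letI : HopfRep.Comod k A W₀ := subComod W₀ hW₀
  haveI : Module.Finite k W₀ := Module.Finite.iff_fg.mpr hfg
  set M : Submodule k W₀ := LinearMap.ker ((I.restrictScalars k).mkQ ∘ₗ W₀.subtype) with hM
  have hmemM : ∀ w : W₀, w ∈ M ↔ (w : A) ∈ I := by
    intro w
    rw [hM, LinearMap.mem_ker, LinearMap.comp_apply, Submodule.mkQ_apply,
      Submodule.Quotient.mk_eq_zero]
    rfl
  obtain ⟨J, b, d, emb, hemb, hMsub⟩ := exists_adapted_basis M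
  obtain ⟨Φ, hΦ⟩ := exists_dual_vtop (b := b) hemb
  refine ⟨ExteriorAlgebra k W₀, inferInstance, inferInstance, extComod k A W₀, inferInstance,
    vtop b emb, ?_, ?_⟩
  · intro h0
    rw [h0, map_zero] at hΦ
    exact zero_ne_one hΦ
  · intro R _ _ g
    change (∀ a ∈ I, g a = 0) ↔ ∃ c : R, LinearMap.lTensor _ g.toLinearMap
      ((extComod k A W₀).coact (vtop b emb)) = vtop b emb ⊗ₜ[k] c
    rw [stab_line_iff hemb g, hMsub]
    constructor
    · intro hg w hw
      exact pt_mem_of_kills I hco W₀ hW₀ g hg w ((hmemM w).mp hw)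
    · intro h
      have hker : I ≤ RingHom.ker (g : A →+* R) := by
        rw [← hs, Ideal.span_le]
        intro a ha
        have haW : a ∈ W₀ := hsW (Submodule.subset_span ha)
        have haI : a ∈ I := by rw [← hs]; exact Ideal.subset_span ha
        have := kills_of_pt_mem I hco W₀ hW₀ g ⟨a, haW⟩ (h _ ((hmemM ⟨a, haW⟩).mpr haI))
        exact this
      intro a ha
      exact hker ha

variable (k A) in
/-- **Chevalley's theorem**: every closed subgroup is the stabilizer of a line. -/
theorem chevalley [Algebra.FiniteType k A] (I : Ideal A) [I.IsHopfIdeal k] :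
    ∃ (V : Type u) (_ : AddCommGroup V) (_ : Module k V) (_ : HopfRep.Comod k A V)
      (_ : Module.Finite k V) (v : V),
      v ≠ 0 ∧ Dyn.Represents k A I (fun R _ _ g => SGA3.StabilizesLine k A v R g) :=
  chevalley_of_isCoideal k A I (inferInstance : I.IsHopfIdeal k).toIsCoideal

end Main

end Groth.Agent.Lib.Helper28.Chevalley
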