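import Mathlib
import Groth.Prelude.Def_ComodTens

/-!
# Comodule maps to the regular comodule, matrix coefficients and tensor powers (helper28)

`k` a commutative ring, `A` a commutative bialgebra.
* `IsHomA c f`: `f : X → A` is a comodule map from `(X, c)` to the regular comodule.
* `coef c φ`, `isHomA_coef`: matrix coefficient maps are comodule maps.
* `isHomA_mul`, `isHomA_ofEquiv`, `isHomA_trivial_one`, `isHomA_pi_proj`.
* `stepMap`, `isHomA_stepMap`: from `f` on `⨂^m T` and `h` on `T` to `x ⊗ t ↦ f x * h t` on `⨂^(m+1) T`.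
* `Reach₁`, `reachSpan`, `reachSpan_eq_top`: if `A` is generated as an algebra by values of comodule maps
  `T → A` then `A` is spanned by values of comodule maps `⨂^m T → A`.
-/

set_option autoImplicit false
set_option linter.unusedSectionVars false
universe u v w w'

open TensorProduct

namespace Groth.Agent.Lib.Helper28.CoefHom

section Basic

variable {k : Type u} [CommRing k] {A : Type v} [CommRing A] [Bialgebra k A]
  {X : Type w} [AddCommGroup X] [Module k X] {Y : Type w'} [AddCommGroup Y] [Module k Y]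

/-- `f : X → A` is a comodule map from `(X, c)` to the regular comodule. -/
def IsHomA (c : HopfRep.Comod k A X) (f : X →ₗ[k] A) : Prop :=
  ∀ x : X, Coalgebra.comul (R := k) (f x) = f.rTensor A (c.coact x)

/-- the matrix coefficient map `x ↦ Σ φ(x₀) x₁` -/
noncomputable def coef (c : HopfRep.Comod k A X) (φ : X →ₗ[k] k) : X →ₗ[k] A :=
  (TensorProduct.lid k A).toLinearMap ∘ₗ φ.rTensor A ∘ₗ c.coact

lemma coef_apply (c : HopfRep.Comod k A X) (φ : X →ₗ[k] k) (x : X) :
    coef c φ x = TensorProduct.lid k A (φ.rTensor A (c.coact x)) := rfl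

lemma isHomA_coef (c : HopfRep.Comod k A X) (φ : X →ₗ[k] k) : IsHomA c (coef c φ) := by
  intro x
  have h3 := LinearMap.congr_fun c.coassoc x
  simp only [LinearMap.comp_apply, LinearEquiv.coe_coe] at h3
  have h4 : c.coact.rTensor A (c.coact x) =
      (TensorProduct.assoc k X A A).symm ((Coalgebra.comul (R := k) (A := A)).lTensor X (c.coact x)) := by
    rw [← h3, LinearEquiv.symm_apply_apply]
  have key : ∀ t : X ⊗[k] A,
      Coalgebra.comul (R := k) (TensorProduct.lid k A (φ.rTensor A t)) =
      ((TensorProduct.lid k A).toLinearMap ∘ₗ φ.rTensor A).rTensor A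
        ((TensorProduct.assoc k X A A).symm ((Coalgebra.comul (R := k) (A := A)).lTensor X t)) := by
    intro t
    induction t using TensorProduct.induction_on with
    | zero => simp
    | add t₁ t₂ h₁ h₂ => simp only [map_add, h₁, h₂]
    | tmul y a =>
      simp only [LinearMap.rTensor_tmul, TensorProduct.lid_tmul, LinearMap.lTensor_tmul, map_smul]
      generalize Coalgebra.comul (R := k) a = s
      induction s using TensorProduct.induction_on with
      | zero => simp
      | add s₁ s₂ h₁ h₂ => simp only [TensorProduct.tmul_add, map_add, smul_add, h₁, h₂]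
      | tmul a₁ a₂ => simp [TensorProduct.smul_tmul']
  rw [coef_apply, key]
  have h5 : (coef c φ).rTensor A (c.coact x) =
      ((TensorProduct.lid k A).toLinearMap ∘ₗ φ.rTensor A).rTensor A (c.coact.rTensor A (c.coact x)) := by
    have : (coef c φ).rTensor A =
        ((TensorProduct.lid k A).toLinearMap ∘ₗ φ.rTensor A).rTensor A ∘ₗ c.coact.rTensor A := by
      rw [← LinearMap.rTensor_comp]
      rfl
    rw [this, LinearMap.comp_apply]
  rw [h5, h4]

lemma mul_rTensor (f : X →ₗ[k] A) (g : Y →ₗ[k] A) (s : X ⊗[k] A) (t : Y ⊗[k] A) :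
    (LinearMap.mul' k A ∘ₗ TensorProduct.map f g).rTensor A
      (TensorProduct.map LinearMap.id (LinearMap.mul' k A)
        (AlgebraTensorModule.tensorTensorTensorComm k k k k X A Y A (s ⊗ₜ[k] t))) =
    f.rTensor A s * g.rTensor A t := by
  induction s using TensorProduct.induction_on with
  | zero => simp
  | add s₁ s₂ h₁ h₂ => simp only [TensorProduct.add_tmul, map_add, h₁, h₂, add_mul]
  | tmul x a =>
    induction t using TensorProduct.induction_on with
    | zero => simp
    | add t₁ t₂ h₁ h₂ => simp only [TensorProduct.tmul_add, map_add, h₁, h₂, mul_add]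
    | tmul y b => simp

lemma isHomA_mul (c : HopfRep.Comod k A X) (d : HopfRep.Comod k A Y) {f : X →ₗ[k] A} {g : Y →ₗ[k] A}
    (hf : IsHomA c f) (hg : IsHomA d g) :
    IsHomA (ComodTens.Comod.tensor c d) (LinearMap.mul' k A ∘ₗ TensorProduct.map f g) := by
  intro z
  induction z using TensorProduct.induction_on with
  | zero => simp
  | add z₁ z₂ h₁ h₂ => simp only [map_add, h₁, h₂]
  | tmul x y =>
    rw [ComodTens.tensor_coact_tmul, mul_rTensor, ← hf x, ← hg y]
    simp [Bialgebra.comul_mul]

lemma isHomA_ofEquiv (e : X ≃ₗ[k] Y) (c : HopfRep.Comod k A X) {f : X →ₗ[k] A} (hf : IsHomA c f) :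
    IsHomA (ComodTens.Comod.ofEquiv e c) (f ∘ₗ e.symm.toLinearMap) := by
  intro y
  obtain ⟨x, rfl⟩ := e.surjective y
  rw [ComodTens.ofEquiv_coact_apply]
  simp only [LinearMap.comp_apply, LinearEquiv.coe_coe, LinearEquiv.symm_apply_apply]
  rw [hf x]
  generalize c.coact x = t
  induction t using TensorProduct.induction_on with
  | zero => simp
  | add t₁ t₂ h₁ h₂ => simp only [map_add, h₁, h₂]
  | tmul x' a => simp

lemma isHomA_trivial_one : IsHomA (HopfRep.Comod.trivial k A k) (Algebra.linearMap k A) := by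
  intro c
  change Coalgebra.comul (R := k) (algebraMap k A c) =
    (Algebra.linearMap k A).rTensor A (c ⊗ₜ[k] (1 : A))
  rw [LinearMap.rTensor_tmul, Algebra.linearMap_apply]
  simp [Algebra.algebraMap_eq_smul_one, Algebra.TensorProduct.one_def, TensorProduct.smul_tmul']

lemma isHomA_add (c : HopfRep.Comod k A X) {f g : X →ₗ[k] A} (hf : IsHomA c f) (hg : IsHomA c g) :
    IsHomA c (f + g) := by
  intro x
  rw [LinearMap.add_apply, map_add, hf x, hg x, LinearMap.rTensor_add, LinearMap.add_apply]

lemma isHomA_zero (c : HopfRep.Comod k A X) : IsHomA c (0 : X →ₗ[k] A) := by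
  intro x
  simp

lemma isHomA_sum (c : HopfRep.Comod k A X) {ι : Type*} (s : Finset ι) (f : ι → X →ₗ[k] A)
    (hf : ∀ i ∈ s, IsHomA c (f i)) : IsHomA c (∑ i ∈ s, f i) := by
  classical
  induction s using Finset.induction_on with
  | empty => simpa using isHomA_zero c
  | insert a s ha ih =>
    rw [Finset.sum_insert ha]
    exact isHomA_add c (hf a (Finset.mem_insert_self a s))
      (ih fun i hi => hf i (Finset.mem_insert_of_mem hi))

end Basic

section Pi

variable {k : Type u} [CommRing k] {A : Type v} [CommRing A] [Bialgebra k A]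
  {ι : Type w'} [Fintype ι] [DecidableEq ι] {X : ι → Type w} [∀ i, AddCommGroup (X i)]
  [∀ i, Module k (X i)]

lemma isHomA_pi_proj (c : ∀ i, HopfRep.Comod k A (X i)) (p : ι) {f : X p →ₗ[k] A}
    (hf : IsHomA (c p) f) : IsHomA (ComodTens.Comod.pi c) (f ∘ₗ LinearMap.proj p) := by
  intro u
  rw [ComodTens.pi_coact, map_sum, LinearMap.comp_apply, LinearMap.proj_apply, hf (u p)]
  rw [Finset.sum_eq_single p]
  · have : (f ∘ₗ LinearMap.proj p) ∘ₗ LinearMap.single k X p = f := by
      apply LinearMap.ext
      intro y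
      simp
    rw [← LinearMap.comp_apply ((f ∘ₗ LinearMap.proj p).rTensor A), ← LinearMap.rTensor_comp, this]
  · intro q _ hq
    have : (f ∘ₗ LinearMap.proj p) ∘ₗ LinearMap.single k X q = 0 := by
      apply LinearMap.ext
      intro y
      simp [Pi.single_eq_of_ne (Ne.symm hq)]
    rw [← LinearMap.comp_apply ((f ∘ₗ LinearMap.proj p).rTensor A), ← LinearMap.rTensor_comp, this,
      LinearMap.rTensor_zero, LinearMap.zero_apply]
  · intro h
    exact absurd (Finset.mem_univ p) h

end Pi

section TPow

variable {k : Type u} [CommRing k] {A : Type v} [CommRing A] [Bialgebra k A]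
  {T : Type w} [AddCommGroup T] [Module k T]

/-- from `f` on `⨂^m T` and `h` on `T` to `x ⊗ t ↦ f x * h t` on `⨂^(m+1) T` -/
noncomputable def stepMap {m : ℕ} (f : TensorPower k m T →ₗ[k] A) (h : T →ₗ[k] A) :
    TensorPower k (m + 1) T →ₗ[k] A :=
  (LinearMap.mul' k A ∘ₗ TensorProduct.map f
    (h ∘ₗ ((PiTensorProduct.subsingletonEquiv (R := k) (s := fun _ : Fin 1 => T) (0 : Fin 1)).symm.symm).toLinearMap)) ∘ₗ
    (TensorPower.mulEquiv (R := k) (M := T) (n := m) (m := 1)).symm.toLinearMap

lemma isHomA_stepMap (cT : HopfRep.Comod k A T) {m : ℕ} {f : TensorPower k m T →ₗ[k] A}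
    {h : T →ₗ[k] A} (hf : IsHomA (ComodTens.Comod.tpow cT m) f) (hh : IsHomA cT h) :
    IsHomA (ComodTens.Comod.tpow cT (m + 1)) (stepMap f h) := by
  rw [ComodTens.tpow_succ]
  exact isHomA_ofEquiv _ _ (isHomA_mul _ _ hf (isHomA_ofEquiv _ _ hh))

lemma stepMap_apply {m : ℕ} (f : TensorPower k m T →ₗ[k] A) (h : T →ₗ[k] A)
    (x : TensorPower k m T) (t : T) :
    stepMap f h (TensorPower.mulEquiv (R := k) (M := T) (n := m) (m := 1)
      (x ⊗ₜ[k] (PiTensorProduct.subsingletonEquiv (R := k) (s := fun _ : Fin 1 => T) (0 : Fin 1)).symm t)) =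
      f x * h t := by
  simp [stepMap]

/-- `a` is a value of a comodule map from some tensor power of `T`. -/
def Reach₁ (cT : HopfRep.Comod k A T) (a : A) : Prop :=
  ∃ (m : ℕ) (f : TensorPower k m T →ₗ[k] A), IsHomA (ComodTens.Comod.tpow cT m) f ∧
    a ∈ LinearMap.range f

/-- the span of the values of comodule maps from tensor powers of `T` -/
def reachSpan (cT : HopfRep.Comod k A T) : Submodule k A := Submodule.span k {a | Reach₁ cT a}

lemma one_mem_reachSpan (cT : HopfRep.Comod k A T) : (1 : A) ∈ reachSpan cT := by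
  apply Submodule.subset_span
  refine ⟨0, Algebra.linearMap k A ∘ₗ
    ((PiTensorProduct.isEmptyEquiv (Fin 0) (R := k) (s := fun _ : Fin 0 => T)).symm.symm).toLinearMap, ?_, ?_⟩
  · rw [ComodTens.tpow_zero]
    exact isHomA_ofEquiv _ _ isHomA_trivial_one
  · refine ⟨(PiTensorProduct.isEmptyEquiv (Fin 0) (R := k) (s := fun _ : Fin 0 => T)).symm 1, ?_⟩
    simp

lemma mul_mem_reachSpan (cT : HopfRep.Comod k A T) {a : A} (ha : a ∈ reachSpan cT)
    {h : T →ₗ[k] A} (hh : IsHomA cT h) (t : T) : a * h t ∈ reachSpan cT := by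
  induction ha using Submodule.span_induction with
  | mem x hx =>
    obtain ⟨m, f, hf, y, rfl⟩ := hx
    apply Submodule.subset_span
    exact ⟨m + 1, stepMap f h, isHomA_stepMap cT hf hh, _, stepMap_apply f h y t⟩
  | zero => rw [zero_mul]; exact Submodule.zero_mem _
  | add x y _ _ hx hy => rw [add_mul]; exact Submodule.add_mem _ hx hy
  | smul c x _ hx => rw [smul_mul_assoc]; exact Submodule.smul_mem _ c hx

theorem reachSpan_eq_top (cT : HopfRep.Comod k A T) (G : Set A) (hG : Algebra.adjoin k G = ⊤)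
    (hGr : ∀ g ∈ G, ∃ h : T →ₗ[k] A, IsHomA cT h ∧ ∃ t : T, h t = g) : reachSpan cT = ⊤ := by
  let N : Subalgebra k A :=
    { carrier := {a | ∀ s ∈ reachSpan cT, s * a ∈ reachSpan cT}
      mul_mem' := by
        intro a b ha hb s hs
        rw [← mul_assoc]
        exact hb _ (ha s hs)
      add_mem' := by
        intro a b ha hb s hs
        rw [mul_add]
        exact Submodule.add_mem _ (ha s hs) (hb s hs)
      algebraMap_mem' := by
        intro c s hs
        rw [mul_comm, ← Algebra.smul_def]
        exact Submodule.smul_mem _ c hs }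
  have hGN : G ⊆ N := by
    intro g hg s hs
    obtain ⟨h, hh, t, rfl⟩ := hGr g hg
    exact mul_mem_reachSpan cT hs hh t
  have hN : (⊤ : Subalgebra k A) ≤ N := hG ▸ Algebra.adjoin_le hGN
  rw [eq_top_iff]
  intro a _
  have := hN (Algebra.mem_top : a ∈ (⊤ : Subalgebra k A)) 1 (one_mem_reachSpan cT)
  rwa [one_mul] at this

end TPow

end Groth.Agent.Lib.Helper28.CoefHom
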