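import Mathlib
import Groth.Prelude.Def_HopfRep
import Groth.Prelude.Def_Dyn
import Groth.Agent.Lib.Helper28.PtAct
import Groth.Agent.Lib.Helper28.CoefHom
import Groth.Agent.Lib.Helper28.Chevalley

/-!
# The stabilizer of a line / of a subspace is a closed subgroup (helper28)

* `cmul h g`: convolution product of two points; `ptR h`: extension of `pt h` to `V ⊗ R`;
  `pt_cmul : pt (cmul h g) v = ptR h (pt g v)`.
* `lineIdeal k A v`: ideal generated by the coefficients `coef φ v`, `φ v = 0`.
  `kills_lineIdeal_iff`: a point kills it iff it maps `v` to `v ⊗ c`.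
  `lineIdeal_isHopfIdeal`.
* `exists_hopfIdeal_stab`: the stabilizer of a subspace of a finite-dimensional comodule is cut out by
  a Hopf ideal.
-/

set_option autoImplicit false
set_option linter.unusedSectionVars false
universe u v w w'

open TensorProduct

namespace Groth.Agent.Lib.Helper28.StabIdeal

open Groth.Agent.Lib.Helper28.PtAct Groth.Agent.Lib.Helper28.CoefHom

section Conv

variable {k : Type u} [CommRing k] {A : Type v} [CommRing A] [Bialgebra k A]
  {V : Type w} [AddCommGroup V] [Module k V] [HopfRep.Comod k A V]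
  {R : Type w'} [CommRing R] [Algebra k R]

/-- convolution product of two points -/
noncomputable def cmul (h g : A →ₐ[k] R) : A →ₐ[k] R :=
  (Algebra.TensorProduct.lift h g (fun _ _ => Commute.all _ _)).comp (Bialgebra.comulAlgHom k A)

lemma cmul_apply (h g : A →ₐ[k] R) (a : A) :
    cmul h g a = LinearMap.mul' k R
      (TensorProduct.map h.toLinearMap g.toLinearMap (Coalgebra.comul (R := k) a)) := by
  rw [cmul, AlgHom.comp_apply, Bialgebra.comulAlgHom_apply]
  generalize Coalgebra.comul (R := k) a = s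
  induction s using TensorProduct.induction_on with
  | zero => simp
  | tmul a b => simp
  | add x y hx hy => simp only [map_add, hx, hy]

variable (V) in
/-- extension of `pt h` to `V ⊗ R` -/
noncomputable def ptR (h : A →ₐ[k] R) : V ⊗[k] R →ₗ[k] V ⊗[k] R :=
  LinearMap.lTensor V (LinearMap.mul' k R) ∘ₗ (TensorProduct.assoc k V R R).toLinearMap ∘ₗ
    (pt h).rTensor R

lemma ptR_tmul (h : A →ₐ[k] R) (v : V) (r : R) : ptR V h (v ⊗ₜ[k] r) = rsm V r (pt h v) := by
  simp only [ptR, LinearMap.comp_apply, LinearMap.rTensor_tmul, LinearEquiv.coe_coe]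
  generalize pt h v = t
  induction t using TensorProduct.induction_on with
  | zero => simp
  | tmul x s => simp
  | add x y hx hy => simp only [TensorProduct.add_tmul, map_add, hx, hy]

lemma pt_cmul (h g : A →ₐ[k] R) (v : V) : pt (cmul h g) v = ptR V h (pt g v) := by
  let Ψ : V ⊗[k] (A ⊗[k] A) →ₗ[k] V ⊗[k] R :=
    LinearMap.lTensor V (LinearMap.mul' k R ∘ₗ TensorProduct.map h.toLinearMap g.toLinearMap)
  have e1 : ∀ t : V ⊗[k] A, LinearMap.lTensor V (cmul h g).toLinearMap t =
      Ψ ((Coalgebra.comul (R := k) (A := A)).lTensor V t) := by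
    intro t
    induction t using TensorProduct.induction_on with
    | zero => simp
    | tmul x a => simp [Ψ, cmul_apply]
    | add x y hx hy => simp only [map_add, hx, hy]
  have e2 : ∀ t : V ⊗[k] A, ptR V h (LinearMap.lTensor V g.toLinearMap t) =
      Ψ (TensorProduct.assoc k V A A ((HopfRep.Comod.coact (k := k) (A := A)).rTensor A t)) := by
    intro t
    induction t using TensorProduct.induction_on with
    | zero => simp
    | tmul x a =>
      rw [LinearMap.lTensor_tmul, AlgHom.toLinearMap_apply, ptR_tmul, LinearMap.rTensor_tmul,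
        pt_apply]
      generalize HopfRep.Comod.coact (k := k) (A := A) x = s
      induction s using TensorProduct.induction_on with
      | zero => simp
      | tmul y b => simp [Ψ]
      | add s₁ s₂ h₁ h₂ => simp only [map_add, TensorProduct.add_tmul, h₁, h₂]
    | add x y hx hy => simp only [map_add, hx, hy]
  rw [pt_apply, e1, pt_apply, e2, coact_rTensor_coact, LinearEquiv.apply_symm_apply]

lemma pt_counit (v : V) :
    pt ((Algebra.ofId k R).comp (Bialgebra.counitAlgHom k A)) v = v ⊗ₜ[k] (1 : R) := by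
  have e : ∀ t : V ⊗[k] A,
      LinearMap.lTensor V ((Algebra.ofId k R).comp (Bialgebra.counitAlgHom k A)).toLinearMap t =
      LinearMap.lTensor V (Algebra.linearMap k R)
        ((Coalgebra.counit (R := k) (A := A)).lTensor V t) := by
    intro t
    induction t using TensorProduct.induction_on with
    | zero => simp
    | tmul x a => simp [Algebra.ofId_apply]
    | add x y hx hy => simp only [map_add, hx, hy]
  rw [pt_apply, e, counit_lTensor_coact]
  simp

lemma naturality_coef (φ : V →ₗ[k] k) (g : A →ₐ[k] R) (v : V) :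
    g (coef (inferInstance : HopfRep.Comod k A V) φ v) =
      TensorProduct.lid k R (φ.rTensor R (pt g v)) := by
  have key : ∀ t : V ⊗[k] A, g (TensorProduct.lid k A (φ.rTensor A t)) =
      TensorProduct.lid k R (φ.rTensor R (LinearMap.lTensor V g.toLinearMap t)) := by
    intro t
    induction t using TensorProduct.induction_on with
    | zero => simp
    | tmul x a => simp
    | add x y hx hy => simp only [map_add, hx, hy]
  rw [coef_apply, key, pt_apply]

lemma counit_coef' (φ : V →ₗ[k] k) (w : V) :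
    Coalgebra.counit (R := k) (coef (inferInstance : HopfRep.Comod k A V) φ w) = φ w := by
  have key : ∀ t : V ⊗[k] A, Coalgebra.counit (R := k) (TensorProduct.lid k A (φ.rTensor A t)) =
      TensorProduct.lid k k (φ.rTensor k ((Coalgebra.counit (R := k) (A := A)).lTensor V t)) := by
    intro t
    induction t using TensorProduct.induction_on with
    | zero => simp
    | tmul x a => simp
    | add x y hx hy => simp only [map_add, hx, hy]
  rw [coef_apply, key, counit_lTensor_coact]
  simp

end Conv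

section Line

variable {k : Type u} [Field k] {A : Type v} [CommRing A] [Bialgebra k A]
  {E : Type w} [AddCommGroup E] [Module k E] [HopfRep.Comod k A E]

lemma eq_zero_of_forall_dual {N : Type w'} [AddCommGroup N] [Module k N] (x : E ⊗[k] N)
    (h : ∀ φ : E →ₗ[k] k, TensorProduct.lid k N (φ.rTensor N x) = 0) : x = 0 := by
  classical
  let b := Module.Free.chooseBasis k E
  apply (TensorProduct.equivFinsuppOfBasisLeft (N := N) b).injective
  rw [map_zero]
  ext i
  rw [TensorProduct.equivFinsuppOfBasisLeft_apply, h]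
  rfl

variable (k A) in
/-- the ideal of the stabilizer of the line spanned by `v` -/
noncomputable def lineIdeal (v : E) : Ideal A :=
  Ideal.span {a | ∃ φ : E →ₗ[k] k, φ v = 0 ∧
    a = coef (inferInstance : HopfRep.Comod k A E) φ v}

theorem kills_lineIdeal_iff {v : E} {Φ : E →ₗ[k] k} (hΦ : Φ v = 1)
    {R : Type w'} [CommRing R] [Algebra k R] (g : A →ₐ[k] R) :
    (∀ a ∈ lineIdeal k A v, g a = 0) ↔ ∃ c : R, pt g v = v ⊗ₜ[k] c := by
  constructor
  · intro hg
    refine ⟨TensorProduct.lid k R (Φ.rTensor R (pt g v)), ?_⟩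
    rw [← sub_eq_zero]
    apply eq_zero_of_forall_dual
    intro φ
    have h0 : (φ - φ v • Φ) v = 0 := by simp [hΦ]
    have h1 := hg _ (Ideal.subset_span ⟨φ - φ v • Φ, h0, rfl⟩)
    rw [naturality_coef, LinearMap.rTensor_sub, LinearMap.rTensor_smul] at h1
    simp only [LinearMap.sub_apply, LinearMap.smul_apply, map_sub, map_smul] at h1
    simp only [map_sub, LinearMap.rTensor_tmul, TensorProduct.lid_tmul]
    exact h1
  · rintro ⟨c, hc⟩
    have hle : lineIdeal k A v ≤ RingHom.ker (g : A →+* R) := by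
      refine Ideal.span_le.2 ?_
      rintro _ ⟨φ, hφ, rfl⟩
      rw [SetLike.mem_coe, RingHom.mem_ker]
      change g _ = 0
      rw [naturality_coef, hc]
      simp [hφ]
    intro a ha
    exact hle ha

end Line

section Hopf

variable {k : Type u} [Field k] {A : Type v} [CommRing A] [HopfAlgebra k A]
  {E : Type w} [AddCommGroup E] [Module k E] [HopfRep.Comod k A E]

theorem lineIdeal_isHopfIdeal {v : E} {Φ : E →ₗ[k] k} (hΦ : Φ v = 1) :
    (lineIdeal k A v).IsHopfIdeal k := by
  set J := lineIdeal k A v with hJ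
  let q : A →ₐ[k] A ⧸ J := Ideal.Quotient.mkₐ k J
  have hq : ∀ a ∈ J, q a = 0 := fun a ha => by
    change Ideal.Quotient.mk J a = 0
    exact Ideal.Quotient.eq_zero_iff_mem.2 ha
  have hcounit : ∀ x ∈ J, Coalgebra.counit (R := k) x = 0 := by
    have hle : J ≤ RingHom.ker (Bialgebra.counitAlgHom k A : A →+* k) := by
      refine Ideal.span_le.2 ?_
      rintro _ ⟨φ, hφ, rfl⟩
      rw [SetLike.mem_coe, RingHom.mem_ker]
      change Coalgebra.counit (R := k) _ = 0
      rw [counit_coef', hφ]
    intro x hx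
    exact hle hx
  have hcomul : ∀ x ∈ J, TensorProduct.map q.toLinearMap q.toLinearMap
      (Coalgebra.comul (R := k) x) = 0 := by
    let g₁ : A →ₐ[k] (A ⧸ J) ⊗[k] (A ⧸ J) := (Algebra.TensorProduct.includeLeft : A ⧸ J →ₐ[k] (A ⧸ J) ⊗[k] (A ⧸ J)).comp q
    let g₂ : A →ₐ[k] (A ⧸ J) ⊗[k] (A ⧸ J) := (Algebra.TensorProduct.includeRight : A ⧸ J →ₐ[k] (A ⧸ J) ⊗[k] (A ⧸ J)).comp q
    have h₁ : ∀ a ∈ J, g₁ a = 0 := fun a ha => by
      change (Algebra.TensorProduct.includeLeft : A ⧸ J →ₐ[k] (A ⧸ J) ⊗[k] (A ⧸ J)) (q a) = 0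
      rw [hq a ha, map_zero]
    have h₂ : ∀ a ∈ J, g₂ a = 0 := fun a ha => by
      change (Algebra.TensorProduct.includeRight : A ⧸ J →ₐ[k] (A ⧸ J) ⊗[k] (A ⧸ J)) (q a) = 0
      rw [hq a ha, map_zero]
    obtain ⟨c₁, hc₁⟩ := (kills_lineIdeal_iff hΦ g₁).1 h₁
    obtain ⟨c₂, hc₂⟩ := (kills_lineIdeal_iff hΦ g₂).1 h₂
    have h₃ : ∀ a ∈ J, cmul g₁ g₂ a = 0 := by
      refine (kills_lineIdeal_iff hΦ (cmul g₁ g₂)).2 ⟨c₁ * c₂, ?_⟩
      rw [pt_cmul, hc₂, ptR_tmul, hc₁, rsm_tmul]
    have h₄ : ∀ s : A ⊗[k] A, LinearMap.mul' k _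
        (TensorProduct.map g₁.toLinearMap g₂.toLinearMap s) =
        TensorProduct.map q.toLinearMap q.toLinearMap s := by
      intro s
      induction s using TensorProduct.induction_on with
      | zero => simp
      | tmul a b => simp [g₁, g₂]
      | add x y hx hy => simp only [map_add, hx, hy]
    intro x hx
    rw [← h₄, ← cmul_apply]
    exact h₃ x hx
  have hanti : ∀ x ∈ J, HopfAlgebra.antipode k x ∈ J := by
    obtain ⟨c, hc⟩ := (kills_lineIdeal_iff hΦ q).1 hq
    have hunit : IsUnit c := isUnit_of_pt_eq q v c Φ hΦ hc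
    obtain ⟨u, rfl⟩ := hunit
    set hS : A →ₐ[k] A ⧸ J := q.comp (HopfAlgebra.antipodeAlgHom k A) with hSdef
    have hprod : cmul hS q = (Algebra.ofId k (A ⧸ J)).comp (Bialgebra.counitAlgHom k A) := by
      apply AlgHom.ext
      intro a
      rw [cmul_apply, hSdef, mul_map_antipode, HopfAlgebra.mul_antipode_rTensor_comul_apply]
      simp [Algebra.ofId_apply]
    have h5 : rsm E (u : A ⧸ J) (pt hS v) = v ⊗ₜ[k] (1 : A ⧸ J) := by
      rw [← ptR_tmul, ← hc, ← pt_cmul, hprod, pt_counit]
    have h6 : pt hS v = v ⊗ₜ[k] ((u⁻¹ : (A ⧸ J)ˣ) : A ⧸ J) := by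
      have := congrArg (rsm E ((u⁻¹ : (A ⧸ J)ˣ) : A ⧸ J)) h5
      rw [rsm_rsm, Units.mul_inv, rsm_one, rsm_tmul, one_mul] at this
      exact this
    have h7 := (kills_lineIdeal_iff hΦ hS).2 ⟨_, h6⟩
    intro x hx
    have h8 := h7 x hx
    change Ideal.Quotient.mk J (HopfAlgebra.antipode k x) = 0 at h8
    exact Ideal.Quotient.eq_zero_iff_mem.1 h8
  exact { toIsCoideal := ⟨fun x hx => hcounit x hx, fun x hx => hcomul x hx⟩
          antipode_mem := fun x hx => hanti x hx }

end Hopf

section Main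

open Groth.Agent.Lib.Helper28.LineStab Groth.Agent.Lib.Helper28.Chevalley
  Groth.Agent.Lib.Helper28.ExtComod

theorem exists_hopfIdeal_stab (k A : Type u) [Field k] [CommRing A] [HopfAlgebra k A]
    (V : Type u) [AddCommGroup V] [Module k V] [HopfRep.Comod k A V] [Module.Finite k V]
    (W : Submodule k V) :
    ∃ (J : Ideal A) (_ : J.IsHopfIdeal k),
      Dyn.Represents k A J (fun R _ _ g => ∀ w ∈ W,
        LinearMap.lTensor V g.toLinearMap (HopfRep.Comod.coact (k := k) (A := A) w) ∈
          LinearMap.range (W.subtype.rTensor R)) := by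
  obtain ⟨I, b, d, emb, hemb, hM⟩ := exists_adapted_basis W
  subst hM
  letI := extComod k A V
  obtain ⟨Φ, hΦ⟩ := exists_dual_vtop (b := b) hemb
  refine ⟨lineIdeal k A (vtop b emb), lineIdeal_isHopfIdeal hΦ, ?_⟩
  intro R _ _ g
  rw [kills_lineIdeal_iff hΦ g]
  exact stab_line_iff hemb g

end Main

end Groth.Agent.Lib.Helper28.StabIdeal
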