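import Groth.Agent.Lib.Helper28.ComodHom
import Groth.Prelude.Def_ComodSub
import Groth.Prelude.Def_ComodTens
import Mathlib.RingTheory.SimpleModule.Basic
import Mathlib.LinearAlgebra.Projection

/-!
# Comodule endomorphism algebras, comodule maps on sums, and the "semisimple endomorphism rings
imply linear reductivity" criterion (helper28)
-/

set_option autoImplicit false
set_option linter.unusedSectionVars false
universe u v w w' w''

open TensorProduct

namespace Groth.Agent.Lib.Helper28.ComodEnd

section ring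

/-- A semisimple ring is von Neumann regular. -/
theorem exists_mul_mul_eq_self {R : Type*} [Ring R] [IsSemisimpleRing R] (a : R) :
    ∃ x : R, a * x * a = a := by
  obtain ⟨J, hJ⟩ := exists_isCompl (Submodule.span R {a} : Submodule R R)
  have h1 : (1 : R) ∈ (Submodule.span R {a} : Submodule R R) ⊔ J := by
    rw [hJ.sup_eq_top]; trivial
  obtain ⟨e, he, f, hf, hef⟩ := Submodule.mem_sup.mp h1
  obtain ⟨x, rfl⟩ := Submodule.mem_span_singleton.mp he
  refine ⟨x, ?_⟩
  have haf : a * f ∈ J := J.smul_mem a hf
  have haf' : a * f ∈ (Submodule.span R {a} : Submodule R R) := by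
    have h2 : a * f = a - (a * x) • a := by
      have h3 : a * (x • a + f) = a * 1 := by rw [hef]
      rw [mul_add, mul_one, smul_eq_mul] at h3
      rw [smul_eq_mul, mul_assoc]
      exact eq_sub_of_add_eq' h3
    rw [h2]
    exact Submodule.sub_mem _ (Submodule.mem_span_singleton_self a)
      (Submodule.smul_mem _ _ (Submodule.mem_span_singleton_self a))
  have h0 : a * f = 0 := by
    have h4 : a * f ∈ (Submodule.span R {a} : Submodule R R) ⊓ J := ⟨haf', haf⟩
    rw [hJ.inf_eq_bot] at h4
    exact (Submodule.mem_bot R).mp h4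
  have h3 : a * (x • a + f) = a * 1 := by rw [hef]
  rw [mul_add, mul_one, smul_eq_mul, h0, add_zero, ← mul_assoc] at h3
  exact h3

end ring

section general

variable {k : Type u} [CommRing k] {A : Type v} [AddCommGroup A] [Module k A] [Coalgebra k A]
variable {V : Type w} [AddCommGroup V] [Module k V] [HopfRep.Comod k A V]
variable {W : Type w'} [AddCommGroup W] [Module k W] [HopfRep.Comod k A W]
variable {U : Type w''} [AddCommGroup U] [Module k U] [HopfRep.Comod k A U]

lemma isComodHom_iff (f : V →ₗ[k] W) :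
    Hoch.IsComodHom A f ↔ ∀ v : V, HopfRep.Comod.coact (k := k) (A := A) (f v) =
      f.rTensor A (HopfRep.Comod.coact (k := k) (A := A) v) :=
  ⟨fun h v => LinearMap.congr_fun h v, fun h => LinearMap.ext h⟩

lemma isComodHom_id : Hoch.IsComodHom A (LinearMap.id : V →ₗ[k] V) := by
  rw [isComodHom_iff]
  intro v
  rw [LinearMap.rTensor_id_apply, LinearMap.id_apply]

lemma isComodHom_comp (g : W →ₗ[k] U) (f : V →ₗ[k] W) (hg : Hoch.IsComodHom A g)
    (hf : Hoch.IsComodHom A f) : Hoch.IsComodHom A (g ∘ₗ f) := by
  rw [isComodHom_iff] at *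
  intro v
  rw [LinearMap.comp_apply, hg, hf, LinearMap.rTensor_comp_apply]

lemma isComodHom_add (f g : V →ₗ[k] W) (hf : Hoch.IsComodHom A f) (hg : Hoch.IsComodHom A g) :
    Hoch.IsComodHom A (f + g) := by
  rw [isComodHom_iff] at *
  intro v
  rw [LinearMap.add_apply, map_add, hf, hg, LinearMap.rTensor_add, LinearMap.add_apply]

lemma isComodHom_zero : Hoch.IsComodHom A (0 : V →ₗ[k] W) := by
  rw [isComodHom_iff]
  intro v
  rw [LinearMap.zero_apply, map_zero, LinearMap.rTensor_zero, LinearMap.zero_apply]

lemma isComodHom_smul (r : k) (f : V →ₗ[k] W) (hf : Hoch.IsComodHom A f) :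
    Hoch.IsComodHom A (r • f) := by
  rw [isComodHom_iff] at *
  intro v
  rw [LinearMap.smul_apply, map_smul, hf, LinearMap.rTensor_smul, LinearMap.smul_apply]

lemma isComodHom_neg (f : V →ₗ[k] W) (hf : Hoch.IsComodHom A f) :
    Hoch.IsComodHom A (-f) := by
  have := isComodHom_smul (A := A) (-1 : k) f hf
  rwa [neg_one_smul] at this

lemma isComodHom_sub (f g : V →ₗ[k] W) (hf : Hoch.IsComodHom A f) (hg : Hoch.IsComodHom A g) :
    Hoch.IsComodHom A (f - g) := by
  rw [sub_eq_add_neg]
  exact isComodHom_add f (-g) hf (isComodHom_neg g hg)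

variable (k A V) in
/-- The algebra of comodule endomorphisms. -/
def comodEnd : Subalgebra k (Module.End k V) where
  carrier := {α | Hoch.IsComodHom A α}
  mul_mem' := fun {a b} ha hb => isComodHom_comp a b ha hb
  one_mem' := isComodHom_id
  add_mem' := fun {a b} ha hb => isComodHom_add a b ha hb
  zero_mem' := isComodHom_zero
  algebraMap_mem' := fun r => by
    change Hoch.IsComodHom A (algebraMap k (Module.End k V) r)
    rw [Algebra.algebraMap_eq_smul_one]
    exact isComodHom_smul r _ isComodHom_id

lemma mem_comodEnd (α : Module.End k V) : α ∈ comodEnd k A V ↔ Hoch.IsComodHom A α := Iff.rfl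

end general

section prod

variable {k : Type u} [CommRing k] {A : Type v} [AddCommGroup A] [Module k A] [Coalgebra k A]
variable {V : Type w} [AddCommGroup V] [Module k V]
variable {W : Type w'} [AddCommGroup W] [Module k W]

lemma isComodHom_fst (c : HopfRep.Comod k A V) (d : HopfRep.Comod k A W) :
    @Hoch.IsComodHom k _ A _ _ _ (V × W) _ _ (ComodTens.Comod.prod c d) V _ _ c
      (LinearMap.fst k V W) := by
  let _ := ComodTens.Comod.prod c d
  rw [isComodHom_iff]
  rintro ⟨v, w⟩
  change c.coact v = (LinearMap.fst k V W).rTensor A ((ComodTens.Comod.prod c d).coact (v, w))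
  rw [ComodTens.prod_coact, map_add, ← LinearMap.rTensor_comp_apply, ← LinearMap.rTensor_comp_apply,
    LinearMap.fst_comp_inl, LinearMap.fst_comp_inr, LinearMap.rTensor_id_apply,
    LinearMap.rTensor_zero, LinearMap.zero_apply, add_zero]

lemma isComodHom_snd (c : HopfRep.Comod k A V) (d : HopfRep.Comod k A W) :
    @Hoch.IsComodHom k _ A _ _ _ (V × W) _ _ (ComodTens.Comod.prod c d) W _ _ d
      (LinearMap.snd k V W) := by
  let _ := ComodTens.Comod.prod c d
  rw [isComodHom_iff]
  rintro ⟨v, w⟩
  change d.coact w = (LinearMap.snd k V W).rTensor A ((ComodTens.Comod.prod c d).coact (v, w))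
  rw [ComodTens.prod_coact, map_add, ← LinearMap.rTensor_comp_apply, ← LinearMap.rTensor_comp_apply,
    LinearMap.snd_comp_inl, LinearMap.snd_comp_inr, LinearMap.rTensor_id_apply,
    LinearMap.rTensor_zero, LinearMap.zero_apply, zero_add]

lemma isComodHom_inl (c : HopfRep.Comod k A V) (d : HopfRep.Comod k A W) :
    @Hoch.IsComodHom k _ A _ _ _ V _ _ c (V × W) _ _ (ComodTens.Comod.prod c d)
      (LinearMap.inl k V W) := by
  let _ := ComodTens.Comod.prod c d
  rw [isComodHom_iff]
  intro v
  change (ComodTens.Comod.prod c d).coact (v, 0) = (LinearMap.inl k V W).rTensor A (c.coact v)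
  rw [ComodTens.prod_coact, map_zero, map_zero, add_zero]

lemma isComodHom_inr (c : HopfRep.Comod k A V) (d : HopfRep.Comod k A W) :
    @Hoch.IsComodHom k _ A _ _ _ W _ _ d (V × W) _ _ (ComodTens.Comod.prod c d)
      (LinearMap.inr k V W) := by
  let _ := ComodTens.Comod.prod c d
  rw [isComodHom_iff]
  intro w
  change (ComodTens.Comod.prod c d).coact (0, w) = (LinearMap.inr k V W).rTensor A (d.coact w)
  rw [ComodTens.prod_coact, map_zero, map_zero, zero_add]

end prod

section criterion

variable {k : Type u} [Field k] {A : Type v} [AddCommGroup A] [Module k A] [Coalgebra k A]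
variable {V : Type w} [AddCommGroup V] [Module k V]

/-- If the comodule endomorphism ring of `W × V` is semisimple then the subcomodule `W` of `V` has a
complementary subcomodule. -/
theorem exists_isCompl_of_isSemisimpleRing_comodEnd (c : HopfRep.Comod k A V) (W : Submodule k V)
    (hW : @HopfRep.IsSubcomod k A _ _ _ _ V _ _ c W)
    (hE : IsSemisimpleRing (@comodEnd k _ A _ _ _ (W × V) _ _
      (ComodTens.Comod.prod (ComodSub.Comod.restr c W hW) c))) :
    ∃ W' : Submodule k V, @HopfRep.IsSubcomod k A _ _ _ _ V _ _ c W' ∧ IsCompl W W' := by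
  let cW : HopfRep.Comod k A W := ComodSub.Comod.restr c W hW
  let cP : HopfRep.Comod k A (W × V) := ComodTens.Comod.prod cW c
  -- the nilpotent endomorphism `(w, v) ↦ (0, w)`
  have hsub : Hoch.IsComodHom A W.subtype := ComodSub.isComodHom_subtype c W hW
  have hfst : Hoch.IsComodHom A (LinearMap.fst k W V) := isComodHom_fst cW c
  have hinr : Hoch.IsComodHom A (LinearMap.inr k W V) := isComodHom_inr cW c
  let n : Module.End k (W × V) := LinearMap.inr k W V ∘ₗ W.subtype ∘ₗ LinearMap.fst k W V
  have hn : n ∈ comodEnd k A (W × V) :=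
    isComodHom_comp _ _ hinr (isComodHom_comp _ _ hsub hfst)
  obtain ⟨x, hx⟩ := exists_mul_mul_eq_self (R := comodEnd k A (W × V)) ⟨n, hn⟩
  have hx' : n * (x : Module.End k (W × V)) * n = n := congrArg Subtype.val hx
  let b : V →ₗ[k] W := LinearMap.fst k W V ∘ₗ (x : Module.End k (W × V)) ∘ₗ LinearMap.inr k W V
  have hb : Hoch.IsComodHom A b :=
    isComodHom_comp _ _ hfst (isComodHom_comp _ _ x.2 hinr)
  have hbw : ∀ w : W, b (w : V) = w := by
    intro w
    have h1 := LinearMap.congr_fun hx' ((w, 0) : W × V)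
    have h2 : n ((w, 0) : W × V) = (0, (w : V)) := rfl
    have h3 : (n * (x : Module.End k (W × V)) * n) ((w, 0) : W × V) =
        (0, ((b (w : V) : W) : V)) := rfl
    rw [h3, h2] at h1
    exact Subtype.ext (congrArg Prod.snd h1)
  refine ⟨LinearMap.ker b, Groth.Agent.Lib.Helper28.ComodHom.isSubcomod_ker b hb, ?_⟩
  exact LinearMap.isCompl_of_proj hbw

end criterion

end Groth.Agent.Lib.Helper28.ComodEnd
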