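import Groth.Agent.Lib.Helper28.HopfIntegral
import Groth.Agent.Lib.Helper28.ComodEnd

/-!
# Integrals and linear reductivity (helper28)

For a commutative Hopf algebra `A` over a field `K`:
* `exists_isCompl_of_isIntegral`: if `A` has a normalised right invariant integral, every subcomodule
  of every comodule has a complementary subcomodule;
* `isLinearlyReductive_of_isIntegral`, `exists_isIntegral_of_isLinearlyReductive`,
  `isLinearlyReductive_iff_exists_isIntegral`.
-/

set_option autoImplicit false
set_option linter.unusedSectionVars false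
universe u v w

open TensorProduct
open Groth.Agent.Lib.Helper19.Reynolds
open Groth.Agent.Lib.Helper28.HopfIntegral

namespace Groth.Agent.Lib.Helper28.ComodIntegral

section general

variable {K : Type u} [Field K] {A : Type v} [CommRing A] [HopfAlgebra K A]
variable {V : Type w} [AddCommGroup V] [Module K V] [HopfRep.Comod K A V]

lemma coact_rTensor_coact (v : V) :
    (HopfRep.Comod.coact (k := K) (A := A)).rTensor A
        (HopfRep.Comod.coact (k := K) (A := A) v) =
      (TensorProduct.assoc K V A A).symm ((Coalgebra.comul (R := K) (A := A)).lTensor V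
        (HopfRep.Comod.coact (k := K) (A := A) v)) := by
  have h3 := LinearMap.congr_fun (HopfRep.Comod.coassoc (k := K) (A := A) (V := V)) v
  simp only [LinearMap.comp_apply, LinearEquiv.coe_coe] at h3
  rw [← h3, LinearEquiv.symm_apply_apply]

lemma opT_regular (f : A →ₗ[K] K) (a : A) :
    opT K A A f a = slice f (Coalgebra.comul (R := K) a) := rfl

lemma slice_assoc_symm (f : A →ₗ[K] K) (x : V) (z : A ⊗[K] A) :
    slice f ((TensorProduct.assoc K V A A).symm (x ⊗ₜ[K] z)) = x ⊗ₜ[K] slice f z := by
  induction z using TensorProduct.induction_on with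
  | zero => simp
  | tmul c₁ c₂ => simp [TensorProduct.tmul_smul]
  | add a b ha hb => simp only [TensorProduct.tmul_add, map_add, ha, hb]

lemma slice_assoc_symm_lTensor (f : A →ₗ[K] K) (t : V ⊗[K] A) :
    slice f ((TensorProduct.assoc K V A A).symm
        ((Coalgebra.comul (R := K) (A := A)).lTensor V t)) =
      (opT K A A f).lTensor V t := by
  induction t using TensorProduct.induction_on with
  | zero => simp
  | tmul x c => rw [LinearMap.lTensor_tmul, slice_assoc_symm, LinearMap.lTensor_tmul, opT_regular]
  | add a b ha hb => simp only [map_add, ha, hb]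

/-- the coaction is a comodule map to the induced comodule (operator form) -/
lemma coact_opT (f : A →ₗ[K] K) (v : V) :
    HopfRep.Comod.coact (k := K) (A := A) (opT K A V f v) =
      (opT K A A f).lTensor V (HopfRep.Comod.coact (k := K) (A := A) v) := by
  rw [opT_apply, ← slice_rTensor, coact_rTensor_coact, slice_assoc_symm_lTensor]

variable (I : A →ₗ[K] K)

/-- `(x ⊗ c) ⊗ a ↦ ∫(a S(c)) x` -/
noncomputable def Qmap : (V ⊗[K] A) ⊗[K] A →ₗ[K] V :=
  TensorProduct.lift (LinearMap.mk₂ K (fun (y : V ⊗[K] A) (a : A) => slice (theta I a) y)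
    (fun y y' a => map_add _ y y') (fun c y a => map_smul _ c y)
    (fun y a a' => by rw [map_add, slice_add]) (fun c y a => by rw [map_smul, slice_smul]))

lemma Qmap_tmul (y : V ⊗[K] A) (a : A) : Qmap I (y ⊗ₜ[K] a) = slice (theta I a) y := rfl

/-- the retraction `V ⊗ A → V` of the coaction, `x ⊗ a ↦ Σ x₀ ∫(a S(x₁))` -/
noncomputable def rMap : V ⊗[K] A →ₗ[K] V :=
  Qmap I ∘ₗ (HopfRep.Comod.coact (k := K) (A := A)).rTensor A

lemma rMap_tmul (x : V) (a : A) : rMap I (x ⊗ₜ[K] a) = opT K A V (theta I a) x := rfl

/-- `c₁ ⊗ c₂ ↦ ∫(S(c₁) c₂)` -/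
noncomputable def thetaTilde : A ⊗[K] A →ₗ[K] K :=
  I ∘ₗ LinearMap.mul' K A ∘ₗ (HopfAlgebra.antipode K (A := A)).rTensor A

lemma Qmap_assoc_symm (x : V) (z : A ⊗[K] A) :
    Qmap I ((TensorProduct.assoc K V A A).symm (x ⊗ₜ[K] z)) = thetaTilde I z • x := by
  induction z using TensorProduct.induction_on with
  | zero => simp
  | tmul c₁ c₂ =>
    simp only [TensorProduct.assoc_symm_tmul, Qmap_tmul, slice_tmul, theta_apply, thetaTilde,
      LinearMap.comp_apply, LinearMap.rTensor_tmul, LinearMap.mul'_apply]
    rw [mul_comm]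
  | add a b ha hb => simp only [TensorProduct.tmul_add, map_add, ha, hb, add_smul]

lemma thetaTilde_comul (hI : IsIntegral I) (c : A) :
    thetaTilde I (Coalgebra.comul (R := K) c) = Coalgebra.counit (R := K) c := by
  simp only [thetaTilde, LinearMap.comp_apply]
  rw [HopfAlgebra.mul_antipode_rTensor_comul_apply, Algebra.algebraMap_eq_smul_one, map_smul, hI.1,
    smul_eq_mul, mul_one]

lemma Qmap_assoc_symm_lTensor (hI : IsIntegral I) (t : V ⊗[K] A) :
    Qmap I ((TensorProduct.assoc K V A A).symm
        ((Coalgebra.comul (R := K) (A := A)).lTensor V t)) =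
      slice (Coalgebra.counit (R := K) (A := A)) t := by
  induction t using TensorProduct.induction_on with
  | zero => simp
  | tmul x c =>
    rw [LinearMap.lTensor_tmul, Qmap_assoc_symm, thetaTilde_comul I hI, slice_tmul]
  | add a b ha hb => simp only [map_add, ha, hb]

/-- `rMap` is a retraction of the coaction. -/
theorem rMap_coact (hI : IsIntegral I) (v : V) :
    rMap I (HopfRep.Comod.coact (k := K) (A := A) v) = v := by
  unfold rMap
  rw [LinearMap.comp_apply, coact_rTensor_coact, Qmap_assoc_symm_lTensor I hI, ← opT_apply,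
    opT_counit]

lemma conv_apply' (f g : A →ₗ[K] K) (t : A ⊗[K] A) :
    LinearMap.mul' K K (TensorProduct.map f g t) = f (TensorProduct.rid K A (g.lTensor A t)) := by
  induction t using TensorProduct.induction_on with
  | zero => simp
  | tmul x y => simp [mul_comm]
  | add a b ha hb => simp only [map_add, ha, hb]

lemma theta_slice (f : A →ₗ[K] K) (b : A) (t : A ⊗[K] A) :
    I (TensorProduct.rid K A (f.lTensor A t) * HopfAlgebra.antipode K b) =
      f (TensorProduct.lid K A (((theta I).flip b).rTensor A t)) := by
  induction t using TensorProduct.induction_on with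
  | zero => simp
  | tmul x y => simp [mul_comm]
  | add a b ha hb => simp only [map_add, add_mul, ha, hb]

/-- the functional form of the key identity -/
lemma conv_theta (hI : IsIntegral I) (f : A →ₗ[K] K) (a : A) :
    conv f (theta I a) = theta I (opT K A A f a) := by
  apply LinearMap.ext
  intro b
  have h1 : conv f (theta I a) b =
      LinearMap.mul' K K (TensorProduct.map f (theta I a) (Coalgebra.comul (R := K) b)) := rfl
  rw [h1, conv_apply', key_identity I hI a b, theta_apply, opT_regular]
  exact (theta_slice I f b _).symm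

/-- `rMap` is a comodule map from the induced comodule (operator form). -/
theorem opT_rMap (hI : IsIntegral I) (f : A →ₗ[K] K) (y : V ⊗[K] A) :
    opT K A V f (rMap I y) = rMap I ((opT K A A f).lTensor V y) := by
  induction y using TensorProduct.induction_on with
  | zero => simp
  | tmul x a =>
    rw [LinearMap.lTensor_tmul, rMap_tmul, rMap_tmul, opT_comp, conv_theta I hI]
  | add a b ha hb => simp only [map_add, ha, hb]

end general

section main

variable {K : Type u} [Field K] {A : Type v} [CommRing A] [HopfAlgebra K A]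
variable {V : Type w} [AddCommGroup V] [Module K V]

lemma rTensor_lTensor_comm {V' W' : Type*} [AddCommGroup V'] [Module K V'] [AddCommGroup W']
    [Module K W'] (p : V' →ₗ[K] W') (g : A →ₗ[K] A) (t : V' ⊗[K] A) :
    p.rTensor A (g.lTensor V' t) = g.lTensor W' (p.rTensor A t) := by
  induction t using TensorProduct.induction_on with
  | zero => simp
  | tmul x a => simp
  | add a b ha hb => simp only [map_add, ha, hb]

/-- If `A` has an integral, every subcomodule has a complementary subcomodule. -/
theorem exists_isCompl_of_isIntegral (I : A →ₗ[K] K) (hI : IsIntegral I)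
    (c : HopfRep.Comod K A V) (W : Submodule K V)
    (hW : @HopfRep.IsSubcomod K A _ _ _ _ V _ _ c W) :
    ∃ W' : Submodule K V, @HopfRep.IsSubcomod K A _ _ _ _ V _ _ c W' ∧ IsCompl W W' := by
  let cW : HopfRep.Comod K A W := ComodSub.Comod.restr c W hW
  obtain ⟨p, hp⟩ := LinearMap.exists_leftInverse_of_injective W.subtype W.ker_subtype
  let q : V →ₗ[K] W := rMap I ∘ₗ p.rTensor A ∘ₗ c.coact
  have hq : Hoch.IsComodHom A q := by
    apply Groth.Agent.Lib.Helper28.ComodHom.isComodHom_of_map_opT
    intro f v
    change rMap I (p.rTensor A (c.coact (opT K A V f v))) =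
      opT K A W f (rMap I (p.rTensor A (c.coact v)))
    rw [opT_rMap I hI, coact_opT]
    congr 1
    exact rTensor_lTensor_comm p (opT K A A f) (c.coact v)
  have hqw : ∀ w : W, q (w : V) = w := by
    intro w
    change rMap I (p.rTensor A (c.coact (w : V))) = w
    rw [← ComodSub.restr_coact_coe c W hW w, ← LinearMap.rTensor_comp_apply, hp,
      LinearMap.rTensor_id_apply]
    exact rMap_coact I hI w
  exact ⟨LinearMap.ker q, Groth.Agent.Lib.Helper28.ComodHom.isSubcomod_ker q hq,
    LinearMap.isCompl_of_proj hqw⟩

theorem isLinearlyReductive_of_isIntegral (I : A →ₗ[K] K) (hI : IsIntegral I) :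
    HopfRep.IsLinearlyReductive K A := by
  intro V _ _ c _ W hW
  exact exists_isCompl_of_isIntegral I hI c W hW

end main

section converse

variable {K : Type u} [Field K] {A : Type v} [CommRing A] [HopfAlgebra K A]

lemma opT_one (f : A →ₗ[K] K) : opT K A A f (1 : A) = f 1 • (1 : A) := by
  rw [opT_regular, Bialgebra.comul_one, Algebra.TensorProduct.one_def, slice_tmul]

lemma isSubcomod_span_one :
    HopfRep.IsSubcomod (k := K) (A := A) (Submodule.span K {(1 : A)}) := by
  rw [isSubcomod_iff]
  intro f w hw
  obtain ⟨c, rfl⟩ := Submodule.mem_span_singleton.mp hw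
  rw [map_smul, opT_one]
  exact Submodule.smul_mem _ _ (Submodule.smul_mem _ _ (Submodule.mem_span_singleton_self _))

lemma apply_lid_rTensor (I f : A →ₗ[K] K) (t : A ⊗[K] A) :
    f (TensorProduct.lid K A (I.rTensor A t)) = I (slice f t) := by
  induction t using TensorProduct.induction_on with
  | zero => simp
  | tmul x y => simp [mul_comm]
  | add a b ha hb => simp only [map_add, ha, hb]

/-- operator form of invariance of an integral -/
lemma isIntegral_of_opT (I : A →ₗ[K] K) (h1 : I 1 = 1)
    (h : ∀ (f : A →ₗ[K] K) (a : A), I (opT K A A f a) = f 1 * I a) : IsIntegral I := by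
  refine ⟨h1, fun a => ?_⟩
  rw [← sub_eq_zero, ← Module.forall_dual_apply_eq_zero_iff K]
  intro f
  rw [map_sub, sub_eq_zero, apply_lid_rTensor, ← opT_regular, h, map_smul, smul_eq_mul, mul_comm]

lemma opT_of_isIntegral (I : A →ₗ[K] K) (hI : IsIntegral I) (f : A →ₗ[K] K) (a : A) :
    I (opT K A A f a) = f 1 * I a := by
  rw [opT_regular, ← apply_lid_rTensor, hI.2 a, map_smul, smul_eq_mul, mul_comm]

/-- A linearly reductive Hopf algebra has a normalised integral. -/
theorem exists_isIntegral_of_isLinearlyReductive (hG : HopfRep.IsLinearlyReductive K A) :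
    ∃ I : A →ₗ[K] K, IsIntegral I := by
  have hss : HopfRep.IsSemisimpleComod K A A :=
    isSemisimpleComod_iff.mpr (isSemisimpleModule_opAlg hG)
  obtain ⟨W', hW', hc⟩ := hss _ isSubcomod_span_one
  rw [isSubcomod_iff] at hW'
  let W : Submodule K A := Submodule.span K {(1 : A)}
  let p : A →ₗ[K] W := Submodule.projectionOnto W W' hc
  let I : A →ₗ[K] K := Coalgebra.counit (R := K) (A := A) ∘ₗ W.subtype ∘ₗ p
  have h1mem : (1 : A) ∈ W := Submodule.mem_span_singleton_self _
  have hp1 : p 1 = ⟨1, h1mem⟩ := Submodule.projectionOnto_apply_of_mem_left hc h1mem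
  have hpT : ∀ (f : A →ₗ[K] K) (a : A), p (opT K A A f a) = f 1 • p a := by
    intro f a
    obtain ⟨w, hw, w', hw', rfl⟩ : ∃ w ∈ W, ∃ w' ∈ W', w + w' = a := by
      have : a ∈ W ⊔ W' := by rw [hc.sup_eq_top]; exact Submodule.mem_top
      exact Submodule.mem_sup.mp this
    have e1 : opT K A A f w = f 1 • w := by
      obtain ⟨c, rfl⟩ := Submodule.mem_span_singleton.mp hw
      rw [map_smul, opT_one, smul_comm]
    have e2 : p (opT K A A f w') = 0 :=
      Submodule.projectionOnto_apply_of_mem_right hc (hW' f w' hw')
    have e3 : p w' = 0 := Submodule.projectionOnto_apply_of_mem_right hc hw'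
    rw [map_add (opT K A A f), e1, map_add p, map_smul p, e2, add_zero, map_add p w w', e3, add_zero]
  refine ⟨I, isIntegral_of_opT I ?_ ?_⟩
  · change Coalgebra.counit (R := K) ((p 1 : W) : A) = 1
    rw [hp1]
    exact Bialgebra.counit_one
  · intro f a
    change Coalgebra.counit (R := K) ((p (opT K A A f a) : W) : A) =
      f 1 * Coalgebra.counit (R := K) ((p a : W) : A)
    rw [hpT, Submodule.coe_smul, map_smul, smul_eq_mul]

theorem isLinearlyReductive_iff_exists_isIntegral :
    HopfRep.IsLinearlyReductive K A ↔ ∃ I : A →ₗ[K] K, IsIntegral I :=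
  ⟨exists_isIntegral_of_isLinearlyReductive,
    fun ⟨I, hI⟩ => isLinearlyReductive_of_isIntegral I hI⟩

end converse

end Groth.Agent.Lib.Helper28.ComodIntegral
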