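import Groth.Agent.Lib.Helper28.FrobKerRed

/-!
# A finite locally free commutative Hopf algebra is étale iff `I ^ 2 = I` (helper28)
-/

set_option autoImplicit false
set_option linter.unusedSectionVars false
universe u v

open TensorProduct

namespace Groth.Agent.Lib.Helper28.HopfEtale

open Groth.Agent.Lib.Helper28.FrobKerRed

variable {R : Type u} [CommRing R] {A : Type v} [CommRing A] [HopfAlgebra R A]

lemma augIdeal_fg [Module.Finite R A] : (RingHom.ker (Bialgebra.counitAlgHom R A)).FG := by
  classical
  obtain ⟨s, hs⟩ := (Module.Finite.fg_top : (⊤ : Submodule R A).FG)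
  refine ⟨s.image (fun g => g - algebraMap R A (Coalgebra.counit (R := R) g)), ?_⟩
  apply le_antisymm
  · refine Ideal.span_le.2 ?_
    intro x hx
    rw [Finset.coe_image] at hx
    obtain ⟨g, _, rfl⟩ := hx
    rw [SetLike.mem_coe, RingHom.mem_ker, map_sub]
    simp
  · intro a ha
    rw [RingHom.mem_ker] at ha
    have ha' : Coalgebra.counit (R := R) a = 0 := ha
    have hmem : a ∈ Submodule.span R (s : Set A) := by rw [hs]; exact Submodule.mem_top
    -- the `R`-linear map `x ↦ x - ε x`
    let f : A →ₗ[R] A := LinearMap.id - (Algebra.linearMap R A) ∘ₗ (Coalgebra.counit (R := R) (A := A))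
    have hfa : f a = a := by simp [f, ha']
    have key : ∀ x ∈ Submodule.span R (s : Set A), f x ∈
        (Ideal.span ((s.image (fun g => g - algebraMap R A (Coalgebra.counit (R := R) g)) :
          Finset A) : Set A)).restrictScalars R := by
      intro x hx
      induction hx using Submodule.span_induction with
      | mem x hx =>
        refine Ideal.subset_span ?_
        rw [Finset.coe_image]
        exact ⟨x, hx, by simp [f]⟩
      | zero => rw [map_zero]; exact Submodule.zero_mem _
      | add x y _ _ hx hy => rw [map_add]; exact Submodule.add_mem _ hx hy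
      | smul c x _ hx => rw [map_smul]; exact Submodule.smul_mem _ c hx
    have := key a hmem
    rw [hfa] at this
    exact this

theorem etale_iff [Module.Finite R A] [Module.Projective R A] :
    Algebra.Etale R A ↔
      RingHom.ker (Bialgebra.counitAlgHom R A) ^ 2 = RingHom.ker (Bialgebra.counitAlgHom R A) := by
  set I := RingHom.ker (Bialgebra.counitAlgHom R A) with hIdef
  constructor
  · intro het
    haveI := het
    -- the diagonal ideal is idempotent
    have hd : IsIdempotentElem (KaehlerDifferential.ideal R A) := by
      rw [← Ideal.cotangent_subsingleton_iff]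
      exact (Algebra.formallyUnramified_iff R A).1 inferInstance
    have hd2 : KaehlerDifferential.ideal R A ≤ KaehlerDifferential.ideal R A ^ 2 := by
      rw [sq]; exact le_of_eq hd.eq.symm
    refine le_antisymm (Ideal.pow_le_self (by norm_num)) ?_
    intro a ha
    have haε : Coalgebra.counit (R := R) a = 0 := ha
    -- `x := shear⁻¹ (a ⊗ 1)` lies in the diagonal ideal
    set x : A ⊗[R] A := (shear R A).symm (a ⊗ₜ[R] (1 : A)) with hx
    have hxd : x ∈ KaehlerDifferential.ideal R A := by
      change Algebra.TensorProduct.lmul' R x = 0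
      rw [← epsL_shear, hx, RingEquiv.apply_symm_apply, epsL_tmul, haε, zero_smul]
    have hx2 := hd2 hxd
    -- transport `ideal ^ 2` to `I ^ 2` through `π ∘ shear`, `π = id ⊗ ε`
    let π : A ⊗[R] A →ₐ[R] A := (Algebra.TensorProduct.rid R R A).toAlgHom.comp
      (Algebra.TensorProduct.map (AlgHom.id R A) (Bialgebra.counitAlgHom R A))
    have hπ : ∀ u v : A, π (u ⊗ₜ[R] v) = Coalgebra.counit (R := R) v • u := by
      intro u v; simp [π]
    let Ψ : A ⊗[R] A →+* A := (π : A ⊗[R] A →+* A).comp (shear R A : A ⊗[R] A →+* A ⊗[R] A)
    have hΨd : ∀ y ∈ KaehlerDifferential.ideal R A, Ψ y ∈ I := by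
      intro y hy
      have hy0 : Algebra.TensorProduct.lmul' R y = 0 := hy
      rw [← epsL_shear] at hy0
      change Coalgebra.counit (R := R) (π (shear R A y)) = 0
      have key : ∀ z : A ⊗[R] A, Coalgebra.counit (R := R) (π z) =
          Coalgebra.counit (R := R) (epsL R A z) := by
        intro z
        induction z using TensorProduct.induction_on with
        | zero => simp
        | tmul u v => rw [hπ, epsL_tmul, map_smul, map_smul, smul_eq_mul, smul_eq_mul, mul_comm]
        | add z w hz hw => simp only [map_add, hz, hw]
      rw [key, hy0, map_zero]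
    have hΨ2 : ∀ y ∈ KaehlerDifferential.ideal R A ^ 2, Ψ y ∈ I ^ 2 := by
      intro y hy
      have : Ideal.map Ψ (KaehlerDifferential.ideal R A ^ 2) ≤ I ^ 2 := by
        rw [Ideal.map_pow]
        refine Ideal.pow_right_mono ?_ 2
        refine Ideal.map_le_iff_le_comap.2 ?_
        intro z hz
        exact hΨd z hz
      exact this (Ideal.mem_map_of_mem Ψ hy)
    have hΨx : Ψ x = a := by
      change π (shear R A x) = a
      rw [hx, RingEquiv.apply_symm_apply, hπ, Bialgebra.counit_one, one_smul]
    rw [← hΨx]
    exact hΨ2 x hx2
  · intro h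
    have hidem : IsIdempotentElem I := by rw [IsIdempotentElem, ← sq]; exact h
    obtain ⟨e, he, hIe⟩ := (Ideal.isIdempotentElem_iff_of_fg I augIdeal_fg).1 hidem
    haveI := formallyUnramified_of_augIdeal_idem (k := R) (A := A) e he hIe
    haveI : Module.FinitePresentation R A := Module.finitePresentation_of_projective R A
    exact Algebra.Etale.of_formallyUnramified_of_flat

end Groth.Agent.Lib.Helper28.HopfEtale
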