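import Groth.Agent.Lib.Helper28.CofreeAlg

/-!
# Triviality of Frobenius kernels and reducedness for finite Hopf algebras (helper28)

`A` a finite commutative Hopf algebra over a field `k`, `I` the augmentation ideal.
* `formallyUnramified_of_augIdeal_idem`: if `I = (e)` with `e` idempotent then `A` is unramified over `k`
  (the shear map carries the diagonal ideal to `I ⊗ A`).
* `span_pow_eq_iff_isReduced`: for `q ≥ 2`, the ideal generated by the `q`-th powers of `I` is `I` iff `A` reduced.
-/

set_option autoImplicit false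
set_option linter.unusedSectionVars false
universe u v

open TensorProduct

namespace Groth.Agent.Lib.Helper28.FrobKerRed

open Groth.Agent.Lib.Helper28.CofreeAlg

variable (k : Type u) [CommRing k] (A : Type v) [CommRing A] [HopfAlgebra k A]

/-- the regular coaction is multiplicative -/
instance regularCoactAlg : GLin.IsCoactAlg k A A where
  coact_one := Bialgebra.comul_one
  coact_mul := fun f g => Bialgebra.comul_mul f g

/-- the shear map `a ⊗ h ↦ Δ a * (1 ⊗ h)` as a ring isomorphism of `A ⊗ A` -/
noncomputable def shear : A ⊗[k] A ≃+* A ⊗[k] A :=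
  RingEquiv.ofBijective
    (((Cof.equiv k A A).symm.toAlgHom.restrictScalars k).comp ((Phi k A A).restrictScalars k) :
      A ⊗[k] A →ₐ[k] A ⊗[k] A)
    (by
      have h := Phi_bijective k A A
      exact (Cof.equiv k A A).symm.bijective.comp h)

lemma shear_tmul (a h : A) :
    shear k A (a ⊗ₜ[k] h) = Coalgebra.comul (R := k) a * ((1 : A) ⊗ₜ[k] h) := by
  change (Cof.equiv k A A).symm (Phi k A A (a ⊗ₜ[k] h)) = _
  rw [Phi_tmul, AlgEquiv.symm_apply_apply]
  rfl

/-- `ε ⊗ id` as an algebra map -/
noncomputable def epsL : A ⊗[k] A →ₐ[k] A :=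
  (Algebra.TensorProduct.lid k A).toAlgHom.comp
    (Algebra.TensorProduct.map (Bialgebra.counitAlgHom k A) (AlgHom.id k A))

lemma epsL_tmul (a h : A) : epsL k A (a ⊗ₜ[k] h) = Coalgebra.counit (R := k) a • h := by
  simp [epsL]

lemma epsL_shear (x : A ⊗[k] A) : epsL k A (shear k A x) = Algebra.TensorProduct.lmul' k x := by
  induction x using TensorProduct.induction_on with
  | zero => simp
  | tmul a h =>
    rw [shear_tmul, map_mul, epsL_tmul, Bialgebra.counit_one, one_smul, Algebra.TensorProduct.lmul'_apply_tmul]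
    congr 1
    have h1 := Coalgebra.rTensor_counit_comul (R := k) a
    have key : ∀ s : A ⊗[k] A, epsL k A s =
        TensorProduct.lid k A ((Coalgebra.counit (R := k) (A := A)).rTensor A s) := by
      intro s
      induction s using TensorProduct.induction_on with
      | zero => simp
      | tmul x y => simp [epsL_tmul]
      | add x y hx hy => simp only [map_add, hx, hy]
    rw [key, h1]
    simp
  | add x y hx hy => simp only [map_add, hx, hy]

variable {k A}

theorem formallyUnramified_of_augIdeal_idem [Module.Finite k A] (e : A) (he : IsIdempotentElem e)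
    (hI : RingHom.ker (Bialgebra.counitAlgHom k A) = Ideal.span {e}) :
    Algebra.FormallyUnramified k A := by
  have hεe : Coalgebra.counit (R := k) e = 0 := by
    have : e ∈ RingHom.ker (Bialgebra.counitAlgHom k A) := by
      rw [hI]; exact Ideal.subset_span rfl
    exact this
  -- `a (1 - e) = ε a (1 - e)`
  have h1 : ∀ a : A, a * (1 - e) = Coalgebra.counit (R := k) a • (1 - e) := by
    intro a
    have hmem : a - algebraMap k A (Coalgebra.counit (R := k) a) ∈
        RingHom.ker (Bialgebra.counitAlgHom k A) := by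
      rw [RingHom.mem_ker, map_sub]
      simp
    rw [hI, Ideal.mem_span_singleton] at hmem
    obtain ⟨c, hc⟩ := hmem
    have h0 : e * (1 - e) = 0 := by rw [mul_sub, mul_one, he.eq, sub_self]
    have h2 : (a - algebraMap k A (Coalgebra.counit (R := k) a)) * (1 - e) = 0 := by
      rw [hc]
      calc e * c * (1 - e) = c * (e * (1 - e)) := by ring
        _ = 0 := by rw [h0, mul_zero]
    rw [sub_mul, sub_eq_zero] at h2
    rw [h2, Algebra.smul_def]
  -- for `z`, `z * ((1 - e) ⊗ 1) = (1 - e) ⊗ (ε ⊗ id) z`
  have h2 : ∀ z : A ⊗[k] A, z * ((1 - e) ⊗ₜ[k] (1 : A)) = (1 - e) ⊗ₜ[k] epsL k A z := by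
    intro z
    induction z using TensorProduct.induction_on with
    | zero => simp
    | tmul a h =>
      rw [Algebra.TensorProduct.tmul_mul_tmul, mul_one, h1, epsL_tmul, TensorProduct.smul_tmul]
    | add x y hx hy => simp only [add_mul, map_add, TensorProduct.tmul_add, hx, hy]
  rw [Algebra.FormallyUnramified.iff_exists_tensorProduct]
  let t' : A ⊗[k] A := (shear k A).symm (e ⊗ₜ[k] (1 : A))
  have ht' : ∀ x : A ⊗[k] A, Algebra.TensorProduct.lmul' k x = 0 → x = x * t' := by
    intro x hx
    apply (shear k A).injective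
    rw [map_mul, RingEquiv.apply_symm_apply]
    have h3 := h2 (shear k A x)
    rw [epsL_shear, hx, TensorProduct.tmul_zero] at h3
    have h4 : ((1 - e) ⊗ₜ[k] (1 : A) : A ⊗[k] A) = 1 - e ⊗ₜ[k] (1 : A) := by
      rw [TensorProduct.sub_tmul, Algebra.TensorProduct.one_def]
    rw [h4, mul_sub, mul_one, sub_eq_zero] at h3
    exact h3
  have ht'idem : t' * t' = t' := by
    apply (shear k A).injective
    rw [map_mul, RingEquiv.apply_symm_apply, Algebra.TensorProduct.tmul_mul_tmul, he.eq, mul_one]
  have ht'mul : Algebra.TensorProduct.lmul' k t' = 0 := by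
    rw [← epsL_shear, RingEquiv.apply_symm_apply, epsL_tmul, hεe, zero_smul]
  refine ⟨1 - t', ?_, ?_⟩
  · intro s
    have hs : Algebra.TensorProduct.lmul' k ((1 : A) ⊗ₜ[k] s - s ⊗ₜ[k] (1 : A)) = 0 := by
      simp
    have h5 := ht' _ hs
    rw [h5, mul_assoc, mul_sub, mul_one, ht'idem, sub_self, mul_zero]
  · rw [map_sub, map_one, ht'mul, sub_zero]

theorem span_pow_eq_iff_isReduced {k : Type u} [Field k] {A : Type v} [CommRing A] [HopfAlgebra k A]
    [Module.Finite k A] (q : ℕ) (hq : 2 ≤ q) :
    Ideal.span ((fun f : A => f ^ q) '' (RingHom.ker (Bialgebra.counitAlgHom k A) : Set A)) =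
      RingHom.ker (Bialgebra.counitAlgHom k A) ↔ IsReduced A := by
  set I := RingHom.ker (Bialgebra.counitAlgHom k A) with hIdef
  haveI : IsArtinianRing A := IsArtinianRing.of_finite k A
  have hle : Ideal.span ((fun f : A => f ^ q) '' (I : Set A)) ≤ I := by
    refine Ideal.span_le.2 ?_
    rintro _ ⟨f, hf, rfl⟩
    exact I.pow_mem_of_mem hf q (by omega)
  constructor
  · intro h
    -- `I ≤ I ^ 2`
    have hsub : Ideal.span ((fun f : A => f ^ q) '' (I : Set A)) ≤ I ^ 2 := by
      refine Ideal.span_le.2 ?_
      rintro _ ⟨f, hf, rfl⟩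
      have : f ^ q ∈ I ^ q := Ideal.pow_mem_pow hf q
      exact Ideal.pow_le_pow_right hq this
    have h1 : I ≤ I ^ 2 := by
      intro x hx
      apply hsub
      rw [h]
      exact hx
    have h2 : IsIdempotentElem I := by
      rw [IsIdempotentElem, ← sq]
      exact le_antisymm (Ideal.pow_le_self (by norm_num)) h1
    have hfg : I.FG := (isNoetherianRing_iff_ideal_fg A).mp inferInstance I
    obtain ⟨e, he, hIe⟩ := (Ideal.isIdempotentElem_iff_of_fg I hfg).1 h2
    haveI := formallyUnramified_of_augIdeal_idem e he hIe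
    exact Algebra.FormallyUnramified.isReduced_of_field k A
  · intro hred
    haveI := hred
    haveI : IsSemisimpleRing A := IsArtinianRing.isSemisimpleRing_of_isReduced A
    obtain ⟨e, he, hIe⟩ := IsSemisimpleRing.ideal_eq_span_idempotent I
    refine le_antisymm hle ?_
    have heI : e ∈ I := by rw [hIe]; exact Ideal.subset_span rfl
    have hpow : e ^ q = e := by
      obtain ⟨m, rfl⟩ : ∃ m, q = m + 1 := ⟨q - 1, by omega⟩
      exact he.pow_succ_eq m
    intro x hx
    rw [hIe, Ideal.mem_span_singleton'] at hx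
    obtain ⟨c, rfl⟩ := hx
    exact Ideal.mul_mem_left _ c (Ideal.subset_span ⟨e, heI, hpow⟩)

end Groth.Agent.Lib.Helper28.FrobKerRed
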