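import Mathlib.RingTheory.HopfAlgebra.Convolution
import Mathlib.RingTheory.HopfAlgebra.TensorProduct
import Mathlib.RingTheory.Bialgebra.TensorProduct

/-!
# Integrals on commutative Hopf algebras: the key identity (helper28)

For a commutative Hopf algebra `A` over `k` and a linear form `∫ : A → k` which is right invariant,
`(∫ ⊗ id) Δ a = ∫ a • 1`, we prove the identity

  `Σ b₁ ∫(S(b₂) a) = Σ ∫(S(b) a₁) a₂`

(`key_identity`).  The proof avoids Sweedler sums: it is a computation in the convolution *group* of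
algebra maps `A → A ⊗ A`.
-/

set_option autoImplicit false
universe u v

open TensorProduct WithConv

namespace Groth.Agent.Lib.Helper28.HopfIntegral

section conv

variable {k : Type u} [CommRing k] {A : Type v} [CommRing A] [HopfAlgebra k A]

theorem algHom_ext_tensor {C : Type*} [Semiring C] [Algebra k C]
    {f g : A ⊗[k] A →ₐ[k] C}
    (h1 : f.comp Algebra.TensorProduct.includeLeft = g.comp Algebra.TensorProduct.includeLeft)
    (h2 : f.comp Algebra.TensorProduct.includeRight = g.comp Algebra.TensorProduct.includeRight) :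
    f = g :=
  Algebra.TensorProduct.ext h1 (AlgHom.ext fun x => AlgHom.congr_fun h2 x)

variable (k A) in
/-- `a ↦ a ⊗ 1` -/
noncomputable abbrev inl : A →ₐ[k] A ⊗[k] A := Algebra.TensorProduct.includeLeft

variable (k A) in
/-- `a ↦ 1 ⊗ a` -/
noncomputable abbrev inr : A →ₐ[k] A ⊗[k] A := Algebra.TensorProduct.includeRight

variable (k A) in
noncomputable abbrev dlt : A →ₐ[k] A ⊗[k] A := Bialgebra.comulAlgHom k A

variable (k A) in
noncomputable abbrev anti : A →ₐ[k] A := HopfAlgebra.antipodeAlgHom k A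

lemma inl_mul_inr : toConv (inl k A) * toConv (inr k A) = toConv (dlt k A) := by
  rw [AlgHom.convMul_def]
  apply congrArg
  rw [ofConv_toConv, ofConv_toConv, ← AlgHom.comp_assoc]
  have h : (Algebra.TensorProduct.lmul' k (S := A ⊗[k] A)).comp
      (Algebra.TensorProduct.map (inl k A) (inr k A)) = AlgHom.id k (A ⊗[k] A) := by
    apply algHom_ext_tensor <;> ext x <;> simp
  rw [h, AlgHom.id_comp]

lemma inv_toConv (f : A →ₐ[k] A ⊗[k] A) : (toConv f)⁻¹ = toConv (f.comp (anti k A)) := rfl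

lemma comp_mul (h : A ⊗[k] A →ₐ[k] A ⊗[k] A) (f g : A →ₐ[k] A ⊗[k] A) :
    h.comp (ofConv (toConv f * toConv g)) = ofConv (toConv (h.comp f) * toConv (h.comp g)) :=
  AlgHom.comp_convMul_distrib h (toConv f) (toConv g)

variable (k A) in
/-- `b ⊗ a ↦ Δ(b) (1 ⊗ a)` -/
noncomputable def Phi : A ⊗[k] A →ₐ[k] A ⊗[k] A :=
  Algebra.TensorProduct.productMap (dlt k A) (inr k A)

variable (k A) in
/-- `b ↦ Σ b₁ ⊗ S b₂` -/
noncomputable def psi₀ : A →ₐ[k] A ⊗[k] A :=
  ofConv (toConv (inl k A) * (toConv (inr k A))⁻¹)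

variable (k A) in
/-- `b ⊗ a ↦ Σ b₁ ⊗ S(b₂) a` -/
noncomputable def Psi : A ⊗[k] A →ₐ[k] A ⊗[k] A :=
  Algebra.TensorProduct.productMap (psi₀ k A) (inr k A)

variable (k A) in
/-- `b ⊗ a ↦ (S b ⊗ 1) Δ(a)` -/
noncomputable def Xi : A ⊗[k] A →ₐ[k] A ⊗[k] A :=
  Algebra.TensorProduct.productMap ((inl k A).comp (anti k A)) (dlt k A)

lemma Phi_inl : (Phi k A).comp (inl k A) = dlt k A := Algebra.TensorProduct.productMap_left _ _
lemma Phi_inr : (Phi k A).comp (inr k A) = inr k A := Algebra.TensorProduct.productMap_right _ _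
lemma Psi_inl : (Psi k A).comp (inl k A) = psi₀ k A := Algebra.TensorProduct.productMap_left _ _
lemma Psi_inr : (Psi k A).comp (inr k A) = inr k A := Algebra.TensorProduct.productMap_right _ _
lemma Xi_inl : (Xi k A).comp (inl k A) = (inl k A).comp (anti k A) :=
  Algebra.TensorProduct.productMap_left _ _
lemma Xi_inr : (Xi k A).comp (inr k A) = dlt k A := Algebra.TensorProduct.productMap_right _ _

lemma Phi_comp_Psi : (Phi k A).comp (Psi k A) = AlgHom.id k (A ⊗[k] A) := by
  apply algHom_ext_tensor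
  · rw [AlgHom.comp_assoc, AlgHom.id_comp, Psi_inl, psi₀, inv_toConv, comp_mul, Phi_inl,
      ← AlgHom.comp_assoc, Phi_inr, ← inv_toConv, ← inl_mul_inr]
    exact congrArg ofConv (mul_inv_cancel_right (toConv (inl k A)) (toConv (inr k A)))
  · rw [AlgHom.comp_assoc, AlgHom.id_comp, Psi_inr, Phi_inr]

lemma Psi_comp_Phi : (Psi k A).comp (Phi k A) = AlgHom.id k (A ⊗[k] A) := by
  apply algHom_ext_tensor
  · rw [AlgHom.comp_assoc, AlgHom.id_comp, Phi_inl, ← ofConv_toConv (dlt k A), ← inl_mul_inr,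
      comp_mul, Psi_inl, Psi_inr, psi₀, toConv_ofConv]
    exact congrArg ofConv (inv_mul_cancel_right (toConv (inl k A)) (toConv (inr k A)))
  · rw [AlgHom.comp_assoc, AlgHom.id_comp, Phi_inr, Psi_inr]

lemma Xi_comp_Phi : (Xi k A).comp (Phi k A) =
    Algebra.TensorProduct.productMap (inr k A) (dlt k A) := by
  apply algHom_ext_tensor
  · rw [AlgHom.comp_assoc, Phi_inl, ← ofConv_toConv (dlt k A), ← inl_mul_inr, comp_mul, Xi_inl,
      Xi_inr, ← inv_toConv, ← inl_mul_inr, Algebra.TensorProduct.productMap_left]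
    exact congrArg ofConv (inv_mul_cancel_left (toConv (inl k A)) (toConv (inr k A)))
  · rw [AlgHom.comp_assoc, Phi_inr, Xi_inr, Algebra.TensorProduct.productMap_right]

end conv

section key

variable {k : Type u} [CommRing k] {A : Type v} [CommRing A] [HopfAlgebra k A]

/-- A (normalised, right invariant) integral on a bialgebra: `∫ 1 = 1` and `(∫ ⊗ id) Δ a = ∫ a • 1`.-/
def IsIntegral (I : A →ₗ[k] k) : Prop :=
  I 1 = 1 ∧ ∀ a : A, TensorProduct.lid k A (I.rTensor A (Coalgebra.comul a)) = I a • (1 : A)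

/-- the pairing `(a, c) ↦ ∫ (a * S c)` -/
noncomputable def theta (I : A →ₗ[k] k) : A →ₗ[k] A →ₗ[k] k :=
  ((LinearMap.mul k A).compr₂ I).compl₂ (HopfAlgebra.antipode k)

@[simp] lemma theta_apply (I : A →ₗ[k] k) (a c : A) :
    theta I a c = I (a * HopfAlgebra.antipode k c) := rfl

lemma lift_inl_inr_anti (t : A ⊗[k] A) :
    Algebra.TensorProduct.lift (inl k A) ((inr k A).comp (anti k A)) (fun _ _ => Commute.all _ _) t =
      (HopfAlgebra.antipode k (A := A)).lTensor A t := by
  induction t using TensorProduct.induction_on with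
  | zero => simp
  | tmul x y => simp [HopfAlgebra.antipodeAlgHom]
  | add x y hx hy => rw [map_add, map_add, hx, hy]

lemma psi₀_apply (b : A) :
    psi₀ k A b = (HopfAlgebra.antipode k (A := A)).lTensor A (Coalgebra.comul b) := by
  unfold psi₀
  rw [inv_toConv]
  exact (AlgHom.convMul_apply (toConv (inl k A)) (toConv ((inr k A).comp (anti k A))) b).trans
    (lift_inl_inr_anti _)

lemma L_eval (I : A →ₗ[k] k) (a : A) (t : A ⊗[k] A) :
    TensorProduct.rid k A (I.lTensor A
      ((HopfAlgebra.antipode k (A := A)).lTensor A t * ((1 : A) ⊗ₜ[k] a))) =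
    TensorProduct.rid k A ((theta I a).lTensor A t) := by
  induction t using TensorProduct.induction_on with
  | zero => simp
  | tmul x y =>
    simp only [LinearMap.lTensor_tmul, Algebra.TensorProduct.tmul_mul_tmul, mul_one,
      TensorProduct.rid_tmul, theta_apply]
    rw [mul_comm]
  | add x y hx hy => simp only [map_add, add_mul, hx, hy]

lemma R_eval (I : A →ₗ[k] k) (b : A) (t : A ⊗[k] A) :
    TensorProduct.lid k A (I.rTensor A
      ((HopfAlgebra.antipode k b ⊗ₜ[k] (1 : A)) * t)) =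
    TensorProduct.lid k A (((theta I).flip b).rTensor A t) := by
  induction t using TensorProduct.induction_on with
  | zero => simp
  | tmul x y =>
    simp only [LinearMap.rTensor_tmul, Algebra.TensorProduct.tmul_mul_tmul, one_mul,
      TensorProduct.lid_tmul, LinearMap.flip_apply, theta_apply]
    rw [mul_comm]
  | add x y hx hy => simp only [map_add, mul_add, hx, hy]

lemma lid_rTensor_mul (I : A →ₗ[k] k) (b : A) (t : A ⊗[k] A) :
    TensorProduct.lid k A (I.rTensor A (((1 : A) ⊗ₜ[k] b) * t)) =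
      b * TensorProduct.lid k A (I.rTensor A t) := by
  induction t using TensorProduct.induction_on with
  | zero => simp
  | tmul x y =>
    simp only [LinearMap.rTensor_tmul, Algebra.TensorProduct.tmul_mul_tmul, one_mul,
      TensorProduct.lid_tmul, mul_smul_comm]
  | add x y hx hy => simp only [map_add, mul_add, hx, hy]

/-- `b ⊗ a ↦ Σ b₁ ∫(S(b₂) a)` -/
noncomputable def Lmap (I : A →ₗ[k] k) : A ⊗[k] A →ₗ[k] A :=
  (TensorProduct.rid k A).toLinearMap ∘ₗ I.lTensor A ∘ₗ (Psi k A).toLinearMap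

/-- `b ⊗ a ↦ Σ ∫(S(b) a₁) a₂` -/
noncomputable def Rmap (I : A →ₗ[k] k) : A ⊗[k] A →ₗ[k] A :=
  (TensorProduct.lid k A).toLinearMap ∘ₗ I.rTensor A ∘ₗ (Xi k A).toLinearMap

lemma Lmap_comp_Phi (I : A →ₗ[k] k) :
    Lmap I ∘ₗ (Phi k A).toLinearMap = (TensorProduct.rid k A).toLinearMap ∘ₗ I.lTensor A := by
  unfold Lmap
  rw [LinearMap.comp_assoc, LinearMap.comp_assoc, ← AlgHom.comp_toLinearMap, Psi_comp_Phi]
  rfl

lemma Rmap_comp_Phi (I : A →ₗ[k] k) (hI : IsIntegral I) :
    Rmap I ∘ₗ (Phi k A).toLinearMap = (TensorProduct.rid k A).toLinearMap ∘ₗ I.lTensor A := by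
  unfold Rmap
  rw [LinearMap.comp_assoc, LinearMap.comp_assoc, ← AlgHom.comp_toLinearMap, Xi_comp_Phi]
  apply TensorProduct.ext'
  intro b a
  simp only [LinearMap.comp_apply, AlgHom.toLinearMap_apply, LinearEquiv.coe_coe,
    Algebra.TensorProduct.productMap_apply_tmul, LinearMap.lTensor_tmul, TensorProduct.rid_tmul]
  change TensorProduct.lid k A (I.rTensor A (((1 : A) ⊗ₜ[k] b) * Coalgebra.comul a)) = _
  rw [lid_rTensor_mul, hI.2 a, mul_smul_comm, mul_one]

theorem Lmap_eq_Rmap (I : A →ₗ[k] k) (hI : IsIntegral I) : Lmap I = Rmap I := by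
  have h1 : Lmap I = (Lmap I ∘ₗ (Phi k A).toLinearMap) ∘ₗ (Psi k A).toLinearMap := by
    rw [LinearMap.comp_assoc, ← AlgHom.comp_toLinearMap, Phi_comp_Psi]
    rfl
  have h2 : Rmap I = (Rmap I ∘ₗ (Phi k A).toLinearMap) ∘ₗ (Psi k A).toLinearMap := by
    rw [LinearMap.comp_assoc, ← AlgHom.comp_toLinearMap, Phi_comp_Psi]
    rfl
  rw [h1, h2, Lmap_comp_Phi, Rmap_comp_Phi I hI]

/-- The key identity `Σ b₁ ∫(a S(b₂)) = Σ ∫(S(b) a₁) a₂` for an integral on a commutative Hopf
algebra. -/
theorem key_identity (I : A →ₗ[k] k) (hI : IsIntegral I) (a b : A) :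
    TensorProduct.rid k A ((theta I a).lTensor A (Coalgebra.comul b)) =
      TensorProduct.lid k A (((theta I).flip b).rTensor A (Coalgebra.comul a)) := by
  have h := LinearMap.congr_fun (Lmap_eq_Rmap I hI) (b ⊗ₜ[k] a)
  have hL : Lmap I (b ⊗ₜ[k] a) =
      TensorProduct.rid k A ((theta I a).lTensor A (Coalgebra.comul b)) := by
    rw [← L_eval, ← psi₀_apply]
    rfl
  have hR : Rmap I (b ⊗ₜ[k] a) =
      TensorProduct.lid k A (((theta I).flip b).rTensor A (Coalgebra.comul a)) := by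
    rw [← R_eval]
    rfl
  rw [← hL, ← hR]
  exact h

end key

end Groth.Agent.Lib.Helper28.HopfIntegral
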