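import Groth.Agent.Lib.Helper19.Reynolds
import Mathlib.RingTheory.FiniteType
import Mathlib.RingTheory.Polynomial.Basic

/-!
# Finite-dimensional subcomodules generating invariant ideals (helper28)
-/

set_option autoImplicit false
set_option linter.unusedSectionVars false
universe u v w

open TensorProduct
open Groth.Agent.Lib.Helper19.Reynolds

namespace Groth.Agent.Lib.Helper28.GenIdeal

section

variable {K : Type u} {C : Type v} [Field K] [AddCommGroup C] [Module K C] [Coalgebra K C]
variable {V : Type w} [AddCommGroup V] [Module K V] [HopfRep.Comod K C V]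

lemma isSubcomod_iSup {ι : Sort*} (N : ι → Submodule K V)
    (hN : ∀ i, HopfRep.IsSubcomod (k := K) (A := C) (N i)) :
    HopfRep.IsSubcomod (k := K) (A := C) (⨆ i, N i) := by
  rw [isSubcomod_iff]
  intro f w hw
  have h1 : (⨆ i, N i).map (opT K C V f) ≤ ⨆ i, N i := by
    rw [Submodule.map_iSup]
    apply iSup_le
    intro i
    rintro _ ⟨v, hv, rfl⟩
    exact Submodule.mem_iSup_of_mem i ((isSubcomod_iff (N i)).mp (hN i) f v hv)
  exact h1 ⟨w, hw, rfl⟩

lemma gen_le (v : V) (W : Submodule K V) (hW : HopfRep.IsSubcomod (k := K) (A := C) W)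
    (hv : v ∈ W) : gen (K := K) (C := C) v ≤ W := by
  rintro _ ⟨f, rfl⟩
  exact (isSubcomod_iff W).mp hW f v hv

/-- a finite set in a subcomodule is contained in a finite-dimensional subcomodule inside it -/
theorem exists_finite_subcomod (s : Finset V) (W : Submodule K V)
    (hW : HopfRep.IsSubcomod (k := K) (A := C) W) (hs : (↑s : Set V) ⊆ W) :
    ∃ U : Submodule K V, Module.Finite K U ∧ HopfRep.IsSubcomod (k := K) (A := C) U ∧
      U ≤ W ∧ (↑s : Set V) ⊆ U := by
  refine ⟨⨆ v : s, gen (K := K) (C := C) (v : V), ?_, ?_, ?_, ?_⟩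
  · haveI : ∀ v : s, FiniteDimensional K (gen (K := K) (C := C) (v : V)) :=
      fun v => finiteDimensional_gen (K := K) (C := C) (v : V)
    infer_instance
  · exact isSubcomod_iSup _ (fun v => isSubcomod_gen (v : V))
  · exact iSup_le fun v => gen_le (v : V) W hW (hs v.2)
  · intro v hv
    exact Submodule.mem_iSup_of_mem (⟨v, hv⟩ : s) (mem_gen v)

end

end Groth.Agent.Lib.Helper28.GenIdeal
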