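import Groth.Agent.Lib.Helper28.ComodHom

/-!
# Comodules along an injective coalgebra map `i : C → D` over a field (helper28)
-/

set_option autoImplicit false
set_option linter.unusedSectionVars false
universe u v v' w w'

open TensorProduct
open Groth.Agent.Lib.Helper19.Reynolds

namespace Groth.Agent.Lib.Helper28.ComodRestrict

section Linear

variable {K : Type u} [Field K] {C : Type v} [AddCommGroup C] [Module K C]
  {D : Type v'} [AddCommGroup D] [Module K D]
  {M : Type w} [AddCommGroup M] [Module K M]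

lemma slice_lTensor (i : C →ₗ[K] D) (g : D →ₗ[K] K) (x : M ⊗[K] C) :
    slice g (i.lTensor M x) = slice (g ∘ₗ i) x := by
  induction x using TensorProduct.induction_on with
  | zero => simp
  | tmul v c => simp
  | add a b ha hb => simp only [map_add, ha, hb]

lemma exists_extend (i : C →ₗ[K] D) (hi : Function.Injective i) (f : C →ₗ[K] K) :
    ∃ g : D →ₗ[K] K, g ∘ₗ i = f := by
  obtain ⟨r, hr⟩ := LinearMap.exists_leftInverse_of_injective i (LinearMap.ker_eq_bot.mpr hi)
  exact ⟨f ∘ₗ r, by rw [LinearMap.comp_assoc, hr, LinearMap.comp_id]⟩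

lemma lTensor_injective (i : C →ₗ[K] D) (hi : Function.Injective i) :
    Function.Injective (i.lTensor M) :=
  Module.Flat.lTensor_preserves_injective_linearMap i hi

/-- An element of `M ⊗ D` comes from `M ⊗ C` iff all slices along forms vanishing on `C` vanish. -/
lemma mem_range_lTensor_iff (i : C →ₗ[K] D) (hi : Function.Injective i) (x : M ⊗[K] D) :
    x ∈ LinearMap.range (i.lTensor M) ↔ ∀ g : D →ₗ[K] K, g ∘ₗ i = 0 → slice g x = 0 := by
  constructor
  · rintro ⟨y, rfl⟩ g hg
    rw [slice_lTensor, hg]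
    induction y using TensorProduct.induction_on with
    | zero => simp
    | tmul v c => simp
    | add a b ha hb => simp only [map_add, ha, hb, add_zero]
  · intro h
    obtain ⟨r, hr⟩ := LinearMap.exists_leftInverse_of_injective i (LinearMap.ker_eq_bot.mpr hi)
    have hp : (LinearMap.id - i ∘ₗ r : D →ₗ[K] D).lTensor M x = 0 := by
      apply eq_zero_of_slice_eq_zero
      intro g
      rw [slice_lTensor]
      apply h
      rw [LinearMap.comp_assoc, LinearMap.sub_comp, LinearMap.id_comp, LinearMap.comp_assoc, hr,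
        LinearMap.comp_id, sub_self, LinearMap.comp_zero]
    refine ⟨r.lTensor M x, ?_⟩
    rw [← LinearMap.comp_apply, ← LinearMap.lTensor_comp]
    rw [LinearMap.lTensor_sub, LinearMap.sub_apply, LinearMap.lTensor_id, LinearMap.id_apply,
      sub_eq_zero] at hp
    exact hp.symm

end Linear

section Coalg

variable {K : Type u} [Field K] {C : Type v} [AddCommGroup C] [Module K C] [Coalgebra K C]
  {D : Type v'} [AddCommGroup D] [Module K D] [Coalgebra K D]
  {V : Type w} [AddCommGroup V] [Module K V]

/-- If the `D`-coaction is the `C`-coaction followed by `V ⊗ C → V ⊗ D`, then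
`T^D_g = T^C_{g ∘ i}`. -/
lemma opT_eq_of_coact_eq [HopfRep.Comod K C V] [HopfRep.Comod K D V] (i : C →ₗ[K] D)
    (hcd : i.lTensor V ∘ₗ HopfRep.Comod.coact (k := K) (A := C) =
      HopfRep.Comod.coact (k := K) (A := D) (V := V)) (g : D →ₗ[K] K) (v : V) :
    opT K D V g v = opT K C V (g ∘ₗ i) v := by
  rw [opT_apply, opT_apply, ← hcd, LinearMap.comp_apply, slice_lTensor]

/-- A `D`-subcomodule is a `C`-subcomodule when the structures are compatible along an injective
`i`. -/
theorem isSubcomod_of_isSubcomod [HopfRep.Comod K C V] [HopfRep.Comod K D V] (i : C →ₗ[K] D)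
    (hi : Function.Injective i)
    (hcd : i.lTensor V ∘ₗ HopfRep.Comod.coact (k := K) (A := C) =
      HopfRep.Comod.coact (k := K) (A := D) (V := V))
    (W : Submodule K V) (hW : HopfRep.IsSubcomod (k := K) (A := D) W) :
    HopfRep.IsSubcomod (k := K) (A := C) W := by
  rw [isSubcomod_iff] at hW ⊢
  intro f w hw
  obtain ⟨g, rfl⟩ := exists_extend i hi f
  rw [← opT_eq_of_coact_eq i hcd]
  exact hW g w hw

/-- Conversely a `C`-subcomodule is a `D`-subcomodule. -/
theorem isSubcomod_of_isSubcomod' [HopfRep.Comod K C V] [HopfRep.Comod K D V] (i : C →ₗ[K] D)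
    (hcd : i.lTensor V ∘ₗ HopfRep.Comod.coact (k := K) (A := C) =
      HopfRep.Comod.coact (k := K) (A := D) (V := V))
    (W : Submodule K V) (hW : HopfRep.IsSubcomod (k := K) (A := C) W) :
    HopfRep.IsSubcomod (k := K) (A := D) W := by
  rw [isSubcomod_iff] at hW ⊢
  intro g w hw
  rw [opT_eq_of_coact_eq i hcd]
  exact hW _ w hw

end Coalg

section Transfer

variable {K : Type u} [Field K] {C : Type v} [AddCommGroup C] [Module K C] [Coalgebra K C]
  {D : Type v'} [AddCommGroup D] [Module K D] [Coalgebra K D]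
  {V : Type w} [AddCommGroup V] [Module K V]

lemma assoc_tmul_lTensor (i : C →ₗ[K] D) (y : V ⊗[K] C) (c : C) :
    TensorProduct.assoc K V D D ((i.lTensor V y) ⊗ₜ[K] i c) =
      (TensorProduct.map i i).lTensor V (TensorProduct.assoc K V C C (y ⊗ₜ[K] c)) := by
  induction y using TensorProduct.induction_on with
  | zero => simp
  | tmul w c' => simp
  | add a b ha hb => simp only [map_add, TensorProduct.add_tmul, ha, hb]

lemma coassoc_transfer (i : C →ₗ[K] D) (ρC : V →ₗ[K] V ⊗[K] C) :
    (TensorProduct.assoc K V D D).toLinearMap ∘ₗ (i.lTensor V ∘ₗ ρC).rTensor D ∘ₗ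
        (i.lTensor V ∘ₗ ρC) =
      (TensorProduct.map i i).lTensor V ∘ₗ
        ((TensorProduct.assoc K V C C).toLinearMap ∘ₗ ρC.rTensor C ∘ₗ ρC) := by
  ext v
  simp only [LinearMap.comp_apply, LinearEquiv.coe_coe]
  generalize ρC v = y
  induction y using TensorProduct.induction_on with
  | zero => simp
  | tmul w c =>
    simp only [LinearMap.lTensor_tmul, LinearMap.rTensor_tmul, LinearMap.comp_apply]
    exact assoc_tmul_lTensor i (ρC w) c
  | add a b ha hb => simp only [map_add, ha, hb]

lemma comul_transfer (i : C →ₗc[K] D) (ρC : V →ₗ[K] V ⊗[K] C) :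
    (CoalgebraStruct.comul (R := K) (A := D)).lTensor V ∘ₗ ((i : C →ₗ[K] D).lTensor V ∘ₗ ρC) =
      (TensorProduct.map (i : C →ₗ[K] D) (i : C →ₗ[K] D)).lTensor V ∘ₗ
        ((CoalgebraStruct.comul (R := K) (A := C)).lTensor V ∘ₗ ρC) := by
  rw [← LinearMap.comp_assoc, ← LinearMap.comp_assoc, ← LinearMap.lTensor_comp,
    ← LinearMap.lTensor_comp, CoalgHomClass.map_comp_comul]

lemma counit_transfer (i : C →ₗc[K] D) (ρC : V →ₗ[K] V ⊗[K] C) :
    (CoalgebraStruct.counit (R := K) (A := D)).lTensor V ∘ₗ ((i : C →ₗ[K] D).lTensor V ∘ₗ ρC) =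
      (CoalgebraStruct.counit (R := K) (A := C)).lTensor V ∘ₗ ρC := by
  rw [← LinearMap.comp_assoc, ← LinearMap.lTensor_comp, CoalgHomClass.counit_comp]

/-- A `C`-comodule viewed as a `D`-comodule along a coalgebra map `i : C → D`. -/
@[reducible] def corestrict (i : C →ₗc[K] D) (c : HopfRep.Comod K C V) : HopfRep.Comod K D V where
  coact := (i : C →ₗ[K] D).lTensor V ∘ₗ c.coact
  coassoc := by
    rw [coassoc_transfer, comul_transfer, c.coassoc]
  counit_comp := by
    rw [counit_transfer, c.counit_comp]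

lemma map_map_injective (i : C →ₗ[K] D) (hi : Function.Injective i) :
    Function.Injective ((TensorProduct.map i i).lTensor V) := by
  apply lTensor_injective
  have h1 : TensorProduct.map i i = i.lTensor D ∘ₗ i.rTensor C := by
    ext a b; simp
  rw [h1]
  exact (lTensor_injective i hi).comp
    (Module.Flat.rTensor_preserves_injective_linearMap i hi)

/-- A `D`-comodule whose coaction lands in `V ⊗ C` is a `C`-comodule (for `i` injective). -/
theorem exists_restrict (i : C →ₗc[K] D) (hi : Function.Injective i) (d : HopfRep.Comod K D V)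
    (h : ∀ v : V, d.coact v ∈ LinearMap.range ((i : C →ₗ[K] D).lTensor V)) :
    ∃ c : HopfRep.Comod K C V, (i : C →ₗ[K] D).lTensor V ∘ₗ c.coact = d.coact := by
  have hinj : Function.Injective ((i : C →ₗ[K] D).lTensor V) := lTensor_injective _ hi
  let ρC : V →ₗ[K] V ⊗[K] C :=
    (LinearEquiv.ofInjective ((i : C →ₗ[K] D).lTensor V) hinj).symm.toLinearMap ∘ₗ
      LinearMap.codRestrict (LinearMap.range ((i : C →ₗ[K] D).lTensor V)) d.coact h
  have hρ : (i : C →ₗ[K] D).lTensor V ∘ₗ ρC = d.coact := by
    ext v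
    simp only [LinearMap.comp_apply, ρC, LinearEquiv.coe_coe]
    have := (LinearEquiv.ofInjective ((i : C →ₗ[K] D).lTensor V) hinj).apply_symm_apply
      ⟨d.coact v, h v⟩
    exact congrArg Subtype.val this
  refine ⟨{ coact := ρC, coassoc := ?_, counit_comp := ?_ }, hρ⟩
  · have hj := map_map_injective (V := V) (i : C →ₗ[K] D) hi
    apply (LinearMap.cancel_left hj).mp
    rw [← coassoc_transfer, ← comul_transfer, hρ]
    exact d.coassoc
  · rw [← counit_transfer i ρC, hρ]
    exact d.counit_comp

end Transfer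

section Commute

variable {K : Type u} [Field K] {C : Type v} [AddCommGroup C] [Module K C] [Coalgebra K C]
  {D : Type v'} [AddCommGroup D] [Module K D] [Coalgebra K D]
  {V : Type w} [AddCommGroup V] [Module K V] [HopfRep.Comod K C V] [HopfRep.Comod K D V]

/-- The functional `φ ⊗ ψ` on `C ⊗ D`. -/
noncomputable def tensorForm (φ : C →ₗ[K] K) (ψ : D →ₗ[K] K) : C ⊗[K] D →ₗ[K] K :=
  LinearMap.mul' K K ∘ₗ TensorProduct.map φ ψ

@[simp] lemma tensorForm_tmul (φ : C →ₗ[K] K) (ψ : D →ₗ[K] K) (c : C) (d : D) :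
    tensorForm φ ψ (c ⊗ₜ[K] d) = φ c * ψ d := by
  simp [tensorForm]

lemma slice_assoc_tmul (φ : C →ₗ[K] K) (ψ : D →ₗ[K] K) (x : V ⊗[K] C) (d : D) :
    slice (tensorForm φ ψ) (TensorProduct.assoc K V C D (x ⊗ₜ[K] d)) = ψ d • slice φ x := by
  induction x using TensorProduct.induction_on with
  | zero => simp
  | tmul w c => simp [smul_smul, mul_comm]
  | add a b ha hb => simp only [map_add, TensorProduct.add_tmul, ha, hb, smul_add]

lemma slice_comm_assoc_tmul (φ : C →ₗ[K] K) (ψ : D →ₗ[K] K) (x : V ⊗[K] D) (c : C) :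
    slice (tensorForm φ ψ) ((TensorProduct.comm K D C).toLinearMap.lTensor V
      (TensorProduct.assoc K V D C (x ⊗ₜ[K] c))) = φ c • slice ψ x := by
  induction x using TensorProduct.induction_on with
  | zero => simp
  | tmul w d => simp [smul_smul]
  | add a b ha hb => simp only [map_add, TensorProduct.add_tmul, ha, hb, smul_add]

/-- Commuting coactions give commuting operators. -/
theorem opT_comm_of_commute
    (hcomm : (TensorProduct.assoc K V C D).toLinearMap ∘ₗ
        (HopfRep.Comod.coact (k := K) (A := C) (V := V)).rTensor D ∘ₗ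
          HopfRep.Comod.coact (k := K) (A := D) =
      (TensorProduct.comm K D C).toLinearMap.lTensor V ∘ₗ
        (TensorProduct.assoc K V D C).toLinearMap ∘ₗ
        (HopfRep.Comod.coact (k := K) (A := D) (V := V)).rTensor C ∘ₗ
          HopfRep.Comod.coact (k := K) (A := C))
    (φ : C →ₗ[K] K) (ψ : D →ₗ[K] K) (v : V) :
    opT K C V φ (opT K D V ψ v) = opT K D V ψ (opT K C V φ v) := by
  have h := congrArg (fun F => slice (tensorForm φ ψ) (F v)) hcomm
  simp only [LinearMap.comp_apply, LinearEquiv.coe_coe] at h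
  have hL : ∀ y : V ⊗[K] D, slice (tensorForm φ ψ) (TensorProduct.assoc K V C D
      ((HopfRep.Comod.coact (k := K) (A := C) (V := V)).rTensor D y)) =
      opT K C V φ (slice ψ y) := by
    intro y
    induction y using TensorProduct.induction_on with
    | zero => simp
    | tmul w d =>
      rw [LinearMap.rTensor_tmul, slice_assoc_tmul, slice_tmul, map_smul, opT_apply]
    | add a b ha hb => simp only [map_add, ha, hb]
  have hR : ∀ y : V ⊗[K] C, slice (tensorForm φ ψ)
      ((TensorProduct.comm K D C).toLinearMap.lTensor V (TensorProduct.assoc K V D C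
        ((HopfRep.Comod.coact (k := K) (A := D) (V := V)).rTensor C y))) =
      opT K D V ψ (slice φ y) := by
    intro y
    induction y using TensorProduct.induction_on with
    | zero => simp
    | tmul w c =>
      rw [LinearMap.rTensor_tmul, slice_comm_assoc_tmul, slice_tmul, map_smul, opT_apply]
    | add a b ha hb => simp only [map_add, ha, hb]
  rw [hL, hR] at h
  rw [opT_apply (V := V) ψ v, opT_apply (V := V) φ v]
  exact h

/-- With commuting coactions, the isotypic component for a `D`-comodule `S` is a `C`-subcomodule. -/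
theorem isSubcomod_isotypic_of_commute
    (hcomm : (TensorProduct.assoc K V C D).toLinearMap ∘ₗ
        (HopfRep.Comod.coact (k := K) (A := C) (V := V)).rTensor D ∘ₗ
          HopfRep.Comod.coact (k := K) (A := D) =
      (TensorProduct.comm K D C).toLinearMap.lTensor V ∘ₗ
        (TensorProduct.assoc K V D C).toLinearMap ∘ₗ
        (HopfRep.Comod.coact (k := K) (A := D) (V := V)).rTensor C ∘ₗ
          HopfRep.Comod.coact (k := K) (A := C))
    (S : Type w') [AddCommGroup S] [Module K S] [HopfRep.Comod K D S] :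
    HopfRep.IsSubcomod (k := K) (A := C)
      (⨆ f : {f : S →ₗ[K] V // Hoch.IsComodHom D f}, LinearMap.range f.1) := by
  rw [isSubcomod_iff]
  intro φ
  have hT : Hoch.IsComodHom D (opT K C V φ) :=
    Groth.Agent.Lib.Helper28.ComodHom.isComodHom_of_map_opT _
      (fun ψ v => opT_comm_of_commute hcomm φ ψ v)
  have hle : (⨆ f : {f : S →ₗ[K] V // Hoch.IsComodHom D f}, LinearMap.range f.1) ≤
      (⨆ f : {f : S →ₗ[K] V // Hoch.IsComodHom D f}, LinearMap.range f.1).comap
        (opT K C V φ) := by
    refine iSup_le fun f => ?_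
    rintro _ ⟨s, rfl⟩
    have hcomp : Hoch.IsComodHom D (opT K C V φ ∘ₗ f.1) := by
      apply Groth.Agent.Lib.Helper28.ComodHom.isComodHom_of_map_opT
      intro ψ s
      rw [LinearMap.comp_apply, LinearMap.comp_apply,
        Groth.Agent.Lib.Helper28.ComodHom.map_opT f.1 f.2,
        Groth.Agent.Lib.Helper28.ComodHom.map_opT _ hT]
    exact Submodule.mem_iSup_of_mem ⟨opT K C V φ ∘ₗ f.1, hcomp⟩ ⟨s, rfl⟩
  intro w hw
  exact hle hw

end Commute

end Groth.Agent.Lib.Helper28.ComodRestrict
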