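import Mathlib
import Groth.Agent.Lib.Helper28.GenFibreRed
import Groth.Agent.Lib.Helper28.GenFreeFibre

/-!
# Nowhere dense closed subsets of the generic fibre spread out: algebra (helper28)
-/

set_option autoImplicit false
set_option linter.style.haveILetI false
universe u
open TensorProduct nonZeroDivisors

namespace Groth.Agent.Lib.Helper28.GenFibre

open Groth.Agent.Lib.Helper28.GenFree

/-- In a noetherian ring, if `V(J)` is nowhere dense (expressed algebraically) then some `h ∈ J`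
has `D(h)` dense. -/
theorem exists_mem_nzd_mod_nil {C : Type*} [CommRing C] [IsNoetherianRing C] (J : Ideal C)
    (hJ : ∀ c : C, (∀ x ∈ J, IsNilpotent (c * x)) → IsNilpotent c) :
    ∃ h ∈ J, ∀ c : C, IsNilpotent (c * h) → IsNilpotent c := by
  classical
  have hfin : (minimalPrimes C).Finite := minimalPrimes.finite_of_isNoetherianRing C
  set s : Finset (Ideal C) := hfin.toFinset with hs
  have hmem : ∀ Q, Q ∈ s ↔ Q ∈ minimalPrimes C := fun Q => hfin.mem_toFinset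
  have hprime : ∀ Q ∈ s, Q.IsPrime := fun Q hQ => ((hmem Q).1 hQ).1.1
  have hnil : ∀ c : C, (∀ Q ∈ s, c ∈ Q) → IsNilpotent c := by
    intro c hc
    have h1 : c ∈ sInf (minimalPrimes C) := by
      rw [Ideal.mem_sInf]
      intro Q hQ
      exact hc Q ((hmem Q).2 hQ)
    have h2 : sInf (minimalPrimes C) = (⊥ : Ideal C).radical := Ideal.sInf_minimalPrimes
    rw [h2] at h1
    exact mem_nilradical.1 h1
  -- `J` is in no minimal prime
  have hJQ : ∀ Q ∈ s, ¬ J ≤ Q := by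
    intro Q hQ hJQ
    have hQmin := (hmem Q).1 hQ
    haveI := hprime Q hQ
    have h1 : ¬ ((s.erase Q).inf id ≤ Q) := by
      intro hle
      obtain ⟨P, hP, hPQ⟩ := (Ideal.IsPrime.inf_le' (hprime Q hQ)).1 hle
      have hPs := Finset.mem_of_mem_erase hP
      have hPmin := (hmem P).1 hPs
      have : Q ≤ P := hQmin.2 ⟨hPmin.1.1, bot_le⟩ hPQ
      exact (Finset.ne_of_mem_erase hP) (le_antisymm hPQ this)
    obtain ⟨c, hc, hcQ⟩ := SetLike.not_le_iff_exists.1 h1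
    apply hcQ
    have h2 : IsNilpotent c := by
      apply hJ
      intro x hx
      apply hnil
      intro P hP
      by_cases hPQ : P = Q
      · subst hPQ
        exact Ideal.mul_mem_left _ _ (hJQ hx)
      · have : (s.erase Q).inf id ≤ P := Finset.inf_le (f := id) (Finset.mem_erase.2 ⟨hPQ, hP⟩)
        exact Ideal.mul_mem_right _ _ (this hc)
    obtain ⟨n, hn⟩ := h2
    exact Ideal.IsPrime.mem_of_pow_mem inferInstance n (by rw [hn]; exact zero_mem _)
  -- prime avoidance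
  have h3 : ¬ ((J : Set C) ⊆ ⋃ Q ∈ (s : Set (Ideal C)), (id Q : Ideal C)) := by
    intro hsub
    obtain ⟨Q, hQ, hJQ'⟩ := (Ideal.subset_union_prime (f := id) ⊥ ⊥
      (fun Q hQ _ _ => hprime Q hQ)).1 hsub
    exact hJQ Q hQ hJQ'
  obtain ⟨h, hhJ, hh⟩ := Set.not_subset.1 h3
  refine ⟨h, hhJ, fun c hc => hnil c fun Q hQ => ?_⟩
  obtain ⟨n, hn⟩ := hc
  have h4 : c * h ∈ Q :=
    Ideal.IsPrime.mem_of_pow_mem (hprime Q hQ) n (by rw [hn]; exact zero_mem _)
  rcases (hprime Q hQ).mem_or_mem h4 with h5 | h5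
  · exact h5
  · exfalso
    apply hh
    simp only [Set.mem_iUnion]
    exact ⟨Q, hQ, h5⟩

/-- `V(I)` is nowhere dense in the spectrum of `L ⊗ B`, expressed algebraically. -/
def NDI (A L : Type*) {B : Type*} [CommRing A] [CommRing L] [CommRing B] [Algebra A L]
    [Algebra A B] (I : Ideal B) : Prop :=
  ∀ c : L ⊗[A] B, (∀ x ∈ I, IsNilpotent (c * ((1 : L) ⊗ₜ[A] x))) → IsNilpotent c

section domain

variable {A : Type u} [CommRing A] [IsDomain A] {B : Type u} [CommRing B] [Algebra A B]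
variable (K : Type u) [Field K] [Algebra A K] [IsFractionRing A K]

theorem exists_smul_eq_one_tmul (z : K ⊗[A] B) : ∃ s : A, s ≠ 0 ∧ ∃ b : B, s • z = 1 ⊗ₜ[A] b := by
  haveI hloc : IsLocalizedModule A⁰ (TensorProduct.mk A K B 1) :=
    (isLocalizedModule_iff_isBaseChange A⁰ K _).2 (TensorProduct.isBaseChange A B K)
  obtain ⟨⟨b, s⟩, hbs⟩ := IsLocalizedModule.surj A⁰ (TensorProduct.mk A K B 1) z
  exact ⟨s, nonZeroDivisors.ne_zero s.2, b, hbs⟩

theorem smul_eq_zero_of_ne_zero {s : A} (hs : s ≠ 0) {z : K ⊗[A] B} (h : s • z = 0) : z = 0 := by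
  have hs0 : algebraMap A K s ≠ 0 :=
    IsFractionRing.to_map_ne_zero_of_mem_nonZeroDivisors (mem_nonZeroDivisors_of_ne_zero hs)
  have : algebraMap A K s • z = 0 := by rw [algebraMap_smul]; exact h
  exact (smul_eq_zero_iff_right hs0).1 this

theorem isNilpotent_of_smul {s : A} (hs : s ≠ 0) {z : K ⊗[A] B} (h : IsNilpotent (s • z)) :
    IsNilpotent z := by
  obtain ⟨n, hn⟩ := h
  refine ⟨n, ?_⟩
  rw [smul_pow] at hn
  exact smul_eq_zero_of_ne_zero K (pow_ne_zero n hs) hn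

theorem exists_smul_eq_one_tmul_of_mem_map (I : Ideal B) (z : K ⊗[A] B)
    (hz : z ∈ I.map (Algebra.TensorProduct.includeRight : B →ₐ[A] K ⊗[A] B)) :
    ∃ s : A, s ≠ 0 ∧ ∃ x ∈ I, s • z = 1 ⊗ₜ[A] x := by
  rw [Ideal.map] at hz
  induction hz using Submodule.span_induction with
  | mem z hz =>
    obtain ⟨x, hx, rfl⟩ := hz
    exact ⟨1, one_ne_zero, x, hx, by rw [one_smul]; rfl⟩
  | zero => exact ⟨1, one_ne_zero, 0, zero_mem _, by simp⟩
  | add z₁ z₂ _ _ h₁ h₂ =>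
    obtain ⟨s₁, hs₁, x₁, hx₁, e₁⟩ := h₁
    obtain ⟨s₂, hs₂, x₂, hx₂, e₂⟩ := h₂
    refine ⟨s₁ * s₂, mul_ne_zero hs₁ hs₂, s₂ • x₁ + s₁ • x₂,
      add_mem (Submodule.smul_of_tower_mem _ _ hx₁) (Submodule.smul_of_tower_mem _ _ hx₂), ?_⟩
    have h1 : (s₁ * s₂) • z₁ = s₂ • ((1 : K) ⊗ₜ[A] x₁) := by rw [mul_comm, mul_smul, e₁]
    have h2 : (s₁ * s₂) • z₂ = s₁ • ((1 : K) ⊗ₜ[A] x₂) := by rw [mul_smul, e₂]
    rw [smul_add, h1, h2, TensorProduct.tmul_add, TensorProduct.tmul_smul,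
      TensorProduct.tmul_smul]
  | smul c z _ h =>
    obtain ⟨s, hs, x, hx, e⟩ := h
    obtain ⟨sc, hsc, b, eb⟩ := exists_smul_eq_one_tmul K c
    refine ⟨sc * s, mul_ne_zero hsc hs, b * x, Ideal.mul_mem_left _ _ hx, ?_⟩
    rw [smul_eq_mul, mul_smul, ← mul_smul_comm, e, ← smul_mul_assoc, eb,
      Algebra.TensorProduct.tmul_mul_tmul, one_mul]

theorem exists_mem_of_NDI [Algebra.FiniteType A B] (I : Ideal B) (h : NDI A K I) :
    ∃ x ∈ I, ∀ c : K ⊗[A] B, IsNilpotent (c * ((1 : K) ⊗ₜ[A] x)) → IsNilpotent c := by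
  haveI : IsNoetherianRing (K ⊗[A] B) := Algebra.FiniteType.isNoetherianRing K (K ⊗[A] B)
  obtain ⟨h', hh'J, hh'⟩ := exists_mem_nzd_mod_nil
    (I.map (Algebra.TensorProduct.includeRight : B →ₐ[A] K ⊗[A] B)) (fun c hc =>
      h c fun x hx => hc _ (Ideal.mem_map_of_mem _ hx))
  obtain ⟨s, hs, x, hx, e⟩ := exists_smul_eq_one_tmul_of_mem_map K I h' hh'J
  refine ⟨x, hx, fun c hc => hh' c ?_⟩
  rw [← e, mul_smul_comm] at hc
  exact isNilpotent_of_smul K hs hc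

theorem exists_nil_data (z : K ⊗[A] B) (hz : IsNilpotent z) :
    ∃ n : B, ∃ t : A, t ≠ 0 ∧ (∃ s : A, s ≠ 0 ∧ s • z = 1 ⊗ₜ[A] n) ∧ ∃ k : ℕ, t • n ^ k = 0 := by
  haveI hloc : IsLocalizedModule A⁰ (TensorProduct.mk A K B 1) :=
    (isLocalizedModule_iff_isBaseChange A⁰ K _).2 (TensorProduct.isBaseChange A B K)
  obtain ⟨s, hs, n, e⟩ := exists_smul_eq_one_tmul K z
  obtain ⟨k, hk⟩ := hz
  have h1 : ((1 : K) ⊗ₜ[A] n) ^ k = 0 := by rw [← e, smul_pow, hk, smul_zero]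
  rw [Algebra.TensorProduct.tmul_pow, one_pow] at h1
  have h2 : TensorProduct.mk A K B 1 (n ^ k) = 0 := h1
  obtain ⟨t, ht⟩ := (IsLocalizedModule.eq_zero_iff A⁰ _).1 h2
  exact ⟨n, t, nonZeroDivisors.ne_zero t.2, ⟨s, hs, e⟩, k, ht⟩

theorem exists_fg_nil_ideal [Algebra.FiniteType A B] :
    ∃ N₀ : Ideal B,
      N₀.map (Algebra.TensorProduct.includeRight : B →ₐ[A] K ⊗[A] B) = nilradical (K ⊗[A] B) ∧
      ∃ t : A, t ≠ 0 ∧ ∀ (L : Type u) [Field L] [Algebra A L], algebraMap A L t ≠ 0 →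
        ∀ n ∈ N₀, IsNilpotent ((1 : L) ⊗ₜ[A] n) := by
  classical
  haveI : IsNoetherianRing (K ⊗[A] B) := Algebra.FiniteType.isNoetherianRing K (K ⊗[A] B)
  obtain ⟨G, hG⟩ : (nilradical (K ⊗[A] B)).FG := IsNoetherian.noetherian _
  have key : ∀ z ∈ G, ∃ n : B, ∃ t : A, t ≠ 0 ∧ (∃ s : A, s ≠ 0 ∧ s • z = 1 ⊗ₜ[A] n) ∧
      ∃ k : ℕ, t • n ^ k = 0 := fun z hz =>
    exists_nil_data K z (mem_nilradical.1 (hG ▸ Ideal.subset_span hz))
  choose! nf tf ht hs hk using key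
  refine ⟨Ideal.span (nf '' (G : Set (K ⊗[A] B))), ?_, ∏ z ∈ G, tf z,
    Finset.prod_ne_zero_iff.2 ht, ?_⟩
  · apply le_antisymm
    · rw [Ideal.map_le_iff_le_comap, Ideal.span_le]
      rintro _ ⟨z, hz, rfl⟩
      obtain ⟨s, -, e⟩ := hs z hz
      show (1 : K) ⊗ₜ[A] nf z ∈ nilradical (K ⊗[A] B)
      rw [← e]
      exact Submodule.smul_of_tower_mem _ _ (hG ▸ Ideal.subset_span hz)
    · rw [← hG]
      change Ideal.span _ ≤ _
      rw [Ideal.span_le]
      intro z hz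
      obtain ⟨s, hs0, e⟩ := hs z hz
      have hsK : algebraMap A K s ≠ 0 :=
        IsFractionRing.to_map_ne_zero_of_mem_nonZeroDivisors (mem_nonZeroDivisors_of_ne_zero hs0)
      have h1 : z = (algebraMap A K s)⁻¹ • ((1 : K) ⊗ₜ[A] nf z) := by
        rw [← e, ← algebraMap_smul K s z, smul_smul, inv_mul_cancel₀ hsK, one_smul]
      have h2 : (1 : K) ⊗ₜ[A] nf z ∈ (Ideal.span (nf '' (G : Set (K ⊗[A] B)))).map
          (Algebra.TensorProduct.includeRight : B →ₐ[A] K ⊗[A] B) :=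
        Ideal.mem_map_of_mem _ (Ideal.subset_span ⟨z, hz, rfl⟩)
      show z ∈ _
      rw [h1, Algebra.smul_def]
      exact Ideal.mul_mem_left _ _ h2
  · intro L _ _ htL n hn
    have hle : Ideal.span (nf '' (G : Set (K ⊗[A] B))) ≤
        (nilradical (L ⊗[A] B)).comap
          (Algebra.TensorProduct.includeRight : B →ₐ[A] L ⊗[A] B) := by
      rw [Ideal.span_le]
      rintro _ ⟨z, hz, rfl⟩
      show (1 : L) ⊗ₜ[A] nf z ∈ nilradical (L ⊗[A] B)
      rw [mem_nilradical]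
      obtain ⟨k, hk'⟩ := hk z hz
      refine ⟨k, ?_⟩
      rw [Algebra.TensorProduct.tmul_pow, one_pow]
      have htz : algebraMap A L (tf z) ≠ 0 := by
        intro h0
        apply htL
        rw [map_prod]
        exact Finset.prod_eq_zero hz h0
      have h1 : algebraMap A L (tf z) • ((1 : L) ⊗ₜ[A] (nf z ^ k)) = 0 := by
        rw [algebraMap_smul, ← TensorProduct.tmul_smul, hk', TensorProduct.tmul_zero]
      exact (smul_eq_zero_iff_right htz).1 h1
    exact mem_nilradical.1 (hle hn)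

/-- `1 ⊗ h̄` is a nonzerodivisor on `K ⊗ (B ⧸ N₀)`. -/
theorem nzd_generic (N₀ : Ideal B)
    (hN₀ : N₀.map (Algebra.TensorProduct.includeRight : B →ₐ[A] K ⊗[A] B) =
      nilradical (K ⊗[A] B)) (h : B)
    (hh : ∀ c : K ⊗[A] B, IsNilpotent (c * ((1 : K) ⊗ₜ[A] h)) → IsNilpotent c)
    (z : K ⊗[A] (B ⧸ N₀)) (hz : z * ((1 : K) ⊗ₜ[A] (Ideal.Quotient.mk N₀ h)) = 0) : z = 0 := by
  let e₀ := Algebra.TensorProduct.tensorQuotientEquiv (R := A) K B K N₀
  obtain ⟨c, hc⟩ := Ideal.Quotient.mk_surjective (e₀ z)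
  have h1 : e₀ ((1 : K) ⊗ₜ[A] (Ideal.Quotient.mk N₀ h)) = Ideal.Quotient.mk _ ((1 : K) ⊗ₜ[A] h) :=
    Algebra.TensorProduct.tensorQuotientEquiv_apply_tmul (R := A) K B K N₀ 1 h
  have h2 := congrArg e₀ hz
  rw [map_mul, map_zero, h1, ← hc, ← map_mul, Ideal.Quotient.eq_zero_iff_mem, hN₀,
    mem_nilradical] at h2
  have h3 : c ∈ N₀.map (Algebra.TensorProduct.includeRight : B →ₐ[A] K ⊗[A] B) := by
    rw [hN₀, mem_nilradical]; exact hh c h2
  have h4 : e₀ z = 0 := by rw [← hc]; exact Ideal.Quotient.eq_zero_iff_mem.2 h3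
  exact (map_eq_zero_iff e₀ e₀.injective).1 h4

/-- Spreading out the nonzerodivisor property. -/
theorem nzd_spread [Algebra.FiniteType A B] (N₀ : Ideal B)
    (hN₀ : N₀.map (Algebra.TensorProduct.includeRight : B →ₐ[A] K ⊗[A] B) =
      nilradical (K ⊗[A] B)) (h : B)
    (hh : ∀ c : K ⊗[A] B, IsNilpotent (c * ((1 : K) ⊗ₜ[A] h)) → IsNilpotent c) :
    ∃ f : A, f ≠ 0 ∧ ∀ (L : Type u) [Field L] [Algebra A L], algebraMap A L f ≠ 0 →
      ∀ z : L ⊗[A] (B ⧸ N₀), z * ((1 : L) ⊗ₜ[A] (Ideal.Quotient.mk N₀ h)) = 0 → z = 0 := by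
  set hb : B ⧸ N₀ := Ideal.Quotient.mk N₀ h with hhb
  let w : (B ⧸ N₀) →ₗ[A] (B ⧸ N₀) := LinearMap.mulLeft A hb
  let q : (B ⧸ N₀) →ₗ[A] ((B ⧸ N₀) ⧸ Ideal.span {hb}) :=
    (Ideal.Quotient.mkₐ A (Ideal.span {hb})).toLinearMap
  have hq : Function.Surjective q := Ideal.Quotient.mkₐ_surjective A _
  have hwq : Function.Exact w q := by
    intro y
    show (Ideal.Quotient.mk (Ideal.span {hb}) y = 0) ↔ _
    rw [Ideal.Quotient.eq_zero_iff_mem, Ideal.mem_span_singleton']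
    constructor
    · rintro ⟨a, rfl⟩
      exact ⟨a, by show hb * a = a * hb; exact mul_comm _ _⟩
    · rintro ⟨a, rfl⟩
      exact ⟨a, by show a * hb = hb * a; exact mul_comm _ _⟩
  have htors : ∀ c, w c = 0 → ∃ r ∈ A⁰, r • c = 0 := by
    intro c hc
    haveI hloc : IsLocalizedModule A⁰ (TensorProduct.mk A K (B ⧸ N₀) 1) :=
      (isLocalizedModule_iff_isBaseChange A⁰ K _).2 (TensorProduct.isBaseChange A (B ⧸ N₀) K)
    have h1 : ((1 : K) ⊗ₜ[A] c) * ((1 : K) ⊗ₜ[A] hb) = 0 := by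
      rw [Algebra.TensorProduct.tmul_mul_tmul, one_mul, mul_comm]
      have : hb * c = 0 := hc
      rw [this, TensorProduct.tmul_zero]
    have h2 : TensorProduct.mk A K (B ⧸ N₀) 1 c = 0 := nzd_generic K N₀ hN₀ h hh _ h1
    obtain ⟨r, hr⟩ := (IsLocalizedModule.eq_zero_iff A⁰ _).1 h2
    exact ⟨r, r.2, hr⟩
  obtain ⟨f₁, hf₁, hfree₁⟩ := genFree_finiteType (R := A) (S := B ⧸ N₀) (B ⧸ N₀)
  obtain ⟨f₂, hf₂, hfree₂⟩ := genFree_finiteType (R := A) (S := B ⧸ N₀)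
    ((B ⧸ N₀) ⧸ Ideal.span {hb})
  refine ⟨f₁ * f₂, mul_ne_zero hf₁ hf₂, fun L _ _ hfL z hz => ?_⟩
  have hinj := fibre_injective w q hq hwq htors (mul_ne_zero hf₁ hf₂)
    (hfree₁.of_dvd (dvd_mul_right _ _)) (hfree₂.of_dvd (dvd_mul_left _ _)) L (IsUnit.mk0 _ hfL)
  have hw : ∀ y : L ⊗[A] (B ⧸ N₀), w.baseChange L y = y * ((1 : L) ⊗ₜ[A] hb) := by
    intro y
    induction y using TensorProduct.induction_on with
    | zero => simp
    | tmul l b =>
      rw [LinearMap.baseChange_tmul, Algebra.TensorProduct.tmul_mul_tmul, mul_one]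
      show l ⊗ₜ[A] (hb * b) = _
      rw [mul_comm]
    | add x y hx hy => rw [map_add, add_mul, hx, hy]
  apply hinj
  rw [hw, hz, map_zero]

/-- Domain case: nowhere density of `V(I)` in the generic fibre spreads out. -/
theorem ndi_spread [Algebra.FiniteType A B] (I : Ideal B) (h : NDI A K I) :
    ∃ g : A, g ≠ 0 ∧ ∀ (L : Type u) [Field L] [Algebra A L], algebraMap A L g ≠ 0 →
      NDI A L I := by
  obtain ⟨x, hxI, hx⟩ := exists_mem_of_NDI K I h
  obtain ⟨N₀, hN₀, t, ht, hnil⟩ := exists_fg_nil_ideal (A := A) (B := B) K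
  obtain ⟨f, hf, hnzd⟩ := nzd_spread K N₀ hN₀ x hx
  refine ⟨t * f, mul_ne_zero ht hf, fun L _ _ hgL c hc => ?_⟩
  rw [map_mul] at hgL
  have htL : algebraMap A L t ≠ 0 := fun h0 => hgL (by rw [h0, zero_mul])
  have hfL : algebraMap A L f ≠ 0 := fun h0 => hgL (by rw [h0, mul_zero])
  obtain ⟨n, hn⟩ := hc x hxI
  let π : L ⊗[A] B →ₐ[A] L ⊗[A] (B ⧸ N₀) :=
    Algebra.TensorProduct.map (AlgHom.id A L) (Ideal.Quotient.mkₐ A N₀)
  have hπx : π ((1 : L) ⊗ₜ[A] x) = (1 : L) ⊗ₜ[A] (Ideal.Quotient.mk N₀ x) := by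
    simp [π]
  have h1 : π c ^ n * ((1 : L) ⊗ₜ[A] (Ideal.Quotient.mk N₀ x)) ^ n = 0 := by
    rw [← hπx, ← map_pow, ← map_pow, ← map_mul, ← mul_pow, hn, map_zero]
  have hpow : ∀ (m : ℕ) (z : L ⊗[A] (B ⧸ N₀)),
      z * ((1 : L) ⊗ₜ[A] (Ideal.Quotient.mk N₀ x)) ^ m = 0 → z = 0 := by
    intro m
    induction m with
    | zero => intro z hz; simpa using hz
    | succ m ih =>
      intro z hz
      rw [pow_succ, ← mul_assoc] at hz
      exact ih z (hnzd L hfL _ hz)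
  have h2 : π (c ^ n) = 0 := by rw [map_pow]; exact hpow n _ h1
  let e := Algebra.TensorProduct.tensorQuotientEquiv (R := A) L B L N₀
  have he : ∀ y : L ⊗[A] B, e (π y) = Ideal.Quotient.mk _ y := by
    intro y
    induction y using TensorProduct.induction_on with
    | zero => simp
    | tmul l b => rfl
    | add y₁ y₂ h₁ h₂ => rw [map_add, map_add, h₁, h₂, map_add]
  have h3 : c ^ n ∈ N₀.map (Algebra.TensorProduct.includeRight : B →ₐ[A] L ⊗[A] B) := by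
    rw [← Ideal.Quotient.eq_zero_iff_mem, ← he, h2, map_zero]
  have h4 : N₀.map (Algebra.TensorProduct.includeRight : B →ₐ[A] L ⊗[A] B) ≤
      nilradical (L ⊗[A] B) := by
    rw [Ideal.map_le_iff_le_comap]
    intro n hn
    exact mem_nilradical.2 (hnil L htL n hn)
  obtain ⟨m, hm⟩ := mem_nilradical.1 (h4 h3)
  exact ⟨n * m, by rw [pow_mul, hm]⟩

end domain

section general

variable {R : Type u} [CommRing R] {B : Type u} [CommRing B] [Algebra R B]

theorem isFractionRing_quot (p₀ : Ideal R) [p₀.IsPrime] (K : Type u) [Field K] [Algebra R K]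
    [Algebra (R ⧸ p₀) K] [IsScalarTower R (R ⧸ p₀) K]
    (hker : RingHom.ker (algebraMap R K) = p₀)
    (hfrac : ∀ x : K, ∃ a s : R, s ∉ p₀ ∧ x * algebraMap R K s = algebraMap R K a) :
    IsFractionRing (R ⧸ p₀) K := by
  haveI : FaithfulSMul (R ⧸ p₀) K := by
    rw [faithfulSMul_iff_algebraMap_injective]
    rw [injective_iff_map_eq_zero]
    intro a ha
    obtain ⟨r, rfl⟩ := Ideal.Quotient.mk_surjective a
    have h1 : algebraMap R K r = 0 := by
      rw [IsScalarTower.algebraMap_apply R (R ⧸ p₀) K]; exact ha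
    have h2 : r ∈ p₀ := by rw [← hker]; exact h1
    exact Ideal.Quotient.eq_zero_iff_mem.2 h2
  refine IsFractionRing.of_field (R ⧸ p₀) K (fun x => ?_)
  obtain ⟨a, s, hs, hx⟩ := hfrac x
  refine ⟨Ideal.Quotient.mk p₀ a, Ideal.Quotient.mk p₀ s, ?_⟩
  have hs0 : algebraMap R K s ≠ 0 := by
    intro h0
    exact hs (by rw [← hker]; exact h0)
  have e1 : algebraMap (R ⧸ p₀) K (Ideal.Quotient.mk p₀ a) = algebraMap R K a :=
    (IsScalarTower.algebraMap_apply R (R ⧸ p₀) K a).symm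
  have e2 : algebraMap (R ⧸ p₀) K (Ideal.Quotient.mk p₀ s) = algebraMap R K s :=
    (IsScalarTower.algebraMap_apply R (R ⧸ p₀) K s).symm
  rw [e1, e2, eq_div_iff hs0, hx]

/-- Transfer of `NDI` through `R ⧸ p₀` for a field `L` over `R`, `p₀ ≤ nilradical R`. -/
theorem ndi_quot_iff (p₀ : Ideal R) (hp₀ : p₀ ≤ nilradical R) (I : Ideal B)
    (L : Type u) [Field L] [Algebra R L] :
    ∃ (_ : Algebra (R ⧸ p₀) L) (_ : IsScalarTower R (R ⧸ p₀) L),
      (NDI (R ⧸ p₀) L (I.map (Algebra.TensorProduct.includeRight : B →ₐ[R] (R ⧸ p₀) ⊗[R] B)) ↔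
        NDI R L I) := by
  have hker : ∀ a ∈ p₀, algebraMap R L a = 0 := by
    intro a ha
    obtain ⟨n, hn⟩ := hp₀ ha
    have : (algebraMap R L a) ^ n = 0 := by rw [← map_pow, hn, map_zero]
    exact pow_eq_zero_iff (by rintro rfl; simp at this) |>.1 this
  letI alg : Algebra (R ⧸ p₀) L := (Ideal.Quotient.lift p₀ (algebraMap R L) hker).toAlgebra
  haveI tower : IsScalarTower R (R ⧸ p₀) L := IsScalarTower.of_algebraMap_eq (fun r => rfl)
  refine ⟨alg, tower, ?_⟩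
  let e := Algebra.TensorProduct.cancelBaseChange R (R ⧸ p₀) L L B
  have he : ∀ x : B, e ((1 : L) ⊗ₜ[R ⧸ p₀] ((1 : R ⧸ p₀) ⊗ₜ[R] x)) = (1 : L) ⊗ₜ[R] x := by
    intro x
    rw [Algebra.TensorProduct.cancelBaseChange_tmul, one_smul]
  constructor
  · intro h c hc
    have h1 : IsNilpotent (e.symm c) := by
      apply h
      intro x' hx'
      rw [Ideal.map] at hx'
      induction hx' using Submodule.span_induction with
      | mem x' hx' =>
        obtain ⟨x, hx, rfl⟩ := hx'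
        have h2 : e.symm c * ((1 : L) ⊗ₜ[R ⧸ p₀] ((1 : R ⧸ p₀) ⊗ₜ[R] x)) =
            e.symm (c * ((1 : L) ⊗ₜ[R] x)) := by
          rw [map_mul, ← he x, AlgEquiv.symm_apply_apply]
        show IsNilpotent (e.symm c * ((1 : L) ⊗ₜ[R ⧸ p₀] ((1 : R ⧸ p₀) ⊗ₜ[R] x)))
        rw [h2]
        exact (hc x hx).map e.symm
      | zero => rw [TensorProduct.tmul_zero, mul_zero]; exact IsNilpotent.zero
      | add y₁ y₂ _ _ h₁ h₂ =>
        rw [TensorProduct.tmul_add, mul_add]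
        exact (Commute.all _ _).isNilpotent_add h₁ h₂
      | smul β y _ h₁ =>
        have h3 : e.symm c * ((1 : L) ⊗ₜ[R ⧸ p₀] (β • y)) =
            ((1 : L) ⊗ₜ[R ⧸ p₀] β) * (e.symm c * ((1 : L) ⊗ₜ[R ⧸ p₀] y)) := by
          have h4 : (1 : L) ⊗ₜ[R ⧸ p₀] (β * y) =
              ((1 : L) ⊗ₜ[R ⧸ p₀] β) * ((1 : L) ⊗ₜ[R ⧸ p₀] y) := by
            rw [Algebra.TensorProduct.tmul_mul_tmul, one_mul]
          rw [smul_eq_mul, h4, mul_left_comm]
        rw [h3]
        exact (Commute.all _ _).isNilpotent_mul_left h₁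
    have := h1.map e
    rwa [AlgEquiv.apply_symm_apply] at this
  · intro h c' hc'
    have h1 : IsNilpotent (e c') := by
      apply h
      intro x hx
      have h2 : e c' * ((1 : L) ⊗ₜ[R] x) =
          e (c' * ((1 : L) ⊗ₜ[R ⧸ p₀] ((1 : R ⧸ p₀) ⊗ₜ[R] x))) := by
        rw [map_mul, he x]
      rw [h2]
      exact (hc' _ (Ideal.mem_map_of_mem _ hx)).map e
    have := h1.map e.symm
    rwa [AlgEquiv.symm_apply_apply] at this

/-- General base: nowhere density of `V(I)` in the generic fibre spreads out. -/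
theorem ndi_spread' [Algebra.FiniteType R B] (p₀ : Ideal R) [p₀.IsPrime]
    (hp₀ : p₀ ≤ nilradical R)
    (K : Type u) [Field K] [Algebra R K] (hker : RingHom.ker (algebraMap R K) = p₀)
    (hfrac : ∀ x : K, ∃ a s : R, s ∉ p₀ ∧ x * algebraMap R K s = algebraMap R K a)
    (I : Ideal B) (h : NDI R K I) :
    ∃ g : R, g ∉ p₀ ∧ ∀ (L : Type u) [Field L] [Algebra R L], algebraMap R L g ≠ 0 →
      NDI R L I := by
  obtain ⟨algK, towerK, hK⟩ := ndi_quot_iff p₀ hp₀ I K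
  haveI : IsFractionRing (R ⧸ p₀) K := isFractionRing_quot p₀ K hker hfrac
  obtain ⟨g', hg'0, hg'⟩ := ndi_spread (A := R ⧸ p₀) (B := (R ⧸ p₀) ⊗[R] B) K _ (hK.2 h)
  obtain ⟨g, rfl⟩ := Ideal.Quotient.mk_surjective g'
  refine ⟨g, fun hg => hg'0 (Ideal.Quotient.eq_zero_iff_mem.2 hg), fun L _ _ hgL => ?_⟩
  obtain ⟨algL, towerL, hL⟩ := ndi_quot_iff p₀ hp₀ I L
  refine hL.1 (hg' L ?_)
  have e1 : algebraMap (R ⧸ p₀) L (Ideal.Quotient.mk p₀ g) = algebraMap R L g :=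
    (IsScalarTower.algebraMap_apply R (R ⧸ p₀) L g).symm
  rw [e1]
  exact hgL

end general

section primes

variable {R : Type u} [CommRing R] {B : Type u} [CommRing B] [Algebra R B]

/-- `V(I) ∩ Fib(p)` is nowhere dense in the fibre `Fib(p) ⊆ Spec B`, in terms of primes. -/
def NDprimes (p : Ideal R) (I : Ideal B) : Prop :=
  ∀ b : B, (∃ q : Ideal B, q.IsPrime ∧ q.comap (algebraMap R B) = p ∧ b ∉ q) →
    ∃ q : Ideal B, q.IsPrime ∧ q.comap (algebraMap R B) = p ∧ b ∉ q ∧ ¬ I ≤ q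

variable (p : Ideal R) [p.IsPrime]

theorem exists_fiber_prime (q : Ideal B) [q.IsPrime] (hq : q.comap (algebraMap R B) = p) :
    ∃ Q : Ideal (p.ResidueField ⊗[R] B), Q.IsPrime ∧
      Q.comap (Algebra.TensorProduct.includeRight : B →ₐ[R] p.ResidueField ⊗[R] B) = q := by
  let P : PrimeSpectrum R := ⟨p, inferInstance⟩
  let q' : PrimeSpectrum.comap (algebraMap R B) ⁻¹' {P} :=
    ⟨⟨q, inferInstance⟩, PrimeSpectrum.ext hq⟩
  let Q := PrimeSpectrum.preimageEquivFiber R B P q'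
  refine ⟨Q.asIdeal, Q.isPrime, ?_⟩
  have h1 := (PrimeSpectrum.preimageEquivFiber R B P).symm_apply_apply q'
  have h2 := congrArg (fun z => z.1.asIdeal) h1
  exact h2

theorem comap_fiber_prime (Q : Ideal (p.ResidueField ⊗[R] B)) [Q.IsPrime] :
    ((Q.comap (Algebra.TensorProduct.includeRight : B →ₐ[R] p.ResidueField ⊗[R] B)).comap
      (algebraMap R B)) = p := by
  let P : PrimeSpectrum R := ⟨p, inferInstance⟩
  have h1 := ((PrimeSpectrum.preimageEquivFiber R B P).symm ⟨Q, inferInstance⟩).2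
  have h2 := congrArg PrimeSpectrum.asIdeal h1
  exact h2

theorem ndprimes_of_ndi (I : Ideal B) (h : NDI R p.ResidueField I) : NDprimes p I := by
  rintro b ⟨q, hq, hqp, hbq⟩
  by_contra hcon
  push_neg at hcon
  obtain ⟨Q, hQ, hQq⟩ := exists_fiber_prime p q hqp
  have h1 : IsNilpotent ((1 : p.ResidueField) ⊗ₜ[R] b) := by
    apply h
    intro x hx
    rw [nilpotent_iff_mem_prime]
    intro J hJ
    by_cases hb : b ∈ J.comap (Algebra.TensorProduct.includeRight : B →ₐ[R] p.ResidueField ⊗[R] B)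
    · exact Ideal.mul_mem_right _ _ hb
    · have := hcon _ (Ideal.comap_isPrime _ J) (comap_fiber_prime p J) hb
      exact Ideal.mul_mem_left _ _ (this hx)
  have h2 : (1 : p.ResidueField) ⊗ₜ[R] b ∈ Q := by
    obtain ⟨n, hn⟩ := h1
    exact hQ.mem_of_pow_mem n (by rw [hn]; exact zero_mem _)
  apply hbq
  rw [← hQq]
  exact h2

theorem ndi_of_ndprimes (I : Ideal B) (h : NDprimes p I) : NDI R p.ResidueField I := by
  intro c hc
  rw [nilpotent_iff_mem_prime]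
  intro J hJ
  by_contra hcJ
  obtain ⟨r, hr, s, e⟩ := Ideal.Fiber.exists_smul_eq_one_tmul p c
  have hrJ : algebraMap R (p.ResidueField ⊗[R] B) r ∉ J := by
    intro hmem
    apply hr
    have h1 : r ∈ (J.comap (Algebra.TensorProduct.includeRight :
        B →ₐ[R] p.ResidueField ⊗[R] B)).comap (algebraMap R B) := by
      show (Algebra.TensorProduct.includeRight : B →ₐ[R] p.ResidueField ⊗[R] B)
        (algebraMap R B r) ∈ J
      rw [AlgHom.commutes]
      exact hmem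
    rwa [comap_fiber_prime p J] at h1
  have hsJ : (1 : p.ResidueField) ⊗ₜ[R] s ∉ J := by
    rw [← e, Algebra.smul_def]
    intro hmem
    rcases hJ.mem_or_mem hmem with h1 | h1
    · exact hrJ h1
    · exact hcJ h1
  obtain ⟨q', hq', hq'p, hsq', hIq'⟩ := h s
    ⟨_, Ideal.comap_isPrime _ J, comap_fiber_prime p J, hsJ⟩
  obtain ⟨x, hxI, hxq'⟩ := SetLike.not_le_iff_exists.1 hIq'
  haveI := hq'
  obtain ⟨Q', hQ', hQ'q'⟩ := exists_fiber_prime p q' hq'p
  have h1 : c * ((1 : p.ResidueField) ⊗ₜ[R] x) ∈ Q' := by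
    obtain ⟨n, hn⟩ := hc x hxI
    exact hQ'.mem_of_pow_mem n (by rw [hn]; exact zero_mem _)
  rcases hQ'.mem_or_mem h1 with h2 | h2
  · apply hsq'
    rw [← hQ'q']
    show (1 : p.ResidueField) ⊗ₜ[R] s ∈ Q'
    rw [← e, Algebra.smul_def]
    exact Ideal.mul_mem_left _ _ h2
  · apply hxq'
    rw [← hQ'q']
    exact h2

theorem residueField_frac (x : p.ResidueField) :
    ∃ a s : R, s ∉ p ∧ x * algebraMap R p.ResidueField s = algebraMap R p.ResidueField a := by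
  obtain ⟨y, rfl⟩ := IsLocalRing.residue_surjective x
  obtain ⟨⟨a, s⟩, hs⟩ := IsLocalization.surj p.primeCompl y
  refine ⟨a, s.1, s.2, ?_⟩
  have := congrArg (IsLocalRing.residue (Localization.AtPrime p)) hs
  rw [map_mul] at this
  exact this

/-- Nowhere density of `V(I)` in the generic fibre spreads out (prime formulation). -/
theorem ndprimes_spread [Algebra.FiniteType R B] (p₀ : Ideal R) [p₀.IsPrime]
    (hp₀ : p₀ ≤ nilradical R) (I : Ideal B) (h : NDprimes p₀ I) :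
    ∃ g : R, g ∉ p₀ ∧ ∀ (p : Ideal R) [p.IsPrime], g ∉ p → NDprimes p I := by
  have hker : RingHom.ker (algebraMap R p₀.ResidueField) = p₀ := by
    ext a
    rw [RingHom.mem_ker, Ideal.algebraMap_residueField_eq_zero]
  obtain ⟨g, hg, hgL⟩ := ndi_spread' p₀ hp₀ p₀.ResidueField hker (residueField_frac p₀) I
    (ndi_of_ndprimes p₀ I h)
  refine ⟨g, hg, fun p _ hgp => ndprimes_of_ndi p I (hgL p.ResidueField ?_)⟩
  rwa [Ne, Ideal.algebraMap_residueField_eq_zero]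

end primes


end Groth.Agent.Lib.Helper28.GenFibre
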