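import Mathlib
import Groth.Agent.Lib.Helper28.GenFibreND
import Groth.Agent.Lib.Helper28.GenFibreTop

/-!
# Nowhere dense closed subsets of the generic fibre spread out: schemes (helper28)
-/

set_option autoImplicit false
set_option linter.style.haveILetI false
universe u
open AlgebraicGeometry CategoryTheory Limits TopologicalSpace

namespace Groth.Agent.Lib.Helper28.GenFibreNDSch

open Groth.Agent.Lib.Helper28.GenFibre Groth.Agent.Lib.Helper28.GenFibreTop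
  Groth.Agent.Lib.Helper3

variable {X Y : Scheme.{u}} (f : X ⟶ Y)

section chart

variable {V₀ : Y.Opens} (hV₀ : IsAffineOpen V₀) {W : X.Opens} (hW : IsAffineOpen W)
  (e : W ≤ f ⁻¹ᵁ V₀)

include hV₀ in
/-- A prime of the chart ring lying over the prime of `y` gives a point of the fibre over `y`. -/
theorem exists_point_of_prime (y : Y) (hy : y ∈ V₀) (q : Ideal Γ(X, W)) (hq : q.IsPrime)
    (hqp : q.comap (f.appLE V₀ W e).hom = (hV₀.primeIdealOf ⟨y, hy⟩).asIdeal) :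
    ∃ (x : X) (hx : x ∈ W), f x = y ∧ (hW.primeIdealOf ⟨x, hx⟩).asIdeal = q := by
  set x : X := hW.fromSpec ⟨q, hq⟩ with hx
  have hxW : x ∈ W := by
    have : x ∈ Set.range hW.fromSpec := ⟨_, rfl⟩
    rwa [hW.range_fromSpec] at this
  have h1 : hW.primeIdealOf ⟨x, hxW⟩ = ⟨q, hq⟩ :=
    hW.fromSpec.isOpenEmbedding.injective (hW.fromSpec_primeIdealOf ⟨x, hxW⟩)
  have h2 := primeIdealOf_comap f hV₀ hW e x hxW
  rw [h1] at h2
  have h3 : (hV₀.primeIdealOf ⟨f x, e hxW⟩) = hV₀.primeIdealOf ⟨y, hy⟩ := by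
    apply PrimeSpectrum.ext
    rw [h2]
    exact hqp
  have hfx : f x = y := by
    have := congrArg hV₀.fromSpec h3
    rwa [hV₀.fromSpec_primeIdealOf, hV₀.fromSpec_primeIdealOf] at this
  exact ⟨x, hxW, hfx, congrArg PrimeSpectrum.asIdeal h1⟩

include hV₀ in
theorem comap_primeIdealOf_eq (x : X) (hx : x ∈ W) (y : Y) (hy : y ∈ V₀) (hfx : f x = y) :
    (hW.primeIdealOf ⟨x, hx⟩).asIdeal.comap (f.appLE V₀ W e).hom =
      (hV₀.primeIdealOf ⟨y, hy⟩).asIdeal := by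
  subst hfx
  exact (primeIdealOf_comap f hV₀ hW e x hx).symm

theorem vanishingIdeal_le_iff (Z : Set X) (hZ : IsClosed Z) (x : X) (hx : x ∈ W) :
    PrimeSpectrum.vanishingIdeal (hW.fromSpec ⁻¹' Z) ≤ (hW.primeIdealOf ⟨x, hx⟩).asIdeal ↔
      x ∈ Z := by
  set q := hW.primeIdealOf ⟨x, hx⟩ with hq
  have hcl : IsClosed (hW.fromSpec ⁻¹' Z) := hZ.preimage hW.fromSpec.continuous
  have h0 : q ∈ PrimeSpectrum.zeroLocus
      (PrimeSpectrum.vanishingIdeal (hW.fromSpec ⁻¹' Z) : Set Γ(X, W)) ↔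
      PrimeSpectrum.vanishingIdeal (hW.fromSpec ⁻¹' Z) ≤ q.asIdeal :=
    PrimeSpectrum.mem_zeroLocus q _
  rw [← h0, PrimeSpectrum.zeroLocus_vanishingIdeal_eq_closure]
  have h1 : q ∈ closure (hW.fromSpec ⁻¹' Z) ↔ q ∈ hW.fromSpec ⁻¹' Z :=
    Set.ext_iff.1 hcl.closure_eq q
  refine h1.trans ?_
  show hW.fromSpec q ∈ Z ↔ x ∈ Z
  rw [hq, hW.fromSpec_primeIdealOf]

include hV₀ in
/-- Nowhere density in the scheme-theoretic fibre gives the prime-level condition on a chart. -/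
theorem ndprimes_of_isNowhereDense (Z : Set X) (hZ : IsClosed Z) (y : Y) (hy : y ∈ V₀)
    (h : IsNowhereDense ((f.fiberι y) ⁻¹' Z)) :
    letI := (f.appLE V₀ W e).hom.toAlgebra
    NDprimes (hV₀.primeIdealOf ⟨y, hy⟩).asIdeal
      (PrimeSpectrum.vanishingIdeal (hW.fromSpec ⁻¹' Z)) := by
  letI := (f.appLE V₀ W e).hom.toAlgebra
  rintro b ⟨q, hq, hqp, hbq⟩
  obtain ⟨x, hxW, hfx, hxq⟩ := exists_point_of_prime f hV₀ hW e y hy q hq hqp
  have hxb : x ∈ X.basicOpen b := by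
    rw [mem_basicOpen_iff_notMem_primeIdealOf hW x hxW, hxq]; exact hbq
  obtain ⟨x', rfl⟩ : x ∈ Set.range (f.fiberι y) := by
    rw [Scheme.Hom.range_fiberι]; exact hfx
  have hS : IsClosed ((f.fiberι y) ⁻¹' Z) := hZ.preimage (f.fiberι y).continuous
  have hO : IsOpen ((f.fiberι y) ⁻¹' (X.basicOpen b : Set X)) :=
    (X.basicOpen b).2.preimage (f.fiberι y).continuous
  have hnot : ¬ ((f.fiberι y) ⁻¹' (X.basicOpen b : Set X) ⊆ (f.fiberι y) ⁻¹' Z) := by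
    intro hsub
    have h1 : x' ∈ interior (closure ((f.fiberι y) ⁻¹' Z)) := by
      rw [hS.closure_eq]
      exact mem_interior.2 ⟨_, hsub, hO, hxb⟩
    rw [h] at h1
    exact h1
  obtain ⟨x₂', hx₂b, hx₂Z⟩ := Set.not_subset.1 hnot
  set x₂ := f.fiberι y x₂' with hx₂
  have hx₂W : x₂ ∈ W := X.basicOpen_le b hx₂b
  have hfx₂ : f x₂ = y := by
    have : x₂ ∈ Set.range (f.fiberι y) := ⟨x₂', rfl⟩
    rwa [Scheme.Hom.range_fiberι] at this
  refine ⟨(hW.primeIdealOf ⟨x₂, hx₂W⟩).asIdeal, (hW.primeIdealOf ⟨x₂, hx₂W⟩).isPrime,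
    comap_primeIdealOf_eq f hV₀ hW e x₂ hx₂W y hy hfx₂, ?_, ?_⟩
  · rw [← mem_basicOpen_iff_notMem_primeIdealOf hW x₂ hx₂W]; exact hx₂b
  · rw [vanishingIdeal_le_iff hW Z hZ x₂ hx₂W]; exact hx₂Z

end chart

/-- The prime-level condition on the charts of an affine cover of `f⁻¹(V₀)` gives nowhere density
in the scheme-theoretic fibre. -/
theorem isNowhereDense_of_ndprimes {V₀ : Y.Opens} (hV₀ : IsAffineOpen V₀) {κ : Type*}
    (W : κ → X.Opens) (hWa : ∀ j, IsAffineOpen (W j)) (hWV : ∀ j, W j ≤ f ⁻¹ᵁ V₀)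
    (hWcov : f ⁻¹ᵁ V₀ ≤ ⨆ j, W j) (Z : Set X) (hZ : IsClosed Z) (y : Y) (hy : y ∈ V₀)
    (h : ∀ j, letI := (f.appLE V₀ (W j) (hWV j)).hom.toAlgebra
      NDprimes (hV₀.primeIdealOf ⟨y, hy⟩).asIdeal
        (PrimeSpectrum.vanishingIdeal ((hWa j).fromSpec ⁻¹' Z))) :
    IsNowhereDense ((f.fiberι y) ⁻¹' Z) := by
  have hS : IsClosed ((f.fiberι y) ⁻¹' Z) := hZ.preimage (f.fiberι y).continuous
  unfold IsNowhereDense
  rw [hS.closure_eq, Set.eq_empty_iff_forall_notMem]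
  intro x' hx'
  obtain ⟨O', hO'S, hO', hx'O'⟩ := mem_interior.1 hx'
  obtain ⟨O, hO, rfl⟩ := (f.fiberι y).isEmbedding.isOpen_iff.1 hO'
  set x := f.fiberι y x' with hx
  have hfx : f x = y := by
    have : x ∈ Set.range (f.fiberι y) := ⟨x', rfl⟩
    rwa [Scheme.Hom.range_fiberι] at this
  have hxV : x ∈ f ⁻¹ᵁ V₀ := by show f x ∈ V₀; rw [hfx]; exact hy
  obtain ⟨j, hj⟩ := TopologicalSpace.Opens.mem_iSup.1 (hWcov hxV)
  letI := (f.appLE V₀ (W j) (hWV j)).hom.toAlgebra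
  obtain ⟨b, hbO, hxb⟩ := (hWa j).exists_basicOpen_le (V := ⟨O, hO⟩) ⟨x, hx'O'⟩ hj
  obtain ⟨q₂, hq₂, hq₂p, hbq₂, hIq₂⟩ := h j b
    ⟨(hWa j).primeIdealOf ⟨x, hj⟩ |>.asIdeal, ((hWa j).primeIdealOf ⟨x, hj⟩).isPrime,
      comap_primeIdealOf_eq f hV₀ (hWa j) (hWV j) x hj y hy hfx,
      by rw [← mem_basicOpen_iff_notMem_primeIdealOf (hWa j) x hj]; exact hxb⟩
  obtain ⟨x₂, hx₂W, hfx₂, hx₂q⟩ :=
    exists_point_of_prime f hV₀ (hWa j) (hWV j) y hy q₂ hq₂ hq₂p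
  have hx₂b : x₂ ∈ X.basicOpen b := by
    rw [mem_basicOpen_iff_notMem_primeIdealOf (hWa j) x₂ hx₂W, hx₂q]; exact hbq₂
  obtain ⟨x₂', rfl⟩ : x₂ ∈ Set.range (f.fiberι y) := by
    rw [Scheme.Hom.range_fiberι]; exact hfx₂
  have hx₂Z : f.fiberι y x₂' ∈ Z := hO'S (hbO hx₂b)
  apply hIq₂
  rw [← hx₂q, vanishingIdeal_le_iff (hWa j) Z hZ _ hx₂W]
  exact hx₂Z

/-- Let `f` be of finite type with irreducible target and `Z` a closed subset of the source whose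
trace on the generic fibre is nowhere dense. Then over some nonempty open of the target every
fibre of `Z` is nowhere dense in the fibre of `f`. -/
theorem nowhereDense_fibres_near_generic_point [IrreducibleSpace ↑Y] [LocallyOfFiniteType f]
    [QuasiCompact f] (Z : Set ↑X) (hZ : IsClosed Z)
    (h : IsNowhereDense ((f.fiberι (genericPoint ↑Y)) ⁻¹' Z)) :
    ∃ V : Y.Opens, (V : Set ↑Y).Nonempty ∧ ∀ y ∈ V, IsNowhereDense ((f.fiberι y) ⁻¹' Z) := by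
  classical
  obtain ⟨V₀, hV₀, hηV₀⟩ := QCProps.exists_affine_nbhd (genericPoint Y)
  have hc : IsCompact ((f ⁻¹ᵁ V₀ : X.Opens) : Set X) := f.isCompact_preimage hV₀.isCompact
  obtain ⟨κ, hκ, W, hWa, hWV, hWcov⟩ := QCSec.exists_finite_affine_cover (f ⁻¹ᵁ V₀) hc
  set p₀ : Ideal Γ(Y, V₀) := (hV₀.primeIdealOf ⟨genericPoint Y, hηV₀⟩).asIdeal with hp₀def
  haveI : p₀.IsPrime := (hV₀.primeIdealOf ⟨genericPoint Y, hηV₀⟩).isPrime
  have hp₀ : p₀ ≤ nilradical Γ(Y, V₀) := primeIdealOf_genericPoint_le_nilradical hV₀ hηV₀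
  have key : ∀ j, ∃ g : Γ(Y, V₀), g ∉ p₀ ∧ ∀ (p : Ideal Γ(Y, V₀)) [p.IsPrime], g ∉ p →
      letI := (f.appLE V₀ (W j) (hWV j)).hom.toAlgebra
      NDprimes p (PrimeSpectrum.vanishingIdeal ((hWa j).fromSpec ⁻¹' Z)) := by
    intro j
    letI : Algebra Γ(Y, V₀) Γ(X, W j) := (f.appLE V₀ (W j) (hWV j)).hom.toAlgebra
    haveI : Algebra.FiniteType Γ(Y, V₀) Γ(X, W j) := f.finiteType_appLE hV₀ (hWa j) (hWV j)
    exact ndprimes_spread p₀ hp₀ _
      (ndprimes_of_isNowhereDense f hV₀ (hWa j) (hWV j) Z hZ _ hηV₀ h)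
  choose g hg hgp using key
  haveI := Fintype.ofFinite κ
  refine ⟨Y.basicOpen (∏ j, g j), ⟨genericPoint Y, ?_⟩, fun y hy => ?_⟩
  · rw [SetLike.mem_coe, mem_basicOpen_iff_notMem_primeIdealOf hV₀ _ hηV₀]
    intro h
    obtain ⟨j, -, hj⟩ := (Ideal.IsPrime.prod_mem_iff).1 h
    exact hg j hj
  · have hyV : y ∈ V₀ := Y.basicOpen_le _ hy
    refine isNowhereDense_of_ndprimes f hV₀ W hWa hWV hWcov Z hZ y hyV fun j => ?_
    haveI : (hV₀.primeIdealOf ⟨y, hyV⟩).asIdeal.IsPrime := (hV₀.primeIdealOf ⟨y, hyV⟩).isPrime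
    refine hgp j _ ?_
    rw [← mem_basicOpen_iff_notMem_primeIdealOf hV₀ y hyV]
    have h1 : (∏ j, g j) = g j * ∏ k ∈ Finset.univ.erase j, g k :=
      (Finset.mul_prod_erase Finset.univ g (Finset.mem_univ j)).symm
    have h2 : y ∈ Y.basicOpen (∏ j, g j) := hy
    rw [h1, Scheme.basicOpen_mul] at h2
    exact h2.1

end Groth.Agent.Lib.Helper28.GenFibreNDSch
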