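import Mathlib

/-!
# Finiteness over a neighbourhood of a minimal prime with finite fibre (helper28)

Stacks 00QD-style: `R → S` of finite type, `p` a minimal prime of `R` with finitely many primes of
`S` above it.  Then `R_g → S_g` is finite for some `g ∉ p`.
-/

set_option autoImplicit false
universe u₁ u₂ v w
open TensorProduct Polynomial

namespace Groth.Agent.Lib.Helper28.GenFin

variable {R : Type u₁} {S : Type u₂} [CommRing R] [CommRing S] [Algebra R S]

/-- A finite-type algebra with finite fibre over `p` has a module-finite fibre ring. -/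
theorem finite_fiber_of_finite_preimage [Algebra.FiniteType R S] (p : Ideal R) [p.IsPrime]
    (hfin : (PrimeSpectrum.comap (algebraMap R S) ⁻¹' {⟨p, ‹_›⟩}).Finite) :
    Module.Finite p.ResidueField (p.Fiber S) := by
  rw [Module.finite_iff_isArtinianRing, isArtinianRing_iff_isNoetherianRing_krullDimLE_zero]
  have : IsJacobsonRing (p.Fiber S) := isJacobsonRing_of_finiteType (A := p.ResidueField)
  have : Finite (PrimeSpectrum (p.Fiber S)) :=
    (PrimeSpectrum.preimageEquivFiber R S ⟨p, ‹_›⟩).finite_iff.mp hfin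
  exact ⟨Algebra.FiniteType.isNoetherianRing p.ResidueField _,
    (PrimeSpectrum.discreteTopology_iff_finite_and_krullDimLE_zero.mp inferInstance).right⟩

attribute [local instance] Algebra.TensorProduct.rightAlgebra in
/-- Over a minimal prime, an element dying in the fibre is nilpotent near `p`. -/
theorem exists_smul_pow_eq_zero_of_tmul_eq_zero (p : Ideal R) [p.IsPrime]
    (hp : p ∈ minimalPrimes R) (z : S) (hz : ((1 : p.ResidueField) ⊗ₜ[R] z : p.Fiber S) = 0) :
    ∃ t ∉ p, ∃ n : ℕ, t • z ^ n = 0 := by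
  let Rp := Localization p.primeCompl
  let Sp := Localization (Algebra.algebraMapSubmonoid S p.primeCompl)
  let pSp := (IsLocalRing.maximalIdeal Rp).map (algebraMap Rp Sp)
  have e : p.Fiber S ≃ₐ[S] Sp ⧸ pSp := Ideal.Fiber.algEquivQuotient p
  have h1 : algebraMap S (Sp ⧸ pSp) z = 0 := by
    have : algebraMap S (p.Fiber S) z = 0 := hz
    rw [← e.commutes, this, map_zero]
  have h2 : algebraMap S Sp z ∈ pSp := by
    rw [IsScalarTower.algebraMap_apply S Sp (Sp ⧸ pSp)] at h1
    exact Ideal.Quotient.eq_zero_iff_mem.mp h1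
  have hnil : pSp ≤ nilradical Sp := by
    rw [Ideal.map_le_iff_le_comap]
    intro a ha
    have : Subsingleton (PrimeSpectrum Rp) :=
      IsLocalization.subsingleton_primeSpectrum_of_mem_minimalPrimes p hp Rp
    have hanil : IsNilpotent a := by
      rw [nilpotent_iff_mem_prime]
      intro J hJ
      have : (⟨J, hJ⟩ : PrimeSpectrum Rp) = ⟨IsLocalRing.maximalIdeal Rp, inferInstance⟩ :=
        Subsingleton.elim _ _
      rw [show J = IsLocalRing.maximalIdeal Rp from congrArg PrimeSpectrum.asIdeal this]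
      exact ha
    exact hanil.map _
  obtain ⟨n, hn⟩ := mem_nilradical.mp (hnil h2)
  rw [← map_pow, IsLocalization.map_eq_zero_iff (Algebra.algebraMapSubmonoid S p.primeCompl)] at hn
  obtain ⟨⟨_, t, ht, rfl⟩, hm⟩ := hn
  exact ⟨t, ht, n, by rw [Algebra.smul_def]; exact hm⟩

theorem exists_smul_aeval_eq_zero [Algebra.FiniteType R S] (p : Ideal R) [p.IsPrime]
    (hp : p ∈ minimalPrimes R)
    (hfin : (PrimeSpectrum.comap (algebraMap R S) ⁻¹' {⟨p, ‹_›⟩}).Finite) (x : S) :
    ∃ m ∉ p, ∃ t ∉ p, ∃ Q : R[X], Q.Monic ∧ t • (aeval (m • x) Q) = 0 := by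
  have hfinF : Module.Finite p.ResidueField (p.Fiber S) := finite_fiber_of_finite_preimage p hfin
  have : Module.Finite (Localization.AtPrime p) (p.Fiber S) :=
    Module.Finite.trans p.ResidueField _
  have hint : IsIntegral (Localization.AtPrime p) ((1 : p.ResidueField) ⊗ₜ[R] x : p.Fiber S) :=
    IsIntegral.of_finite _ _
  obtain ⟨⟨m, hm⟩, Q, hQ, hQx⟩ :=
    IsIntegral.exists_multiple_integral_of_isLocalization p.primeCompl _ hint
  have h1 : ((1 : p.ResidueField) ⊗ₜ[R] (aeval (m • x) Q) : p.Fiber S) = 0 := by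
    have h2 : (⟨m, hm⟩ : p.primeCompl) • ((1 : p.ResidueField) ⊗ₜ[R] x : p.Fiber S) =
        (Algebra.TensorProduct.includeRight : S →ₐ[R] p.Fiber S) (m • x) := by
      rw [Algebra.TensorProduct.includeRight_apply, Submonoid.smul_def, TensorProduct.tmul_smul]
    rw [h2, ← aeval_def, aeval_algHom_apply] at hQx
    exact hQx
  obtain ⟨t, ht, n, hn⟩ := exists_smul_pow_eq_zero_of_tmul_eq_zero p hp _ h1
  refine ⟨m, hm, t, ht, Q ^ n, hQ.pow n, ?_⟩
  rw [map_pow]
  exact hn

theorem isIntegral_of_isUnit {R' : Type v} {S' : Type w} [CommRing R'] [CommRing S']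
    [Algebra R R'] [Algebra R' S'] [Algebra S S'] [Algebra R S'] [IsScalarTower R R' S']
    [IsScalarTower R S S'] (x : S) (m t : R) (Q : R[X]) (hQ : Q.Monic)
    (h : t • (aeval (m • x) Q) = 0) (hm : IsUnit (algebraMap R R' m))
    (ht : IsUnit (algebraMap R R' t)) : IsIntegral R' (algebraMap S S' x) := by
  have h1 : t • (aeval (m • algebraMap S S' x) Q) = 0 := by
    have := congrArg (IsScalarTower.toAlgHom R S S') h
    rw [map_smul, ← aeval_algHom_apply, map_smul, map_zero] at this
    exact this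
  obtain ⟨v, hv⟩ := ht
  obtain ⟨u, hu⟩ := hm
  have h2 : aeval (m • algebraMap S S' x) Q = 0 := by
    rw [← algebraMap_smul R' t, ← hv, ← Units.smul_def, smul_eq_zero_iff_eq] at h1
    exact h1
  have h3 : IsIntegral R (m • algebraMap S S' x) := ⟨Q, hQ, by rw [← aeval_def]; exact h2⟩
  have h4 : IsIntegral R' (m • algebraMap S S' x) := h3.tower_top
  have h5 : algebraMap S S' x = (↑(u⁻¹) : R') • (m • algebraMap S S' x) := by
    rw [← algebraMap_smul R' m (algebraMap S S' x), smul_smul, ← hu,
      Units.inv_mul, one_smul]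
  rw [h5]
  exact h4.smul _

/-- Stacks 00QD. -/
theorem exists_finite_away [Algebra.FiniteType R S] (p : Ideal R) [p.IsPrime]
    (hp : p ∈ minimalPrimes R)
    (hfin : (PrimeSpectrum.comap (algebraMap R S) ⁻¹' {⟨p, ‹_›⟩}).Finite) :
    ∃ g ∉ p, ∀ g' : R, g ∣ g' → ∀ (R' : Type v) (S' : Type w) [CommRing R'] [CommRing S']
      [Algebra R R'] [Algebra R' S'] [Algebra S S'] [Algebra R S'] [IsScalarTower R R' S']
      [IsScalarTower R S S'] [IsLocalization.Away g' R']
      [IsLocalization.Away (algebraMap R S g') S'], Module.Finite R' S' := by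
  classical
  obtain ⟨s, hs⟩ := (Algebra.FiniteType.out : (⊤ : Subalgebra R S).FG)
  choose m hm t ht Q hQ hQx using exists_smul_aeval_eq_zero p hp hfin
  refine ⟨∏ x ∈ s, (m x * t x), ?_, ?_⟩
  · rw [Ideal.IsPrime.prod_mem_iff]
    rintro ⟨x, -, hx⟩
    rcases Ideal.IsPrime.mem_or_mem ‹_› hx with h | h
    · exact hm x h
    · exact ht x h
  intro g' hg' R' S' _ _ _ _ _ _ _ _ _ _
  have hg'u : IsUnit (algebraMap R R' g') := IsLocalization.Away.algebraMap_isUnit g'
  have hunit : ∀ x ∈ s, IsUnit (algebraMap R R' (m x)) ∧ IsUnit (algebraMap R R' (t x)) := by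
    intro x hx
    have h1 : m x * t x ∣ g' := (Finset.dvd_prod_of_mem _ hx).trans hg'
    have h2 : IsUnit (algebraMap R R' (m x * t x)) :=
      isUnit_of_dvd_unit (map_dvd (algebraMap R R') h1) hg'u
    rw [map_mul] at h2
    exact ⟨isUnit_of_mul_isUnit_left h2, isUnit_of_mul_isUnit_right h2⟩
  have hint : ∀ y ∈ (algebraMap S S') '' (s : Set S), IsIntegral R' y := by
    rintro _ ⟨x, hx, rfl⟩
    exact isIntegral_of_isUnit x (m x) (t x) (Q x) (hQ x) (hQx x) (hunit x hx).1 (hunit x hx).2
  have htop : Algebra.adjoin R' ((algebraMap S S') '' (s : Set S)) = ⊤ := by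
    rw [eq_top_iff]
    rintro y -
    obtain ⟨n, s₀, hs₀⟩ := IsLocalization.Away.surj (algebraMap R S g') y
    have hs₀mem : algebraMap S S' s₀ ∈ Algebra.adjoin R' ((algebraMap S S') '' (s : Set S)) := by
      have h1 : s₀ ∈ Algebra.adjoin R (s : Set S) := by rw [hs]; trivial
      refine Algebra.adjoin_induction (p := fun z _ => algebraMap S S' z ∈
        Algebra.adjoin R' ((algebraMap S S') '' (s : Set S))) ?_ ?_ ?_ ?_ h1
      · intro z hz
        exact Algebra.subset_adjoin ⟨z, hz, rfl⟩
      · intro r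
        rw [← IsScalarTower.algebraMap_apply R S S', IsScalarTower.algebraMap_apply R R' S']
        exact Subalgebra.algebraMap_mem _ _
      · intro a b _ _ ha hb
        rw [map_add]
        exact add_mem ha hb
      · intro a b _ _ ha hb
        rw [map_mul]
        exact mul_mem ha hb
    obtain ⟨u, hu⟩ := hg'u
    have hy : y = (↑(u⁻¹ ^ n) : R') • algebraMap S S' s₀ := by
      rw [← hs₀, ← IsScalarTower.algebraMap_apply R S S', IsScalarTower.algebraMap_apply R R' S',
        ← hu, ← map_pow, mul_comm, ← Algebra.smul_def, smul_smul, ← Units.val_pow_eq_pow_val,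
        ← Units.val_mul, inv_pow, inv_mul_cancel, Units.val_one, one_smul]
    rw [hy]
    exact Subalgebra.smul_mem _ hs₀mem _
  have hfg := fg_adjoin_of_finite ((s.finite_toSet).image (algebraMap S S')) hint
  rw [htop] at hfg
  exact ⟨hfg⟩

end Groth.Agent.Lib.Helper28.GenFin
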