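import Mathlib
import Groth.Agent.Lib.Helper28.GenFinAlg
import Groth.Agent.Lib.Helper28.GenFibreNDSch
import Groth.Agent.Lib.Helper14.QCClosure

/-!
# Generically finite morphisms are finite near a maximal point (helper28)
-/

set_option autoImplicit false
set_option linter.style.haveILetI false
universe u
open AlgebraicGeometry CategoryTheory Limits TopologicalSpace

namespace Groth.Agent.Lib.Helper28.GenFinSch

open Groth.Agent.Lib.Helper28.GenFibreTop Groth.Agent.Lib.Helper28.GenFibreNDSch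
  Groth.Agent.Lib.Helper3 Groth.Agent.Lib.Helper28.GenFin

variable {X Y : Scheme.{u}} (f : X ⟶ Y)

section maxpt

/-- The generic point of an irreducible component is a maximal point. -/
theorem isMaxPt_of_mem_irreducibleComponents (η : Y)
    (hη : closure {η} ∈ irreducibleComponents (Y : Type u)) : ∀ y : Y, y ⤳ η → y = η := by
  intro y hy
  have hirr : IsIrreducible (closure ({y} : Set Y)) := isIrreducible_singleton.closure
  have hle : closure ({η} : Set Y) ⊆ closure ({y} : Set Y) := specializes_iff_closure_subset.mp hy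
  have hge : closure ({y} : Set Y) ⊆ closure ({η} : Set Y) := hη.2 hirr hle
  have hsp : η ⤳ y := specializes_iff_closure_subset.mpr hge
  exact (hy.antisymm hsp).eq

theorem exists_open_preimage_eq_bot {X S : Scheme.{u}} (f : X ⟶ S) [QuasiCompact f]
    (η : S) (hmax : ∀ y : S, y ⤳ η → y = η) (hnot : η ∉ Set.range f.base) :
    ∃ V : S.Opens, η ∈ V ∧ f ⁻¹ᵁ V = ⊥ := by
  have hηV : η ∉ closure (Set.range f.base) := by
    intro hmem
    obtain ⟨x, hx⟩ := Groth.Agent.Lib.Helper14.exists_specializes_of_mem_closure_range f η hmem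
    exact hnot ⟨x, hmax _ hx⟩
  refine ⟨⟨(closure (Set.range f.base))ᶜ, isClosed_closure.isOpen_compl⟩, hηV, ?_⟩
  ext x
  constructor
  · intro hx
    have h1 : f.base x ∈ closure (Set.range f.base) := subset_closure ⟨x, rfl⟩
    exact absurd h1 hx
  · intro hx
    exact absurd hx (by simp)

/-- A closed subset missing the fibre over a maximal point misses the preimage of a neighbourhood. -/
theorem exists_open_disjoint_of_closed [QuasiCompact f] (η : Y) (hmax : ∀ y : Y, y ⤳ η → y = η)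
    (Z' : Set X) (hZ' : IsClosed Z') (h : ∀ x ∈ Z', f x ≠ η) :
    ∃ V : Y.Opens, η ∈ V ∧ ∀ x ∈ Z', f x ∉ V := by
  let I := Scheme.IdealSheafData.vanishingIdeal (X := X) ⟨Z', hZ'⟩
  have hrange : Set.range I.subschemeι = Z' := by
    rw [Scheme.IdealSheafData.range_subschemeι, Scheme.IdealSheafData.coe_support_vanishingIdeal]
    rfl
  have hnot : η ∉ Set.range (I.subschemeι ≫ f).base := by
    rintro ⟨z, hz⟩
    have hzZ : I.subschemeι z ∈ Z' := by rw [← hrange]; exact ⟨z, rfl⟩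
    exact h _ hzZ hz
  obtain ⟨V, hηV, hV⟩ := exists_open_preimage_eq_bot (I.subschemeι ≫ f) η hmax hnot
  refine ⟨V, hηV, fun x hx hfx => ?_⟩
  rw [← hrange] at hx
  obtain ⟨z, rfl⟩ := hx
  have : z ∈ (I.subschemeι ≫ f) ⁻¹ᵁ V := hfx
  rw [hV] at this
  exact this

/-- Maximal points restrict to open subschemes. -/
theorem isMaxPt_restrict (W : Y.Opens) (η : Y) (hηW : η ∈ W) (hmax : ∀ y : Y, y ⤳ η → y = η) :
    ∀ y : ↑W, y ⤳ (⟨η, hηW⟩ : ↑W) → y = ⟨η, hηW⟩ := by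
  intro y hy
  have h1 : W.ι y ⤳ W.ι ⟨η, hηW⟩ := hy.map W.ι.continuous
  have h2 : W.ι y = W.ι ⟨η, hηW⟩ := hmax _ h1
  exact W.ι.isOpenEmbedding.injective h2

/-- The prime of a maximal point in an affine chart is a minimal prime. -/
theorem primeIdealOf_mem_minimalPrimes {W : Y.Opens} (hW : IsAffineOpen W) (η : Y) (hηW : η ∈ W)
    (hmax : ∀ y : Y, y ⤳ η → y = η) :
    (hW.primeIdealOf ⟨η, hηW⟩).asIdeal ∈ minimalPrimes Γ(Y, W) := by
  refine ⟨⟨(hW.primeIdealOf ⟨η, hηW⟩).isPrime, bot_le⟩, ?_⟩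
  rintro q ⟨hq, -⟩ hqp
  set y : Y := hW.fromSpec ⟨q, hq⟩ with hy
  have hyW : y ∈ W := by
    have : y ∈ Set.range hW.fromSpec := ⟨_, rfl⟩
    rwa [hW.range_fromSpec] at this
  have h1 : hW.primeIdealOf ⟨y, hyW⟩ = ⟨q, hq⟩ :=
    hW.fromSpec.isOpenEmbedding.injective (hW.fromSpec_primeIdealOf ⟨y, hyW⟩)
  have h2 : y ⤳ η := by
    rw [← primeIdealOf_le_iff_specializes hW y η hyW hηW, h1]
    exact hqp
  have h3 : y = η := hmax y h2
  subst h3
  rw [h1]

end maxpt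

section chart

theorem finite_comap_preimage_of_finite {W : Y.Opens} (hW : IsAffineOpen W)
    {U : X.Opens} (hU : IsAffineOpen U) (e : U ≤ f ⁻¹ᵁ W) (η : Y) (hηW : η ∈ W)
    (hfin : {x : X | x ∈ U ∧ f x = η}.Finite) :
    (PrimeSpectrum.comap (f.appLE W U e).hom ⁻¹' {hW.primeIdealOf ⟨η, hηW⟩}).Finite := by
  have hinj : Function.Injective hU.fromSpec := hU.fromSpec.isOpenEmbedding.injective
  refine (hfin.preimage (f := hU.fromSpec) hinj.injOn).subset ?_
  intro q hq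
  have hqp : q.asIdeal.comap (f.appLE W U e).hom = (hW.primeIdealOf ⟨η, hηW⟩).asIdeal :=
    congrArg PrimeSpectrum.asIdeal hq
  obtain ⟨x, hx, hfx, hxq⟩ := exists_point_of_prime f hW hU e η hηW q.asIdeal q.isPrime hqp
  have h1 : hU.primeIdealOf ⟨x, hx⟩ = q := PrimeSpectrum.ext hxq
  have h2 : hU.fromSpec q = x := by rw [← h1]; exact hU.fromSpec_primeIdealOf ⟨x, hx⟩
  show hU.fromSpec q ∈ {x : X | x ∈ U ∧ f x = η}
  rw [h2]
  exact ⟨hx, hfx⟩

set_option backward.isDefEq.respectTransparency.types false in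
theorem exists_finite_chart [LocallyOfFiniteType f] {W : Y.Opens} (hW : IsAffineOpen W)
    {U : X.Opens} (hU : IsAffineOpen U) (e : U ≤ f ⁻¹ᵁ W) (η : Y) (hηW : η ∈ W)
    (hmax : ∀ y : Y, y ⤳ η → y = η)
    (hfin : {x : X | x ∈ U ∧ f x = η}.Finite) :
    ∃ g : Γ(Y, W), η ∈ Y.basicOpen g ∧ ∀ g' : Γ(Y, W), g ∣ g' →
      ∃ h : X.basicOpen (f.appLE W U e g') ≤ f ⁻¹ᵁ Y.basicOpen g',
        IsFinite (f.resLE (Y.basicOpen g') (X.basicOpen (f.appLE W U e g')) h) := by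
  letI : Algebra Γ(Y, W) Γ(X, U) := (f.appLE W U e).hom.toAlgebra
  haveI : Algebra.FiniteType Γ(Y, W) Γ(X, U) := f.finiteType_appLE hW hU e
  set p : Ideal Γ(Y, W) := (hW.primeIdealOf ⟨η, hηW⟩).asIdeal with hpdef
  haveI : p.IsPrime := (hW.primeIdealOf ⟨η, hηW⟩).isPrime
  have hmin : p ∈ minimalPrimes Γ(Y, W) := primeIdealOf_mem_minimalPrimes hW η hηW hmax
  have hfin' : (PrimeSpectrum.comap (algebraMap Γ(Y, W) Γ(X, U)) ⁻¹' {⟨p, ‹_›⟩}).Finite :=
    finite_comap_preimage_of_finite f hW hU e η hηW hfin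
  obtain ⟨g, hg, hgfin⟩ := exists_finite_away.{u, u, u, u} p hmin hfin'
  refine ⟨g, (mem_basicOpen_iff_notMem_primeIdealOf hW η hηW g).mpr hg, fun g' hg' => ?_⟩
  have h : X.basicOpen (f.appLE W U e g') ≤ f ⁻¹ᵁ Y.basicOpen g' := by
    simp [Scheme.Hom.appLE]
  refine ⟨h, ?_⟩
  haveI : IsAffine ↑(Y.basicOpen g') := hW.basicOpen g'
  haveI : IsAffine ↑(X.basicOpen (f.appLE W U e g')) := hU.basicOpen _
  rw [HasAffineProperty.iff_of_isAffine (P := @IsFinite)]
  refine ⟨inferInstance, ?_⟩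
  rw [RingHom.finite_respectsIso.arrow_mk_iso_iff (arrowResLEAppIso f _ _ h)]
  set r : Γ(X, U) := f.appLE W U e g' with hr
  letI a1 : Algebra Γ(Y, Y.basicOpen g') Γ(X, X.basicOpen r) :=
    (f.appLE (Y.basicOpen g') (X.basicOpen r) h).hom.toAlgebra
  letI a2 : Algebra Γ(Y, W) Γ(X, X.basicOpen r) :=
    ((algebraMap Γ(X, U) Γ(X, X.basicOpen r)).comp (algebraMap Γ(Y, W) Γ(X, U))).toAlgebra
  haveI t1 : IsScalarTower Γ(Y, W) Γ(X, U) Γ(X, X.basicOpen r) :=
    IsScalarTower.of_algebraMap_eq' rfl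
  haveI t2 : IsScalarTower Γ(Y, W) Γ(Y, Y.basicOpen g') Γ(X, X.basicOpen r) := by
    refine IsScalarTower.of_algebraMap_eq' ?_
    simp only [RingHom.algebraMap_toAlgebra]
    rw [← CommRingCat.hom_comp, ← CommRingCat.hom_comp, Scheme.Hom.appLE_map,
      Scheme.Hom.map_appLE]
  haveI l1 : IsLocalization.Away g' Γ(Y, Y.basicOpen g') := hW.isLocalization_basicOpen g'
  haveI l2 : IsLocalization.Away (algebraMap Γ(Y, W) Γ(X, U) g') Γ(X, X.basicOpen r) :=
    hU.isLocalization_basicOpen r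
  exact hgfin g' hg' Γ(Y, Y.basicOpen g') Γ(X, X.basicOpen r)

end chart

section glue

/-- `f` restricts to a finite morphism `P → V`. -/
def FinOn (V : Y.Opens) (P : X.Opens) : Prop :=
  ∃ h : P ≤ f ⁻¹ᵁ V, IsFinite (f.resLE V P h)

variable {f}

theorem FinOn.bot (V : Y.Opens) : FinOn f V ⊥ := by
  refine ⟨bot_le, ?_⟩
  haveI : IsEmpty ↑(⊥ : X.Opens) := ⟨fun x => x.2⟩
  infer_instance

theorem FinOn.sup {V : Y.Opens} {P Q : X.Opens} (hP : FinOn f V P) (hQ : FinOn f V Q)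
    (hdisj : Disjoint P Q) : FinOn f V (P ⊔ Q) := by
  obtain ⟨hP', hPf⟩ := hP
  obtain ⟨hQ', hQf⟩ := hQ
  refine ⟨sup_le hP' hQ', ?_⟩
  have hcompl : IsCompl (X.homOfLE (le_sup_left : P ≤ P ⊔ Q)).opensRange
      (X.homOfLE (le_sup_right : Q ≤ P ⊔ Q)).opensRange := by
    rw [Scheme.opensRange_homOfLE, Scheme.opensRange_homOfLE]
    constructor
    · rw [disjoint_iff]
      ext x
      simp only [Opens.coe_inf, Set.mem_inter_iff, SetLike.mem_coe, Opens.coe_bot,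
        Set.mem_empty_iff_false, iff_false, not_and]
      intro h1 h2
      have : (P ⊔ Q).ι x ∈ P ⊓ Q := ⟨h1, h2⟩
      rw [disjoint_iff.mp hdisj] at this
      exact this
    · rw [codisjoint_iff]
      ext x
      simp only [Opens.coe_sup, Set.mem_union, SetLike.mem_coe, Opens.coe_top, Set.mem_univ,
        iff_true]
      exact x.2
  obtain ⟨hc⟩ := nonempty_isColimit_binaryCofanMk_of_isCompl _ _ hcompl
  let i : (P.toScheme ⨿ Q.toScheme) ≅ (P ⊔ Q).toScheme :=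
    (coprodIsCoprod _ _).coconePointUniqueUpToIso hc
  have hi1 : coprod.inl ≫ i.hom = X.homOfLE le_sup_left :=
    (coprodIsCoprod _ _).comp_coconePointUniqueUpToIso_hom hc ⟨WalkingPair.left⟩
  have hi2 : coprod.inr ≫ i.hom = X.homOfLE le_sup_right :=
    (coprodIsCoprod _ _).comp_coconePointUniqueUpToIso_hom hc ⟨WalkingPair.right⟩
  have key : i.hom ≫ f.resLE V (P ⊔ Q) (sup_le hP' hQ') =
      coprod.desc (f.resLE V P hP') (f.resLE V Q hQ') := by
    apply coprod.hom_ext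
    · rw [← Category.assoc, hi1, coprod.inl_desc, Scheme.Hom.map_resLE]
    · rw [← Category.assoc, hi2, coprod.inr_desc, Scheme.Hom.map_resLE]
  have : f.resLE V (P ⊔ Q) (sup_le hP' hQ') =
      i.inv ≫ coprod.desc (f.resLE V P hP') (f.resLE V Q hQ') := by
    rw [← key, Iso.inv_hom_id_assoc]
  rw [this]
  infer_instance

theorem FinOn.biSup {V : Y.Opens} {ι : Type*} (s : Finset ι) (P : ι → X.Opens)
    (h : ∀ i ∈ s, FinOn f V (P i))
    (hd : ∀ i ∈ s, ∀ j ∈ s, i ≠ j → Disjoint (P i) (P j)) :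
    FinOn f V (⨆ i ∈ s, P i) := by
  classical
  induction s using Finset.induction_on with
  | empty =>
    simp only [Finset.notMem_empty, iSup_false, iSup_bot]
    exact FinOn.bot V
  | insert a s ha ih =>
    rw [Finset.iSup_insert]
    refine FinOn.sup (h a (Finset.mem_insert_self a s))
      (ih (fun i hi => h i (Finset.mem_insert_of_mem hi))
        (fun i hi j hj => hd i (Finset.mem_insert_of_mem hi) j (Finset.mem_insert_of_mem hj))) ?_
    rw [disjoint_iSup₂_iff]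
    intro i hi
    exact hd a (Finset.mem_insert_self a s) i (Finset.mem_insert_of_mem hi)
      (by rintro rfl; exact ha hi)

theorem FinOn.isFinite {V : Y.Opens} (h : FinOn f V (f ⁻¹ᵁ V)) : IsFinite (f ∣_ V) := by
  obtain ⟨h', hf⟩ := h
  rwa [Scheme.Hom.resLE_eq_morphismRestrict] at hf

end glue

section core

theorem basicOpen_appLE_eq {W : Y.Opens} {U : X.Opens} (e : U ≤ f ⁻¹ᵁ W) (g : Γ(Y, W)) :
    X.basicOpen (f.appLE W U e g) = U ⊓ f ⁻¹ᵁ Y.basicOpen g := by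
  simp [Scheme.Hom.appLE]

/-- Core gluing statement: finitely many pairwise disjoint (over `V₀`) affine charts covering the
finite fibre over a maximal point. -/
theorem exists_isFinite_of_charts [LocallyOfFiniteType f] [QuasiCompact f] {W : Y.Opens}
    (hW : IsAffineOpen W) (η : Y) (hηW : η ∈ W) (hmax : ∀ y : Y, y ⤳ η → y = η)
    (hfin : (f ⁻¹' {η}).Finite) {ι : Type*} [Finite ι] (U : ι → X.Opens)
    (hU : ∀ i, IsAffineOpen (U i)) (hUW : ∀ i, U i ≤ f ⁻¹ᵁ W)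
    (hcov : f ⁻¹' {η} ⊆ ⋃ i, (U i : Set X)) (V₀ : Y.Opens) (hηV₀ : η ∈ V₀)
    (hdisj : ∀ i j, i ≠ j → ∀ x, x ∈ U i → x ∈ U j → f x ∉ V₀) :
    ∃ g : Γ(Y, W), η ∈ Y.basicOpen g ∧ IsFinite (f ∣_ Y.basicOpen g) := by
  classical
  haveI := Fintype.ofFinite ι
  -- step 1: shrink so that the charts cover
  have hZ : IsClosed (⋃ i, (U i : Set X))ᶜ :=
    (isOpen_iUnion fun i => (U i).2).isClosed_compl
  obtain ⟨V₁, hηV₁, hV₁⟩ := exists_open_disjoint_of_closed f η hmax _ hZ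
    (fun x hx hfx => hx (hcov hfx))
  -- step 2: each chart is finite over a basic open
  have key : ∀ i, ∃ g : Γ(Y, W), η ∈ Y.basicOpen g ∧ ∀ g' : Γ(Y, W), g ∣ g' →
      ∃ h : X.basicOpen (f.appLE W (U i) (hUW i) g') ≤ f ⁻¹ᵁ Y.basicOpen g',
        IsFinite (f.resLE (Y.basicOpen g') (X.basicOpen (f.appLE W (U i) (hUW i) g')) h) :=
    fun i => exists_finite_chart f hW (hU i) (hUW i) η hηW hmax
      (hfin.subset fun x hx => hx.2)
  choose g hηg hg using key
  -- step 3: a basic open inside `V₀ ⊓ V₁`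
  obtain ⟨g₀, hg₀le, hηg₀⟩ := hW.exists_basicOpen_le (V := V₀ ⊓ V₁) ⟨η, hηV₀, hηV₁⟩ hηW
  set G : Γ(Y, W) := g₀ * ∏ i, g i with hG
  have hηG : η ∈ Y.basicOpen G := by
    rw [mem_basicOpen_iff_notMem_primeIdealOf hW η hηW]
    intro h
    rcases (hW.primeIdealOf ⟨η, hηW⟩).isPrime.mem_or_mem h with h | h
    · exact (mem_basicOpen_iff_notMem_primeIdealOf hW η hηW g₀).mp hηg₀ h
    · obtain ⟨i, -, hi⟩ := ((hW.primeIdealOf ⟨η, hηW⟩).isPrime.prod_mem_iff).1 h
      exact (mem_basicOpen_iff_notMem_primeIdealOf hW η hηW (g i)).mp (hηg i) hi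
  have hGle : Y.basicOpen G ≤ V₀ ⊓ V₁ := by
    rw [hG, Scheme.basicOpen_mul]
    exact inf_le_left.trans hg₀le
  have hdvd : ∀ i, g i ∣ G :=
    fun i => Dvd.dvd.mul_left (Finset.dvd_prod_of_mem g (Finset.mem_univ i)) g₀
  refine ⟨G, hηG, ?_⟩
  -- the pieces
  set P : ι → X.Opens := fun i => X.basicOpen (f.appLE W (U i) (hUW i) G) with hP
  have hPeq : ∀ i, P i = U i ⊓ f ⁻¹ᵁ Y.basicOpen G := fun i => basicOpen_appLE_eq f (hUW i) G
  have hPfin : ∀ i ∈ (Finset.univ : Finset ι), FinOn f (Y.basicOpen G) (P i) :=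
    fun i _ => hg i G (hdvd i)
  have hPdisj : ∀ i ∈ (Finset.univ : Finset ι), ∀ j ∈ (Finset.univ : Finset ι), i ≠ j →
      Disjoint (P i) (P j) := by
    intro i _ j _ hij
    rw [disjoint_iff]
    ext x
    simp only [Opens.coe_inf, Set.mem_inter_iff, SetLike.mem_coe, Opens.coe_bot,
      Set.mem_empty_iff_false, iff_false, not_and]
    intro hi hj
    rw [hPeq] at hi hj
    exact hdisj i j hij x hi.1 hj.1 (hGle hi.2).1
  have hPcov : (⨆ i ∈ (Finset.univ : Finset ι), P i) = f ⁻¹ᵁ Y.basicOpen G := by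
    apply le_antisymm
    · refine iSup₂_le fun i _ => ?_
      rw [hPeq]
      exact inf_le_right
    · intro x hx
      have hx1 : f x ∈ V₁ := (hGle hx).2
      have hx2 : x ∈ ⋃ i, (U i : Set X) := by
        by_contra hcon
        exact hV₁ x hcon hx1
      obtain ⟨i, hi⟩ := Set.mem_iUnion.mp hx2
      have : x ∈ P i := by rw [hPeq]; exact ⟨hi, hx⟩
      exact (le_iSup₂ (f := fun i (_ : i ∈ (Finset.univ : Finset ι)) => P i) i
        (Finset.mem_univ i)) this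
  have := FinOn.biSup (f := f) Finset.univ P hPfin hPdisj
  rw [hPcov] at this
  exact this.isFinite

end core

section main

/-- Points of a finite fibre of a morphism locally of finite type are isolated in the fibre. -/
theorem exists_open_inter_fibre_eq_singleton [LocallyOfFiniteType f] (η : Y)
    (hfin : (f ⁻¹' {η}).Finite) (x : X) (hx : f x = η) :
    ∃ O : X.Opens, x ∈ O ∧ ∀ x' ∈ O, f x' = η → x' = x := by
  haveI : Finite (f.fiber η) := (f.fiberHomeo η).finite_iff.mpr hfin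
  haveI : DiscreteTopology ↥(f ⁻¹' {η}) := (f.fiberHomeo η).discreteTopology
  have hopen : IsOpen ({⟨x, hx⟩} : Set ↥(f ⁻¹' {η})) := isOpen_discrete _
  obtain ⟨O, hO, hOeq⟩ := isOpen_induced_iff.mp hopen
  refine ⟨⟨O, hO⟩, ?_, fun x' hx' hfx' => ?_⟩
  · have : (⟨x, hx⟩ : ↥(f ⁻¹' {η})) ∈ Subtype.val ⁻¹' O := by rw [hOeq]; rfl
    exact this
  · have : (⟨x', hfx'⟩ : ↥(f ⁻¹' {η})) ∈ Subtype.val ⁻¹' O := hx'
    rw [hOeq] at this
    exact congrArg Subtype.val this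

/-- A compact open over an affine open, missing the fibre over a maximal point, misses the preimage
of a neighbourhood. -/
theorem exists_open_disjoint_of_compact {W : Y.Opens} (hW : IsAffineOpen W) (η : Y) (hηW : η ∈ W)
    (hmax : ∀ y : Y, y ⤳ η → y = η) (K : X.Opens) (hK : IsCompact (K : Set X))
    (hKW : K ≤ f ⁻¹ᵁ W) (h : ∀ x ∈ K, f x ≠ η) :
    ∃ V : Y.Opens, η ∈ V ∧ ∀ x ∈ K, f x ∉ V := by
  haveI : IsAffine ↑W := hW
  haveI : CompactSpace ↑K := isCompact_iff_compactSpace.mp hK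
  have hnot : (⟨η, hηW⟩ : ↑W) ∉ Set.range (f.resLE W K hKW).base := by
    rintro ⟨z, hz⟩
    have h1 : ((f.resLE W K hKW) z).1 = f z.1 := Scheme.Hom.coe_resLE_apply f hKW z
    rw [hz] at h1
    exact h z.1 z.2 h1.symm
  obtain ⟨V', hηV', hV'⟩ := exists_open_preimage_eq_bot (f.resLE W K hKW) ⟨η, hηW⟩
    (isMaxPt_restrict W η hηW hmax) hnot
  refine ⟨W.ι ''ᵁ V', ⟨⟨η, hηW⟩, hηV', rfl⟩, fun x hx hfx => ?_⟩
  obtain ⟨v, hv, hvx⟩ := hfx
  have h1 : ((f.resLE W K hKW) ⟨x, hx⟩).1 = f x := Scheme.Hom.coe_resLE_apply f hKW ⟨x, hx⟩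
  have h2 : (f.resLE W K hKW) ⟨x, hx⟩ = v := Subtype.ext (h1.trans hvx.symm)
  have h3 : (⟨x, hx⟩ : ↑K) ∈ (f.resLE W K hKW) ⁻¹ᵁ V' := by
    show (f.resLE W K hKW) ⟨x, hx⟩ ∈ V'
    rw [h2]; exact hv
  rw [hV'] at h3
  exact h3

/-- Stacks 02NW (4): finite fibre over a maximal point implies finite over an affine
neighbourhood, for `f` locally of finite type, quasi-compact and quasi-separated. -/
theorem exists_isFinite_of_finite_fibre [LocallyOfFiniteType f] [QuasiCompact f]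
    [QuasiSeparated f] (η : Y) (hmax : ∀ y : Y, y ⤳ η → y = η) (hfin : (f ⁻¹' {η}).Finite) :
    ∃ V : Y.Opens, IsAffineOpen V ∧ η ∈ V ∧ IsFinite (f ∣_ V) := by
  classical
  obtain ⟨_, ⟨W, hW : IsAffineOpen W, rfl⟩, hηW, -⟩ :=
    Y.isBasis_affineOpens.exists_subset_of_mem_open (Set.mem_univ η) isOpen_univ
  haveI : Finite ↥(f ⁻¹' {η}) := hfin
  have key : ∀ i : ↥(f ⁻¹' {η}), ∃ U : X.Opens, IsAffineOpen U ∧ i.1 ∈ U ∧ U ≤ f ⁻¹ᵁ W ∧
      ∀ x' ∈ U, f x' = η → x' = i.1 := by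
    intro i
    obtain ⟨O, hiO, hO⟩ := exists_open_inter_fibre_eq_singleton f η hfin i.1 i.2
    have hi : i.1 ∈ ((O ⊓ f ⁻¹ᵁ W : X.Opens) : Set X) := by
      refine ⟨hiO, ?_⟩
      show f i.1 ∈ W
      rw [show f i.1 = η from i.2]; exact hηW
    obtain ⟨_, ⟨U, hU : IsAffineOpen U, rfl⟩, hiU, hUsub⟩ :=
      X.isBasis_affineOpens.exists_subset_of_mem_open hi (O ⊓ f ⁻¹ᵁ W).2
    exact ⟨U, hU, hiU, fun x hx => (hUsub hx).2, fun x' hx' hfx' => hO x' (hUsub hx').1 hfx'⟩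
  choose U hU hiU hUW hsing using key
  have hcov : f ⁻¹' {η} ⊆ ⋃ i, (U i : Set X) := fun x hx =>
    Set.mem_iUnion.mpr ⟨⟨x, hx⟩, hiU ⟨x, hx⟩⟩
  have hqs : IsQuasiSeparated ((f ⁻¹ᵁ W : X.Opens) : Set X) :=
    f.isQuasiSeparated_preimage hW.isQuasiSeparated
  have hpair : ∀ ij : ↥(f ⁻¹' {η}) × ↥(f ⁻¹' {η}), ∃ V : Y.Opens, η ∈ V ∧
      (ij.1 ≠ ij.2 → ∀ x, x ∈ U ij.1 → x ∈ U ij.2 → f x ∉ V) := by
    rintro ⟨i, j⟩
    by_cases hij : i = j
    · exact ⟨⊤, trivial, fun h => absurd hij h⟩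
    · have hK : IsCompact ((U i ⊓ U j : X.Opens) : Set X) :=
        hqs (U i) (U j) (hUW i) (U i).2 (hU i).isCompact (hUW j) (U j).2 (hU j).isCompact
      obtain ⟨V, hηV, hV⟩ := exists_open_disjoint_of_compact f hW η hηW hmax (U i ⊓ U j) hK
        (inf_le_left.trans (hUW i)) (fun x hx hfx => hij (Subtype.ext
          ((hsing i x hx.1 hfx).symm.trans (hsing j x hx.2 hfx))))
      exact ⟨V, hηV, fun _ x hxi hxj => hV x ⟨hxi, hxj⟩⟩
  choose V' hηV' hV' using hpair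
  let V₀ : Y.Opens := ⟨⋂ ij, (V' ij : Set Y), isOpen_iInter_of_finite fun ij => (V' ij).2⟩
  have hηV₀ : η ∈ V₀ := Set.mem_iInter.2 hηV'
  obtain ⟨g, hηg, hg⟩ := exists_isFinite_of_charts f hW η hηW hmax hfin U hU hUW hcov V₀ hηV₀
    (fun i j hij x hxi hxj hx => hV' (i, j) hij x hxi hxj (Set.mem_iInter.1 hx (i, j)))
  exact ⟨Y.basicOpen g, hW.basicOpen g, hηg, hg⟩

theorem finite_fibre_of_isFinite_restrict (V : Y.Opens) (η : Y) (hηV : η ∈ V)
    (h : IsFinite (f ∣_ V)) : (f ⁻¹' {η}).Finite := by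
  have h1 : ((f ∣_ V) ⁻¹' {(⟨η, hηV⟩ : ↑V)}).Finite :=
    (f ∣_ V).finite_preimage_singleton _
  refine (h1.image (f ⁻¹ᵁ V).ι).subset ?_
  intro x hx
  have hxV : x ∈ f ⁻¹ᵁ V := by
    show f x ∈ V
    rw [show f x = η from hx]; exact hηV
  refine ⟨⟨x, hxV⟩, ?_, rfl⟩
  show (f ∣_ V) ⟨x, hxV⟩ = ⟨η, hηV⟩
  apply Subtype.ext
  exact (morphismRestrict_base_coe f V ⟨x, hxV⟩).trans hx

end main

section dense

/-- Every point of a scheme is a specialization of the generic point of an irreducible component. -/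
theorem exists_generic_specializes (x : X) :
    ∃ ζ : X, closure {ζ} ∈ irreducibleComponents (X : Type u) ∧ ζ ⤳ x := by
  obtain ⟨ζ, hζ⟩ := QuasiSober.sober (isIrreducible_irreducibleComponent (x := x))
    isClosed_irreducibleComponent
  refine ⟨ζ, ?_, ?_⟩
  · rw [hζ.def]
    exact irreducibleComponent_mem_irreducibleComponents x
  · rw [specializes_iff_mem_closure, hζ.def]
    exact mem_irreducibleComponent

theorem finite_generic_points (hX : (irreducibleComponents (X : Type u)).Finite) :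
    {ζ : X | closure {ζ} ∈ irreducibleComponents (X : Type u)}.Finite := by
  refine hX.preimage (f := fun ζ : X => closure ({ζ} : Set X)) ?_
  intro a _ b _ hab
  exact (inseparable_iff_closure_eq.mpr hab).eq

/-- No quasi-separatedness needed when the fibre consists of generic points. -/
theorem exists_isFinite_of_generic_fibre [LocallyOfFiniteType f] [QuasiCompact f]
    (hX : (irreducibleComponents (X : Type u)).Finite) (η : Y)
    (hmax : ∀ y : Y, y ⤳ η → y = η)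
    (hF : ∀ x : X, f x = η → closure {x} ∈ irreducibleComponents (X : Type u)) :
    ∃ V : Y.Opens, IsAffineOpen V ∧ η ∈ V ∧ IsFinite (f ∣_ V) := by
  classical
  obtain ⟨_, ⟨W, hW : IsAffineOpen W, rfl⟩, hηW, -⟩ :=
    Y.isBasis_affineOpens.exists_subset_of_mem_open (Set.mem_univ η) isOpen_univ
  set G : Set X := {ζ : X | closure {ζ} ∈ irreducibleComponents (X : Type u)} with hG
  have hGfin : G.Finite := finite_generic_points hX
  have hfin : (f ⁻¹' {η}).Finite := hGfin.subset fun x hx => hF x hx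
  haveI : Finite ↥(f ⁻¹' {η}) := hfin
  have key : ∀ i : ↥(f ⁻¹' {η}), ∃ U : X.Opens, IsAffineOpen U ∧ i.1 ∈ U ∧ U ≤ f ⁻¹ᵁ W ∧
      ∀ x' ∈ U, ∀ ζ ∈ G, ζ ⤳ x' → ζ = i.1 := by
    intro i
    have hcl : IsClosed (⋃ ζ ∈ G \ {i.1}, closure ({ζ} : Set X)) :=
      (hGfin.subset Set.sdiff_subset).isClosed_biUnion fun ζ _ => isClosed_closure
    let O : X.Opens := ⟨(⋃ ζ ∈ G \ {i.1}, closure ({ζ} : Set X))ᶜ, hcl.isOpen_compl⟩
    have hiO : i.1 ∈ O := by
      intro hmem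
      obtain ⟨ζ, hζ, hiζ⟩ := Set.mem_iUnion₂.mp hmem
      have h1 : ζ ⤳ i.1 := specializes_iff_mem_closure.mpr hiζ
      exact hζ.2 (isMaxPt_of_mem_irreducibleComponents i.1 (hF i.1 i.2) ζ h1)
    have hi : i.1 ∈ ((O ⊓ f ⁻¹ᵁ W : X.Opens) : Set X) := by
      refine ⟨hiO, ?_⟩
      show f i.1 ∈ W
      rw [show f i.1 = η from i.2]; exact hηW
    obtain ⟨_, ⟨U, hU : IsAffineOpen U, rfl⟩, hiU, hUsub⟩ :=
      X.isBasis_affineOpens.exists_subset_of_mem_open hi (O ⊓ f ⁻¹ᵁ W).2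
    refine ⟨U, hU, hiU, fun x hx => (hUsub hx).2, fun x' hx' ζ hζ hζx' => ?_⟩
    by_contra hne
    exact (hUsub hx').1 (Set.mem_iUnion₂.mpr ⟨ζ, ⟨hζ, hne⟩, specializes_iff_mem_closure.mp hζx'⟩)
  choose U hU hiU hUW hsing using key
  have hcov : f ⁻¹' {η} ⊆ ⋃ i, (U i : Set X) := fun x hx =>
    Set.mem_iUnion.mpr ⟨⟨x, hx⟩, hiU ⟨x, hx⟩⟩
  obtain ⟨g, hηg, hg⟩ := exists_isFinite_of_charts f hW η hηW hmax hfin U hU hUW hcov ⊤ trivial
    (fun i j hij x hxi hxj _ => by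
      obtain ⟨ζ, hζ, hζx⟩ := exists_generic_specializes x
      exact hij (Subtype.ext ((hsing i x hxi ζ hζ hζx).symm.trans (hsing j x hxj ζ hζ hζx))))
  exact ⟨Y.basicOpen g, hW.basicOpen g, hηg, hg⟩

/-- (helper11's `FinNear.restrict_iSup`, copied to keep this library self-contained.) -/
theorem restrict_iSup {P : MorphismProperty Scheme.{u}} [IsZariskiLocalAtTarget P]
    {ι : Type*} (U : ι → Y.Opens) (h : ∀ i, P (f ∣_ U i)) :
    P (f ∣_ (⨆ i, U i)) := by
  refine IsZariskiLocalAtTarget.of_iSup_eq_top (P := P)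
    (fun i : ι => (⨆ i, U i).ι ⁻¹ᵁ U i) ?_ fun i => ?_
  · apply (⨆ i, U i).ι.image_injective
    dsimp
    rw [Scheme.Hom.image_iSup, Scheme.Hom.image_top_eq_opensRange, Scheme.Opens.opensRange_ι]
    simp [Scheme.Hom.image_preimage_eq_opensRange_inf, le_iSup U]
  · have e : (⨆ i, U i).ι ''ᵁ ((⨆ i, U i).ι ⁻¹ᵁ U i) = U i := by
      rw [Scheme.Hom.image_preimage_eq_opensRange_inf, Scheme.Opens.opensRange_ι]
      exact inf_eq_right.mpr (le_iSup U i)
    have h1 := h i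
    rw [← e] at h1
    exact (P.arrow_mk_iso_iff (morphismRestrictRestrict f _ _)).mpr h1

set_option backward.isDefEq.respectTransparency.types false in
/-- Stacks 02NX-style: generic points correspond, so `f` is finite over a dense open. -/
theorem exists_dense_open_isFinite [LocallyOfFiniteType f] [QuasiCompact f]
    (hX : (irreducibleComponents (X : Type u)).Finite)
    (hgen : ∀ x : X, closure {x} ∈ irreducibleComponents (X : Type u) ↔
      closure {f.base x} ∈ irreducibleComponents (Y : Type u)) :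
    ∃ V : Y.Opens, Dense (V : Set Y) ∧ IsFinite (f ∣_ V) := by
  have key : ∀ η : {η : Y // closure {η} ∈ irreducibleComponents (Y : Type u)},
      ∃ V : Y.Opens, IsAffineOpen V ∧ η.1 ∈ V ∧ IsFinite (f ∣_ V) := fun η =>
    exists_isFinite_of_generic_fibre f hX η.1
      (isMaxPt_of_mem_irreducibleComponents η.1 η.2)
      (fun x hx => (hgen x).mpr (by rw [show f.base x = η.1 from hx]; exact η.2))
  choose V _ hηV hVfin using key
  refine ⟨⨆ η, V η, ?_, restrict_iSup f V hVfin⟩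
  rw [dense_iff_inter_open]
  rintro O hO ⟨y, hy⟩
  obtain ⟨ζ, hζ, hζy⟩ := exists_generic_specializes y
  refine ⟨ζ, hζy.mem_open hO hy, ?_⟩
  exact (le_iSup V ⟨ζ, hζ⟩) (hηV ⟨ζ, hζ⟩)

end dense

end Groth.Agent.Lib.Helper28.GenFinSch
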