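/-
Helper28 library: algebra for the Artin–Schreier sequence.  In a ring `R` receiving `ZMod p`,
an element with `c ^ p = c` decomposes `Spec R` according to the values of `c` in `𝔽_p`.
-/
import Mathlib

set_option autoImplicit false
set_option linter.unusedSectionVars false
universe u

namespace Groth.Agent.Lib.Helper28.ASAlg

open Polynomial

variable {p : ℕ} [Fact p.Prime] {R : Type*} [CommRing R]

/-- the ring homomorphism from `ZMod p` to a ring in which `p = 0` -/
noncomputable def zmodHom (p : ℕ) (R : Type*) [CommRing R] (h : (p : R) = 0) : ZMod p →+* R :=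
  (Ideal.Quotient.lift (Ideal.span {(p : ℤ)}) (Int.castRingHom R) (by
    intro a ha
    obtain ⟨k, rfl⟩ := Ideal.mem_span_singleton.mp ha
    simp [h])).comp (Int.quotientSpanNatEquivZMod p).symm.toRingHom

theorem natCast_eq_zero_of_hom (ψ : ZMod p →+* R) : (p : R) = 0 := by
  rw [← map_natCast ψ, ZMod.natCast_self, map_zero]

theorem hom_apply_val (ψ : ZMod p →+* R) (a : ZMod p) : ψ a = (a.val : R) := by
  conv_lhs => rw [← ZMod.natCast_zmod_val a]
  exact map_natCast ψ _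

theorem prod_X_sub_C : ∏ a : ZMod p, (X - C a) = (X ^ p - X : (ZMod p)[X]) := by
  have hp1 : 1 < p := (Fact.out : p.Prime).one_lt
  have h1 := FiniteField.roots_X_pow_card_sub_X (ZMod p)
  rw [ZMod.card] at h1
  have hm : (X ^ p - X : (ZMod p)[X]).Monic := by
    apply monic_X_pow_sub
    rw [degree_X]
    exact_mod_cast hp1
  have h2 := prod_multiset_X_sub_C_of_monic_of_roots_card_eq hm (by
    rw [h1, FiniteField.X_pow_card_sub_X_natDegree_eq _ hp1]
    show Finset.univ.card = p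
    rw [Finset.card_univ, ZMod.card])
  rw [h1] at h2
  exact h2

theorem prod_sub (ψ : ZMod p →+* R) (c : R) : ∏ a : ZMod p, (c - ψ a) = c ^ p - c := by
  have h := congrArg (eval₂ ψ c) (prod_X_sub_C (p := p))
  rw [eval₂_finset_prod] at h
  simpa [eval₂_sub, eval₂_pow] using h

theorem isUnit_sub (ψ : ZMod p →+* R) {a b : ZMod p} (h : a ≠ b) : IsUnit (ψ a - ψ b) := by
  rw [← map_sub]
  exact (IsUnit.mk0 _ (sub_ne_zero.mpr h)).map ψ

theorem pow_hom (ψ : ZMod p →+* R) (a : ZMod p) : ψ a ^ p = ψ a := by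
  rw [← map_pow, ZMod.pow_card]

theorem frob_add (ψ : ZMod p →+* R) (x y : R) : (x + y) ^ p = x ^ p + y ^ p := by
  rcases subsingleton_or_nontrivial R with h | h
  · exact Subsingleton.elim _ _
  · haveI : CharP R p :=
      (CharP.charP_iff_prime_eq_zero (Fact.out : p.Prime)).mpr (natCast_eq_zero_of_hom ψ)
    exact add_pow_char x y p

theorem frob_sub (ψ : ZMod p →+* R) (x y : R) : (x - y) ^ p = x ^ p - y ^ p := by
  have h := frob_add ψ (x - y) y
  rw [sub_add_cancel] at h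
  rw [h, add_sub_cancel_right]

/-- the product of the `c - b` over `b ≠ a` -/
noncomputable def uu (ψ : ZMod p →+* R) (c : R) (a : ZMod p) : R :=
  ∏ b ∈ Finset.univ.erase a, (c - ψ b)

theorem sub_mul_uu (ψ : ZMod p →+* R) (c : R) (a : ZMod p) :
    (c - ψ a) * uu ψ c a = c ^ p - c := by
  rw [← prod_sub ψ c]
  exact Finset.mul_prod_erase Finset.univ (fun b => c - ψ b) (Finset.mem_univ a)

theorem dvd_uu (ψ : ZMod p →+* R) (c : R) {a b : ZMod p} (h : b ≠ a) : (c - ψ b) ∣ uu ψ c a :=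
  Finset.dvd_prod_of_mem (fun b => c - ψ b) (Finset.mem_erase.mpr ⟨h, Finset.mem_univ b⟩)

theorem exists_isUnit_uu {L : Type*} [CommRing L] [IsLocalRing L] (ψ : ZMod p →+* R) (c : R)
    (hc : c ^ p = c) (ρ : R →+* L) : ∃ a, IsUnit (ρ (uu ψ c a)) := by
  by_cases hall : ∀ a, IsUnit (ρ (c - ψ a))
  · exfalso
    have h0 : ρ (∏ a : ZMod p, (c - ψ a)) = 0 := by rw [prod_sub, hc, sub_self, map_zero]
    rw [map_prod] at h0
    have hu : IsUnit (∏ a : ZMod p, ρ (c - ψ a)) :=
      Finset.prod_induction _ IsUnit (fun _ _ => IsUnit.mul) isUnit_one (fun a _ => hall a)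
    rw [h0] at hu
    exact not_isUnit_zero hu
  · obtain ⟨a, ha⟩ := not_forall.mp hall
    refine ⟨a, ?_⟩
    unfold uu
    rw [map_prod]
    refine Finset.prod_induction _ IsUnit (fun _ _ => IsUnit.mul) isUnit_one (fun b hb => ?_)
    have hba : b ≠ a := (Finset.mem_erase.mp hb).1
    by_contra hb'
    have h1 : ρ (ψ b - ψ a) = ρ (c - ψ a) + -ρ (c - ψ b) := by
      rw [← map_neg, ← map_add]
      congr 1
      ring
    have h2 : IsUnit (ρ (ψ b - ψ a)) := (isUnit_sub ψ hba).map ρ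
    rw [h1] at h2
    have h3 : ρ (c - ψ a) + -ρ (c - ψ b) ∈ nonunits L :=
      IsLocalRing.nonunits_add ha (by rwa [mem_nonunits_iff, IsUnit.neg_iff])
    exact h3 h2

theorem not_isUnit_uu_pair {L : Type*} [CommRing L] [Nontrivial L] (ψ : ZMod p →+* R) (c : R)
    (hc : c ^ p = c) (ρ : R →+* L) {a b : ZMod p} (h : a ≠ b)
    (ha : IsUnit (ρ (uu ψ c a))) (hb : IsUnit (ρ (uu ψ c b))) : False := by
  have h1 : IsUnit (ρ (c - ψ a)) := isUnit_of_dvd_unit (map_dvd ρ (dvd_uu ψ c h)) hb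
  have h2 := h1.mul ha
  rw [← map_mul, sub_mul_uu, hc, sub_self, map_zero] at h2
  exact not_isUnit_zero h2

theorem eq_of_isUnit_uu {R' : Type*} [CommRing R'] (ψ : ZMod p →+* R) (c : R)
    (hc : c ^ p = c) (ρ : R →+* R') (a : ZMod p) (h : IsUnit (ρ (uu ψ c a))) :
    ρ c = ρ (ψ a) := by
  have h0 : ρ (c - ψ a) * ρ (uu ψ c a) = 0 := by
    rw [← map_mul, sub_mul_uu, hc, sub_self, map_zero]
  have h1 := (h.mul_left_eq_zero).mp h0
  rwa [map_sub, sub_eq_zero] at h1

theorem map_uu_eq_zero {R' : Type*} [CommRing R'] (ψ : ZMod p →+* R) (c : R) (ρ : R →+* R')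
    {a b : ZMod p} (h : b ≠ a) (hb : ρ c = ρ (ψ b)) : ρ (uu ψ c a) = 0 := by
  obtain ⟨d, hd⟩ := dvd_uu ψ c h
  rw [hd, map_mul, map_sub, hb, sub_self, zero_mul]

end Groth.Agent.Lib.Helper28.ASAlg
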