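/-
Helper28 library: algebra for finite subgroup schemes of `𝔾_a` and `𝔾_m` over a field.
A monic polynomial whose set of roots (in every algebra) is stable under addition is additive;
a monic polynomial with non-zero constant term whose set of (unit) roots is stable under
multiplication is `X ^ n - 1`.  The substitution `X ↦ f` is faithfully flat on `K[X]`.
-/
import Mathlib

set_option autoImplicit false
universe u
open Polynomial

namespace Groth.Agent.Lib.Helper28.FinSubAlg

noncomputable section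

/-- a polynomial of small degree vanishing at the root of a monic polynomial is zero -/
theorem eq_zero_of_mk_eq_zero {R : Type u} [CommRing R] (p q : R[X]) (hp : p.Monic)
    (hq : ∀ m, p.natDegree ≤ m → q.coeff m = 0) (h : AdjoinRoot.mk p q = 0) : q = 0 := by
  rcases subsingleton_or_nontrivial R with hR | hR
  · exact Polynomial.ext fun n => Subsingleton.elim _ _
  rw [AdjoinRoot.mk_eq_zero] at h
  by_contra hq0
  refine hp.not_dvd_of_degree_lt hq0 ?_ h
  rw [degree_eq_natDegree hp.ne_zero]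
  exact (degree_lt_iff_coeff_zero q p.natDegree).mpr hq

theorem mk_eq_eval₂ {R : Type u} [CommRing R] (p q : R[X]) :
    AdjoinRoot.mk p q = eval₂ (AdjoinRoot.of p) (AdjoinRoot.root p) q := by
  rw [← AdjoinRoot.aeval_eq, aeval_def, AdjoinRoot.algebraMap_eq]

variable {K : Type u} [Field K]

/-- the polynomial `f` over its own root ring -/
abbrev f1 (f : K[X]) : (AdjoinRoot f)[X] := f.map (AdjoinRoot.of f)

section Roots

variable (f : K[X])

theorem root_two_left :
    eval₂ ((AdjoinRoot.of (f1 f)).comp (AdjoinRoot.of f)) (AdjoinRoot.root (f1 f)) f = 0 := by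
  have := AdjoinRoot.eval₂_root (f1 f)
  rwa [eval₂_map] at this

theorem root_two_right :
    eval₂ ((AdjoinRoot.of (f1 f)).comp (AdjoinRoot.of f))
      (AdjoinRoot.of (f1 f) (AdjoinRoot.root f)) f = 0 := by
  have := hom_eval₂ f (AdjoinRoot.of f) (AdjoinRoot.of (f1 f)) (AdjoinRoot.root f)
  rw [AdjoinRoot.eval₂_root, map_zero] at this
  exact this.symm

end Roots

section Add

variable (f : K[X])

/-- translation by the universal root fixes `f` -/
theorem taylor_root_eq (hf : f.Monic)
    (hQ : ∀ (C' : Type u) [CommRing C'] (σ : K →+* C') (c c' : C'), eval₂ σ c f = 0 →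
      eval₂ σ c' f = 0 → eval₂ σ (c + c') f = 0) :
    taylor (AdjoinRoot.root f) (f1 f) = f1 f := by
  have hf₁ : (f1 f).Monic := hf.map _
  have h3 := hQ _ _ _ _ (root_two_left f) (root_two_right f)
  have key : taylor (AdjoinRoot.root f) (f1 f) - f1 f = 0 := by
    apply eq_zero_of_mk_eq_zero (f1 f) _ hf₁
    · intro m hm
      rw [coeff_sub]
      rcases hm.eq_or_lt with rfl | hlt
      · rw [coeff_taylor_natDegree, coeff_natDegree, sub_self]
      · rw [coeff_eq_zero_of_natDegree_lt (by rwa [natDegree_taylor]),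
          coeff_eq_zero_of_natDegree_lt hlt, sub_zero]
    · rw [mk_eq_eval₂, eval₂_sub, AdjoinRoot.eval₂_root, sub_zero, taylor_apply, eval₂_comp,
        eval₂_add, eval₂_X, eval₂_C, eval₂_map]
      exact h3
  exact sub_eq_zero.mp key

theorem eval₂_add_root (hf : f.Monic)
    (hQ : ∀ (C' : Type u) [CommRing C'] (σ : K →+* C') (c c' : C'), eval₂ σ c f = 0 →
      eval₂ σ c' f = 0 → eval₂ σ (c + c') f = 0)
    {C' : Type u} [CommRing C'] (σ : K →+* C') (c c' : C') (hc : eval₂ σ c f = 0) :
    eval₂ σ (c' + c) f = eval₂ σ c' f := by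
  have h := congrArg (Polynomial.map (AdjoinRoot.lift σ c hc)) (taylor_root_eq f hf hQ)
  rw [map_taylor, Polynomial.map_map, AdjoinRoot.lift_comp_of, AdjoinRoot.lift_root] at h
  have h2 := congrArg (Polynomial.eval c') h
  rw [taylor_eval, eval_map, eval_map] at h2
  exact h2

theorem additive_univ (hf : f.Monic) (hd : 0 < f.natDegree)
    (hQ : ∀ (C' : Type u) [CommRing C'] (σ : K →+* C') (c c' : C'), eval₂ σ c f = 0 →
      eval₂ σ c' f = 0 → eval₂ σ (c + c') f = 0) :
    taylor (X : K[X]) (f.map C) - f.map C - C f = 0 := by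
  have hfR : (f.map (C : K →+* K[X])).Monic := hf.map _
  have hnat : (f.map (C : K →+* K[X])).natDegree = f.natDegree := hf.natDegree_map _
  apply eq_zero_of_mk_eq_zero (f.map C) _ hfR
  · intro m hm
    have hm0 : m ≠ 0 := by omega
    rw [coeff_sub, coeff_sub, coeff_C_ne_zero hm0, sub_zero]
    rcases hm.eq_or_lt with rfl | hlt
    · rw [coeff_taylor_natDegree, coeff_natDegree, sub_self]
    · rw [coeff_eq_zero_of_natDegree_lt (by rwa [natDegree_taylor]),
        coeff_eq_zero_of_natDegree_lt hlt, sub_zero]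
  · rw [mk_eq_eval₂, eval₂_sub, eval₂_sub, AdjoinRoot.eval₂_root, sub_zero, taylor_apply,
      eval₂_comp, eval₂_map]
    simp only [eval₂_add, eval₂_X, eval₂_C]
    have hroot : eval₂ ((AdjoinRoot.of (f.map (C : K →+* K[X]))).comp C)
        (AdjoinRoot.root (f.map (C : K →+* K[X]))) f = 0 := by
      rw [← eval₂_map]; exact AdjoinRoot.eval₂_root _
    have h1 := eval₂_add_root f hf hQ ((AdjoinRoot.of (f.map (C : K →+* K[X]))).comp C)
      (AdjoinRoot.root (f.map (C : K →+* K[X]))) (AdjoinRoot.of (f.map (C : K →+* K[X])) X) hroot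
    have h2 : AdjoinRoot.of (f.map (C : K →+* K[X])) f =
        eval₂ ((AdjoinRoot.of (f.map (C : K →+* K[X]))).comp C)
          (AdjoinRoot.of (f.map (C : K →+* K[X])) X) f := by
      have h := hom_eval₂ f C (AdjoinRoot.of (f.map (C : K →+* K[X]))) X
      rw [eval₂_C_X] at h
      exact h
    rw [h2, add_comm, h1, sub_self]

/-- a monic polynomial whose roots are stable under addition is additive -/
theorem eval₂_add_of_roots (hf : f.Monic) (hd : 0 < f.natDegree)
    (hQ : ∀ (C' : Type u) [CommRing C'] (σ : K →+* C') (c c' : C'), eval₂ σ c f = 0 →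
      eval₂ σ c' f = 0 → eval₂ σ (c + c') f = 0)
    {C' : Type u} [CommRing C'] (σ : K →+* C') (c c' : C') :
    eval₂ σ (c' + c) f = eval₂ σ c' f + eval₂ σ c f := by
  have h := congrArg (eval₂ (eval₂RingHom σ c) c') (additive_univ f hf hd hQ)
  have hcomp : (eval₂RingHom σ c).comp C = σ := by
    ext a; simp
  simp only [eval₂_sub, taylor_apply, eval₂_comp, eval₂_map, eval₂_add, eval₂_X, eval₂_C,
    coe_eval₂RingHom, eval₂_zero, hcomp] at h
  linear_combination h

end Add

section Mul

variable (f : K[X])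

theorem exists_inv_of_root {C' : Type u} [CommRing C'] (σ : K →+* C') (c : C')
    (h0 : f.coeff 0 ≠ 0) (hc : eval₂ σ c f = 0) :
    ∃ q : K[X], c * eval₂ σ c q = 1 := by
  have h1 := congrArg (eval₂ σ c) (divX_mul_X_add f)
  rw [eval₂_add, eval₂_mul, eval₂_X, eval₂_C, hc] at h1
  refine ⟨-(C (f.coeff 0)⁻¹) * divX f, ?_⟩
  rw [eval₂_mul, eval₂_neg, eval₂_C]
  have h2 : σ (f.coeff 0)⁻¹ * σ (f.coeff 0) = 1 := by
    rw [← map_mul, inv_mul_cancel₀ h0, map_one]
  linear_combination (-(σ (f.coeff 0)⁻¹)) * h1 + h2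

theorem isUnit_of_root {C' : Type u} [CommRing C'] (σ : K →+* C') (c : C')
    (h0 : f.coeff 0 ≠ 0) (hc : eval₂ σ c f = 0) : IsUnit c := by
  obtain ⟨q, hq⟩ := exists_inv_of_root f σ c h0 hc
  exact isUnit_iff_exists_inv.mpr ⟨_, hq⟩

/-- a monic polynomial with non-zero constant term whose unit roots are stable under
multiplication is `X ^ n - 1` -/
theorem eq_X_pow_sub_one (hf : f.Monic) (hd : 0 < f.natDegree) (h0 : f.coeff 0 ≠ 0)
    (hQ : ∀ (C' : Type u) [CommRing C'] (σ : K →+* C') (c c' : C'), IsUnit c → IsUnit c' →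
      eval₂ σ c f = 0 → eval₂ σ c' f = 0 → eval₂ σ (c * c') f = 0) :
    f = X ^ f.natDegree - C 1 := by
  have hdeg : f.degree ≠ 0 := by
    rw [degree_eq_natDegree hf.ne_zero]
    exact_mod_cast hd.ne'
  haveI : Nontrivial (AdjoinRoot f) := AdjoinRoot.nontrivial f hdeg
  have hf₁ : (f1 f).Monic := hf.map _
  have hnat : (f1 f).natDegree = f.natDegree := hf.natDegree_map _
  have hl := root_two_left f
  have hr := root_two_right f
  have h3 := hQ _ _ _ _ (isUnit_of_root f _ _ h0 hr) (isUnit_of_root f _ _ h0 hl) hr hl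
  have key : (f1 f).comp (C (AdjoinRoot.root f) * X) -
      C (AdjoinRoot.root f ^ f.natDegree) * f1 f = 0 := by
    apply eq_zero_of_mk_eq_zero (f1 f) _ hf₁
    · intro m hm
      rw [coeff_sub, comp_C_mul_X_coeff, coeff_C_mul]
      rcases hm.eq_or_lt with rfl | hlt
      · rw [coeff_natDegree, hf₁.leadingCoeff, one_mul, mul_one, hnat, sub_self]
      · rw [coeff_eq_zero_of_natDegree_lt hlt, zero_mul, mul_zero, sub_zero]
    · rw [mk_eq_eval₂, eval₂_sub, eval₂_mul, AdjoinRoot.eval₂_root, mul_zero, sub_zero,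
        eval₂_comp, eval₂_mul, eval₂_C, eval₂_X, eval₂_map]
      exact h3
  have hc0 := congrArg (fun p => p.coeff 0) key
  simp only [coeff_sub, comp_C_mul_X_coeff, coeff_C_mul, pow_zero, mul_one, coeff_zero,
    coeff_map] at hc0
  have hinv : AdjoinRoot.of f (f.coeff 0)⁻¹ * AdjoinRoot.of f (f.coeff 0) = 1 := by
    rw [← map_mul, inv_mul_cancel₀ h0, map_one]
  have hpow : AdjoinRoot.root f ^ f.natDegree = 1 := by
    linear_combination (-(AdjoinRoot.of f (f.coeff 0)⁻¹)) * hc0 -
      (AdjoinRoot.root f ^ f.natDegree - 1) * hinv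
  have hmk : AdjoinRoot.mk f (X ^ f.natDegree - C 1) = 0 := by
    rw [map_sub, map_pow, AdjoinRoot.mk_X, AdjoinRoot.mk_C, map_one, hpow, sub_self]
  have hdvd := AdjoinRoot.mk_eq_zero.mp hmk
  exact (eq_of_monic_of_dvd_of_natDegree_le hf (monic_X_pow_sub_C 1 hd.ne') hdvd
    (by rw [natDegree_X_pow_sub_C])).symm

theorem eval₂_X_pow_sub_one {C' : Type u} [CommRing C'] (σ : K →+* C') (c : C') (n : ℕ) :
    eval₂ σ c (X ^ n - C 1) = c ^ n - 1 := by
  rw [eval₂_sub, eval₂_pow, eval₂_X, eval₂_C, map_one]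

end Mul

section Minpoly

theorem exists_minpoly {B : Type u} [CommRing B] (σ : K →+* B) (hfin : σ.Finite) (x₀ : B) :
    ∃ f : K[X], f.Monic ∧ eval₂ σ x₀ f = 0 ∧ ∀ p : K[X], eval₂ σ x₀ p = 0 → f ∣ p := by
  letI := σ.toAlgebra
  haveI : Module.Finite K B := hfin
  have hint : IsIntegral K x₀ := IsIntegral.of_finite K x₀
  refine ⟨minpoly K x₀, minpoly.monic hint, ?_, fun p hp => ?_⟩
  · have := minpoly.aeval K x₀
    rw [aeval_def] at this
    exact this
  · apply minpoly.dvd K x₀
    rw [aeval_def]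
    exact hp

theorem natDegree_pos_of_root {B : Type u} [CommRing B] [Nontrivial B] (σ : K →+* B) (x₀ : B)
    (f : K[X]) (hf : f.Monic) (h0 : eval₂ σ x₀ f = 0) : 0 < f.natDegree := by
  by_contra hn
  have hn0 : f.natDegree = 0 := by omega
  have h1 : f = 1 := eq_one_of_monic_natDegree_zero hf hn0
  rw [h1, eval₂_one] at h0
  exact one_ne_zero h0

theorem coeff_zero_ne_zero_of_isUnit {B : Type u} [CommRing B] (σ : K →+* B) (x₀ : B)
    (hx : IsUnit x₀) (f : K[X]) (hf : f.Monic) (h0 : eval₂ σ x₀ f = 0)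
    (hmin : ∀ p : K[X], eval₂ σ x₀ p = 0 → f ∣ p) : f.coeff 0 ≠ 0 := by
  intro hc
  have h1 : f = divX f * X := by
    have := divX_mul_X_add f
    rw [hc, C_0, add_zero] at this
    exact this.symm
  obtain ⟨v, hv⟩ := hx.exists_right_inv
  have h2 : eval₂ σ x₀ (divX f) = 0 := by
    have h3 := h0
    rw [h1, eval₂_mul, eval₂_X] at h3
    calc eval₂ σ x₀ (divX f) = eval₂ σ x₀ (divX f) * (x₀ * v) := by rw [hv, mul_one]
      _ = (eval₂ σ x₀ (divX f) * x₀) * v := by ring
      _ = 0 := by rw [h3, zero_mul]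
  have h3 := hmin _ h2
  have hq0 : divX f ≠ 0 := by
    intro h
    rw [h, zero_mul] at h1
    exact hf.ne_zero h1
  have h4 := natDegree_le_of_dvd h3 hq0
  rw [natDegree_divX_eq_natDegree_tsub_one] at h4
  have hn0 : f.natDegree = 0 := by omega
  have h5 : f = 1 := eq_one_of_monic_natDegree_zero hf hn0
  rw [h5] at hc
  simp at hc

/-- the image of the Laurent polynomials lies in the image of the polynomials once the
inverse of the coordinate does -/
theorem mem_range_of_single {B : Type u} [CommRing B] (σ : K →+* B)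
    (χ : Multiplicative ℤ →* B) (Θ : MonoidAlgebra K (Multiplicative ℤ) →+* B)
    (hΘ : ∀ a r, Θ (MonoidAlgebra.single a r) = σ r * χ a) (q₀ : K[X])
    (hq₀ : χ (Multiplicative.ofAdd 1) * eval₂ σ (χ (Multiplicative.ofAdd 1)) q₀ = 1)
    (e : MonoidAlgebra K (Multiplicative ℤ)) :
    ∃ p : K[X], eval₂ σ (χ (Multiplicative.ofAdd 1)) p = Θ e := by
  obtain ⟨Rg, hRg⟩ : ∃ Rg : Subring B, Rg = (eval₂RingHom σ (χ (Multiplicative.ofAdd 1))).range :=
    ⟨_, rfl⟩
  have hmem : ∀ b, b ∈ Rg ↔ ∃ p : K[X], eval₂ σ (χ (Multiplicative.ofAdd 1)) p = b := by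
    intro b
    rw [hRg, RingHom.mem_range]
    rfl
  have hx : χ (Multiplicative.ofAdd 1) ∈ Rg := (hmem _).mpr ⟨X, eval₂_X _ _⟩
  have hσ : ∀ r, σ r ∈ Rg := fun r => (hmem _).mpr ⟨C r, eval₂_C _ _⟩
  have hv : χ (Multiplicative.ofAdd (-1)) ∈ Rg := by
    have h1 : χ (Multiplicative.ofAdd (-1)) * χ (Multiplicative.ofAdd 1) = 1 := by
      rw [← map_mul, ← ofAdd_add, neg_add_cancel, ofAdd_zero, map_one]
    have h2 : χ (Multiplicative.ofAdd (-1)) =
        eval₂ σ (χ (Multiplicative.ofAdd 1)) q₀ := by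
      calc χ (Multiplicative.ofAdd (-1)) = χ (Multiplicative.ofAdd (-1)) *
            (χ (Multiplicative.ofAdd 1) * eval₂ σ (χ (Multiplicative.ofAdd 1)) q₀) := by
              rw [hq₀, mul_one]
        _ = (χ (Multiplicative.ofAdd (-1)) * χ (Multiplicative.ofAdd 1)) *
            eval₂ σ (χ (Multiplicative.ofAdd 1)) q₀ := by ring
        _ = _ := by rw [h1, one_mul]
    rw [h2]
    exact (hmem _).mpr ⟨q₀, rfl⟩
  have hχ : ∀ j : ℤ, χ (Multiplicative.ofAdd j) ∈ Rg := by
    intro j
    induction j using Int.induction_on with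
    | zero => rw [ofAdd_zero, map_one]; exact Rg.one_mem
    | succ k ih => rw [ofAdd_add, map_mul]; exact Rg.mul_mem ih hx
    | pred k ih => rw [sub_eq_add_neg, ofAdd_add, map_mul]; exact Rg.mul_mem ih hv
  rw [← hmem]
  induction e using MonoidAlgebra.induction_linear with
  | zero => rw [map_zero]; exact Rg.zero_mem
  | add x y hx' hy' => rw [map_add]; exact Rg.add_mem hx' hy'
  | single m r =>
    rw [hΘ]
    exact Rg.mul_mem (hσ r) (hχ (Multiplicative.toAdd m))

end Minpoly

section Flat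

theorem flat_of_injective_dedekind {A B : Type*} [CommRing A] [IsDedekindDomain A] [CommRing B]
    [IsDomain B] (g : A →+* B) (hg : Function.Injective g) : g.Flat := by
  letI := g.toAlgebra
  haveI : Module.IsTorsionFree A B := Module.IsTorsionFree.of_smul_eq_zero (fun r m h => by
    rw [Algebra.smul_def, RingHom.algebraMap_toAlgebra] at h
    rcases mul_eq_zero.mp h with h | h
    · left
      exact hg (by rw [h, map_zero])
    · right
      exact h)
  show Module.Flat A B
  infer_instance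

theorem faithfullyFlat_aeval (f : K[X]) (hf : f.Monic) (hd : 0 < f.natDegree) :
    ((aeval f : K[X] →ₐ[K] K[X]).toRingHom).FaithfullyFlat := by
  obtain ⟨ψ, hψ⟩ : ∃ ψ : K[X] →+* K[X], ψ = (aeval f : K[X] →ₐ[K] K[X]).toRingHom := ⟨_, rfl⟩
  rw [← hψ]
  have hC : ∀ a : K, ψ (C a) = C a := fun a => by rw [hψ]; simp
  have hX : ψ X = f := by rw [hψ]; simp
  have hcomp : ∀ p : K[X], ψ p = p.comp f := fun p => by rw [hψ]; rfl
  have hinj : Function.Injective ψ := by
    rw [injective_iff_map_eq_zero]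
    intro p hp
    rw [hcomp, comp_eq_zero_iff] at hp
    rcases hp with hp | ⟨_, hp⟩
    · exact hp
    · exfalso
      rw [hp, natDegree_C] at hd
      exact lt_irrefl _ hd
  have hflat : ψ.Flat := flat_of_injective_dedekind ψ hinj
  have hXint : ψ.IsIntegralElem X := by
    refine ⟨f.map C - C X, ?_, ?_⟩
    · apply (hf.map C).sub_of_left
      have hdeg : (0 : WithBot ℕ) < (f.map (C : K →+* K[X])).degree := by
        rw [degree_eq_natDegree (hf.map C).ne_zero, hf.natDegree_map]
        exact_mod_cast hd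
      exact lt_of_le_of_lt degree_C_le hdeg
    · have hc : ψ.comp C = C := RingHom.ext hC
      rw [eval₂_sub, eval₂_map, eval₂_C, hc, eval₂_C_X, hX, sub_self]
  have hint : ψ.IsIntegral := by
    intro p
    induction p using Polynomial.induction_on with
    | C a =>
      rw [← hC a]
      exact ψ.isIntegralElem_map
    | add p q hp hq => exact RingHom.IsIntegralElem.add ψ hp hq
    | monomial n a h =>
      rw [pow_succ, ← mul_assoc]
      exact RingHom.IsIntegralElem.mul ψ h hXint
  exact RingHom.FaithfullyFlat.iff_flat_and_comap_surjective.mpr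
    ⟨hflat, hint.comap_surjective hinj⟩

end Flat

end

end Groth.Agent.Lib.Helper28.FinSubAlg
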