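/-
Helper28 library: pure algebra for the classification of `μ_n`-subgroups of `GL_m`:
coefficient extraction in monoid algebras, rank of a matrix under field extension,
conjugacy of complete orthogonal idempotent systems with equal ranks.
-/
import Mathlib

set_option autoImplicit false
set_option linter.unusedSectionVars false

namespace Groth.Agent.Lib.Helper28.MuAlg

open MonoidAlgebra

section Coeff

variable {L : Type*} [CommSemiring L] {M : Type*} [Monoid M] [Fintype M] [DecidableEq M]

theorem coeff_sum_single (e : M → L) (b : M) :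
    (∑ a, single a (e a) : MonoidAlgebra L M).coeff b = e b := by
  rw [coeff_sum, Finsupp.finset_sum_apply, Finset.sum_eq_single b]
  · rw [coeff_single, Finsupp.single_apply, if_pos rfl]
  · intro a _ hab
    rw [coeff_single, Finsupp.single_apply, if_neg hab]
  · intro h; exact absurd (Finset.mem_univ _) h

theorem eq_sum_single (x : MonoidAlgebra L M) : x = ∑ a, single a (x.coeff a) := by
  apply MonoidAlgebra.coeff_injective
  ext b
  rw [coeff_sum_single]

theorem coeff_diag (e : M → L) (a a' : M) :
    (∑ b, single (b, b) (e b) : MonoidAlgebra L (M × M)).coeff (a, a') =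
      if a = a' then e a else 0 := by
  rw [coeff_sum, Finsupp.finset_sum_apply]
  by_cases haa : a = a'
  · subst haa
    rw [if_pos rfl, Finset.sum_eq_single a]
    · rw [coeff_single, Finsupp.single_apply, if_pos rfl]
    · intro b _ hb
      rw [coeff_single, Finsupp.single_apply, if_neg]
      intro h; exact hb (Prod.mk.inj h).1
    · intro h; exact absurd (Finset.mem_univ _) h
  · rw [if_neg haa]
    apply Finset.sum_eq_zero
    intro b _
    rw [coeff_single, Finsupp.single_apply, if_neg]
    intro h
    exact haa ((Prod.mk.inj h).1.symm.trans (Prod.mk.inj h).2)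

theorem coeff_double (F : M → M → L) (a a' : M) :
    (∑ b, ∑ b', single (b, b') (F b b') : MonoidAlgebra L (M × M)).coeff (a, a') = F a a' := by
  rw [coeff_sum, Finsupp.finset_sum_apply, Finset.sum_eq_single a]
  · rw [coeff_sum, Finsupp.finset_sum_apply, Finset.sum_eq_single a']
    · rw [coeff_single, Finsupp.single_apply, if_pos rfl]
    · intro b' _ hb'
      rw [coeff_single, Finsupp.single_apply, if_neg]
      intro h; exact hb' (Prod.mk.inj h).2
    · intro h; exact absurd (Finset.mem_univ _) h
  · intro b _ hb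
    rw [coeff_sum, Finsupp.finset_sum_apply]
    apply Finset.sum_eq_zero
    intro b' _
    rw [coeff_single, Finsupp.single_apply, if_neg]
    intro h; exact hb (Prod.mk.inj h).1
  · intro h; exact absurd (Finset.mem_univ _) h

theorem coeff_two {J : Type*} [Fintype J] (e : M → L) (e' e'' : J → M → L)
    (h : (∑ a, single (a, a) (e a) : MonoidAlgebra L (M × M)) =
      ∑ l, (∑ a, single (a, (1 : M)) (e' l a)) * (∑ a, single ((1 : M), a) (e'' l a)))
    (a a' : M) : (if a = a' then e a else 0) = ∑ l, e' l a * e'' l a' := by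
  have h1 := congrArg (fun x : MonoidAlgebra L (M × M) => x.coeff (a, a')) h
  beta_reduce at h1
  rw [coeff_diag] at h1
  rw [h1, coeff_sum, Finsupp.finset_sum_apply]
  refine Finset.sum_congr rfl fun l _ => ?_
  rw [Finset.sum_mul_sum]
  have : ∀ b b' : M, (single (b, (1 : M)) (e' l b) * single ((1 : M), b') (e'' l b') :
      MonoidAlgebra L (M × M)) = single (b, b') (e' l b * e'' l b') := by
    intro b b'
    rw [single_mul_single, Prod.mk_mul_mk, mul_one, one_mul]
  simp only [this]
  exact coeff_double (fun b b' => e' l b * e'' l b') a a'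

end Coeff

section Select

variable {L : Type*} [CommRing L] [IsDomain L] {M : Type*} [Fintype M] [DecidableEq M]

theorem exists_select (p : M → L) (h : ∀ a a', (if a = a' then p a else 0) = p a * p a')
    (h1 : ∑ a, p a = 1) : ∃ a₀, ∀ a, p a = if a = a₀ then 1 else 0 := by
  have hne : ∑ a, p a ≠ 0 := by rw [h1]; exact one_ne_zero
  obtain ⟨a₀, _, ha₀⟩ := Finset.exists_ne_zero_of_sum_ne_zero hne
  refine ⟨a₀, fun a => ?_⟩
  by_cases haa : a = a₀
  · subst haa
    rw [if_pos rfl]
    have := h a a
    rw [if_pos rfl] at this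
    have h2 : p a * (p a - 1) = 0 := by rw [mul_sub, mul_one, ← this, sub_self]
    rcases mul_eq_zero.mp h2 with h3 | h3
    · exact absurd h3 ha₀
    · exact sub_eq_zero.mp h3
  · rw [if_neg haa]
    have := h a a₀
    rw [if_neg haa] at this
    rcases mul_eq_zero.mp this.symm with h3 | h3
    · exact h3
    · exact absurd h3 ha₀

end Select

section Rank

open Matrix

theorem rank_diag_map {k K : Type*} [Field k] [Field K] (φ : k →+* K) {m : ℕ} (w : Fin m → k) :
    (Matrix.diagonal fun i => φ (w i)).rank = (Matrix.diagonal w).rank := by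
  classical
  rw [Matrix.rank_diagonal, Matrix.rank_diagonal]
  refine Fintype.card_congr (Equiv.subtypeEquivRight fun i => ?_)
  rw [Ne, Ne, map_eq_zero_iff φ φ.injective]

theorem rank_map_field {k K : Type*} [Field k] [Field K] (φ : k →+* K) {m : ℕ}
    (A : Matrix (Fin m) (Fin m) k) : (A.map φ).rank = A.rank := by
  classical
  obtain ⟨V, U, e, hV, hU, h⟩ := Matrix.exists_rank_normal_form A
  rw [← Matrix.diagonal_one, ← Matrix.diagonal_zero, Matrix.fromBlocks_diagonal,
    Matrix.submatrix_diagonal_equiv] at h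
  set w : Fin m → k := Sum.elim (fun _ => (1 : k)) (fun _ => 0) ∘ e with hw
  have hVd : IsUnit V.det := (Matrix.isUnit_iff_isUnit_det V).1 hV
  have hUd : IsUnit U.det := (Matrix.isUnit_iff_isUnit_det U).1 hU
  have hVd' : IsUnit (V.map φ).det := by
    have : (V.map φ).det = φ V.det := by
      rw [RingHom.map_det]; rfl
    rw [this]; exact hVd.map φ
  have hUd' : IsUnit (U.map φ).det := by
    have : (U.map φ).det = φ U.det := by
      rw [RingHom.map_det]; rfl
    rw [this]; exact hUd.map φ
  have h2 : V.map φ * A.map φ * U.map φ = Matrix.diagonal fun i => φ (w i) := by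
    rw [← Matrix.map_mul, ← Matrix.map_mul, h, Matrix.diagonal_map (map_zero φ)]
  calc (A.map φ).rank = (V.map φ * A.map φ).rank :=
        (Matrix.rank_mul_eq_right_of_isUnit_det _ _ hVd').symm
    _ = (V.map φ * A.map φ * U.map φ).rank :=
        (Matrix.rank_mul_eq_left_of_isUnit_det _ _ hUd').symm
    _ = (Matrix.diagonal w).rank := by rw [h2, rank_diag_map]
    _ = (V * A * U).rank := by rw [h]
    _ = (V * A).rank := Matrix.rank_mul_eq_left_of_isUnit_det _ _ hUd
    _ = A.rank := Matrix.rank_mul_eq_right_of_isUnit_det _ _ hVd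

end Rank

section Conj

variable {k V : Type*} [Field k] [AddCommGroup V] [Module k V]
  {ι : Type*} [Fintype ι] [DecidableEq ι]

/-- the twisting map assembled from isomorphisms of the ranges -/
noncomputable def tw (E F : ι → V →ₗ[k] V)
    (ε : ∀ a, LinearMap.range (E a) ≃ₗ[k] LinearMap.range (F a)) : V →ₗ[k] V :=
  ∑ a, (LinearMap.range (F a)).subtype ∘ₗ (ε a).toLinearMap ∘ₗ (E a).rangeRestrict

theorem tw_apply (E F : ι → V →ₗ[k] V)
    (ε : ∀ a, LinearMap.range (E a) ≃ₗ[k] LinearMap.range (F a)) (v : V) :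
    tw E F ε v = ∑ a, ((ε a ((E a).rangeRestrict v) : LinearMap.range (F a)) : V) := by
  unfold tw
  rw [LinearMap.sum_apply]
  rfl

theorem apply_range (F : ι → V →ₗ[k] V)
    (hF : ∀ a b, F a ∘ₗ F b = if a = b then F a else 0) (a b : ι)
    (w : LinearMap.range (F a)) : F b (w : V) = if a = b then (w : V) else 0 := by
  obtain ⟨v, hv⟩ := w.2
  rw [← hv]
  have := congrArg (fun T : V →ₗ[k] V => T v) (hF b a)
  simp only [LinearMap.comp_apply] at this
  rw [this]
  by_cases hab : a = b
  · subst hab; rw [if_pos rfl, if_pos rfl]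
  · rw [if_neg hab, if_neg (fun h => hab h.symm)]; rfl

theorem apply_tw (E F : ι → V →ₗ[k] V)
    (ε : ∀ a, LinearMap.range (E a) ≃ₗ[k] LinearMap.range (F a))
    (hF : ∀ a b, F a ∘ₗ F b = if a = b then F a else 0) (b : ι) (v : V) :
    F b (tw E F ε v) = ((ε b ((E b).rangeRestrict v) : LinearMap.range (F b)) : V) := by
  rw [tw_apply, map_sum]
  simp only [apply_range F hF]
  rw [Finset.sum_ite_eq' Finset.univ b, if_pos (Finset.mem_univ _)]

theorem tw_apply_E (E F : ι → V →ₗ[k] V)
    (ε : ∀ a, LinearMap.range (E a) ≃ₗ[k] LinearMap.range (F a))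
    (hE : ∀ a b, E a ∘ₗ E b = if a = b then E a else 0) (b : ι) (v : V) :
    tw E F ε (E b v) = ((ε b ((E b).rangeRestrict v) : LinearMap.range (F b)) : V) := by
  rw [tw_apply, Finset.sum_eq_single b]
  · have : (E b).rangeRestrict (E b v) = (E b).rangeRestrict v := by
      apply Subtype.ext
      have := congrArg (fun T : V →ₗ[k] V => T v) (hE b b)
      simp only [LinearMap.comp_apply, if_pos] at this
      exact this
    rw [this]
  · intro a _ hab
    have : (E a).rangeRestrict (E b v) = 0 := by
      apply Subtype.ext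
      have := congrArg (fun T : V →ₗ[k] V => T v) (hE a b)
      simp only [LinearMap.comp_apply, if_neg hab] at this
      exact this
    rw [this, map_zero]; rfl
  · intro h; exact absurd (Finset.mem_univ _) h

theorem tw_symm_tw (E F : ι → V →ₗ[k] V)
    (ε : ∀ a, LinearMap.range (E a) ≃ₗ[k] LinearMap.range (F a))
    (hF : ∀ a b, F a ∘ₗ F b = if a = b then F a else 0) (hE1 : ∑ a, E a = LinearMap.id)
    (v : V) : tw F E (fun a => (ε a).symm) (tw E F ε v) = v := by
  rw [tw_apply]
  have : ∀ b, (((ε b).symm ((F b).rangeRestrict (tw E F ε v)) : LinearMap.range (E b)) : V)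
      = E b v := by
    intro b
    have h1 : (F b).rangeRestrict (tw E F ε v) = ε b ((E b).rangeRestrict v) := by
      apply Subtype.ext
      exact apply_tw E F ε hF b v
    rw [h1, LinearEquiv.symm_apply_apply]
    rfl
  simp only [this]
  have := congrArg (fun T : V →ₗ[k] V => T v) hE1
  simp only [LinearMap.sum_apply, LinearMap.id_apply] at this
  exact this

theorem exists_conj_lin [FiniteDimensional k V] (E F : ι → V →ₗ[k] V)
    (hE : ∀ a b, E a ∘ₗ E b = if a = b then E a else 0) (hE1 : ∑ a, E a = LinearMap.id)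
    (hF : ∀ a b, F a ∘ₗ F b = if a = b then F a else 0)
    (hr : ∀ a, Module.finrank k (LinearMap.range (E a)) =
      Module.finrank k (LinearMap.range (F a))) :
    ∃ g g' : V →ₗ[k] V, g' ∘ₗ g = LinearMap.id ∧ ∀ a, g ∘ₗ E a = F a ∘ₗ g := by
  let ε : ∀ a, LinearMap.range (E a) ≃ₗ[k] LinearMap.range (F a) :=
    fun a => LinearEquiv.ofFinrankEq _ _ (hr a)
  refine ⟨tw E F ε, tw F E (fun a => (ε a).symm), ?_, fun a => ?_⟩
  · ext v
    exact tw_symm_tw E F ε hF hE1 v
  · ext v
    rw [LinearMap.comp_apply, LinearMap.comp_apply, tw_apply_E E F ε hE, apply_tw E F ε hF]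

theorem exists_conj {m : ℕ} (E F : ι → Matrix (Fin m) (Fin m) k)
    (hE : ∀ a b, E a * E b = if a = b then E a else 0) (hE1 : ∑ a, E a = 1)
    (hF : ∀ a b, F a * F b = if a = b then F a else 0)
    (hr : ∀ a, (E a).rank = (F a).rank) :
    ∃ g g' : Matrix (Fin m) (Fin m) k, g * g' = 1 ∧ g' * g = 1 ∧ ∀ a, g * E a = F a * g := by
  have tl : ∀ (X : ι → Matrix (Fin m) (Fin m) k)
      (hX : ∀ a b, X a * X b = if a = b then X a else 0) (a b : ι),
      Matrix.toLin' (X a) ∘ₗ Matrix.toLin' (X b) =
        if a = b then Matrix.toLin' (X a) else 0 := by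
    intro X hX a b
    rw [← Matrix.toLin'_mul, hX]
    split_ifs
    · rfl
    · exact map_zero _
  have h1 : ∑ a, Matrix.toLin' (E a) = LinearMap.id := by
    rw [← map_sum, hE1, Matrix.toLin'_one]
  obtain ⟨g, g', hgg, hg⟩ := exists_conj_lin (fun a => Matrix.toLin' (E a))
    (fun a => Matrix.toLin' (F a)) (tl E hE) h1 (tl F hF) (fun a => by
      have := hr a
      unfold Matrix.rank at this
      rw [Matrix.toLin'_apply', Matrix.toLin'_apply']
      exact this)
  have h2 : LinearMap.toMatrix' g' * LinearMap.toMatrix' g = 1 := by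
    rw [← LinearMap.toMatrix'_comp, hgg, LinearMap.toMatrix'_id]
  refine ⟨LinearMap.toMatrix' g, LinearMap.toMatrix' g', ?_, h2, fun a => ?_⟩
  · exact mul_eq_one_comm.mp h2
  · have := congrArg LinearMap.toMatrix' (hg a)
    rw [LinearMap.toMatrix'_comp, LinearMap.toMatrix'_comp, LinearMap.toMatrix'_toLin',
      LinearMap.toMatrix'_toLin'] at this
    exact this

end Conj

end Groth.Agent.Lib.Helper28.MuAlg
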