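/-
Helper28 library: points of the base change of the group scheme `G^(λ) = Spec R[T, 1/(1+λT)]`
(`SekSuwa.G`): the coordinate `gtFn`, its injectivity, the group law `s + t + λst` on coordinates,
existence of points with given coordinate, and flatness of the coordinate ring.
-/
import Groth.Prelude.Def_SekSuwa
import Groth.Agent.Lib.Helper13.GaGm

set_option autoImplicit false
set_option maxHeartbeats 1600000
universe u
open CategoryTheory CategoryTheory.Limits AlgebraicGeometry MonoidalCategory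
  CartesianMonoidalCategory
open scoped MonObj
open Red
open scoped TensorProduct

namespace Groth.Agent.Lib.Helper28.SSPts

open Groth.Agent.Lib.Helper13

noncomputable section

section Base

variable {R : Type u} [CommRing R] {S : Scheme.{u}} (f : S ⟶ Spec (CommRingCat.of R))

/-- the structure map `R → Γ(Z, 𝒪_Z)` of an `S`-scheme `Z` (for `S` over `Spec R`) -/
def rho (Z : Over S) : R →+* Γ(Z.left, ⊤) :=
  ((Z.hom ≫ f).appTop).hom.comp (Scheme.ΓSpecIso (CommRingCat.of R)).inv.hom

theorem rho_apply (Z : Over S) (r : R) :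
    rho f Z r = (Z.hom ≫ f).appTop ((Scheme.ΓSpecIso (CommRingCat.of R)).inv r) := rfl

theorem rho_comp {Z Z' : Over S} (s : Z' ⟶ Z) (r : R) :
    rho f Z' r = s.left.appTop (rho f Z r) := by
  have h1 : Z'.hom ≫ f = s.left ≫ (Z.hom ≫ f) := by
    rw [← Category.assoc, Over.w s]
  rw [rho_apply, rho_apply, h1, Scheme.Hom.comp_appTop]
  rfl

theorem toSpecΓ_rho (Z : Over S) :
    Z.left.toSpecΓ ≫ Spec.map (CommRingCat.ofHom (rho f Z)) = Z.hom ≫ f := by
  have h : CommRingCat.ofHom (rho f Z) =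
      (Scheme.ΓSpecIso (CommRingCat.of R)).inv ≫ (Z.hom ≫ f).appTop := by
    ext x; rfl
  rw [h, Spec.map_comp, ← Scheme.toSpecΓ_naturality_assoc, toSpecΓ_SpecMap_ΓSpecIso_inv,
    Category.comp_id]

theorem ptFn_algebraMap {A : Type u} [CommRing A] [HopfAlgebra R A] {Z : Over S}
    (x : Z ⟶ bc f ((Spec (CommRingCat.of A)).asOver (Spec (CommRingCat.of R)))) (r : R) :
    ptFn f x (algebraMap R A r) = rho f Z r := by
  have hcond : ptHom f x ≫ Spec.map (CommRingCat.ofHom (algebraMap R A)) = Z.hom ≫ f := by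
    have h1 : pullback.fst ((Spec (CommRingCat.of A)).asOver (Spec (CommRingCat.of R))).hom f ≫
        ((Spec (CommRingCat.of A)).asOver (Spec (CommRingCat.of R))).hom =
        pullback.snd _ _ ≫ f := pullback.condition
    have h2 : x.left ≫
        pullback.snd ((Spec (CommRingCat.of A)).asOver (Spec (CommRingCat.of R))).hom f =
        Z.hom := Over.w x
    calc ptHom f x ≫ Spec.map (CommRingCat.ofHom (algebraMap R A))
        = x.left ≫ (pullback.fst _ _ ≫
          ((Spec (CommRingCat.of A)).asOver (Spec (CommRingCat.of R))).hom) :=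
          Category.assoc _ _ _
      _ = x.left ≫ (pullback.snd _ _ ≫ f) := by rw [h1]
      _ = (x.left ≫ pullback.snd _ _) ≫ f := (Category.assoc _ _ _).symm
      _ = Z.hom ≫ f := by rw [h2]
  unfold ptFn
  rw [rho_apply, ← hcond, Scheme.Hom.comp_appTop, CommRingCat.comp_apply,
    specMap_appTop_ΓSpecIso_inv]

end Base

section Pts

variable {R : Type u} [CommRing R] (lam : R) {S : Scheme.{u}}
  (f : S ⟶ Spec (CommRingCat.of R))

/-- the coordinate `t` of a point of `G^(λ)` -/
def gtFn {Z : Over S} (x : Z ⟶ bc f (SekSuwa.G R lam)) : Γ(Z.left, ⊤) :=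
  ptFn f x (SekSuwa.A.t : SekSuwa.A R lam)

theorem gtFn_comp {Z Z' : Over S} (s : Z' ⟶ Z) (x : Z ⟶ bc f (SekSuwa.G R lam)) :
    gtFn lam f (s ≫ x) = s.left.appTop (gtFn lam f x) := ptFn_comp f s x _

theorem ptFn_u {Z : Over S} (x : Z ⟶ bc f (SekSuwa.G R lam)) :
    ptFn f x (SekSuwa.A.u : SekSuwa.A R lam) = 1 + rho f Z lam * gtFn lam f x := by
  rw [SekSuwa.A.u_def, ← ptRingHom_apply, map_add, map_one, map_mul, ptRingHom_apply,
    ptRingHom_apply, ptFn_algebraMap]
  rfl

theorem ptFn_u_mul_inv {Z : Over S} (x : Z ⟶ bc f (SekSuwa.G R lam)) :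
    (1 + rho f Z lam * gtFn lam f x) * ptFn f x (SekSuwa.A.inv : SekSuwa.A R lam) = 1 := by
  rw [← ptFn_u, ← ptFn_mul_elt, SekSuwa.A.u_mul_inv, ptFn_one_elt]

theorem isUnit_one_add {Z : Over S} (x : Z ⟶ bc f (SekSuwa.G R lam)) :
    IsUnit (1 + rho f Z lam * gtFn lam f x) :=
  IsUnit.of_mul_eq_one _ (ptFn_u_mul_inv lam f x)

theorem gtFn_injective {Z : Over S} :
    Function.Injective (gtFn lam f : (Z ⟶ bc f (SekSuwa.G R lam)) → Γ(Z.left, ⊤)) := by
  intro x y h
  have hinv : ptFn f x (SekSuwa.A.inv : SekSuwa.A R lam) =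
      ptFn f y (SekSuwa.A.inv : SekSuwa.A R lam) := by
    have hx := ptFn_u_mul_inv lam f x
    have hy := ptFn_u_mul_inv lam f y
    rw [h] at hx
    calc ptFn f x (SekSuwa.A.inv : SekSuwa.A R lam)
        = ptFn f x (SekSuwa.A.inv : SekSuwa.A R lam) *
          ((1 + rho f Z lam * gtFn lam f y) * ptFn f y (SekSuwa.A.inv : SekSuwa.A R lam)) := by
          rw [hy, mul_one]
      _ = ((1 + rho f Z lam * gtFn lam f y) * ptFn f x (SekSuwa.A.inv : SekSuwa.A R lam)) *
          ptFn f y (SekSuwa.A.inv : SekSuwa.A R lam) := by ring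
      _ = ptFn f y (SekSuwa.A.inv : SekSuwa.A R lam) := by rw [hx, one_mul]
  letI : Algebra R Γ(Z.left, ⊤) := (rho f Z).toAlgebra
  let φx : SekSuwa.A R lam →ₐ[R] Γ(Z.left, ⊤) :=
    { ptRingHom f x with commutes' := fun r => ptFn_algebraMap f x r }
  let φy : SekSuwa.A R lam →ₐ[R] Γ(Z.left, ⊤) :=
    { ptRingHom f y with commutes' := fun r => ptFn_algebraMap f y r }
  have hφ : φx = φy := SekSuwa.A.algHom_ext h hinv
  apply pt_ext
  intro a
  exact congr($hφ a)

theorem gtFn_mul {Z : Over S} (x y : Z ⟶ bc f (SekSuwa.G R lam)) :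
    gtFn lam f (x * y) =
      gtFn lam f x + gtFn lam f y + rho f Z lam * (gtFn lam f x * gtFn lam f y) := by
  have h : ptFn f (x * y) (SekSuwa.A.t : SekSuwa.A R lam) =
      ptFn f x (SekSuwa.A.t : SekSuwa.A R lam) * ptFn f y (1 : SekSuwa.A R lam) +
      ptFn f x (1 : SekSuwa.A R lam) * ptFn f y (SekSuwa.A.t : SekSuwa.A R lam) +
      ptFn f x (lam • (SekSuwa.A.t : SekSuwa.A R lam)) *
        ptFn f y (SekSuwa.A.t : SekSuwa.A R lam) := by
    have := ptFn_mul f x y (SekSuwa.A.t : SekSuwa.A R lam) (Finset.univ : Finset (Fin 3))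
      ![(SekSuwa.A.t : SekSuwa.A R lam), 1, lam • (SekSuwa.A.t : SekSuwa.A R lam)]
      ![(1 : SekSuwa.A R lam), SekSuwa.A.t, SekSuwa.A.t]
      (by rw [SekSuwa.A.comul_t, Fin.sum_univ_three, TensorProduct.smul_tmul']; rfl)
    rw [Fin.sum_univ_three] at this
    exact this
  rw [ptFn_one_elt, ptFn_one_elt, mul_one, one_mul, Algebra.smul_def, ptFn_mul_elt,
    ptFn_algebraMap] at h
  unfold gtFn
  rw [h]
  ring

theorem exists_gtFn_eq {Z : Over S} (b : Γ(Z.left, ⊤)) (hb : IsUnit (1 + rho f Z lam * b)) :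
    ∃ x : Z ⟶ bc f (SekSuwa.G R lam), gtFn lam f x = b := by
  letI : Algebra R Γ(Z.left, ⊤) := (rho f Z).toAlgebra
  obtain ⟨c, hc⟩ := hb.exists_right_inv
  have hc' : (1 + lam • b) * c = 1 := by
    rw [Algebra.smul_def]; exact hc
  have hcomp : (Z.left.toSpecΓ ≫ Spec.map (CommRingCat.ofHom
      (SekSuwa.A.lift R lam b c hc').toRingHom)) ≫
      ((Spec (CommRingCat.of (SekSuwa.A R lam))).asOver (Spec (CommRingCat.of R))).hom =
        Z.hom ≫ f := by
    have h1 : (SekSuwa.A.lift R lam b c hc').toRingHom.comp (algebraMap R (SekSuwa.A R lam)) =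
        rho f Z := by
      rw [AlgHom.toRingHom_eq_coe, AlgHom.comp_algebraMap]
      rfl
    have h2 : ((Spec (CommRingCat.of (SekSuwa.A R lam))).asOver (Spec (CommRingCat.of R))).hom =
        Spec.map (CommRingCat.ofHom (algebraMap R (SekSuwa.A R lam))) := rfl
    rw [h2, Category.assoc, ← Spec.map_comp, ← CommRingCat.ofHom_comp, h1]
    exact toSpecΓ_rho f Z
  refine ⟨mkPt f (SekSuwa.A.lift R lam b c hc').toRingHom hcomp, ?_⟩
  show ptFn f (mkPt f (SekSuwa.A.lift R lam b c hc').toRingHom hcomp)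
    (SekSuwa.A.t : SekSuwa.A R lam) = b
  rw [ptFn_mkPt]
  exact SekSuwa.A.lift_t b c hc'

end Pts

/-! ### Flatness and affineness -/

section Flat

open Polynomial in
theorem flat_A (R : Type u) [CommRing R] (lam : R) : Module.Flat R (SekSuwa.A R lam) := by
  obtain ⟨g, hg⟩ : ∃ g : R[X], g = 1 + C lam * X := ⟨_, rfl⟩
  have hunit : IsUnit (algebraMap R[X] (Localization.Away g) g) :=
    IsLocalization.Away.algebraMap_isUnit g
  obtain ⟨c, hc⟩ := hunit.exists_right_inv
  have hgx : algebraMap R[X] (Localization.Away g) g =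
      1 + lam • algebraMap R[X] (Localization.Away g) X := by
    have h1 : algebraMap R[X] (Localization.Away g) (C lam) =
        algebraMap R (Localization.Away g) lam := by
      rw [Polynomial.C_eq_algebraMap, ← IsScalarTower.algebraMap_apply R R[X] (Localization.Away g)]
    calc algebraMap R[X] (Localization.Away g) g
        = algebraMap R[X] (Localization.Away g) (1 + C lam * X) := congrArg _ hg
      _ = 1 + lam • algebraMap R[X] (Localization.Away g) X := by
        rw [map_add, map_one, map_mul, h1, Algebra.smul_def]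
  have hrel : (1 + lam • algebraMap R[X] (Localization.Away g) X) * c = 1 := by
    rw [← hgx]; exact hc
  have hag : Polynomial.aeval (SekSuwa.A.t : SekSuwa.A R lam) g = SekSuwa.A.u := by
    rw [hg, map_add, map_one, map_mul, Polynomial.aeval_C, Polynomial.aeval_X, SekSuwa.A.u_def]
  have hf : ∀ y : Submonoid.powers g,
      IsUnit (Polynomial.aeval (SekSuwa.A.t : SekSuwa.A R lam) (y : R[X])) := by
    rintro ⟨y, n, rfl⟩
    show IsUnit (Polynomial.aeval (SekSuwa.A.t : SekSuwa.A R lam) (g ^ n))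
    rw [map_pow, hag]
    exact SekSuwa.A.isUnit_u.pow n
  let i : SekSuwa.A R lam →ₐ[R] Localization.Away g :=
    SekSuwa.A.lift R lam (algebraMap R[X] (Localization.Away g) X) c hrel
  let ρ : Localization.Away g →ₐ[R] SekSuwa.A R lam :=
    IsLocalization.liftAlgHom (M := Submonoid.powers g) (S := Localization.Away g)
      (f := Polynomial.aeval (SekSuwa.A.t : SekSuwa.A R lam)) hf
  have hρ : ∀ q : R[X], ρ (algebraMap R[X] (Localization.Away g) q) =
      Polynomial.aeval (SekSuwa.A.t : SekSuwa.A R lam) q := fun q =>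
    IsLocalization.lift_eq (M := Submonoid.powers g) (S := Localization.Away g) hf q
  have hρi : ρ.comp i = AlgHom.id R (SekSuwa.A R lam) := by
    apply SekSuwa.A.algHom_ext
    · show ρ (i SekSuwa.A.t) = SekSuwa.A.t
      have : i SekSuwa.A.t = algebraMap R[X] (Localization.Away g) X :=
        SekSuwa.A.lift_t _ c hrel
      rw [this, hρ, Polynomial.aeval_X]
    · show ρ (i SekSuwa.A.inv) = SekSuwa.A.inv
      have : i SekSuwa.A.inv = c := SekSuwa.A.lift_inv _ c hrel
      rw [this]
      have h1 : SekSuwa.A.u * ρ c = 1 := by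
        rw [← hag, ← hρ, ← map_mul, hc, map_one]
      calc ρ c = (SekSuwa.A.inv * SekSuwa.A.u) * ρ c := by rw [SekSuwa.A.inv_mul_u, one_mul]
        _ = SekSuwa.A.inv * (SekSuwa.A.u * ρ c) := mul_assoc _ _ _
        _ = SekSuwa.A.inv := by rw [h1, mul_one]
  have : Module.Flat R[X] (Localization.Away g) :=
    IsLocalization.flat (Localization.Away g) (Submonoid.powers g)
  have : Module.Flat R (Localization.Away g) := Module.Flat.trans R R[X] (Localization.Away g)
  refine Module.Flat.of_retract i.toLinearMap ρ.toLinearMap ?_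
  ext a
  exact congr($hρi a)

theorem isAffineHom_G {R : Type u} [CommRing R] (lam : R) {S : Scheme.{u}}
    (f : S ⟶ Spec (CommRingCat.of R)) : IsAffineHom (bc f (SekSuwa.G R lam)).hom := by
  have h : IsAffineHom (SekSuwa.G R lam).hom := by
    show IsAffineHom (Spec (CommRingCat.of (SekSuwa.A R lam)) ↘ Spec (CommRingCat.of R))
    rw [specOverSpec_over]
    infer_instance
  exact MorphismProperty.pullback_snd (P := @IsAffineHom) _ _ h

theorem flat_G {R : Type u} [CommRing R] (lam : R) {S : Scheme.{u}}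
    (f : S ⟶ Spec (CommRingCat.of R)) : Flat (bc f (SekSuwa.G R lam)).hom := by
  have h : Flat (SekSuwa.G R lam).hom := by
    show Flat (Spec (CommRingCat.of (SekSuwa.A R lam)) ↘ Spec (CommRingCat.of R))
    rw [specOverSpec_over, HasRingHomProperty.Spec_iff (P := @Flat)]
    exact RingHom.flat_algebraMap_iff.mpr (flat_A R lam)
  exact MorphismProperty.pullback_snd (P := @Flat) _ _ h

end Flat

end

end Groth.Agent.Lib.Helper28.SSPts
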