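/-
Helper28 library: points of affine schemes `CoactBr.sp L B` over `Spec L` (no base change):
the function `fn x b` of a point and an element, multiplication of points of an affine group,
the matrix `gm` of a point of `GL_m = sp L (GLn m L)`, constant points.
-/
import Groth.Prelude.Def_CoactBr
import Groth.Prelude.Def_GLin5
import Groth.Agent.Lib.Helper28.SSPts

set_option autoImplicit false
set_option maxHeartbeats 1600000
set_option linter.unusedSectionVars false
universe u
open CategoryTheory CategoryTheory.Limits AlgebraicGeometry MonoidalCategory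
  CartesianMonoidalCategory
open scoped MonObj
open scoped TensorProduct

namespace Groth.Agent.Lib.Helper28.SpPts

open Groth.Agent.Lib.Helper13 Groth.Agent.Lib.Helper28.SSPts CoactBr CoordGrp

noncomputable section

variable {L : Type u} [CommRing L]

/-- the structure map `L → Γ(Y, 𝒪_Y)` of a scheme over `Spec L` -/
def sm (Y : Over (Spec (CommRingCat.of L))) : L →+* Γ(Y.left, ⊤) :=
  rho (𝟙 (Spec (CommRingCat.of L))) Y

theorem sm_apply (Y : Over (Spec (CommRingCat.of L))) (r : L) :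
    sm Y r = Y.hom.appTop ((Scheme.ΓSpecIso (CommRingCat.of L)).inv r) := by
  unfold sm
  rw [rho_apply]
  have : Y.hom ≫ 𝟙 (Spec (CommRingCat.of L)) = Y.hom := Category.comp_id _
  rw [this]

theorem sm_comp {Y Y' : Over (Spec (CommRingCat.of L))} (s : Y' ⟶ Y) (r : L) :
    sm Y' r = s.left.appTop (sm Y r) := rho_comp _ s r

theorem toSpecΓ_sm (Y : Over (Spec (CommRingCat.of L))) :
    Y.left.toSpecΓ ≫ Spec.map (CommRingCat.ofHom (sm Y)) = Y.hom := by
  have := toSpecΓ_rho (𝟙 (Spec (CommRingCat.of L))) Y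
  rw [Category.comp_id] at this
  exact this

section Gen

variable {B : Type u} [CommRing B] [Algebra L B]

/-- the underlying morphism to `Spec B`, with a clean type -/
def lft {Y : Over (Spec (CommRingCat.of L))} (x : Y ⟶ sp L B) :
    Y.left ⟶ Spec (CommRingCat.of B) := x.left

theorem lft_comp {Y Y' : Over (Spec (CommRingCat.of L))} (s : Y' ⟶ Y) (x : Y ⟶ sp L B) :
    lft (s ≫ x) = s.left ≫ lft x := rfl

theorem lft_w {Y : Over (Spec (CommRingCat.of L))} (x : Y ⟶ sp L B) :
    lft x ≫ Spec.map (CommRingCat.ofHom (algebraMap L B)) = Y.hom := Over.w x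

theorem lft_ext {Y : Over (Spec (CommRingCat.of L))} (x y : Y ⟶ sp L B)
    (h : lft x = lft y) : x = y := Over.OverMorphism.ext h

/-- the function attached to a point of `Spec B` and an element of `B` -/
def fn {Y : Over (Spec (CommRingCat.of L))} (x : Y ⟶ sp L B) (b : B) : Γ(Y.left, ⊤) :=
  (lft x).appTop ((Scheme.ΓSpecIso (CommRingCat.of B)).inv b)

/-- `fn` as a ring homomorphism -/
def fnHom {Y : Over (Spec (CommRingCat.of L))} (x : Y ⟶ sp L B) : B →+* Γ(Y.left, ⊤) :=
  ((Scheme.ΓSpecIso (CommRingCat.of B)).inv ≫ (lft x).appTop).hom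

theorem fnHom_apply {Y : Over (Spec (CommRingCat.of L))} (x : Y ⟶ sp L B) (b : B) :
    fnHom x b = fn x b := rfl

theorem fn_comp {Y Y' : Over (Spec (CommRingCat.of L))} (s : Y' ⟶ Y) (x : Y ⟶ sp L B) (b : B) :
    fn (s ≫ x) b = s.left.appTop (fn x b) := by
  unfold fn
  rw [lft_comp, Scheme.Hom.comp_appTop]
  rfl

theorem fn_ext {Y : Over (Spec (CommRingCat.of L))} (x y : Y ⟶ sp L B)
    (h : ∀ b, fn x b = fn y b) : x = y := by
  apply lft_ext
  apply ext_to_Spec
  ext b
  exact h b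

theorem fn_algebraMap {Y : Over (Spec (CommRingCat.of L))} (x : Y ⟶ sp L B) (r : L) :
    fn x (algebraMap L B r) = sm Y r := by
  unfold fn
  rw [sm_apply, ← lft_w x, Scheme.Hom.comp_appTop, CommRingCat.comp_apply,
    specMap_appTop_ΓSpecIso_inv]

/-- the point attached to a ring homomorphism compatible with the structure maps -/
def mkSp {Y : Over (Spec (CommRingCat.of L))} (φ : B →+* Γ(Y.left, ⊤))
    (h : ∀ r, φ (algebraMap L B r) = sm Y r) : Y ⟶ sp L B :=
  Over.homMk (Y.left.toSpecΓ ≫ Spec.map (CommRingCat.ofHom φ)) (by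
    show (Y.left.toSpecΓ ≫ Spec.map (CommRingCat.ofHom φ)) ≫
      Spec.map (CommRingCat.ofHom (algebraMap L B)) = Y.hom
    have : φ.comp (algebraMap L B) = sm Y := RingHom.ext h
    rw [Category.assoc, ← Spec.map_comp, ← CommRingCat.ofHom_comp, this, toSpecΓ_sm])

theorem lft_mkSp {Y : Over (Spec (CommRingCat.of L))} (φ : B →+* Γ(Y.left, ⊤))
    (h : ∀ r, φ (algebraMap L B r) = sm Y r) :
    lft (mkSp φ h) = Y.left.toSpecΓ ≫ Spec.map (CommRingCat.ofHom φ) := rfl

theorem fn_mkSp {Y : Over (Spec (CommRingCat.of L))} (φ : B →+* Γ(Y.left, ⊤))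
    (h : ∀ r, φ (algebraMap L B r) = sm Y r) (b : B) : fn (mkSp φ h) b = φ b := by
  unfold fn
  rw [lft_mkSp, Scheme.Hom.comp_appTop, CommRingCat.comp_apply,
    specMap_appTop_ΓSpecIso_inv, Scheme.toSpecΓ_appTop]
  exact congr($((Scheme.ΓSpecIso Γ(Y.left, ⊤)).inv_hom_id) (φ b))

theorem lft_id : lft (𝟙 (sp L B)) = 𝟙 (Spec (CommRingCat.of B)) := rfl

theorem fn_id (b : B) : fn (𝟙 (sp L B)) b = (Scheme.ΓSpecIso (CommRingCat.of B)).inv b := by
  unfold fn
  rw [lft_id, Scheme.Hom.id_appTop]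
  rfl

theorem sm_sp (r : L) :
    sm (sp L B) r = (Scheme.ΓSpecIso (CommRingCat.of B)).inv (algebraMap L B r) := by
  rw [← fn_algebraMap (𝟙 (sp L B)), fn_id]

theorem inv_injective : Function.Injective (Scheme.ΓSpecIso (CommRingCat.of B)).inv := by
  intro a b hab
  have := congrArg (Scheme.ΓSpecIso (CommRingCat.of B)).hom hab
  have h1 : ∀ c : B, (Scheme.ΓSpecIso (CommRingCat.of B)).hom
      ((Scheme.ΓSpecIso (CommRingCat.of B)).inv c) = c := fun c =>
    congr($((Scheme.ΓSpecIso (CommRingCat.of B)).inv_hom_id) c)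
  rw [h1, h1] at this
  exact this

theorem inv_hom (c : Γ(Spec (CommRingCat.of B), ⊤)) :
    (Scheme.ΓSpecIso (CommRingCat.of B)).inv ((Scheme.ΓSpecIso (CommRingCat.of B)).hom c) = c :=
  congr($((Scheme.ΓSpecIso (CommRingCat.of B)).hom_inv_id) c)

end Gen

section Hopf

variable {A : Type u} [CommRing A] [HopfAlgebra L A]

/-- the morphism to `Spec (A ⊗ A)` attached to a pair of points -/
def pairHom {Y : Over (Spec (CommRingCat.of L))} (x y : Y ⟶ sp L A) :
    Y.left ⟶ Spec (CommRingCat.of (A ⊗[L] A)) :=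
  (lift x y).left ≫ tensorSpecHom L A

theorem pair_fst {Y : Over (Spec (CommRingCat.of L))} (x y : Y ⟶ sp L A) :
    pairHom x y ≫ Spec.map (CommRingCat.ofHom
      (Algebra.TensorProduct.includeLeftRingHom (R := L) (A := A) (B := A))) = lft x := by
  have h1 : tensorSpecHom L A ≫ Spec.map (CommRingCat.ofHom
      (Algebra.TensorProduct.includeLeftRingHom (R := L) (A := A) (B := A))) =
      pullback.fst _ _ := pullbackSpecIso_hom_fst ..
  have h3 : (lift x y).left ≫ pullback.fst _ _ = x.left := by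
    rw [← Over.fst_left, ← Over.comp_left, lift_fst]
  unfold pairHom
  rw [Category.assoc]
  erw [h1]
  exact h3

theorem pair_snd {Y : Over (Spec (CommRingCat.of L))} (x y : Y ⟶ sp L A) :
    pairHom x y ≫ Spec.map (CommRingCat.ofHom
      (RingHomClass.toRingHom (Algebra.TensorProduct.includeRight (R := L) (A := A) (B := A))))
      = lft y := by
  have h1 : tensorSpecHom L A ≫ Spec.map (CommRingCat.ofHom
      (RingHomClass.toRingHom (Algebra.TensorProduct.includeRight (R := L) (A := A) (B := A))))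
      = pullback.snd _ _ := pullbackSpecIso_hom_snd ..
  have h3 : (lift x y).left ≫ pullback.snd _ _ = y.left := by
    rw [← Over.snd_left, ← Over.comp_left, lift_snd]
  unfold pairHom
  rw [Category.assoc]
  erw [h1]
  exact h3

theorem left_mul {Y : Over (Spec (CommRingCat.of L))} (x y : Y ⟶ sp L A) :
    lft (x * y) =
      pairHom x y ≫ Spec.map (CommRingCat.ofHom (Bialgebra.comulAlgHom L A).toRingHom) := by
  have h1 : μ[(Spec (CommRingCat.of A)).asOver (Spec (CommRingCat.of L))].left =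
      tensorSpecHom L A ≫ Spec.map (CommRingCat.ofHom (Bialgebra.comulAlgHom L A).toRingHom) :=
    mul_spec_asOver_spec_left
  have h2 : (x * y).left = (lift x y).left ≫
      μ[(Spec (CommRingCat.of A)).asOver (Spec (CommRingCat.of L))].left := by
    rw [Hom.mul_def, Over.comp_left]
  rw [h1] at h2
  exact h2

theorem fn_mul {Y : Over (Spec (CommRingCat.of L))} (x y : Y ⟶ sp L A) (a : A)
    {J : Type*} (s : Finset J) (p q : J → A)
    (h : Coalgebra.comul (R := L) a = ∑ i ∈ s, p i ⊗ₜ[L] q i) :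
    fn (x * y) a = ∑ i ∈ s, fn x (p i) * fn y (q i) := by
  have hx : ∀ b, fn x b = (pairHom x y).appTop
      ((Scheme.ΓSpecIso (CommRingCat.of (A ⊗[L] A))).inv (b ⊗ₜ[L] 1)) := by
    intro b
    unfold fn
    rw [← pair_fst x y, Scheme.Hom.comp_appTop, CommRingCat.comp_apply,
      specMap_appTop_ΓSpecIso_inv]
    rfl
  have hy : ∀ b, fn y b = (pairHom x y).appTop
      ((Scheme.ΓSpecIso (CommRingCat.of (A ⊗[L] A))).inv (1 ⊗ₜ[L] b)) := by
    intro b
    unfold fn
    rw [← pair_snd x y, Scheme.Hom.comp_appTop, CommRingCat.comp_apply,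
      specMap_appTop_ΓSpecIso_inv]
    rfl
  have hxy : fn (x * y) a = (pairHom x y).appTop
      ((Scheme.ΓSpecIso (CommRingCat.of (A ⊗[L] A))).inv (Coalgebra.comul (R := L) a)) := by
    unfold fn
    rw [left_mul, Scheme.Hom.comp_appTop, CommRingCat.comp_apply, specMap_appTop_ΓSpecIso_inv]
    rfl
  rw [hxy, h, map_sum, map_sum]
  refine Finset.sum_congr rfl fun i _ => ?_
  rw [hx, hy, ← map_mul, ← map_mul, Algebra.TensorProduct.tmul_mul_tmul, _root_.mul_one,
    _root_.one_mul]

end Hopf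

section GLsec

variable (m : ℕ)

/-- the matrix of a point of `GL_m` -/
def gm {Y : Over (Spec (CommRingCat.of L))} (x : Y ⟶ sp L (GLn m L)) :
    Matrix (Fin m) (Fin m) Γ(Y.left, ⊤) :=
  Matrix.of fun i j => fn x (GLn.X i j : GLn m L)

theorem gm_apply {Y : Over (Spec (CommRingCat.of L))} (x : Y ⟶ sp L (GLn m L)) (i j : Fin m) :
    gm m x i j = fn x (GLn.X i j : GLn m L) := rfl

theorem gm_comp {Y Y' : Over (Spec (CommRingCat.of L))} (s : Y' ⟶ Y)
    (x : Y ⟶ sp L (GLn m L)) : gm m (s ≫ x) = (gm m x).map (s.left.appTop).hom := by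
  ext i j
  exact fn_comp s x _

theorem gm_mul {Y : Over (Spec (CommRingCat.of L))} (x y : Y ⟶ sp L (GLn m L)) :
    gm m (x * y) = gm m x * gm m y := by
  ext i j
  rw [Matrix.mul_apply]
  exact fn_mul x y (GLn.X i j : GLn m L) Finset.univ
    (fun l => GLn.X i l) (fun l => GLn.X l j) (GLn.comul_X i j)

theorem fn_det {Y : Over (Spec (CommRingCat.of L))} (x : Y ⟶ sp L (GLn m L)) :
    fn x (GLn.det : GLn m L) = (gm m x).det := by
  rw [GLn.det_eq, ← fnHom_apply, RingHom.map_det]
  rfl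

theorem det_mul_Dinv {Y : Over (Spec (CommRingCat.of L))} (x : Y ⟶ sp L (GLn m L)) :
    (gm m x).det * fn x (GLn.Dinv : GLn m L) = 1 := by
  rw [← fn_det, ← fnHom_apply, ← fnHom_apply, ← map_mul, GLn.det_mul_Dinv, map_one]

theorem isUnit_det {Y : Over (Spec (CommRingCat.of L))} (x : Y ⟶ sp L (GLn m L)) :
    IsUnit (gm m x).det :=
  IsUnit.of_mul_eq_one _ (det_mul_Dinv m x)

theorem gm_injective {Y : Over (Spec (CommRingCat.of L))} :
    Function.Injective
      (gm m : (Y ⟶ sp L (GLn m L)) → Matrix (Fin m) (Fin m) Γ(Y.left, ⊤)) := by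
  intro x y h
  have hX : ∀ i j, fn x (GLn.X i j : GLn m L) = fn y (GLn.X i j : GLn m L) :=
    fun i j => congrFun (congrFun h i) j
  have hD : fn x (GLn.Dinv : GLn m L) = fn y (GLn.Dinv : GLn m L) := by
    have hx := det_mul_Dinv m x
    have hy := det_mul_Dinv m y
    rw [h] at hx
    calc fn x (GLn.Dinv : GLn m L)
        = fn x (GLn.Dinv : GLn m L) * ((gm m y).det * fn y (GLn.Dinv : GLn m L)) := by
          rw [hy, mul_one]
      _ = ((gm m y).det * fn x (GLn.Dinv : GLn m L)) * fn y (GLn.Dinv : GLn m L) := by ring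
      _ = fn y (GLn.Dinv : GLn m L) := by rw [hx, one_mul]
  let _ : Algebra L Γ(Y.left, ⊤) := (sm Y).toAlgebra
  let φx : GLn m L →ₐ[L] Γ(Y.left, ⊤) :=
    { fnHom x with commutes' := fun r => fn_algebraMap x r }
  let φy : GLn m L →ₐ[L] Γ(Y.left, ⊤) :=
    { fnHom y with commutes' := fun r => fn_algebraMap y r }
  have hφ : φx = φy := GLn.algHom_ext hX hD
  apply fn_ext
  intro a
  exact congr($hφ a)

theorem gm_one {Y : Over (Spec (CommRingCat.of L))} :
    gm m (1 : Y ⟶ sp L (GLn m L)) = 1 := by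
  have h1 : gm m (1 : Y ⟶ sp L (GLn m L)) * gm m (1 : Y ⟶ sp L (GLn m L)) =
      gm m (1 : Y ⟶ sp L (GLn m L)) * 1 := by
    rw [← gm_mul, mul_one, mul_one]
  have hu : IsUnit (gm m (1 : Y ⟶ sp L (GLn m L))) :=
    (Matrix.isUnit_iff_isUnit_det _).2 (isUnit_det m _)
  exact hu.mul_left_cancel h1

/-- the ring homomorphism of a constant point -/
def cptHom (P P' : Matrix (Fin m) (Fin m) L) (h : P * P' = 1) :
    GLn m L →+* Γ((𝟙_ (Over (Spec (CommRingCat.of L)))).left, ⊤) :=
  (show L →+* Γ((𝟙_ (Over (Spec (CommRingCat.of L)))).left, ⊤) from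
    (Scheme.ΓSpecIso (CommRingCat.of L)).inv.hom).comp
  (GLn.pt m L P P'.det (by rw [← Matrix.det_mul, h, Matrix.det_one])).toRingHom

theorem sm_unit (r : L) : sm (𝟙_ (Over (Spec (CommRingCat.of L)))) r =
    (Scheme.ΓSpecIso (CommRingCat.of L)).inv r := by
  rw [sm_apply]
  show (𝟙 (Spec (CommRingCat.of L)) : _ ⟶ _).appTop _ = _
  rw [Scheme.Hom.id_appTop]
  rfl

/-- the constant point of `GL_m` attached to an invertible matrix -/
def cpt (P P' : Matrix (Fin m) (Fin m) L) (h : P * P' = 1) :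
    𝟙_ (Over (Spec (CommRingCat.of L))) ⟶ sp L (GLn m L) :=
  mkSp (cptHom m P P' h) (fun r => by
    rw [sm_unit]
    unfold cptHom
    rw [RingHom.comp_apply]
    have : (GLn.pt m L P P'.det (by rw [← Matrix.det_mul, h, Matrix.det_one])).toRingHom
        (algebraMap L (GLn m L) r) = r := by
      show (GLn.pt m L P P'.det _) (algebraMap L (GLn m L) r) = r
      rw [AlgHom.commutes]
      rfl
    rw [this])

theorem gm_cpt (P P' : Matrix (Fin m) (Fin m) L) (h : P * P' = 1)
    (Y : Over (Spec (CommRingCat.of L))) :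
    gm m (toUnit Y ≫ cpt m P P' h) = P.map (sm Y) := by
  ext i j
  rw [gm_apply, fn_comp, Matrix.map_apply, sm_apply]
  unfold cpt
  rw [fn_mkSp]
  unfold cptHom
  rw [RingHom.comp_apply]
  have : (GLn.pt m L P P'.det (by rw [← Matrix.det_mul, h, Matrix.det_one])).toRingHom
      (GLn.X i j : GLn m L) = P i j := GLn.pt_X _ _ _ i j
  rw [this]
  rfl

end GLsec

end

end Groth.Agent.Lib.Helper28.SpPts
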