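/-
Helper28 library: generic theory of homomorphisms from a diagonalisable group (described by
character data `CharD`) to a group with matrix-valued points (`MatD`), over `Spec L`:
expansion along the universal point, orthogonal idempotents, homomorphisms between
diagonalisable groups are induced by maps of character groups.
-/
import Groth.Agent.Lib.Helper28.SpPts
import Groth.Agent.Lib.Helper28.MuAlg

set_option autoImplicit false
set_option maxHeartbeats 1600000
set_option linter.unusedSectionVars false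
universe u
open CategoryTheory CategoryTheory.Limits AlgebraicGeometry MonoidalCategory
  CartesianMonoidalCategory
open scoped MonObj

namespace Groth.Agent.Lib.Helper28.MuGen

open Groth.Agent.Lib.Helper28.SpPts Groth.Agent.Lib.Helper28.MuAlg CoactBr

noncomputable section

variable {L : Type u} [CommRing L]

/-- character data: the points of `D` are the characters of `M` -/
structure CharD (M : Type) [CommGroup M] (D : Over (Spec (CommRingCat.of L))) [GrpObj D] where
  chi : ∀ {Y : Over (Spec (CommRingCat.of L))}, (Y ⟶ D) → M → Γ(Y.left, ⊤)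
  chi_one : ∀ {Y : Over (Spec (CommRingCat.of L))} (y : Y ⟶ D), chi y 1 = 1
  chi_mul_elt : ∀ {Y : Over (Spec (CommRingCat.of L))} (y : Y ⟶ D) (a b : M),
    chi y (a * b) = chi y a * chi y b
  chi_mul : ∀ {Y : Over (Spec (CommRingCat.of L))} (y y' : Y ⟶ D) (a : M),
    chi (y * y') a = chi y a * chi y' a
  chi_comp : ∀ {Y Y' : Over (Spec (CommRingCat.of L))} (s : Y' ⟶ Y) (y : Y ⟶ D) (a : M),
    chi (s ≫ y) a = s.left.appTop (chi y a)
  chi_ext : ∀ {Y : Over (Spec (CommRingCat.of L))} (y y' : Y ⟶ D),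
    (∀ a, chi y a = chi y' a) → y = y'
  chi_exists : ∀ {Y : Over (Spec (CommRingCat.of L))} (ψ : M →* Γ(Y.left, ⊤)),
    ∃ y : Y ⟶ D, ∀ a, chi y a = ψ a

/-- matrix data: the points of `G` have matrices -/
structure MatD (m : ℕ) (G : Over (Spec (CommRingCat.of L))) [GrpObj G] where
  gm : ∀ {Y : Over (Spec (CommRingCat.of L))}, (Y ⟶ G) → Matrix (Fin m) (Fin m) Γ(Y.left, ⊤)
  gm_mul : ∀ {Y : Over (Spec (CommRingCat.of L))} (x y : Y ⟶ G), gm (x * y) = gm x * gm y
  gm_one : ∀ {Y : Over (Spec (CommRingCat.of L))}, gm (1 : Y ⟶ G) = 1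
  gm_comp : ∀ {Y Y' : Over (Spec (CommRingCat.of L))} (s : Y' ⟶ Y) (x : Y ⟶ G),
    gm (s ≫ x) = (gm x).map (s.left.appTop).hom
  gm_inj : ∀ {Y : Over (Spec (CommRingCat.of L))} (x y : Y ⟶ G), gm x = gm y → x = y

/-- the matrix data of `GL_m` -/
def matGL (m : ℕ) : MatD (L := L) m (sp L (CoordGrp.GLn m L)) where
  gm x := SpPts.gm m x
  gm_mul x y := SpPts.gm_mul m x y
  gm_one := SpPts.gm_one m
  gm_comp s x := SpPts.gm_comp m s x
  gm_inj x y h := SpPts.gm_injective m h

section Char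

variable {M : Type} [CommGroup M] {D : Over (Spec (CommRingCat.of L))} [GrpObj D]
  (X : CharD (L := L) M D)

theorem chi_one_pt {Y : Over (Spec (CommRingCat.of L))} (a : M) :
    X.chi (1 : Y ⟶ D) a = 1 := by
  have h := X.chi_mul (1 : Y ⟶ D) 1 a
  rw [mul_one] at h
  have hu : X.chi (1 : Y ⟶ D) a * X.chi (1 : Y ⟶ D) a⁻¹ = 1 := by
    rw [← X.chi_mul_elt, mul_inv_cancel, X.chi_one]
  calc X.chi (1 : Y ⟶ D) a = X.chi (1 : Y ⟶ D) a * (X.chi (1 : Y ⟶ D) a *
        X.chi (1 : Y ⟶ D) a⁻¹) := by rw [hu, mul_one]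
    _ = (X.chi (1 : Y ⟶ D) a * X.chi (1 : Y ⟶ D) a) * X.chi (1 : Y ⟶ D) a⁻¹ := by ring
    _ = 1 := by rw [← h, hu]

/-- the character of a point -/
def chiHom {Y : Over (Spec (CommRingCat.of L))} (y : Y ⟶ D) : M →* Γ(Y.left, ⊤) where
  toFun := X.chi y
  map_one' := X.chi_one y
  map_mul' := X.chi_mul_elt y

/-- the ring homomorphism `L[M] → Γ(Y)` of a point -/
def theta {Y : Over (Spec (CommRingCat.of L))} (y : Y ⟶ D) :
    MonoidAlgebra L M →+* Γ(Y.left, ⊤) :=
  MonoidAlgebra.liftNCRingHom (sm Y) (chiHom X y) (fun _ _ => Commute.all _ _)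

theorem theta_single {Y : Over (Spec (CommRingCat.of L))} (y : Y ⟶ D) (a : M) (r : L) :
    theta X y (MonoidAlgebra.single a r) = sm Y r * X.chi y a :=
  MonoidAlgebra.liftNCRingHom_single _ _ _ _ _

/-- the factorisation of a point through the universal one -/
def fac {Y : Over (Spec (CommRingCat.of L))} (y : Y ⟶ D) : Y ⟶ sp L (MonoidAlgebra L M) :=
  mkSp (theta X y) (fun r => by
    rw [MonoidAlgebra.coe_algebraMap, Function.comp_apply, Algebra.algebraMap_self,
      RingHom.id_apply, theta_single, X.chi_one, mul_one])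

theorem fn_fac {Y : Over (Spec (CommRingCat.of L))} (y : Y ⟶ D) (b : MonoidAlgebra L M) :
    fn (fac X y) b = theta X y b := fn_mkSp _ _ _

/-- existence of points of the universal objects `Spec L[N]` with prescribed characters -/
theorem exists_univ (N : Type) [CommMonoid N] (ψ : M →* N) :
    ∃ y : sp L (MonoidAlgebra L N) ⟶ D,
      ∀ a, X.chi y a = fn (𝟙 (sp L (MonoidAlgebra L N))) (MonoidAlgebra.single (ψ a) 1) := by
  obtain ⟨y, hy⟩ := X.chi_exists
    (((fnHom (𝟙 (sp L (MonoidAlgebra L N)))).toMonoidHom.comp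
      (MonoidAlgebra.of L N)).comp ψ)
  exact ⟨y, fun a => hy a⟩

theorem fac_comp (y₀ : sp L (MonoidAlgebra L M) ⟶ D)
    (hy₀ : ∀ a, X.chi y₀ a = fn (𝟙 (sp L (MonoidAlgebra L M))) (MonoidAlgebra.single a 1))
    {Y : Over (Spec (CommRingCat.of L))} (y : Y ⟶ D) : fac X y ≫ y₀ = y := by
  apply X.chi_ext
  intro a
  rw [X.chi_comp, hy₀, ← fn_comp, Category.comp_id, fn_fac, theta_single, map_one, one_mul]

theorem sm_mul_fn_single (N : Type) [CommMonoid N] (r : L) (g : N) :
    sm (sp L (MonoidAlgebra L N)) r *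
      fn (𝟙 (sp L (MonoidAlgebra L N))) (MonoidAlgebra.single g 1) =
      fn (𝟙 (sp L (MonoidAlgebra L N))) (MonoidAlgebra.single g r) := by
  rw [← fn_algebraMap (𝟙 (sp L (MonoidAlgebra L N))) r, ← fnHom_apply, ← fnHom_apply,
    ← fnHom_apply, ← map_mul]
  congr 1
  rw [MonoidAlgebra.coe_algebraMap, Function.comp_apply, Algebra.algebraMap_self,
    RingHom.id_apply, MonoidAlgebra.single_mul_single, one_mul, mul_one]

theorem fn_id_injective (N : Type) [CommMonoid N] :
    Function.Injective (fn (𝟙 (sp L (MonoidAlgebra L N)))) := by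
  intro a b h
  rw [fn_id, fn_id] at h
  exact inv_injective h

variable [Fintype M] [DecidableEq M]

theorem eval_univ (N : Type) [CommMonoid N] (ψ : M → N) (y : sp L (MonoidAlgebra L N) ⟶ D)
    (hy : ∀ a, X.chi y a = fn (𝟙 (sp L (MonoidAlgebra L N))) (MonoidAlgebra.single (ψ a) 1))
    (e : M → L) :
    ∑ a, sm (sp L (MonoidAlgebra L N)) (e a) * X.chi y a =
      fn (𝟙 (sp L (MonoidAlgebra L N))) (∑ a, MonoidAlgebra.single (ψ a) (e a)) := by
  rw [← fnHom_apply, map_sum]
  refine Finset.sum_congr rfl fun a _ => ?_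
  rw [hy, sm_mul_fn_single, fnHom_apply]

/-- expansion of a natural function of points along the characters -/
theorem expand (Φ : ∀ {Y : Over (Spec (CommRingCat.of L))}, (Y ⟶ D) → Γ(Y.left, ⊤))
    (hΦ : ∀ {Y Y' : Over (Spec (CommRingCat.of L))} (s : Y' ⟶ Y) (y : Y ⟶ D),
      Φ (s ≫ y) = s.left.appTop (Φ y)) :
    ∃ e : M → L, ∀ {Y : Over (Spec (CommRingCat.of L))} (y : Y ⟶ D),
      Φ y = ∑ a, sm Y (e a) * X.chi y a := by
  obtain ⟨y₀, hy₀⟩ := exists_univ X M (MonoidHom.id M)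
  obtain ⟨e₀, he₀⟩ : ∃ e₀ : MonoidAlgebra L M,
      fn (𝟙 (sp L (MonoidAlgebra L M))) e₀ = Φ y₀ :=
    ⟨(Scheme.ΓSpecIso (CommRingCat.of (MonoidAlgebra L M))).hom (Φ y₀), by
      rw [fn_id]; exact inv_hom _⟩
  refine ⟨fun a => e₀.coeff a, fun {Y} y => ?_⟩
  calc Φ y = Φ (fac X y ≫ y₀) := by rw [fac_comp X y₀ hy₀ y]
    _ = (fac X y).left.appTop (Φ y₀) := hΦ _ _
    _ = (fac X y).left.appTop (fn (𝟙 (sp L (MonoidAlgebra L M))) e₀) := by rw [he₀]
    _ = fn (fac X y ≫ 𝟙 _) e₀ := (fn_comp _ _ _).symm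
    _ = theta X y e₀ := by rw [Category.comp_id, fn_fac]
    _ = theta X y (∑ a, MonoidAlgebra.single a (e₀.coeff a)) := by rw [← eq_sum_single]
    _ = ∑ a, sm Y (e₀.coeff a) * X.chi y a := by
        rw [map_sum]
        exact Finset.sum_congr rfl fun a _ => theta_single X y a _

/-- uniqueness of the coefficients of an expansion -/
theorem coeff_unique (e e' : M → L)
    (h : ∀ {Y : Over (Spec (CommRingCat.of L))} (y : Y ⟶ D),
      ∑ a, sm Y (e a) * X.chi y a = ∑ a, sm Y (e' a) * X.chi y a) : e = e' := by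
  obtain ⟨y₀, hy₀⟩ := exists_univ X M (MonoidHom.id M)
  have h1 := h y₀
  rw [eval_univ X M id y₀ hy₀, eval_univ X M id y₀ hy₀] at h1
  have h2 := fn_id_injective M h1
  funext b
  have h3 := congrArg (fun x : MonoidAlgebra L M => x.coeff b) h2
  simp only [id] at h3
  rw [coeff_sum_single, coeff_sum_single] at h3
  exact h3

/-- the coefficients of a product expansion -/
theorem coeff_mul {J : Type} [Fintype J] (e : M → L) (e' e'' : J → M → L)
    (h : ∀ {Y : Over (Spec (CommRingCat.of L))} (y y' : Y ⟶ D),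
      ∑ a, sm Y (e a) * X.chi (y * y') a =
        ∑ l, (∑ a, sm Y (e' l a) * X.chi y a) * (∑ a, sm Y (e'' l a) * X.chi y' a))
    (a a' : M) : (if a = a' then e a else 0) = ∑ l, e' l a * e'' l a' := by
  obtain ⟨y₁, hy₁⟩ := exists_univ X (M × M) (MonoidHom.inl M M)
  obtain ⟨y₂, hy₂⟩ := exists_univ X (M × M) (MonoidHom.inr M M)
  have hy₁₂ : ∀ a, X.chi (y₁ * y₂) a = fn (𝟙 (sp L (MonoidAlgebra L (M × M))))
      (MonoidAlgebra.single ((fun a : M => (a, a)) a) 1) := by
    intro a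
    have hm : (MonoidHom.inl M M) a * (MonoidHom.inr M M) a = (a, a) := by simp
    rw [X.chi_mul, hy₁, hy₂, ← fnHom_apply, ← fnHom_apply, ← fnHom_apply, ← map_mul,
      MonoidAlgebra.single_mul_single, mul_one, hm]
  have h1 := h y₁ y₂
  rw [eval_univ X (M × M) (fun a : M => (a, a)) (y₁ * y₂) hy₁₂] at h1
  have h2 : ∀ l, (∑ a, sm (sp L (MonoidAlgebra L (M × M))) (e' l a) * X.chi y₁ a) *
      (∑ a, sm (sp L (MonoidAlgebra L (M × M))) (e'' l a) * X.chi y₂ a) =
      fn (𝟙 (sp L (MonoidAlgebra L (M × M))))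
        ((∑ a, MonoidAlgebra.single (a, (1 : M)) (e' l a)) *
          (∑ a, MonoidAlgebra.single ((1 : M), a) (e'' l a))) := by
    intro l
    rw [eval_univ X (M × M) (MonoidHom.inl M M) y₁ hy₁,
      eval_univ X (M × M) (MonoidHom.inr M M) y₂ hy₂, ← fnHom_apply, ← fnHom_apply,
      ← fnHom_apply, ← map_mul]
    rfl
  simp only [h2] at h1
  simp only [← fnHom_apply] at h1
  rw [← map_sum] at h1
  have h3 := fn_id_injective (M × M) h1
  exact coeff_two e e' e'' h3 a a'

theorem chi_elt_inj [Nontrivial L] (a a' : M)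
    (h : ∀ {Y : Over (Spec (CommRingCat.of L))} (y : Y ⟶ D), X.chi y a = X.chi y a') :
    a = a' := by
  obtain ⟨y₀, hy₀⟩ := exists_univ X M (MonoidHom.id M)
  have h1 := h y₀
  rw [hy₀, hy₀] at h1
  have h2 := fn_id_injective M h1
  exact MonoidAlgebra.of_injective h2

end Char

theorem sm_unit_injective [Nontrivial L] :
    Function.Injective (sm (𝟙_ (Over (Spec (CommRingCat.of L))))) := by
  intro r r' h
  rw [sm_unit, sm_unit] at h
  exact inv_injective h

theorem one_comp_of_mul {D G : Over (Spec (CommRingCat.of L))} [GrpObj D] [GrpObj G] (ρ : D ⟶ G)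
    (hρ : ∀ {Y : Over (Spec (CommRingCat.of L))} (y y' : Y ⟶ D),
      (y * y') ≫ ρ = (y ≫ ρ) * (y' ≫ ρ)) {Y : Over (Spec (CommRingCat.of L))} :
    (1 : Y ⟶ D) ≫ ρ = 1 := by
  have h := hρ (1 : Y ⟶ D) 1
  rw [mul_one] at h
  have h2 : (1 : Y ⟶ D) ≫ ρ * ((1 : Y ⟶ D) ≫ ρ) = (1 : Y ⟶ D) ≫ ρ * 1 := by
    rw [mul_one]; exact h.symm
  exact mul_left_cancel h2

/-- a homomorphism from a diagonalisable group to a group with matrix points is given by a
complete system of orthogonal idempotents -/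
theorem exists_idem [Nontrivial L] {M : Type} [CommGroup M] [Fintype M] [DecidableEq M]
    {D G : Over (Spec (CommRingCat.of L))} [GrpObj D] [GrpObj G] {m : ℕ}
    (X : CharD (L := L) M D) (Z : MatD (L := L) m G) (ρ : D ⟶ G)
    (hρ : ∀ {Y : Over (Spec (CommRingCat.of L))} (y y' : Y ⟶ D),
      (y * y') ≫ ρ = (y ≫ ρ) * (y' ≫ ρ)) :
    ∃ E : M → Matrix (Fin m) (Fin m) L,
      (∀ {Y : Over (Spec (CommRingCat.of L))} (y : Y ⟶ D) (i j : Fin m),
        Z.gm (y ≫ ρ) i j = ∑ a, sm Y (E a i j) * X.chi y a) ∧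
      (∀ a a', E a * E a' = if a = a' then E a else 0) ∧ ∑ a, E a = 1 := by
  have hex : ∀ i j : Fin m, ∃ e : M → L,
      ∀ {Y : Over (Spec (CommRingCat.of L))} (y : Y ⟶ D),
        Z.gm (y ≫ ρ) i j = ∑ a, sm Y (e a) * X.chi y a := by
    intro i j
    refine expand X (fun {Y} y => Z.gm (y ≫ ρ) i j) ?_
    intro Y Y' s y
    show Z.gm ((s ≫ y) ≫ ρ) i j = _
    rw [Category.assoc, Z.gm_comp]
    rfl
  choose e he using hex
  have hE : ∀ (i j : Fin m) (a a' : M),
      (if a = a' then e i j a else 0) = ∑ l, e i l a * e l j a' := by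
    intro i j
    refine coeff_mul X (e i j) (fun l => e i l) (fun l => e l j) ?_
    intro Y y y'
    rw [← he i j, hρ, Z.gm_mul, Matrix.mul_apply]
    refine Finset.sum_congr rfl fun l _ => ?_
    rw [he i l, he l j]
  refine ⟨fun a => Matrix.of fun i j => e i j a, fun {Y} y i j => he i j y, ?_, ?_⟩
  · intro a a'
    ext i j
    rw [Matrix.mul_apply]
    have := hE i j a a'
    simp only [Matrix.of_apply]
    rw [← this]
    split_ifs
    · rfl
    · rfl
  · ext i j
    have h1 := he i j (1 : 𝟙_ (Over (Spec (CommRingCat.of L))) ⟶ D)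
    rw [one_comp_of_mul ρ hρ, Z.gm_one] at h1
    simp only [chi_one_pt, mul_one] at h1
    rw [← map_sum] at h1
    rw [Matrix.sum_apply]
    simp only [Matrix.of_apply]
    apply sm_unit_injective
    rw [← h1, Matrix.one_apply, Matrix.one_apply]
    split_ifs
    · rw [map_one]
    · rw [map_zero]

/-- a homomorphism between diagonalisable groups is induced by a map of character groups -/
theorem exists_char_map [IsDomain L] {M₁ M₂ : Type} [CommGroup M₁] [CommGroup M₂] [Fintype M₁]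
    [DecidableEq M₁] {D₁ D₂ : Over (Spec (CommRingCat.of L))} [GrpObj D₁] [GrpObj D₂]
    (X₁ : CharD (L := L) M₁ D₁) (X₂ : CharD (L := L) M₂ D₂) (ψ : D₁ ⟶ D₂)
    (hψ : ∀ {Y : Over (Spec (CommRingCat.of L))} (y y' : Y ⟶ D₁),
      (y * y') ≫ ψ = (y ≫ ψ) * (y' ≫ ψ)) :
    ∃ c : M₂ → M₁, ∀ {Y : Over (Spec (CommRingCat.of L))} (y : Y ⟶ D₁) (b : M₂),
      X₂.chi (y ≫ ψ) b = X₁.chi y (c b) := by
  have hex : ∀ b : M₂, ∃ p : M₁ → L,
      ∀ {Y : Over (Spec (CommRingCat.of L))} (y : Y ⟶ D₁),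
        X₂.chi (y ≫ ψ) b = ∑ a, sm Y (p a) * X₁.chi y a := by
    intro b
    refine expand X₁ (fun {Y} y => X₂.chi (y ≫ ψ) b) ?_
    intro Y Y' s y
    show X₂.chi ((s ≫ y) ≫ ψ) b = _
    rw [Category.assoc, X₂.chi_comp]
  choose p hp using hex
  have hsel : ∀ b : M₂, ∃ a₀, ∀ a, p b a = if a = a₀ then 1 else 0 := by
    intro b
    apply exists_select
    · intro a a'
      have := coeff_mul X₁ (J := Unit) (p b) (fun _ => p b) (fun _ => p b) (by
        intro Y y y'
        rw [← hp b, hψ, X₂.chi_mul, hp b, hp b]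
        simp) a a'
      rw [this]
      simp
    · have h1 := hp b (1 : 𝟙_ (Over (Spec (CommRingCat.of L))) ⟶ D₁)
      rw [one_comp_of_mul ψ hψ, chi_one_pt] at h1
      simp only [chi_one_pt, mul_one] at h1
      rw [← map_sum] at h1
      apply sm_unit_injective
      rw [← h1, map_one]
  choose c hc using hsel
  refine ⟨c, fun {Y} y b => ?_⟩
  rw [hp b, Finset.sum_eq_single (c b)]
  · rw [hc b (c b), if_pos rfl, map_one, one_mul]
  · intro a _ ha
    rw [hc b a, if_neg ha, map_zero, zero_mul]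
  · intro h; exact absurd (Finset.mem_univ _) h

end

end Groth.Agent.Lib.Helper28.MuGen
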