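/-
Helper28 library: the character data of `D_S(M)`, base change of character / matrix data along
`Spec K ⟶ Spec k` via the adjunction `Over.map ⊣ Over.pullback`, and conjugation lemmas.
-/
import Groth.Agent.Lib.Helper28.MuGen
import Groth.Agent.Lib.Helper19.DiagChar
import Groth.Prelude.Def_AGF

set_option autoImplicit false
set_option maxHeartbeats 1600000
set_option linter.unusedSectionVars false
universe u
open CategoryTheory CategoryTheory.Limits AlgebraicGeometry MonoidalCategory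
  CartesianMonoidalCategory
open scoped MonObj

namespace Groth.Agent.Lib.Helper28.MuBC

open Groth.Agent.Lib.Helper13 Groth.Agent.Lib.Helper28.SpPts Groth.Agent.Lib.Helper28.MuGen
  Groth.Agent.Lib.Helper1.DiagGa Groth.Agent.Lib.Helper19.DiagCore CoactBr

noncomputable section

/-- the character data of the diagonalisable group `D_S(M)` over `S = Spec L` -/
def charDS (L : Type u) [CommRing L] (M : Type) [AddCommGroup M] :
    CharD (L := L) (Multiplicative M) (Red.DS (Spec (CommRingCat.of L)) M) where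
  chi y a := chiFn y a
  chi_one y := chiFn_one y
  chi_mul_elt y a b := chiFn_mul_elt y a b
  chi_mul y y' a := chiFn_mul y y' a
  chi_comp s y a := chiFn_comp s y a
  chi_ext y y' h := pt_ext' y y' h
  chi_exists ψ := exists_pt ψ

section BC

variable {k K : Type u} [CommRing k] [CommRing K] [Algebra k K]

/-- the morphism `Spec K ⟶ Spec k` -/
abbrev fkK (k K : Type u) [CommRing k] [CommRing K] [Algebra k K] :
    Spec (CommRingCat.of K) ⟶ Spec (CommRingCat.of k) :=
  Spec.map (CommRingCat.ofHom (algebraMap k K))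

variable {D G : Over (Spec (CommRingCat.of k))} [GrpObj D] [GrpObj G]

theorem adjE_symm_mul {Y : Over (Spec (CommRingCat.of K))} (y y' : Y ⟶ Red.bc (fkK k K) D) :
    (adjE (fkK k K) D).symm (y * y') =
      (adjE (fkK k K) D).symm y * (adjE (fkK k K) D).symm y' := by
  apply (adjE (fkK k K) D).injective
  rw [Equiv.apply_symm_apply, adjE_mul, Equiv.apply_symm_apply, Equiv.apply_symm_apply]

theorem adjE_symm_one {Y : Over (Spec (CommRingCat.of K))} :
    (adjE (fkK k K) D).symm (1 : Y ⟶ Red.bc (fkK k K) D) = 1 := by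
  apply (adjE (fkK k K) D).injective
  rw [Equiv.apply_symm_apply]
  have h := adjE_mul (fkK k K) D (1 : (Over.map (fkK k K)).obj Y ⟶ D) 1
  rw [_root_.one_mul] at h
  exact mul_left_cancel (a := adjE (fkK k K) D (1 : (Over.map (fkK k K)).obj Y ⟶ D))
    (by rw [_root_.mul_one]; exact h)

theorem adjE_symm_comp {Y Y' : Over (Spec (CommRingCat.of K))} (s : Y' ⟶ Y)
    (y : Y ⟶ Red.bc (fkK k K) D) :
    (adjE (fkK k K) D).symm (s ≫ y) =
      (Over.map (fkK k K)).map s ≫ (adjE (fkK k K) D).symm y := by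
  apply (adjE (fkK k K) D).injective
  rw [Equiv.apply_symm_apply, adjE_comp, Equiv.apply_symm_apply]

theorem adjE_symm_map {Y : Over (Spec (CommRingCat.of K))} (y : Y ⟶ Red.bc (fkK k K) D)
    (ρ : D ⟶ G) :
    (adjE (fkK k K) G).symm (y ≫ (Over.pullback (fkK k K)).map ρ) =
      (adjE (fkK k K) D).symm y ≫ ρ :=
  Adjunction.homEquiv_naturality_right_symm _ _ _

theorem sm_map (Y : Over (Spec (CommRingCat.of K))) (r : k) :
    (sm ((Over.map (fkK k K)).obj Y) r : Γ(Y.left, ⊤)) = sm Y (algebraMap k K r) := by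
  rw [sm_apply, sm_apply]
  show (Y.hom ≫ fkK k K).appTop _ = _
  rw [Scheme.Hom.comp_appTop, CommRingCat.comp_apply, specMap_appTop_ΓSpecIso_inv]

/-- base change of character data -/
def charBC {M : Type} [CommGroup M] (X : CharD (L := k) M D) :
    CharD (L := K) M (Red.bc (fkK k K) D) where
  chi y a := X.chi ((adjE (fkK k K) D).symm y) a
  chi_one y := X.chi_one _
  chi_mul_elt y a b := X.chi_mul_elt _ a b
  chi_mul y y' a := by
    rw [adjE_symm_mul]
    exact X.chi_mul _ _ a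
  chi_comp s y a := by
    rw [adjE_symm_comp]
    exact X.chi_comp _ _ a
  chi_ext y y' h := (adjE (fkK k K) D).symm.injective (X.chi_ext _ _ h)
  chi_exists {Y} ψ := by
    obtain ⟨y', hy'⟩ := X.chi_exists (Y := (Over.map (fkK k K)).obj Y) ψ
    refine ⟨adjE (fkK k K) D y', fun a => ?_⟩
    rw [Equiv.symm_apply_apply]
    exact hy' a

theorem charBC_chi {M : Type} [CommGroup M] (X : CharD (L := k) M D)
    {Y : Over (Spec (CommRingCat.of K))} (y : Y ⟶ Red.bc (fkK k K) D) (a : M) :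
    (charBC (K := K) X).chi y a = X.chi ((adjE (fkK k K) D).symm y) a := rfl

/-- base change of matrix data -/
def matBC {m : ℕ} (Z : MatD (L := k) m G) : MatD (L := K) m (Red.bc (fkK k K) G) where
  gm y := Z.gm ((adjE (fkK k K) G).symm y)
  gm_mul x y := by
    rw [adjE_symm_mul]
    exact Z.gm_mul _ _
  gm_one := by
    intro Y
    rw [adjE_symm_one]
    exact Z.gm_one
  gm_comp s x := by
    rw [adjE_symm_comp]
    exact Z.gm_comp _ _
  gm_inj x y h := (adjE (fkK k K) G).symm.injective (Z.gm_inj _ _ h)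

theorem matBC_gm {m : ℕ} (Z : MatD (L := k) m G)
    {Y : Over (Spec (CommRingCat.of K))} (y : Y ⟶ Red.bc (fkK k K) G) :
    (matBC (K := K) Z).gm y = Z.gm ((adjE (fkK k K) G).symm y) := rfl

/-- base change of an expansion -/
theorem expand_bc {M : Type} [CommGroup M] [Fintype M] {m : ℕ} (X : CharD (L := k) M D)
    (Z : MatD (L := k) m G) (ρ : D ⟶ G) (E : M → Matrix (Fin m) (Fin m) k)
    (hE : ∀ {Y : Over (Spec (CommRingCat.of k))} (y : Y ⟶ D) (i j : Fin m),
      Z.gm (y ≫ ρ) i j = ∑ a, sm Y (E a i j) * X.chi y a)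
    {Y : Over (Spec (CommRingCat.of K))} (y : Y ⟶ Red.bc (fkK k K) D) (i j : Fin m) :
    (matBC (K := K) Z).gm (y ≫ (Over.pullback (fkK k K)).map ρ) i j =
      ∑ a, sm Y (algebraMap k K (E a i j)) * (charBC (K := K) X).chi y a := by
  rw [matBC_gm, adjE_symm_map, hE]
  refine Finset.sum_congr rfl fun a _ => ?_
  rw [charBC_chi]
  congr 1
  exact sm_map Y _

/-- base change of a character map -/
theorem charmap_bc {M₁ M₂ : Type} [CommGroup M₁] [CommGroup M₂]
    {D₂ : Over (Spec (CommRingCat.of k))} [GrpObj D₂]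
    (X₁ : CharD (L := k) M₁ D) (X₂ : CharD (L := k) M₂ D₂) (κ : D ⟶ D₂) (c : M₂ → M₁)
    (hc : ∀ {Y : Over (Spec (CommRingCat.of k))} (y : Y ⟶ D) (b : M₂),
      X₂.chi (y ≫ κ) b = X₁.chi y (c b))
    {Y : Over (Spec (CommRingCat.of K))} (y : Y ⟶ Red.bc (fkK k K) D) (b : M₂) :
    (charBC (K := K) X₂).chi (y ≫ (Over.pullback (fkK k K)).map κ) b =
      (charBC (K := K) X₁).chi y (c b) := by
  rw [charBC_chi, adjE_symm_map, hc]
  rfl

/-- the base change of a pointwise multiplicative morphism is pointwise multiplicative -/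
theorem mul_comp_bc (ρ : D ⟶ G)
    (hρ : ∀ {Y : Over (Spec (CommRingCat.of k))} (y y' : Y ⟶ D),
      (y * y') ≫ ρ = (y ≫ ρ) * (y' ≫ ρ))
    {Y : Over (Spec (CommRingCat.of K))} (y y' : Y ⟶ Red.bc (fkK k K) D) :
    (y * y') ≫ (Over.pullback (fkK k K)).map ρ =
      (y ≫ (Over.pullback (fkK k K)).map ρ) * (y' ≫ (Over.pullback (fkK k K)).map ρ) := by
  apply (adjE (fkK k K) G).symm.injective
  rw [adjE_symm_map, adjE_symm_mul, adjE_symm_mul, adjE_symm_map, adjE_symm_map, hρ]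

/-- cancellation of the base change of a monomorphism -/
theorem cancel_bc (ρ : D ⟶ G) [Mono ρ] {Y : Over (Spec (CommRingCat.of K))}
    (y y' : Y ⟶ Red.bc (fkK k K) D)
    (h : y ≫ (Over.pullback (fkK k K)).map ρ = y' ≫ (Over.pullback (fkK k K)).map ρ) :
    y = y' := by
  apply (adjE (fkK k K) D).symm.injective
  have h2 := congrArg (adjE (fkK k K) G).symm h
  rw [adjE_symm_map, adjE_symm_map] at h2
  exact (cancel_mono ρ).mp h2

end BC

section Conj

variable {S : Scheme.{u}} {G H H' : Over S} [GrpObj G]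

theorem comp_conjBy (g : 𝟙_ (Over S) ⟶ G) (i : H ⟶ G) (s : H' ⟶ H) :
    s ≫ AGF.conjBy g i = AGF.conjBy g (s ≫ i) := by
  show s ≫ ((toUnit H ≫ g) * i * (toUnit H ≫ g)⁻¹) =
    (toUnit H' ≫ g) * (s ≫ i) * (toUnit H' ≫ g)⁻¹
  rw [MonObj.comp_mul, MonObj.comp_mul, GrpObj.comp_inv, ← Category.assoc, comp_toUnit]

theorem conjBy_mul (g : 𝟙_ (Over S) ⟶ G) (i : H ⟶ G) :
    AGF.conjBy g i * (toUnit H ≫ g) = (toUnit H ≫ g) * i := by
  show (toUnit H ≫ g) * i * (toUnit H ≫ g)⁻¹ * (toUnit H ≫ g) = _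
  rw [inv_mul_cancel_right]

theorem conjBy_mul_comp (g : 𝟙_ (Over S) ⟶ G) {D : Over S} [GrpObj D] (ρ : D ⟶ G)
    (hρ : ∀ {Y : Over S} (y y' : Y ⟶ D), (y * y') ≫ ρ = (y ≫ ρ) * (y' ≫ ρ))
    {Y : Over S} (y y' : Y ⟶ D) :
    (y * y') ≫ AGF.conjBy g ρ = (y ≫ AGF.conjBy g ρ) * (y' ≫ AGF.conjBy g ρ) := by
  rw [comp_conjBy, comp_conjBy, comp_conjBy, hρ]
  show (toUnit Y ≫ g) * ((y ≫ ρ) * (y' ≫ ρ)) * (toUnit Y ≫ g)⁻¹ =
    ((toUnit Y ≫ g) * (y ≫ ρ) * (toUnit Y ≫ g)⁻¹) * ((toUnit Y ≫ g) * (y' ≫ ρ) * (toUnit Y ≫ g)⁻¹)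
  group

end Conj

end

end Groth.Agent.Lib.Helper28.MuBC
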