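/-
Helper28 library: finite subgroup schemes of `𝔾_a` and `𝔾_m` over a field are kernels of
faithfully flat endomorphisms (an additive polynomial, resp. an `n`-th power map).
-/
import Groth.Agent.Lib.Helper28.MuBC
import Groth.Agent.Lib.Helper28.FinSubAlg
import Groth.Agent.Lib.Helper1.KummerSeq
import Groth.Prelude.Def_AlgGrp

set_option autoImplicit false
set_option maxHeartbeats 1600000
set_option linter.unusedSectionVars false
set_option linter.style.haveILetI false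
universe u
open CategoryTheory CategoryTheory.Limits AlgebraicGeometry MonoidalCategory
  CartesianMonoidalCategory
open scoped MonObj

namespace Groth.Agent.Lib.Helper28.FinSubGeom

open Red Groth.Agent.Lib.Helper13 Groth.Agent.Lib.Helper28.SpPts Groth.Agent.Lib.Helper28.MuGen
  Groth.Agent.Lib.Helper28.MuBC Groth.Agent.Lib.Helper28.FinSubAlg CoactBr Polynomial

noncomputable section

section Cat

theorem isKernel_of_points {S : Scheme.{u}} {N G Q : Over S} [GrpObj Q] (i : N ⟶ G) (q : G ⟶ Q)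
    [Mono i] (hw : i ≫ q = toUnit N ≫ η[Q])
    (hlift : ∀ {Y : Over S} (g : Y ⟶ G), g ≫ q = toUnit Y ≫ η[Q] → ∃ h : Y ⟶ N, h ≫ i = g) :
    AlgGrp.IsKernel i q := by
  have hcond : ∀ s : PullbackCone q η[Q], s.fst ≫ q = toUnit s.pt ≫ η[Q] := by
    intro s
    rw [s.condition]
    congr 1
    exact toUnit_unique _ _
  show IsPullback i (toUnit N) q η[Q]
  refine ⟨⟨hw⟩, ⟨PullbackCone.IsLimit.mk hw (fun s => (hlift s.fst (hcond s)).choose)
    (fun s => (hlift s.fst (hcond s)).choose_spec) (fun s => toUnit_unique _ _) ?_⟩⟩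
  intro s m hm _
  rw [← cancel_mono i, hm, (hlift s.fst (hcond s)).choose_spec]

theorem transfer {S : Scheme.{u}} {G G' H : Over S} [GrpObj G] [GrpObj G'] (ε : G ⟶ G')
    (ε' : G' ⟶ G) [IsMonHom ε] [IsMonHom ε'] (h1 : ε ≫ ε' = 𝟙 G) (h2 : ε' ≫ ε = 𝟙 G')
    (i : H ⟶ G) [Mono i] (φ' : G' ⟶ G') [IsMonHom φ']
    (hk : AlgGrp.IsKernel (i ≫ ε) φ') (hfl : Flat φ'.left) (hs : Surjective φ'.left) :
    ∃ φ : G ⟶ G, IsMonHom φ ∧ AlgGrp.IsKernel i φ ∧ Flat φ.left ∧ Surjective φ.left := by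
  haveI : IsIso ε.left := ⟨⟨ε'.left, by rw [← Over.comp_left, h1]; rfl,
    by rw [← Over.comp_left, h2]; rfl⟩⟩
  haveI : IsIso ε'.left := ⟨⟨ε.left, by rw [← Over.comp_left, h2]; rfl,
    by rw [← Over.comp_left, h1]; rfl⟩⟩
  have hk' : IsPullback (i ≫ ε) (toUnit H) φ' η[G'] := hk
  refine ⟨ε ≫ φ' ≫ ε', inferInstance, ?_, ?_, ?_⟩
  · refine isKernel_of_points i _ ?_ ?_
    · calc i ≫ ε ≫ φ' ≫ ε' = ((i ≫ ε) ≫ φ') ≫ ε' := by simp only [Category.assoc]
        _ = (toUnit H ≫ η[G']) ≫ ε' := by rw [hk'.w]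
        _ = toUnit H ≫ η[G] := by rw [Category.assoc, IsMonHom.one_hom ε']
    · intro Y g hg
      have h3 : (g ≫ ε) ≫ φ' = toUnit Y ≫ η[G'] := by
        calc (g ≫ ε) ≫ φ' = (g ≫ ε ≫ φ' ≫ ε') ≫ ε := by
              simp only [Category.assoc]
              rw [h2, Category.comp_id]
          _ = (toUnit Y ≫ η[G]) ≫ ε := by rw [hg]
          _ = toUnit Y ≫ η[G'] := by rw [Category.assoc, IsMonHom.one_hom ε]
      refine ⟨hk'.lift (g ≫ ε) (toUnit Y) h3, ?_⟩
      have h4 := hk'.lift_fst (g ≫ ε) (toUnit Y) h3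
      have h5 := congrArg (fun t => t ≫ ε') h4
      simp only [Category.assoc] at h5
      rw [h1, Category.comp_id, Category.comp_id] at h5
      exact h5
  · show Flat (ε.left ≫ φ'.left ≫ ε'.left)
    exact (MorphismProperty.cancel_left_of_respectsIso @Flat ε.left _).mpr
      ((MorphismProperty.cancel_right_of_respectsIso @Flat _ ε'.left).mpr hfl)
  · show Surjective (ε.left ≫ φ'.left ≫ ε'.left)
    exact (MorphismProperty.cancel_left_of_respectsIso @Surjective ε.left _).mpr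
      ((MorphismProperty.cancel_right_of_respectsIso @Surjective _ ε'.left).mpr hs)

end Cat

variable {K : Type u} [Field K]

section Generic

theorem sm_finite (H : Over (Spec (CommRingCat.of K)))
    (h : RingHom.Finite (H.hom.appTop).hom) : (sm H).Finite := by
  have e : sm H = (H.hom.appTop).hom.comp (Scheme.ΓSpecIso (CommRingCat.of K)).inv.hom := by
    ext r
    exact sm_apply H r
  rw [e]
  exact h.comp (RingHom.Finite.of_surjective _
    (ConcreteCategory.bijective_of_isIso (Scheme.ΓSpecIso (CommRingCat.of K)).inv).2)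

theorem nontrivial_of_grp (H : Over (Spec (CommRingCat.of K))) [GrpObj H] :
    Nontrivial Γ(H.left, ⊤) := by
  haveI : Nontrivial Γ((𝟙_ (Over (Spec (CommRingCat.of K)))).left, ⊤) :=
    (sm_unit_injective (L := K)).nontrivial
  exact (η[H].left.appTop).hom.domain_nontrivial

theorem eval₂_appTop {Y Y' : Over (Spec (CommRingCat.of K))} (s : Y' ⟶ Y) (z : Γ(Y.left, ⊤))
    (p : K[X]) : eval₂ (sm Y') (s.left.appTop z) p = s.left.appTop (eval₂ (sm Y) z p) := by
  have h := hom_eval₂ p (sm Y) (s.left.appTop).hom z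
  have hs : (s.left.appTop).hom.comp (sm Y) = sm Y' := by
    ext r
    exact (sm_comp s r).symm
  rw [hs] at h
  exact h.symm

theorem eval₂_sm_sp {B : Type u} [CommRing B] [Algebra K B] (c : B) (p : K[X]) :
    eval₂ (sm (sp K B)) ((Scheme.ΓSpecIso (CommRingCat.of B)).inv c) p =
      (Scheme.ΓSpecIso (CommRingCat.of B)).inv (eval₂ (algebraMap K B) c p) := by
  have h := hom_eval₂ p (algebraMap K B) (Scheme.ΓSpecIso (CommRingCat.of B)).inv.hom c
  have hs : (Scheme.ΓSpecIso (CommRingCat.of B)).inv.hom.comp (algebraMap K B) =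
      sm (sp K B) := by
    ext r
    exact (sm_sp r).symm
  rw [hs] at h
  exact h.symm

theorem fn_pt {B B' : Type u} [CommRing B] [CommRing B'] [Algebra K B] [Algebra K B']
    (ψ : B →ₐ[K] B') {Y : Over (Spec (CommRingCat.of K))} (z : Y ⟶ sp K B') (b : B) :
    fn (z ≫ pt ψ) b = fn z (ψ b) := by
  have h : fn (pt ψ) b = fn (𝟙 (sp K B')) (ψ b) := by
    rw [fn_id]
    exact specMap_appTop_ΓSpecIso_inv ψ.toRingHom b
  rw [fn_comp, h, ← fn_comp, Category.comp_id]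

/-- morphisms into an affine scheme over `Spec K` from ring homomorphisms -/
theorem exists_lift_of_ringHom {H Y : Over (Spec (CommRingCat.of K))} [IsAffine H.left]
    (ψ : Γ(H.left, ⊤) →+* Γ(Y.left, ⊤)) (hψ : ∀ r, ψ (sm H r) = sm Y r) :
    ∃ h : Y ⟶ H, ∀ c, h.left.appTop c = ψ c := by
  letI : Algebra K Γ(H.left, ⊤) := (sm H).toAlgebra
  obtain ⟨e, he⟩ : ∃ e : H ⟶ sp K Γ(H.left, ⊤),
      e = mkSp (B := Γ(H.left, ⊤)) (RingHom.id _) (fun r => rfl) := ⟨_, rfl⟩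
  have hleft : e.left = H.left.toSpecΓ := by
    rw [he]
    show H.left.toSpecΓ ≫ Spec.map (CommRingCat.ofHom (RingHom.id _)) = _
    have h1 : CommRingCat.ofHom (RingHom.id Γ(H.left, ⊤)) = 𝟙 _ := rfl
    rw [h1, Spec.map_id]
    exact Category.comp_id _
  haveI : IsIso ((Over.forget _).map e) := by
    show IsIso e.left
    rw [hleft]
    exact IsAffine.affine
  haveI : IsIso e := isIso_of_reflects_iso e (Over.forget _)
  have hfe : ∀ c, fn e c = c := by
    intro c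
    rw [he, fn_mkSp]
    rfl
  refine ⟨mkSp (B := Γ(H.left, ⊤)) ψ hψ ≫ inv e, fun c => ?_⟩
  have h1 : fn ((mkSp (B := Γ(H.left, ⊤)) ψ hψ ≫ inv e) ≫ e) c = ψ c := by
    rw [Category.assoc, IsIso.inv_hom_id, Category.comp_id, fn_mkSp]
  rw [fn_comp, hfe] at h1
  exact h1

theorem lift_of_poly {H G : Over (Spec (CommRingCat.of K))} [IsAffine H.left] (i : H ⟶ G)
    (x : ∀ {Y : Over (Spec (CommRingCat.of K))}, (Y ⟶ G) → Γ(Y.left, ⊤))
    (hx_comp : ∀ {Y Y' : Over (Spec (CommRingCat.of K))} (s : Y' ⟶ Y) (y : Y ⟶ G),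
      x (s ≫ y) = s.left.appTop (x y))
    (hx_inj : ∀ {Y : Over (Spec (CommRingCat.of K))} (y y' : Y ⟶ G), x y = x y' → y = y')
    (f : K[X]) (h0 : eval₂ (sm H) (x i) f = 0)
    (hmin : ∀ p : K[X], eval₂ (sm H) (x i) p = 0 → f ∣ p)
    (hsurj : ∀ c : Γ(H.left, ⊤), ∃ p : K[X], eval₂ (sm H) (x i) p = c) :
    (∀ {Y : Over (Spec (CommRingCat.of K))} (h : Y ⟶ H), eval₂ (sm Y) (x (h ≫ i)) f = 0) ∧
    (∀ {Y : Over (Spec (CommRingCat.of K))} (g : Y ⟶ G), eval₂ (sm Y) (x g) f = 0 →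
      ∃ h : Y ⟶ H, h ≫ i = g) := by
  refine ⟨fun {Y} h => by rw [hx_comp, eval₂_appTop, h0, map_zero], fun {Y} g hg => ?_⟩
  obtain ⟨E, hE⟩ : ∃ E : K[X] →+* Γ(H.left, ⊤), E = eval₂RingHom (sm H) (x i) := ⟨_, rfl⟩
  obtain ⟨Eg, hEg⟩ : ∃ Eg : K[X] →+* Γ(Y.left, ⊤), Eg = eval₂RingHom (sm Y) (x g) := ⟨_, rfl⟩
  have hEs : Function.Surjective E := by
    intro c
    obtain ⟨p, hp⟩ := hsurj c
    exact ⟨p, by rw [hE, coe_eval₂RingHom]; exact hp⟩
  have hker : RingHom.ker E ≤ RingHom.ker Eg := by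
    intro p hp
    rw [RingHom.mem_ker] at hp ⊢
    rw [hE, coe_eval₂RingHom] at hp
    obtain ⟨q, rfl⟩ := hmin p hp
    rw [hEg, coe_eval₂RingHom, eval₂_mul, hg, zero_mul]
  have hψ : ∀ p, (E.liftOfSurjective hEs ⟨Eg, hker⟩) (E p) = Eg p :=
    RingHom.liftOfSurjective_comp_apply E hEs ⟨Eg, hker⟩
  have hEC : ∀ r, E (C r) = sm H r := fun r => by rw [hE, coe_eval₂RingHom, eval₂_C]
  have hEX : E X = x i := by rw [hE, coe_eval₂RingHom, eval₂_X]
  have hEgC : ∀ r, Eg (C r) = sm Y r := fun r => by rw [hEg, coe_eval₂RingHom, eval₂_C]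
  have hEgX : Eg X = x g := by rw [hEg, coe_eval₂RingHom, eval₂_X]
  obtain ⟨h, hh⟩ := exists_lift_of_ringHom (E.liftOfSurjective hEs ⟨Eg, hker⟩) (fun r => by
    have h1 := hψ (C r)
    rw [hEC, hEgC] at h1
    exact h1)
  refine ⟨h, hx_inj _ _ ?_⟩
  rw [hx_comp, hh]
  have h1 := hψ X
  rw [hEX, hEgX] at h1
  exact h1

end Generic

section Ga

theorem isAffine_ga : IsAffine (Red.Ga (Spec (CommRingCat.of K))).left := by
  haveI : IsAffine (Red.GaZ.{u}).left := by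
    show IsAffine (Spec _)
    infer_instance
  show IsAffine (pullback _ _)
  infer_instance

/-- the tautological point of `𝔾_a` over the affine line -/
def aPt : sp K K[X] ⟶ Red.Ga (Spec (CommRingCat.of K)) :=
  (exists_gaFn_eq (X := sp K K[X]) (fn (𝟙 (sp K K[X])) X)).choose

theorem gaFn_aPt : gaFn (aPt (K := K)) = fn (𝟙 (sp K K[X])) X :=
  (exists_gaFn_eq (X := sp K K[X]) (fn (𝟙 (sp K K[X])) X)).choose_spec

/-- the coordinate morphism of `𝔾_a` to the affine line -/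
def bPt : Red.Ga (Spec (CommRingCat.of K)) ⟶ sp K K[X] :=
  mkSp (eval₂RingHom (sm (Red.Ga (Spec (CommRingCat.of K))))
    (gaFn (𝟙 (Red.Ga (Spec (CommRingCat.of K)))))) (fun r => by
    rw [← Polynomial.C_eq_algebraMap, coe_eval₂RingHom, eval₂_C])

theorem fn_comp_bPt {Y : Over (Spec (CommRingCat.of K))}
    (y : Y ⟶ Red.Ga (Spec (CommRingCat.of K))) (p : K[X]) :
    fn (y ≫ bPt) p = eval₂ (sm Y) (gaFn y) p := by
  rw [fn_comp]
  unfold bPt
  rw [fn_mkSp, coe_eval₂RingHom, ← eval₂_appTop, ← gaFn_comp, Category.comp_id]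

theorem gaFn_comp_aPt {Y : Over (Spec (CommRingCat.of K))} (z : Y ⟶ sp K K[X]) :
    gaFn (z ≫ aPt) = fn z X := by
  rw [gaFn_comp, gaFn_aPt, ← fn_comp, Category.comp_id]

theorem aPt_bPt : (aPt (K := K)) ≫ bPt = 𝟙 _ := by
  apply fn_ext
  intro p
  rw [fn_comp_bPt, gaFn_aPt]
  have h := hom_eval₂ p (C : K →+* K[X]) (fnHom (𝟙 (sp K K[X]))) X
  rw [eval₂_C_X] at h
  have hs : (fnHom (𝟙 (sp K K[X]))).comp C = sm (sp K K[X]) := by
    ext r
    show fn (𝟙 (sp K K[X])) (C r) = _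
    rw [Polynomial.C_eq_algebraMap, fn_algebraMap]
  rw [hs] at h
  exact h.symm

theorem bPt_aPt : (bPt (K := K)) ≫ aPt = 𝟙 _ := by
  apply gaFn_injective
  rw [gaFn_comp_aPt]
  unfold bPt
  rw [fn_mkSp, coe_eval₂RingHom, eval₂_X]

theorem ga_expand (c' : Γ((Red.Ga (Spec (CommRingCat.of K))).left, ⊤)) :
    ∃ p : K[X], ∀ {Y : Over (Spec (CommRingCat.of K))}
      (y : Y ⟶ Red.Ga (Spec (CommRingCat.of K))),
      y.left.appTop c' = eval₂ (sm Y) (gaFn y) p := by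
  refine ⟨(Scheme.ΓSpecIso (CommRingCat.of K[X])).hom ((aPt (K := K)).left.appTop c'),
    fun {Y} y => ?_⟩
  rw [← fn_comp_bPt]
  unfold fn
  rw [inv_hom]
  have h : (y ≫ bPt) ≫ aPt = y := by rw [Category.assoc, bPt_aPt, Category.comp_id]
  have h2 : ((y ≫ bPt) ≫ aPt).left.appTop c' =
      (lft (y ≫ bPt)).appTop ((aPt (K := K)).left.appTop c') := by
    rw [Over.comp_left, Scheme.Hom.comp_appTop]
    rfl
  rw [← h2, h]

theorem main_ga (H : Over (Spec (CommRingCat.of K))) [GrpObj H]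
    (i : H ⟶ Red.Ga (Spec (CommRingCat.of K))) [IsMonHom i] [Mono i] [IsFinite H.hom] :
    ∃ φ : Red.Ga (Spec (CommRingCat.of K)) ⟶ Red.Ga (Spec (CommRingCat.of K)),
      IsMonHom φ ∧ AlgGrp.IsKernel i φ ∧ Flat φ.left ∧ Surjective φ.left := by
  obtain ⟨haff, hfin0⟩ := (HasAffineProperty.iff_of_isAffine (P := @IsFinite)).mp
    (inferInstance : IsFinite H.hom)
  haveI := haff
  have hfin : (sm H).Finite := sm_finite H hfin0
  haveI : Nontrivial Γ(H.left, ⊤) := nontrivial_of_grp H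
  haveI : IsAffine (Red.Ga (Spec (CommRingCat.of K))).left := isAffine_ga
  haveI : IsFinite i.left := MorphismProperty.of_postcomp (W := @IsFinite) (W' := @IsSeparated)
    i.left (Red.Ga (Spec (CommRingCat.of K))).hom inferInstance (by
      rw [Over.w i]
      infer_instance)
  haveI : IsClosedImmersion i.left :=
    (IsClosedImmersion.iff_isFinite_and_mono _).mpr ⟨inferInstance, inferInstance⟩
  have hsurjT := (IsClosedImmersion.isAffine_surjective_of_isAffine i.left).2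
  obtain ⟨f, hf, h0, hmin⟩ := exists_minpoly (sm H) hfin (gaFn i)
  have hd : 0 < f.natDegree := natDegree_pos_of_root (sm H) (gaFn i) f hf h0
  have hsurj : ∀ c : Γ(H.left, ⊤), ∃ p : K[X], eval₂ (sm H) (gaFn i) p = c := by
    intro c
    obtain ⟨c', rfl⟩ := hsurjT c
    obtain ⟨p, hp⟩ := ga_expand c'
    exact ⟨p, (hp i).symm⟩
  obtain ⟨hP1, hP2⟩ := lift_of_poly i (fun {Y} y => gaFn y) (fun s y => gaFn_comp s y)
    (fun y y' h => gaFn_injective h) f h0 hmin hsurj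
  have hQ : ∀ (C' : Type u) [CommRing C'] (σ : K →+* C') (c c' : C'), eval₂ σ c f = 0 →
      eval₂ σ c' f = 0 → eval₂ σ (c + c') f = 0 := by
    intro C' _ σ c c' hc hc'
    letI := σ.toAlgebra
    have e1 : eval₂ (algebraMap K C') c f = 0 := hc
    have e2 : eval₂ (algebraMap K C') c' f = 0 := hc'
    obtain ⟨y, hy⟩ := exists_gaFn_eq (X := sp K C')
      ((Scheme.ΓSpecIso (CommRingCat.of C')).inv c)
    obtain ⟨y', hy'⟩ := exists_gaFn_eq (X := sp K C')
      ((Scheme.ΓSpecIso (CommRingCat.of C')).inv c')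
    obtain ⟨h, hh⟩ := hP2 y (by rw [hy, eval₂_sm_sp, e1]; exact map_zero _)
    obtain ⟨h', hh'⟩ := hP2 y' (by rw [hy', eval₂_sm_sp, e2]; exact map_zero _)
    have h1 := hP1 (h * h')
    have key : gaFn ((h * h') ≫ i) = (Scheme.ΓSpecIso (CommRingCat.of C')).inv (c + c') := by
      rw [MonObj.mul_comp h h' i, hh, hh', gaFn_mul, hy, hy']
      exact (map_add (Scheme.ΓSpecIso (CommRingCat.of C')).inv.hom c c').symm
    rw [key, eval₂_sm_sp] at h1
    exact inv_injective (h1.trans (map_zero _).symm)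
  have hadd := fun {C' : Type u} [CommRing C'] (σ : K →+* C') (c c' : C') =>
    eval₂_add_of_roots f hf hd hQ σ c c'
  obtain ⟨φ, hφdef⟩ : ∃ φ : Red.Ga (Spec (CommRingCat.of K)) ⟶ Red.Ga (Spec (CommRingCat.of K)),
      φ = bPt ≫ pt (aeval f : K[X] →ₐ[K] K[X]) ≫ aPt := ⟨_, rfl⟩
  have hφ : ∀ {Y : Over (Spec (CommRingCat.of K))} (y : Y ⟶ Red.Ga (Spec (CommRingCat.of K))),
      gaFn (y ≫ φ) = eval₂ (sm Y) (gaFn y) f := by
    intro Y y
    rw [hφdef, ← Category.assoc, ← Category.assoc, gaFn_comp_aPt, fn_pt, aeval_X, fn_comp_bPt]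
  haveI hmon : IsMonHom φ := by
    apply Groth.Agent.Lib.Helper1.Kummer.isMonHom_of_points
    intro Y y y'
    apply gaFn_injective
    rw [hφ, gaFn_mul, gaFn_mul, hφ, hφ, add_comm (gaFn y) (gaFn y'), hadd, add_comm]
  refine ⟨φ, hmon, ?_, ?_, ?_⟩
  · refine isKernel_of_points i φ ?_ ?_
    · apply gaFn_injective
      rw [hφ, h0, ← Hom.one_def, gaFn_one]
    · intro Y g hg
      apply hP2
      rw [← hφ, hg, ← Hom.one_def, gaFn_one]
  all_goals
    have hff := faithfullyFlat_aeval f hf hd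
    obtain ⟨hfl, hsj⟩ := (flat_and_surjective_SpecMap_iff
      (CommRingCat.ofHom (aeval f : K[X] →ₐ[K] K[X]).toRingHom)).mpr hff
    obtain ⟨eb, heb⟩ : ∃ eb : (Red.Ga (Spec (CommRingCat.of K))).left ≅
        Spec (CommRingCat.of K[X]), φ.left = eb.hom ≫
        Spec.map (CommRingCat.ofHom (aeval f : K[X] →ₐ[K] K[X]).toRingHom) ≫ eb.inv :=
      ⟨⟨(bPt (K := K)).left, (aPt (K := K)).left,
        congrArg (fun t => t.left) (bPt_aPt (K := K)),
        congrArg (fun t => t.left) (aPt_bPt (K := K))⟩, by rw [hφdef]; rfl⟩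
    rw [heb]
  · exact (MorphismProperty.cancel_left_of_respectsIso @Flat eb.hom _).mpr
      ((MorphismProperty.cancel_right_of_respectsIso @Flat _ eb.inv).mpr hfl)
  · exact (MorphismProperty.cancel_left_of_respectsIso @Surjective eb.hom _).mpr
      ((MorphismProperty.cancel_right_of_respectsIso @Surjective _ eb.inv).mpr hsj)

end Ga

section Gm

theorem isAffine_gm : IsAffine (Red.Gm (Spec (CommRingCat.of K))).left := by
  haveI : IsAffine (Red.diag (ULift.{u} ℤ) ℤ).left := by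
    show IsAffine (Spec _)
    infer_instance
  show IsAffine (pullback _ _)
  infer_instance

/-- expansion of a natural function of points along the characters (no finiteness) -/
theorem expand' {M : Type} [CommGroup M] {D : Over (Spec (CommRingCat.of K))} [GrpObj D]
    (Xc : CharD (L := K) M D)
    (Φ : ∀ {Y : Over (Spec (CommRingCat.of K))}, (Y ⟶ D) → Γ(Y.left, ⊤))
    (hΦ : ∀ {Y Y' : Over (Spec (CommRingCat.of K))} (s : Y' ⟶ Y) (y : Y ⟶ D),
      Φ (s ≫ y) = s.left.appTop (Φ y)) :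
    ∃ e₀ : MonoidAlgebra K M, ∀ {Y : Over (Spec (CommRingCat.of K))} (y : Y ⟶ D),
      Φ y = theta Xc y e₀ := by
  obtain ⟨y₀, hy₀⟩ := exists_univ Xc M (MonoidHom.id M)
  obtain ⟨e₀, he₀⟩ : ∃ e₀ : MonoidAlgebra K M,
      fn (𝟙 (sp K (MonoidAlgebra K M))) e₀ = Φ y₀ :=
    ⟨(Scheme.ΓSpecIso (CommRingCat.of (MonoidAlgebra K M))).hom (Φ y₀), by
      rw [fn_id]; exact inv_hom _⟩
  refine ⟨e₀, fun {Y} y => ?_⟩
  calc Φ y = Φ (fac Xc y ≫ y₀) := by rw [fac_comp Xc y₀ hy₀ y]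
    _ = (fac Xc y).left.appTop (Φ y₀) := hΦ _ _
    _ = (fac Xc y).left.appTop (fn (𝟙 (sp K (MonoidAlgebra K M))) e₀) := by rw [he₀]
    _ = fn (fac Xc y ≫ 𝟙 _) e₀ := (fn_comp _ _ _).symm
    _ = theta Xc y e₀ := by rw [Category.comp_id, fn_fac]

theorem main_gm (H : Over (Spec (CommRingCat.of K))) [GrpObj H]
    (i : H ⟶ Red.Gm (Spec (CommRingCat.of K))) [IsMonHom i] [Mono i] [IsFinite H.hom] :
    ∃ φ : Red.Gm (Spec (CommRingCat.of K)) ⟶ Red.Gm (Spec (CommRingCat.of K)),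
      IsMonHom φ ∧ AlgGrp.IsKernel i φ ∧ Flat φ.left ∧ Surjective φ.left := by
  obtain ⟨haff, hfin0⟩ := (HasAffineProperty.iff_of_isAffine (P := @IsFinite)).mp
    (inferInstance : IsFinite H.hom)
  haveI := haff
  have hfin : (sm H).Finite := sm_finite H hfin0
  haveI : Nontrivial Γ(H.left, ⊤) := nontrivial_of_grp H
  haveI : IsAffine (Red.Gm (Spec (CommRingCat.of K))).left := isAffine_gm
  haveI : IsFinite i.left := MorphismProperty.of_postcomp (W := @IsFinite) (W' := @IsSeparated)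
    i.left (Red.Gm (Spec (CommRingCat.of K))).hom inferInstance (by
      rw [Over.w i]
      infer_instance)
  haveI : IsClosedImmersion i.left :=
    (IsClosedImmersion.iff_isFinite_and_mono _).mpr ⟨inferInstance, inferInstance⟩
  have hsurjT := (IsClosedImmersion.isAffine_surjective_of_isAffine i.left).2
  obtain ⟨f, hf, h0, hmin⟩ := exists_minpoly (sm H) hfin (gmFn i)
  have hd : 0 < f.natDegree := natDegree_pos_of_root (sm H) (gmFn i) f hf h0
  have hc0 : f.coeff 0 ≠ 0 :=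
    coeff_zero_ne_zero_of_isUnit (sm H) (gmFn i) (isUnit_gmFn i) f hf h0 hmin
  obtain ⟨q₀, hq₀⟩ := exists_inv_of_root f (sm H) (gmFn i) hc0 h0
  have hsurj : ∀ c : Γ(H.left, ⊤), ∃ p : K[X], eval₂ (sm H) (gmFn i) p = c := by
    intro c
    obtain ⟨c', rfl⟩ := hsurjT c
    obtain ⟨e₀, he₀⟩ := expand' (charDS K ℤ) (fun {Y} y => y.left.appTop c') (by
      intro Y Y' s y
      rw [Over.comp_left, Scheme.Hom.comp_appTop]
      rfl)
    have h1 := he₀ i
    obtain ⟨p, hp⟩ := mem_range_of_single (sm H) (chiHom (charDS K ℤ) i)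
      (theta (charDS K ℤ) i) (fun a r => theta_single (charDS K ℤ) i a r) q₀ hq₀ e₀
    exact ⟨p, hp.trans h1.symm⟩
  obtain ⟨hP1, hP2⟩ := lift_of_poly i (fun {Y} y => gmFn y) (fun s y => gmFn_comp s y)
    (fun y y' h => gmFn_injective h) f h0 hmin hsurj
  have hQ : ∀ (C' : Type u) [CommRing C'] (σ : K →+* C') (c c' : C'), IsUnit c → IsUnit c' →
      eval₂ σ c f = 0 → eval₂ σ c' f = 0 → eval₂ σ (c * c') f = 0 := by
    intro C' _ σ c c' hu hu' hc hc'
    letI := σ.toAlgebra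
    have e1 : eval₂ (algebraMap K C') c f = 0 := hc
    have e2 : eval₂ (algebraMap K C') c' f = 0 := hc'
    obtain ⟨y, hy⟩ := exists_gmFn_eq (X := sp K C')
      ((Scheme.ΓSpecIso (CommRingCat.of C')).inv c)
      (hu.map (Scheme.ΓSpecIso (CommRingCat.of C')).inv.hom)
    obtain ⟨y', hy'⟩ := exists_gmFn_eq (X := sp K C')
      ((Scheme.ΓSpecIso (CommRingCat.of C')).inv c')
      (hu'.map (Scheme.ΓSpecIso (CommRingCat.of C')).inv.hom)
    obtain ⟨h, hh⟩ := hP2 y (by rw [hy, eval₂_sm_sp, e1]; exact map_zero _)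
    obtain ⟨h', hh'⟩ := hP2 y' (by rw [hy', eval₂_sm_sp, e2]; exact map_zero _)
    have h1 := hP1 (h * h')
    have key : gmFn ((h * h') ≫ i) = (Scheme.ΓSpecIso (CommRingCat.of C')).inv (c * c') := by
      rw [MonObj.mul_comp h h' i, hh, hh', gmFn_mul, hy, hy']
      exact (map_mul (Scheme.ΓSpecIso (CommRingCat.of C')).inv.hom c c').symm
    rw [key, eval₂_sm_sp] at h1
    exact inv_injective (h1.trans (map_zero _).symm)
  have hfeq := eq_X_pow_sub_one f hf hd hc0 hQ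
  obtain ⟨n, hn⟩ : ∃ n : ℕ, n = f.natDegree := ⟨_, rfl⟩
  rw [← hn] at hfeq hd
  have hroot : ∀ {Y : Over (Spec (CommRingCat.of K))} (z : Γ(Y.left, ⊤)),
      eval₂ (sm Y) z f = 0 ↔ z ^ n = 1 := by
    intro Y z
    rw [hfeq, eval₂_X_pow_sub_one, sub_eq_zero]
  haveI hmon : IsMonHom (Groth.Agent.Lib.Helper1.Kummer.vMap (S := Spec (CommRingCat.of K)) n) := by
    unfold Groth.Agent.Lib.Helper1.Kummer.vMap Red.chi
    infer_instance
  refine ⟨Groth.Agent.Lib.Helper1.Kummer.vMap n, hmon, ?_,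
    (Groth.Agent.Lib.Helper1.Kummer.chi_left_props _ n hd).1,
    (Groth.Agent.Lib.Helper1.Kummer.chi_left_props _ n hd).2.1⟩
  refine isKernel_of_points i _ ?_ ?_
  · apply gmFn_injective
    rw [Groth.Agent.Lib.Helper1.Kummer.gmFn_comp_vMap, ← Hom.one_def, gmFn_one]
    exact (hroot _).mp h0
  · intro Y g hg
    apply hP2
    rw [hroot, ← Groth.Agent.Lib.Helper1.Kummer.gmFn_comp_vMap, hg, ← Hom.one_def, gmFn_one]

end Gm

theorem main (K : Type u) [Field K] (G H : Over (Spec (CommRingCat.of K))) [GrpObj G] [GrpObj H]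
    (hG : Nonempty (Grp.mk G ≅ Grp.mk (Red.Ga (Spec (CommRingCat.of K)))) ∨
      Nonempty (Grp.mk G ≅ Grp.mk (Red.Gm (Spec (CommRingCat.of K)))))
    (i : H ⟶ G) [IsMonHom i] [Mono i] [IsFinite H.hom] :
    ∃ φ : G ⟶ G, IsMonHom φ ∧ AlgGrp.IsKernel i φ ∧ Flat φ.left ∧ Surjective φ.left := by
  rcases hG with hG | hG
  · obtain ⟨e⟩ := hG
    have h1 : e.hom.hom.hom ≫ e.inv.hom.hom = 𝟙 G := congrArg (fun k => k.hom.hom) e.hom_inv_id
    have h2 : e.inv.hom.hom ≫ e.hom.hom.hom = 𝟙 _ := congrArg (fun k => k.hom.hom) e.inv_hom_id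
    haveI : Mono e.hom.hom.hom := mono_of_mono_fac h1
    obtain ⟨φ', hm, hk, hfl, hsj⟩ := main_ga H (i ≫ e.hom.hom.hom)
    haveI := hm
    exact transfer e.hom.hom.hom e.inv.hom.hom h1 h2 i φ' hk hfl hsj
  · obtain ⟨e⟩ := hG
    have h1 : e.hom.hom.hom ≫ e.inv.hom.hom = 𝟙 G := congrArg (fun k => k.hom.hom) e.hom_inv_id
    have h2 : e.inv.hom.hom ≫ e.hom.hom.hom = 𝟙 _ := congrArg (fun k => k.hom.hom) e.inv_hom_id
    haveI : Mono e.hom.hom.hom := mono_of_mono_fac h1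
    obtain ⟨φ', hm, hk, hfl, hsj⟩ := main_gm H (i ≫ e.hom.hom.hom)
    haveI := hm
    exact transfer e.hom.hom.hom e.inv.hom.hom h1 h2 i φ' hk hfl hsj

end

end Groth.Agent.Lib.Helper28.FinSubGeom
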