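/-
Helper28 library: the Artin–Schreier sequence `1 → (ℤ/p)_S → 𝔾_a → 𝔾_a → 1` is exact for the
fpqc topology.  Points of the constant group scheme with prescribed value under `i` are described
through the decomposition of a scheme by a function `c` with `c ^ p = c`; flatness of `x - x ^ p`
is obtained by base change from the prime field.
-/
import Groth.Agent.Lib.Helper28.FinSubGeom
import Groth.Agent.Lib.Helper28.ASAlg
import Groth.Prelude.Def_TwC
import Groth.Prelude.Def_NonAbH2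

set_option autoImplicit false
set_option maxHeartbeats 1600000
set_option linter.unusedSectionVars false
set_option linter.style.haveILetI false
universe u
open CategoryTheory CategoryTheory.Limits AlgebraicGeometry MonoidalCategory
  CartesianMonoidalCategory
open scoped MonObj

namespace Groth.Agent.Lib.Helper28.ASGeom

open Red Groth.Agent.Lib.Helper13 Groth.Agent.Lib.Helper28.SpPts
  Groth.Agent.Lib.Helper28.FinSubAlg Groth.Agent.Lib.Helper28.FinSubGeom
  Groth.Agent.Lib.Helper28.ASAlg Polynomial CoactBr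

noncomputable section

section Decomp

variable {p : ℕ} [Fact p.Prime] {T : Scheme.{u}} (ψ : ZMod p →+* Γ(T, ⊤)) (c : Γ(T, ⊤))

/-- the open where `c = a` -/
def VV (a : ZMod p) : T.Opens := T.basicOpen (uu ψ c a)

theorem isUnit_of_basicOpen_eq_top {W : Scheme.{u}} (f : Γ(W, ⊤)) (h : W.basicOpen f = ⊤) :
    IsUnit f := by
  apply W.toRingedSpace.isUnit_of_isUnit_germ ⊤ f
  intro x hx
  have hx' : x ∈ W.basicOpen f := by
    rw [h]
    trivial
  exact (W.mem_basicOpen_top f x).mp hx'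

theorem isUnit_appTop_of_preimage {W : Scheme.{u}} (j : W ⟶ T) (u : Γ(T, ⊤))
    (h : j ⁻¹ᵁ T.basicOpen u = ⊤) : IsUnit (j.appTop u) := by
  rw [Scheme.preimage_basicOpen_top] at h
  exact isUnit_of_basicOpen_eq_top _ h

theorem appTop_VV (hc : c ^ p = c) (a : ZMod p) :
    (VV ψ c a).ι.appTop c = (VV ψ c a).ι.appTop (ψ a) := by
  have hu : IsUnit ((VV ψ c a).ι.appTop (uu ψ c a)) :=
    isUnit_appTop_of_preimage _ _ (Scheme.Opens.ι_preimage_self _)
  exact eq_of_isUnit_uu ψ c hc ((VV ψ c a).ι.appTop).hom a hu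

theorem iSup_VV (hc : c ^ p = c) : ⨆ a, VV ψ c a = ⊤ := by
  rw [eq_top_iff]
  intro t _
  obtain ⟨a, ha⟩ := exists_isUnit_uu ψ c hc (T.presheaf.germ ⊤ t trivial).hom
  exact TopologicalSpace.Opens.mem_iSup.mpr ⟨a, (T.mem_basicOpen_top _ t).mpr ha⟩

theorem disjoint_VV (hc : c ^ p = c) {a b : ZMod p} (h : a ≠ b) :
    Disjoint (VV ψ c a) (VV ψ c b) := by
  rw [← TopologicalSpace.Opens.coe_disjoint, Set.disjoint_left]
  intro t ha hb
  exact not_isUnit_uu_pair ψ c hc (T.presheaf.germ ⊤ t trivial).hom h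
    ((T.mem_basicOpen_top _ t).mp ha) ((T.mem_basicOpen_top _ t).mp hb)

/-- `T` is the disjoint union of the opens `VV a` -/
theorem isColimit_VV (hc : c ^ p = c) :
    Nonempty (IsColimit (Cofan.mk T fun a : ZMod p => (VV ψ c a).ι)) := by
  apply nonempty_isColimit_cofanMk_of
  · simp only [Scheme.Opens.opensRange_ι]
    exact iSup_VV ψ c hc
  · intro a b h
    show Disjoint ((VV ψ c a).ι.opensRange) ((VV ψ c b).ι.opensRange)
    rw [Scheme.Opens.opensRange_ι, Scheme.Opens.opensRange_ι]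
    exact disjoint_VV ψ c hc h

end Decomp

section Sigma

variable {S : Scheme.{u}} {M : Type} [Small.{u} M]

/-- a morphism to the constant scheme landing in the `m`-th copy factors through it -/
theorem factor_sigma {W : Scheme.{u}} (gam : W ⟶ ∐ fun _ : M => S) (m : M)
    (h : Set.range gam ⊆ Set.range (Sigma.ι (fun _ : M => S) m)) :
    gam = (gam ≫ Sigma.desc fun _ : M => 𝟙 S) ≫ Sigma.ι (fun _ : M => S) m := by
  haveI : IsOpenImmersion (Sigma.ι (fun _ : M => S) m) :=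
    (sigmaOpenCover (fun _ : M => S)).map_prop m
  have hl := IsOpenImmersion.lift_fac (Sigma.ι (fun _ : M => S) m) gam h
  have h2 : IsOpenImmersion.lift (Sigma.ι (fun _ : M => S) m) gam h =
      gam ≫ Sigma.desc fun _ : M => 𝟙 S := by
    conv_rhs => rw [← hl]
    rw [Category.assoc, Sigma.ι_desc, Category.comp_id]
  rw [← h2, hl]

end Sigma

section Const

variable {p : ℕ} [Fact p.Prime] {S : Scheme.{u}}
  {G' : Over S} [GrpObj G'] (e : G' ≅ TwC.const S (Multiplicative (ZMod p)))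
  (he : TwC.IsConstGrp (Multiplicative (ZMod p)) G' e)
  (i : G' ⟶ Red.Ga S) [hmi : IsMonHom i]
  (hi : Red.gaFn (TwC.pt S (Multiplicative (ZMod p)) (Multiplicative.ofAdd 1) ≫ e.inv ≫ i) = 1)

/-- the `S`-point of `G'` of index `a` -/
def ptG (a : ZMod p) : 𝟙_ (Over S) ⟶ G' :=
  TwC.pt S (Multiplicative (ZMod p)) (Multiplicative.ofAdd a) ≫ e.inv

include he in
theorem ptG_add (a b : ZMod p) : ptG e (a + b) = ptG e a * ptG e b :=
  (he (Multiplicative.ofAdd a) (Multiplicative.ofAdd b)).symm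

include he hmi in
theorem valA_add (a b : ZMod p) :
    gaFn (ptG e (a + b) ≫ i) = gaFn (ptG e a ≫ i) + gaFn (ptG e b ≫ i) := by
  rw [ptG_add e he, MonObj.mul_comp (ptG e a) (ptG e b) i, gaFn_mul]

include he hi hmi in
theorem valA_nat (k : ℕ) :
    gaFn (ptG e (k : ZMod p) ≫ i) = (k : Γ((𝟙_ (Over S)).left, ⊤)) := by
  induction k with
  | zero =>
    have h := valA_add e he i 0 0
    rw [add_zero] at h
    have h0 : gaFn (ptG e (0 : ZMod p) ≫ i) = 0 :=
      add_left_cancel (a := gaFn (ptG e (0 : ZMod p) ≫ i)) (by rw [add_zero]; exact h.symm)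
    rw [Nat.cast_zero, Nat.cast_zero]
    exact h0
  | succ k ih =>
    rw [Nat.cast_succ, valA_add e he, ih, Nat.cast_succ]
    congr 1

include he hi hmi in
theorem valA_eq (a : ZMod p) (ψ' : ZMod p →+* Γ((𝟙_ (Over S)).left, ⊤)) :
    gaFn (ptG e a ≫ i) = ψ' a := by
  rw [hom_apply_val ψ' a]
  conv_lhs => rw [← ZMod.natCast_zmod_val a]
  exact valA_nat e he i hi a.val

include he hi hmi in
theorem gaFn_pt (Wo : Over S) (a : ZMod p) (ψ' : ZMod p →+* Γ(Wo.left, ⊤)) :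
    gaFn (toUnit Wo ≫ ptG e a ≫ i) = ψ' a := by
  rw [gaFn_comp, hom_apply_val ψ' a]
  have h : gaFn (ptG e a ≫ i) = ((a.val : ℕ) : Γ((𝟙_ (Over S)).left, ⊤)) := by
    conv_lhs => rw [← ZMod.natCast_zmod_val a]
    exact valA_nat e he i hi a.val
  rw [h, map_natCast]

theorem comp_desc {T : Over S} (g : T ⟶ G') :
    g.left ≫ e.hom.left ≫ Sigma.desc (fun _ : Multiplicative (ZMod p) => 𝟙 S) = T.hom := by
  have h2 : e.hom.left ≫ Sigma.desc (fun _ : Multiplicative (ZMod p) => 𝟙 S) = G'.hom :=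
    Over.w e.hom
  rw [h2, Over.w g]

theorem restrict_eq {T : Over S} (g : T ⟶ G') {W : Scheme.{u}} (j : W ⟶ T.left) (a : ZMod p)
    (h : Set.range (j ≫ g.left ≫ e.hom.left) ⊆
      Set.range (Sigma.ι (fun _ : Multiplicative (ZMod p) => S) (Multiplicative.ofAdd a))) :
    (Over.homMk j rfl : Over.mk (j ≫ T.hom) ⟶ T) ≫ g =
      toUnit (Over.mk (j ≫ T.hom)) ≫ ptG e a := by
  apply (cancel_mono e.hom).mp
  have hf := factor_sigma (j ≫ g.left ≫ e.hom.left) (Multiplicative.ofAdd a) h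
  have h1 : (j ≫ g.left ≫ e.hom.left) ≫
      Sigma.desc (fun _ : Multiplicative (ZMod p) => 𝟙 S) = j ≫ T.hom := by
    simp only [Category.assoc]
    rw [comp_desc e g]
  rw [h1] at hf
  have hr : (toUnit (Over.mk (j ≫ T.hom)) ≫ ptG e a) ≫ e.hom =
      toUnit (Over.mk (j ≫ T.hom)) ≫
        TwC.pt S (Multiplicative (ZMod p)) (Multiplicative.ofAdd a) := by
    unfold ptG
    simp only [Category.assoc, Iso.inv_hom_id, Category.comp_id]
  rw [hr]
  apply Over.OverMorphism.ext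
  show (j ≫ g.left) ≫ e.hom.left = (j ≫ T.hom) ≫
    Sigma.ι (fun _ : Multiplicative (ZMod p) => S) (Multiplicative.ofAdd a)
  rw [Category.assoc]
  exact hf

include he hi hmi in
theorem appTop_eq_of_le {T : Over S} (ψT : ZMod p →+* Γ(T.left, ⊤)) (g : T ⟶ G')
    (b : ZMod p) (W : T.left.Opens)
    (hW : ∀ x : T.left, x ∈ W → (g.left ≫ e.hom.left) x ∈
      Set.range (Sigma.ι (fun _ : Multiplicative (ZMod p) => S) (Multiplicative.ofAdd b))) :
    W.ι.appTop (gaFn (g ≫ i)) = W.ι.appTop (ψT b) := by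
  have hr : Set.range (W.ι ≫ g.left ≫ e.hom.left) ⊆
      Set.range (Sigma.ι (fun _ : Multiplicative (ZMod p) => S) (Multiplicative.ofAdd b)) := by
    rintro _ ⟨x, rfl⟩
    exact hW x.1 x.2
  have h1 := restrict_eq e g W.ι b hr
  have h3 := congrArg (fun z => gaFn (z ≫ i)) h1
  simp only [Category.assoc] at h3
  rw [gaFn_comp, gaFn_pt e he i hi _ _ ((W.ι.appTop).hom.comp ψT)] at h3
  exact h3

include he hi hmi in
theorem mem_range_of_mem_VV {T : Over S} (ψT : ZMod p →+* Γ(T.left, ⊤)) (g : T ⟶ G')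
    (a : ZMod p) (t : T.left) (ht : t ∈ VV ψT (gaFn (g ≫ i)) a) :
    (g.left ≫ e.hom.left) t ∈
      Set.range (Sigma.ι (fun _ : Multiplicative (ZMod p) => S) (Multiplicative.ofAdd a)) := by
  obtain ⟨m, y, hy⟩ := (sigmaOpenCover (fun _ : Multiplicative (ZMod p) => S)).exists_eq
    ((g.left ≫ e.hom.left) t)
  by_cases hm : Multiplicative.toAdd m = a
  · subst hm
    exact ⟨y, hy⟩
  · exfalso
    have h2 := appTop_eq_of_le e he i hi ψT g (Multiplicative.toAdd m)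
      ((g.left ≫ e.hom.left) ⁻¹ᵁ
        (Sigma.ι (fun _ : Multiplicative (ZMod p) => S) m).opensRange) (fun x hx => hx)
    have htW : t ∈ (g.left ≫ e.hom.left) ⁻¹ᵁ
        (Sigma.ι (fun _ : Multiplicative (ZMod p) => S) m).opensRange := ⟨y, hy⟩
    revert h2 htW
    generalize (g.left ≫ e.hom.left) ⁻¹ᵁ
        (Sigma.ι (fun _ : Multiplicative (ZMod p) => S) m).opensRange = W
    intro h2 htW
    have h4 : W.ι.appTop (uu ψT (gaFn (g ≫ i)) a) = 0 :=
      map_uu_eq_zero ψT (gaFn (g ≫ i)) (W.ι.appTop).hom hm h2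
    have h5 : W.ι ⁻¹ᵁ (T.left.basicOpen (uu ψT (gaFn (g ≫ i)) a)) = ⊥ := by
      rw [Scheme.preimage_basicOpen_top, h4, Scheme.basicOpen_zero]
    have h6 : (⟨t, htW⟩ : W) ∈ W.ι ⁻¹ᵁ (T.left.basicOpen (uu ψT (gaFn (g ≫ i)) a)) := ht
    rw [h5] at h6
    exact h6

include he hi hmi in
theorem range_subset {T : Over S} (ψT : ZMod p →+* Γ(T.left, ⊤)) (g : T ⟶ G') (a : ZMod p) :
    Set.range ((VV ψT (gaFn (g ≫ i)) a).ι ≫ g.left ≫ e.hom.left) ⊆
      Set.range (Sigma.ι (fun _ : Multiplicative (ZMod p) => S) (Multiplicative.ofAdd a)) := by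
  rintro _ ⟨x, rfl⟩
  exact mem_range_of_mem_VV e he i hi ψT g a x.1 x.2

include he hi hmi in
theorem pt_unique (hpow : ∀ {T : Over S} (g : T ⟶ G'), gaFn (g ≫ i) ^ p = gaFn (g ≫ i))
    {T : Over S} (ψT : ZMod p →+* Γ(T.left, ⊤)) (g g' : T ⟶ G')
    (h : gaFn (g ≫ i) = gaFn (g' ≫ i)) : g = g' := by
  obtain ⟨hcol⟩ := isColimit_VV ψT (gaFn (g ≫ i)) (hpow g)
  haveI : IsIso e.hom.left := (Over.forget S).map_isIso e.hom
  have key : g.left ≫ e.hom.left = g'.left ≫ e.hom.left := by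
    refine Cofan.IsColimit.hom_ext hcol _ _ (fun a => ?_)
    show (VV ψT (gaFn (g ≫ i)) a).ι ≫ g.left ≫ e.hom.left =
      (VV ψT (gaFn (g ≫ i)) a).ι ≫ g'.left ≫ e.hom.left
    have r1 := range_subset e he i hi ψT g a
    have r2 : Set.range ((VV ψT (gaFn (g ≫ i)) a).ι ≫ g'.left ≫ e.hom.left) ⊆
        Set.range (Sigma.ι (fun _ : Multiplicative (ZMod p) => S) (Multiplicative.ofAdd a)) := by
      rw [h]
      exact range_subset e he i hi ψT g' a
    rw [factor_sigma _ _ r1, factor_sigma _ _ r2]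
    congr 1
    simp only [Category.assoc]
    rw [comp_desc e g, comp_desc e g']
  apply Over.OverMorphism.ext
  exact (cancel_mono e.hom.left).mp key

include he hi hmi in
theorem pt_exists {T : Over S} (ψT : ZMod p →+* Γ(T.left, ⊤)) (c : Γ(T.left, ⊤))
    (hc : c ^ p = c) : ∃ g : T ⟶ G', gaFn (g ≫ i) = c := by
  obtain ⟨hcol⟩ := isColimit_VV ψT c hc
  obtain ⟨gam, hgamdef⟩ : ∃ gam : T.left ⟶ ∐ fun _ : Multiplicative (ZMod p) => S,
      gam = Cofan.IsColimit.desc hcol (fun a => ((VV ψT c a).ι ≫ T.hom) ≫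
        Sigma.ι (fun _ : Multiplicative (ZMod p) => S) (Multiplicative.ofAdd a)) := ⟨_, rfl⟩
  have hgam : ∀ a, (VV ψT c a).ι ≫ gam = ((VV ψT c a).ι ≫ T.hom) ≫
      Sigma.ι (fun _ : Multiplicative (ZMod p) => S) (Multiplicative.ofAdd a) := by
    intro a
    rw [hgamdef]
    exact Cofan.IsColimit.fac hcol _ a
  have hgamd : gam ≫ Sigma.desc (fun _ : Multiplicative (ZMod p) => 𝟙 S) = T.hom := by
    refine Cofan.IsColimit.hom_ext hcol _ _ (fun a => ?_)
    show (VV ψT c a).ι ≫ gam ≫ _ = (VV ψT c a).ι ≫ T.hom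
    rw [← Category.assoc, hgam, Category.assoc, Sigma.ι_desc, Category.comp_id]
  obtain ⟨g0, hg0⟩ : ∃ g0 : T ⟶ TwC.const S (Multiplicative (ZMod p)), g0.left = gam :=
    ⟨Over.homMk gam hgamd, rfl⟩
  obtain ⟨x, hx⟩ := exists_gaFn_eq (X := T) c
  have hgx : (g0 ≫ e.inv) ≫ i = x := by
    apply Over.OverMorphism.ext
    refine Cofan.IsColimit.hom_ext hcol _ _ (fun a => ?_)
    show (VV ψT c a).ι ≫ ((g0 ≫ e.inv) ≫ i).left = (VV ψT c a).ι ≫ x.left
    obtain ⟨Vo, hVo⟩ : ∃ Vo : Over S, Vo = Over.mk ((VV ψT c a).ι ≫ T.hom) := ⟨_, rfl⟩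
    have hjo : (Over.homMk (VV ψT c a).ι rfl : Over.mk ((VV ψT c a).ι ≫ T.hom) ⟶ T) ≫
        (g0 ≫ e.inv) = toUnit (Over.mk ((VV ψT c a).ι ≫ T.hom)) ≫ ptG e a := by
      unfold ptG
      rw [← Category.assoc, ← Category.assoc]
      congr 1
      apply Over.OverMorphism.ext
      show (VV ψT c a).ι ≫ g0.left = ((VV ψT c a).ι ≫ T.hom) ≫
        Sigma.ι (fun _ : Multiplicative (ZMod p) => S) (Multiplicative.ofAdd a)
      rw [hg0]
      exact hgam a
    have hmain : (Over.homMk (VV ψT c a).ι rfl : Over.mk ((VV ψT c a).ι ≫ T.hom) ⟶ T) ≫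
        (g0 ≫ e.inv) ≫ i =
        (Over.homMk (VV ψT c a).ι rfl : Over.mk ((VV ψT c a).ι ≫ T.hom) ⟶ T) ≫ x := by
      apply gaFn_injective
      rw [← Category.assoc, hjo, Category.assoc,
        gaFn_pt e he i hi _ a (((VV ψT c a).ι.appTop).hom.comp ψT), gaFn_comp, hx]
      exact (appTop_VV ψT c hc a).symm
    exact congrArg (fun z => z.left) hmain
  exact ⟨g0 ≫ e.inv, by rw [hgx, hx]⟩

theorem whisker_mul' : (Ga S ◁ i) ≫ μ[Ga S] = fst (Ga S) G' * (snd (Ga S) G' ≫ i) := by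
  rw [Hom.mul_def]
  congr 1

include he hi hmi in
theorem i_comp_P (ψS : ZMod p →+* Γ(S, ⊤)) (P : Ga S ⟶ Ga S)
    (hP : ∀ {T : Over S} (x : T ⟶ Ga S), gaFn (x ≫ P) = gaFn x - gaFn x ^ p) :
    i ≫ P = 1 := by
  rw [← cancel_epi e.inv]
  apply Over.OverMorphism.ext
  refine Sigma.hom_ext _ _ (fun m => ?_)
  have h : TwC.pt S (Multiplicative (ZMod p)) m ≫ e.inv ≫ i ≫ P =
      TwC.pt S (Multiplicative (ZMod p)) m ≫ e.inv ≫ 1 := by
    apply gaFn_injective
    rw [MonObj.comp_one, MonObj.comp_one, gaFn_one]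
    have h1 := hP (ptG e (Multiplicative.toAdd m) ≫ i)
    have h2 := valA_eq e he i hi (Multiplicative.toAdd m) ψS
    rw [h2, pow_hom, sub_self] at h1
    simpa [ptG, Category.assoc] using h1
  exact congrArg (fun z => z.left) h

include he hi hmi in
theorem isPullback_AS (ψS : ZMod p →+* Γ(S, ⊤)) (P : Ga S ⟶ Ga S)
    (hP : ∀ {T : Over S} (x : T ⟶ Ga S), gaFn (x ≫ P) = gaFn x - gaFn x ^ p) :
    IsPullback (fst (Ga S) G') ((Ga S ◁ i) ≫ μ[Ga S]) P P := by
  have hiP := i_comp_P e he i hi ψS P hP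
  have ψ : ∀ T : Over S, ZMod p →+* Γ(T.left, ⊤) := fun T => (T.hom.appTop).hom.comp ψS
  have hpow : ∀ {T : Over S} (g : T ⟶ G'), gaFn (g ≫ i) ^ p = gaFn (g ≫ i) := by
    intro T g
    have h := hP (g ≫ i)
    rw [Category.assoc, hiP, MonObj.comp_one, gaFn_one] at h
    exact (sub_eq_zero.mp h.symm).symm
  have hwm : ∀ {T : Over S} (m : T ⟶ Ga S ⊗ G'), gaFn (m ≫ (Ga S ◁ i) ≫ μ[Ga S]) =
      gaFn (m ≫ fst _ _) + gaFn ((m ≫ snd _ _) ≫ i) := by
    intro T m
    rw [whisker_mul', MonObj.comp_mul, gaFn_mul, ← Category.assoc]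
  have w : fst (Ga S) G' ≫ P = ((Ga S ◁ i) ≫ μ[Ga S]) ≫ P := by
    apply gaFn_injective
    rw [hP, hP]
    have h1 := hwm (𝟙 (Ga S ⊗ G'))
    rw [Category.id_comp, Category.id_comp, Category.id_comp] at h1
    rw [h1, frob_add (ψ (Ga S ⊗ G')), hpow]
    ring
  have hc : ∀ (T : Over S) (x y : T ⟶ Ga S), x ≫ P = y ≫ P →
      (gaFn y - gaFn x) ^ p = gaFn y - gaFn x := by
    intro T x y hxy
    have h := congrArg gaFn hxy
    rw [hP, hP] at h
    rw [frob_sub (ψ T)]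
    linear_combination h
  refine ⟨⟨w⟩, ⟨PullbackCone.IsLimit.mk w
    (fun s => lift s.fst (pt_exists e he i hi (ψ s.pt) _
      (hc _ s.fst s.snd s.condition)).choose) ?_ ?_ ?_⟩⟩
  · intro s
    exact lift_fst _ _
  · intro s
    have hz := (pt_exists e he i hi (ψ s.pt) _ (hc _ s.fst s.snd s.condition)).choose_spec
    apply gaFn_injective
    rw [hwm, lift_fst, lift_snd, hz]
    ring
  · intro s m hm1 hm2
    have hz := (pt_exists e he i hi (ψ s.pt) _ (hc _ s.fst s.snd s.condition)).choose_spec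
    apply CartesianMonoidalCategory.hom_ext
    · rw [hm1, lift_fst]
    · rw [lift_snd]
      apply pt_unique e he i hi hpow (ψ s.pt)
      rw [hz]
      have h3 := hwm m
      rw [hm2, hm1] at h3
      rw [h3]
      ring

end Const

section BC

variable {K : Type u} [Field K]

theorem exists_endo (f : K[X]) (hf : f.Monic) (hd : 0 < f.natDegree) :
    ∃ φ : Red.Ga (Spec (CommRingCat.of K)) ⟶ Red.Ga (Spec (CommRingCat.of K)),
      (∀ {Y : Over (Spec (CommRingCat.of K))} (y : Y ⟶ Red.Ga (Spec (CommRingCat.of K))),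
        gaFn (y ≫ φ) = eval₂ (sm Y) (gaFn y) f) ∧ Flat φ.left ∧ Surjective φ.left := by
  obtain ⟨φ, hφdef⟩ : ∃ φ : Red.Ga (Spec (CommRingCat.of K)) ⟶ Red.Ga (Spec (CommRingCat.of K)),
      φ = bPt ≫ pt (aeval f : K[X] →ₐ[K] K[X]) ≫ aPt := ⟨_, rfl⟩
  have hφ : ∀ {Y : Over (Spec (CommRingCat.of K))} (y : Y ⟶ Red.Ga (Spec (CommRingCat.of K))),
      gaFn (y ≫ φ) = eval₂ (sm Y) (gaFn y) f := by
    intro Y y
    rw [hφdef, ← Category.assoc, ← Category.assoc, gaFn_comp_aPt, fn_pt, aeval_X, fn_comp_bPt]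
  refine ⟨φ, hφ, ?_, ?_⟩
  all_goals
    have hff := faithfullyFlat_aeval f hf hd
    obtain ⟨hfl, hsj⟩ := (flat_and_surjective_SpecMap_iff
      (CommRingCat.ofHom (aeval f : K[X] →ₐ[K] K[X]).toRingHom)).mpr hff
    obtain ⟨eb, heb⟩ : ∃ eb : (Red.Ga (Spec (CommRingCat.of K))).left ≅
        Spec (CommRingCat.of K[X]), φ.left = eb.hom ≫
        Spec.map (CommRingCat.ofHom (aeval f : K[X] →ₐ[K] K[X]).toRingHom) ≫ eb.inv :=
      ⟨⟨(bPt (K := K)).left, (aPt (K := K)).left,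
        congrArg (fun t => t.left) (bPt_aPt (K := K)),
        congrArg (fun t => t.left) (aPt_bPt (K := K))⟩, by rw [hφdef]; rfl⟩
    rw [heb]
  · exact (MorphismProperty.cancel_left_of_respectsIso @Flat eb.hom _).mpr
      ((MorphismProperty.cancel_right_of_respectsIso @Flat _ eb.inv).mpr hfl)
  · exact (MorphismProperty.cancel_left_of_respectsIso @Surjective eb.hom _).mpr
      ((MorphismProperty.cancel_right_of_respectsIso @Surjective _ eb.inv).mpr hsj)

variable {S : Scheme.{u}}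

theorem props_of_formula (ψK : K →+* Γ(S, ⊤)) (n : ℕ) (hn : 1 < n) (Q : Ga S ⟶ Ga S)
    (hQ : ∀ {T : Over S} (x : T ⟶ Ga S), gaFn (x ≫ Q) = gaFn x ^ n - gaFn x) :
    Flat Q.left ∧ Surjective Q.left ∧ QuasiCompact Q.left := by
  obtain ⟨s, hs⟩ : ∃ s : S ⟶ Spec (CommRingCat.of K),
      s = S.toSpecΓ ≫ Spec.map (CommRingCat.ofHom ψK) := ⟨_, rfl⟩
  have hf : (X ^ n - X : K[X]).Monic :=
    monic_X_pow_sub (by rw [degree_X]; exact_mod_cast hn)
  have hd : 0 < (X ^ n - X : K[X]).natDegree := by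
    rw [FiniteField.X_pow_card_sub_X_natDegree_eq K hn]
    omega
  obtain ⟨φ, hφ, hfl, hsj⟩ := exists_endo (X ^ n - X : K[X]) hf hd
  have hφ' : ∀ {Y : Over (Spec (CommRingCat.of K))}
      (y : Y ⟶ Red.Ga (Spec (CommRingCat.of K))), gaFn (y ≫ φ) = gaFn y ^ n - gaFn y := by
    intro Y y
    rw [hφ, eval₂_sub, eval₂_pow, eval₂_X]
  have ht : IsTerminal.from specULiftZIsTerminal S =
      s ≫ IsTerminal.from specULiftZIsTerminal (Spec (CommRingCat.of K)) :=
    specULiftZIsTerminal.hom_ext _ _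
  obtain ⟨β, hβ1, hβ2⟩ : ∃ β : (Ga S).left ⟶ (Ga (Spec (CommRingCat.of K))).left,
      β ≫ pullback.fst GaZ.hom (IsTerminal.from specULiftZIsTerminal (Spec (CommRingCat.of K))) =
        pullback.fst GaZ.hom (IsTerminal.from specULiftZIsTerminal S) ∧
      β ≫ (Ga (Spec (CommRingCat.of K))).hom = (Ga S).hom ≫ s := by
    refine ⟨pullback.lift (pullback.fst _ _) (pullback.snd _ _ ≫ s) ?_,
      pullback.lift_fst _ _ _, pullback.lift_snd _ _ _⟩
    rw [pullback.condition, Category.assoc, ← ht]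
  have hpb : IsPullback β (Ga S).hom (Ga (Spec (CommRingCat.of K))).hom s := by
    have big : IsPullback (pullback.fst GaZ.hom (IsTerminal.from specULiftZIsTerminal S))
        (pullback.snd GaZ.hom (IsTerminal.from specULiftZIsTerminal S)) GaZ.hom
        (IsTerminal.from specULiftZIsTerminal S) := IsPullback.of_hasPullback _ _
    have right : IsPullback
        (pullback.fst GaZ.hom (IsTerminal.from specULiftZIsTerminal (Spec (CommRingCat.of K))))
        (pullback.snd GaZ.hom (IsTerminal.from specULiftZIsTerminal (Spec (CommRingCat.of K))))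
        GaZ.hom (IsTerminal.from specULiftZIsTerminal (Spec (CommRingCat.of K))) :=
      IsPullback.of_hasPullback _ _
    refine IsPullback.of_right ?_ hβ2 right
    rw [hβ1, ← ht]
    exact big
  have hsq : Q.left ≫ β = β ≫ φ.left := by
    obtain ⟨β', hβ'⟩ : ∃ β' : Over.mk ((Ga S).hom ≫ s) ⟶ Ga (Spec (CommRingCat.of K)),
        β'.left = β := ⟨Over.homMk β hβ2, rfl⟩
    obtain ⟨Q', hQ'⟩ : ∃ Q' : Over.mk ((Ga S).hom ≫ s) ⟶ Over.mk ((Ga S).hom ≫ s),
        Q'.left = Q.left := ⟨Over.homMk Q.left (by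
          show Q.left ≫ (Ga S).hom ≫ s = (Ga S).hom ≫ s
          rw [← Category.assoc, Over.w Q]), rfl⟩
    have hz : gaFn β' = gaFn (𝟙 (Ga S)) := by
      show (β'.left ≫ pullback.fst _ _).appTop gaCoord =
        ((𝟙 (Ga S) : Ga S ⟶ Ga S).left ≫ pullback.fst _ _).appTop gaCoord
      rw [hβ', hβ1]
      congr 2
    have hQ1 := hQ (𝟙 (Ga S))
    rw [Category.id_comp] at hQ1
    have h : Q' ≫ β' = β' ≫ φ := by
      apply gaFn_injective
      rw [hφ', gaFn_comp, hz, hQ']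
      have h5 : Q.left.appTop (gaFn (𝟙 (Ga S))) = gaFn Q := by
        rw [← gaFn_comp, Category.comp_id]
      exact h5.trans hQ1
    have h' : (Q' ≫ β').left = (β' ≫ φ).left := congrArg (fun z => z.left) h
    rw [Over.comp_left, Over.comp_left, hβ', hQ'] at h'
    exact h'
  have hpb2 : IsPullback Q.left β β φ.left := by
    refine IsPullback.of_right ?_ hsq hpb.flip
    rw [Over.w Q, Over.w φ]
    exact hpb.flip
  haveI : IsAffine (Ga (Spec (CommRingCat.of K))).left := isAffine_ga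
  have hqc : QuasiCompact φ.left := inferInstance
  exact ⟨MorphismProperty.of_isPullback (P := @Flat) hpb2.flip hfl,
    MorphismProperty.of_isPullback (P := @Surjective) hpb2.flip hsj,
    MorphismProperty.of_isPullback (P := @QuasiCompact) hpb2.flip hqc⟩

end BC

section Main

variable {p : ℕ} [Fact p.Prime] {S : Scheme.{u}}

theorem gaFn_comp_P (F : Red.Ga S ⟶ Red.Ga S)
    (hF : ∀ (T : Over S) (x : T ⟶ Red.Ga S), Red.gaFn (x ≫ F) = Red.gaFn x ^ p)
    {T : Over S} (x : T ⟶ Ga S) :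
    gaFn (x ≫ (𝟙 (Red.Ga S) * F⁻¹)) = gaFn x - gaFn x ^ p := by
  rw [MonObj.comp_mul, GrpObj.comp_inv, gaFn_mul, gaFn_inv, Category.comp_id, hF, sub_eq_add_neg]

theorem isMonHom_P (ψS : ZMod p →+* Γ(S, ⊤)) (P : Ga S ⟶ Ga S)
    (hP : ∀ {T : Over S} (x : T ⟶ Ga S), gaFn (x ≫ P) = gaFn x - gaFn x ^ p) :
    IsMonHom P := by
  apply Groth.Agent.Lib.Helper1.Kummer.isMonHom_of_points
  intro T x y
  apply gaFn_injective
  rw [hP, gaFn_mul, gaFn_mul, hP, hP, frob_add ((T.hom.appTop).hom.comp ψS)]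
  ring

theorem props_P (ψS : ZMod p →+* Γ(S, ⊤)) (P : Ga S ⟶ Ga S)
    (hP : ∀ {T : Over S} (x : T ⟶ Ga S), gaFn (x ≫ P) = gaFn x - gaFn x ^ p) :
    Flat P.left ∧ Surjective P.left ∧ QuasiCompact P.left := by
  obtain ⟨Q, hQdef⟩ : ∃ Q : Ga S ⟶ Ga S, Q = P⁻¹ := ⟨_, rfl⟩
  have hQ : ∀ {T : Over S} (x : T ⟶ Ga S), gaFn (x ≫ Q) = gaFn x ^ p - gaFn x := by
    intro T x
    rw [hQdef, GrpObj.comp_inv, gaFn_inv, hP]
    ring
  have hPQ : P = Q ≫ ι[Ga S] := by
    rw [hQdef, ← Hom.inv_def]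
    exact (inv_inv P).symm
  obtain ⟨h1, h2, h3⟩ := props_of_formula (K := ULift.{u} (ZMod p))
    (ψS.comp (ULift.ringEquiv (R := ZMod p)).toRingHom) p (Fact.out : p.Prime).one_lt Q hQ
  haveI : IsIso (ι[Ga S]).left := (Over.forget S).map_isIso ι[Ga S]
  haveI := h1
  haveI := h2
  haveI := h3
  rw [hPQ]
  refine ⟨?_, ?_, ?_⟩
  · show Flat (Q.left ≫ (ι[Ga S]).left)
    infer_instance
  · show Surjective (Q.left ≫ (ι[Ga S]).left)
    infer_instance
  · show QuasiCompact (Q.left ≫ (ι[Ga S]).left)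
    infer_instance

theorem isExactSeq_AS (hp : (p : Γ(S, ⊤)) = 0)
    {G' : Over S} [GrpObj G'] (e : G' ≅ TwC.const S (Multiplicative (ZMod p)))
    (he : TwC.IsConstGrp (Multiplicative (ZMod p)) G' e)
    (i : G' ⟶ Red.Ga S) [IsMonHom i]
    (hi : Red.gaFn (TwC.pt S (Multiplicative (ZMod p)) (Multiplicative.ofAdd 1) ≫ e.inv ≫ i) = 1)
    (P : Ga S ⟶ Ga S)
    (hP : ∀ {T : Over S} (x : T ⟶ Ga S), gaFn (x ≫ P) = gaFn x - gaFn x ^ p) :
    NonAbH1.IsExactSeq Scheme.fpqcPrecoverage i P := by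
  obtain ⟨ψS⟩ : Nonempty (ZMod p →+* Γ(S, ⊤)) := ⟨zmodHom p _ hp⟩
  obtain ⟨h1, h2, h3⟩ := props_P ψS P hP
  refine ⟨inferInstance, isMonHom_P ψS P hP, i_comp_P e he i hi ψS P hP,
    isPullback_AS e he i hi ψS P hP, ?_⟩
  haveI := h1
  haveI := h2
  haveI := h3
  refine ⟨Presieve.singleton P.left, Scheme.Hom.singleton_mem_fpqcPrecoverage P.left, ?_⟩
  intro S' f hf
  obtain ⟨⟩ := hf
  exact ⟨𝟙 _, Category.id_comp _⟩

end Main

end

end Groth.Agent.Lib.Helper28.ASGeom
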