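import Mathlib

/-!
# Affine opens adapted to a closed immersion and an integral morphism (Stacks 0ECH)
-/

set_option autoImplicit false
universe u

namespace Groth.Agent.Lib.Helper28.Adapted

open Ideal

/-- If `D` is integral over a field and the ideal `I` of `C` generates the unit ideal of `D`
along `ψ : C → D`, then a single element of `I` maps to a unit. -/
theorem exists_mem_isUnit_map {C D κ : Type*} [CommRing C] [CommRing D] [Field κ] [Algebra κ D]
    [Algebra.IsIntegral κ D] (ψ : C →+* D) (I : Ideal C) (hI : I.map ψ = ⊤) :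
    ∃ f ∈ I, IsUnit (ψ f) := by
  classical
  rcases subsingleton_or_nontrivial D with hD | hD
  · exact ⟨0, I.zero_mem, isUnit_of_subsingleton _⟩
  have h1 : (1 : D) ∈ Submodule.span D (ψ '' (I : Set C)) := by
    have : (1 : D) ∈ I.map ψ := hI ▸ Submodule.mem_top
    exact this
  obtain ⟨c, t, ht, -, hsum⟩ := Submodule.mem_span_iff_exists_finset_subset.mp h1
  -- the finite κ-subalgebra
  let S : Set D := (t : Set D) ∪ c '' (t : Set D)
  have hSfin : S.Finite := (Finset.finite_toSet t).union ((Finset.finite_toSet t).image c)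
  let D₀ : Subalgebra κ D := Algebra.adjoin κ S
  have : Module.Finite κ D₀ :=
    Algebra.finite_adjoin_of_finite_of_isIntegral hSfin (fun x _ => Algebra.IsIntegral.isIntegral x)
  have : IsArtinianRing D₀ := IsArtinianRing.of_finite κ D₀
  have : Finite (PrimeSpectrum D₀) := inferInstance
  let _ : Fintype (PrimeSpectrum D₀) := Fintype.ofFinite _
  -- lifts of the generators
  have hlift : ∀ a : t, ∃ h : C, h ∈ I ∧ ψ h = a.1 := fun a => ht a.2
  choose h hhI hh using hlift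
  let R := MvPolynomial t ℤ
  let g : t → D₀ := fun a => ⟨a.1, Algebra.subset_adjoin (Or.inl a.2)⟩
  let cc : t → D₀ := fun a => ⟨c a.1, Algebra.subset_adjoin (Or.inr ⟨a.1, a.2, rfl⟩)⟩
  let θ : R →+* D₀ := MvPolynomial.eval₂Hom (Int.castRingHom D₀) g
  let ev : R →+* C := MvPolynomial.eval₂Hom (Int.castRingHom C) h
  have hcomp : ψ.comp ev = D₀.val.toRingHom.comp θ := by
    apply MvPolynomial.ringHom_ext
    · intro n; simp
    · intro a
      simp [ev, θ, g, hh]
  have hone : ∑ a : t, cc a * g a = 1 := by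
    apply Subtype.ext
    simp only [AddSubmonoidClass.coe_finsetSum, MulMemClass.coe_mul, OneMemClass.coe_one, cc, g]
    rw [← hsum]
    exact (Finset.sum_coe_sort t (fun a => c a • a))
  let J : Ideal R := Ideal.span (Set.range MvPolynomial.X)
  have hJ : ∀ P : PrimeSpectrum D₀, ¬ J ≤ P.asIdeal.comap θ := by
    intro P hP
    have hg : ∀ a : t, g a ∈ P.asIdeal := by
      intro a
      have : (MvPolynomial.X a : R) ∈ J := Ideal.subset_span ⟨a, rfl⟩
      have h2 := hP this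
      rw [Ideal.mem_comap] at h2
      have h3 : θ (MvPolynomial.X a) = g a := MvPolynomial.eval₂Hom_X' _ _ _
      rwa [h3] at h2
    have : (1 : D₀) ∈ P.asIdeal := by
      rw [← hone]
      exact Ideal.sum_mem _ (fun a _ => Ideal.mul_mem_left _ _ (hg a))
    exact P.2.ne_top ((Ideal.eq_top_iff_one _).mpr this)
  have havoid : ¬ ((J : Set R) ⊆ ⋃ P ∈ (↑(Finset.univ : Finset (PrimeSpectrum D₀)) :
      Set (PrimeSpectrum D₀)), ((P.asIdeal.comap θ : Ideal R) : Set R)) := by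
    rw [Ideal.subset_union_prime (f := fun P : PrimeSpectrum D₀ => P.asIdeal.comap θ)
      (Classical.arbitrary _) (Classical.arbitrary _)]
    · rintro ⟨P, -, hP⟩
      exact hJ P hP
    · intro P _ _ _
      exact Ideal.comap_isPrime θ P.asIdeal
  obtain ⟨F, hFJ, hF⟩ := Set.not_subset.mp havoid
  have hF' : ∀ P : PrimeSpectrum D₀, θ F ∉ P.asIdeal := by
    intro P hP
    apply hF
    simp only [Finset.coe_univ, Set.mem_univ, Set.iUnion_true, Set.mem_iUnion, SetLike.mem_coe]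
    exact ⟨P, hP⟩
  have hunit : IsUnit (θ F) := by
    by_contra hnu
    obtain ⟨M, hM, hFM⟩ := exists_max_ideal_of_mem_nonunits hnu
    exact hF' ⟨M, hM.isPrime⟩ hFM
  refine ⟨ev F, ?_, ?_⟩
  · have h1 : ev F ∈ J.map ev := Ideal.mem_map_of_mem ev hFJ
    rw [Ideal.map_span] at h1
    refine (Ideal.span_le.mpr ?_) h1
    rintro _ ⟨_, ⟨a, rfl⟩, rfl⟩
    have : ev (MvPolynomial.X a) = h a := MvPolynomial.eval₂Hom_X' _ _ _
    rw [this]
    exact hhI a
  · have h2 : ψ (ev F) = D₀.val.toRingHom (θ F) := RingHom.congr_fun hcomp F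
    rw [h2]
    exact hunit.map _

open AlgebraicGeometry CategoryTheory Limits

/-- Let `ι : F ⟶ Z` be a morphism from an affine scheme whose global sections are integral over
a field, `W` an affine open of `Z` and `O ≤ W` an open containing the image of `ι`. Then
there is a basic open of `W` between the image of `ι` and `O`. -/
theorem exists_basicOpen_between {Z F : Scheme.{u}} [IsAffine F] (ι : F ⟶ Z) {κ : Type u}
    [Field κ] [Algebra κ Γ(F, ⊤)] [Algebra.IsIntegral κ Γ(F, ⊤)] {W O : Z.Opens}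
    (hW : IsAffineOpen W) (hOW : O ≤ W) (hO : Set.range ι ⊆ (O : Set Z)) :
    ∃ f : Γ(Z, W), Set.range ι ⊆ (Z.basicOpen f : Set Z) ∧ Z.basicOpen f ≤ O := by
  have hle : (⊤ : F.Opens) ≤ ι ⁻¹ᵁ W := fun x _ => hOW (hO ⟨x, rfl⟩)
  let ψ : Γ(Z, W) →+* Γ(F, ⊤) := (ι.appLE W ⊤ hle).hom
  have hψ : ∀ h : Γ(Z, W), F.basicOpen (ψ h) = ι ⁻¹ᵁ (Z.basicOpen h) := by
    intro h
    have := Scheme.basicOpen_appLE ι ⊤ W hle h
    rw [top_inf_eq] at this
    exact this
  let S : Set Γ(Z, W) := {h | Z.basicOpen h ≤ O}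
  let I : Ideal Γ(Z, W) := Ideal.span S
  have hI : I.map ψ = ⊤ := by
    rw [Ideal.map_span, ← (isAffineOpen_top F).iSup_basicOpen_eq_self_iff]
    refine le_antisymm le_top ?_
    intro x _
    obtain ⟨h, hhO, hxh⟩ := hW.exists_basicOpen_le (V := O) ⟨ι x, hO ⟨x, rfl⟩⟩ (hOW (hO ⟨x, rfl⟩))
    rw [TopologicalSpace.Opens.mem_iSup]
    refine ⟨⟨ψ h, h, hhO, rfl⟩, ?_⟩
    rw [hψ]
    exact hxh
  obtain ⟨f, hfI, hf⟩ := exists_mem_isUnit_map (κ := κ) ψ I hI
  refine ⟨f, ?_, ?_⟩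
  · rintro _ ⟨x, rfl⟩
    have : x ∈ F.basicOpen (ψ f) := by
      rw [Scheme.basicOpen_of_isUnit _ hf]; trivial
    rw [hψ] at this
    exact this
  · refine Submodule.span_induction (p := fun f _ => Z.basicOpen f ≤ O) ?_ ?_ ?_ ?_ hfI
    · intro h hh; exact hh
    · simp
    · intro a b _ _ ha hb
      exact (Scheme.basicOpen_add_le (f := a) (g := b)).trans (sup_le ha hb)
    · intro a b _ hb
      rw [smul_eq_mul, Scheme.basicOpen_mul]
      exact inf_le_right.trans hb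

/-- For an integral morphism `j : Z ⟶ Y`, an affine open `W` of `Z` and an open `O ≤ W`
containing the fibre over `y`, some basic open of `W` lies between the fibre and `O`. -/
theorem exists_basicOpen_fiber {Z Y : Scheme.{u}} (j : Z ⟶ Y) [IsIntegralHom j] (y : Y)
    {W O : Z.Opens} (hW : IsAffineOpen W) (hOW : O ≤ W) (hO : j ⁻¹' {y} ⊆ (O : Set Z)) :
    ∃ f : Γ(Z, W), j ⁻¹' {y} ⊆ (Z.basicOpen f : Set Z) ∧ Z.basicOpen f ≤ O := by
  let q := j.fiberToSpecResidueField y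
  have hq : IsIntegralHom q :=
    MorphismProperty.pullback_snd (P := @IsIntegralHom) _ _ inferInstance
  let φ : Y.residueField y →+* Γ(j.fiber y, ⊤) :=
    (q.appTop.hom).comp (Scheme.ΓSpecIso (Y.residueField y)).inv.hom
  let _ : Algebra (Y.residueField y) Γ(j.fiber y, ⊤) := φ.toAlgebra
  have hint : Algebra.IsIntegral (Y.residueField y) Γ(j.fiber y, ⊤) := by
    rw [← algebraMap_isIntegral_iff]
    change φ.IsIntegral
    refine RingHom.IsIntegral.trans _ _ ?_ ?_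
    · exact RingHom.isIntegral_of_surjective _
        (ConcreteCategory.bijective_of_isIso (Scheme.ΓSpecIso (Y.residueField y)).inv).2
    · exact IsIntegralHom.isIntegral_app q ⊤ (isAffineOpen_top _)
  have hr : Set.range (j.fiberι y) ⊆ (O : Set Z) := by
    rw [Scheme.Hom.range_fiberι]; exact hO
  obtain ⟨f, hf1, hf2⟩ := exists_basicOpen_between (κ := Y.residueField y) (j.fiberι y) hW hOW hr
  rw [Scheme.Hom.range_fiberι] at hf1
  exact ⟨f, hf1, hf2⟩

/-- Shrinking the target along a closed map. -/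
theorem exists_basicOpen_preimage_le {Z Y : Scheme.{u}} (j : Z ⟶ Y) [IsIntegralHom j] (y : Y)
    {V : Y.Opens} (hV : IsAffineOpen V) (hy : y ∈ V) (O : Z.Opens)
    (hO : j ⁻¹' {y} ⊆ (O : Set Z)) :
    ∃ g : Γ(Y, V), y ∈ Y.basicOpen g ∧ j ⁻¹ᵁ (Y.basicOpen g) ≤ O := by
  have hcl : IsClosed (j '' (O : Set Z)ᶜ) := j.isClosedMap _ O.isOpen.isClosed_compl
  let V' : Y.Opens := ⟨(j '' (O : Set Z)ᶜ)ᶜ, hcl.isOpen_compl⟩
  have hyV' : y ∈ V' := by
    rintro ⟨z, hz, hzy⟩
    exact hz (hO hzy)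
  obtain ⟨g, hg1, hg2⟩ := hV.exists_basicOpen_le (V := V') ⟨y, hyV'⟩ hy
  refine ⟨g, hg2, ?_⟩
  intro z hz
  by_contra hzO
  exact hg1 hz ⟨z, hzO, rfl⟩

theorem adapted {X Y Z : Scheme.{u}} (i : Z ⟶ X) [IsClosedImmersion i] (j : Z ⟶ Y)
    [IsIntegralHom j]
    (h : ∀ y : Y, ∃ U : X.Opens, IsAffineOpen U ∧ j ⁻¹' {y} ⊆ (i ⁻¹ᵁ U : Set ↑Z)) (y : Y) :
    ∃ (U : X.Opens) (V : Y.Opens), IsAffineOpen U ∧ IsAffineOpen V ∧ y ∈ V ∧
      i ⁻¹ᵁ U = j ⁻¹ᵁ V := by
  obtain ⟨U, hU, hTU⟩ := h y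
  obtain ⟨V, hV, hyV⟩ : ∃ V : Y.Opens, IsAffineOpen V ∧ y ∈ V := by
    obtain ⟨_, ⟨V, hV, rfl⟩, hyV, -⟩ :=
      Y.isBasis_affineOpens.exists_subset_of_mem_open (Set.mem_univ y) isOpen_univ
    exact ⟨V, hV, hyV⟩
  have hW : IsAffineOpen (i ⁻¹ᵁ U) := hU.preimage i
  -- first shrinking of `U`
  obtain ⟨fbar, hf1, hf2⟩ := exists_basicOpen_fiber j y (O := i ⁻¹ᵁ U ⊓ j ⁻¹ᵁ V) hW inf_le_left
    (fun z hz => ⟨hTU hz, by
      have : j z = y := hz
      change j z ∈ V
      rw [this]; exact hyV⟩)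
  obtain ⟨f, rfl⟩ := i.app_surjective U hU fbar
  have hU₁ : IsAffineOpen (X.basicOpen f) := hU.basicOpen f
  have hpre : i ⁻¹ᵁ (X.basicOpen f) = Z.basicOpen (i.app U f) := Scheme.preimage_basicOpen i f
  -- shrinking of `V`
  obtain ⟨g, hyg, hg⟩ := exists_basicOpen_preimage_le j y hV hyV (i ⁻¹ᵁ (X.basicOpen f))
    (by rw [hpre]; exact hf1)
  have hle : i ⁻¹ᵁ (X.basicOpen f) ≤ j ⁻¹ᵁ V := by
    rw [hpre]; exact hf2.trans inf_le_right
  -- second shrinking of `U`
  obtain ⟨f', hf'⟩ := i.app_surjective (X.basicOpen f) hU₁ (j.appLE V _ hle g)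
  refine ⟨X.basicOpen f', Y.basicOpen g, hU₁.basicOpen f', hV.basicOpen g, hyg, ?_⟩
  rw [Scheme.preimage_basicOpen i f', hf', Scheme.basicOpen_appLE]
  exact inf_eq_right.mpr hg

end Groth.Agent.Lib.Helper28.Adapted
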