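/-
Helper28 library: extension of rational points of affine group schemes over an algebraically
closed field (no finiteness).  For a commutative Hopf algebra `A` over an algebraically closed
field `k`, a `k`-point of a Hopf subalgebra extends to a `k`-point of `A` (Takeuchi + Zorn +
Nullstellensatz).  Consequences: rational points are dense; surjective homomorphisms are
surjective on rational points.
-/
import Groth.Agent.Lib.Helper28.TakMain
import Groth.Agent.Lib.Helper28.TakTrans

set_option autoImplicit false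
universe u v w
open TensorProduct

namespace Groth.Agent.Lib.Helper28.HopfPtExt

open Groth.Agent.Lib.Helper28.TakSubalg Groth.Agent.Lib.Helper28.TakSub
  Groth.Agent.Lib.Helper28.TakFGSub Groth.Agent.Lib.Helper28.TakMain
  Groth.Agent.Lib.Helper28.TakRange

variable {k : Type u} [Field k] {A : Type v} [CommRing A] [HopfAlgebra k A]

/-- a directed union of Hopf subalgebras is a Hopf subalgebra -/
theorem isHopfSub_iSup {ι : Type*} (K : ι → Subalgebra k A) (hK : ∀ i, IsHopfSub (K i)) :
    IsHopfSub (iSup K) := by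
  apply isHopfSub_of_le (iSup K) (⋃ i, (K i : Set A))
  · rw [Algebra.adjoin_iUnion]
    congr 1
    funext i
    exact (Algebra.adjoin_eq (K i)).symm
  · intro a ha
    obtain ⟨i, hi⟩ := Set.mem_iUnion.mp ha
    exact range_mono (le_iSup K i) ((mem_range_iff (K i) _).2 ((hK i).comul_mem a hi))
  · intro a ha
    obtain ⟨i, hi⟩ := Set.mem_iUnion.mp ha
    exact (le_iSup K i) ((hK i).antipode_mem a hi)

section Step

variable [IsAlgClosed k]

/-- one extension step: a point of a Hopf subalgebra `C` extends over `C ⊔ D` for `D` finitely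
generated. -/
theorem exists_step (C : Subalgebra k A) (hC : IsHopfSub C) (y : C →ₐ[k] k)
    (D : Subalgebra k A) (hD : D.FG) :
    ∃ z : ↥(C ⊔ D) →ₐ[k] k, z.comp (Subalgebra.inclusion le_sup_left) = y := by
  classical
  have hff : Module.FaithfullyFlat ↥C A := faithfullyFlat_of_isHopfSub C hC
  letI : Algebra ↥C k := y.toRingHom.toAlgebra
  haveI : IsScalarTower k ↥C k := IsScalarTower.of_algebraMap_eq (fun c => by
    rw [RingHom.algebraMap_toAlgebra]
    exact (y.commutes c).symm)
  haveI : Nontrivial (k ⊗[↥C] A) :=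
    (Module.FaithfullyFlat.nontrivial_tensorProduct_iff_left ↥C k).2 inferInstance
  -- the ring hom `A → k ⊗_C A`
  let ρ0 : A →+* k ⊗[↥C] A :=
    (Algebra.TensorProduct.includeRight : A →ₐ[↥C] k ⊗[↥C] A).toRingHom
  have hρC : ∀ c : ↥C, ρ0 (c : A) = algebraMap k (k ⊗[↥C] A) (y c) := by
    intro c
    show ((1 : k) ⊗ₜ[↥C] (c : A) : k ⊗[↥C] A) = (y c) ⊗ₜ[↥C] (1 : A)
    have : (c : A) = c • (1 : A) := by rw [Algebra.smul_def, mul_one]; rfl
    rw [this, ← TensorProduct.smul_tmul, Algebra.smul_def, mul_one]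
    rfl
  let ρ : A →ₐ[k] k ⊗[↥C] A :=
    { ρ0 with
      commutes' := fun c => by
        have h1 : algebraMap k A c = ((algebraMap k ↥C c : ↥C) : A) := rfl
        show ρ0 (algebraMap k A c) = _
        rw [h1, hρC, AlgHom.commutes]
        rfl }
  have hρC' : ∀ c : ↥C, ρ (c : A) = algebraMap k (k ⊗[↥C] A) (y c) := hρC
  -- the image of `D`
  let Dbar : Subalgebra k (k ⊗[↥C] A) := (ρ.comp D.val).range
  haveI : Algebra.FiniteType k ↥D := (Subalgebra.fg_iff_finiteType D).mp hD
  haveI : Algebra.FiniteType k ↥Dbar :=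
    Algebra.FiniteType.of_surjective (ρ.comp D.val).rangeRestrict
      (AlgHom.rangeRestrict_surjective _)
  obtain ⟨M, hM⟩ := Ideal.exists_maximal ↥Dbar
  haveI := hM
  obtain ⟨w, -⟩ := TakTrans.exists_point_of_isMaximal (K := k) (S := ↥Dbar) M
  have hle : C ⊔ D ≤ Dbar.comap ρ := by
    apply sup_le
    · intro c hc
      show ρ c ∈ Dbar
      rw [hρC' ⟨c, hc⟩]
      exact Subalgebra.algebraMap_mem _ _
    · intro d hd
      exact ⟨⟨d, hd⟩, rfl⟩
  let r : ↥(C ⊔ D) →ₐ[k] ↥Dbar :=
    (ρ.comp (C ⊔ D).val).codRestrict Dbar (fun e => hle e.2)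
  refine ⟨w.comp r, ?_⟩
  ext c
  show w (r (Subalgebra.inclusion le_sup_left c)) = y c
  have : r (Subalgebra.inclusion le_sup_left c) = algebraMap k ↥Dbar (y c) := by
    apply Subtype.ext
    show ρ (c : A) = _
    rw [hρC' c]
    rfl
  rw [this, AlgHom.commutes]
  rfl

end Step

section Zorn

variable (B : Subalgebra k A) (x : B →ₐ[k] k)

/-- partial extensions of a point of `B` to Hopf subalgebras -/
structure Ext where
  C : Subalgebra k A
  hC : IsHopfSub C
  le : B ≤ C
  y : C →ₐ[k] k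
  comp : y.comp (Subalgebra.inclusion le) = x

instance : Preorder (Ext B x) where
  le E₁ E₂ := ∃ h : E₁.C ≤ E₂.C, E₂.y.comp (Subalgebra.inclusion h) = E₁.y
  le_refl E := ⟨le_rfl, by ext c; rfl⟩
  le_trans E₁ E₂ E₃ := by
    rintro ⟨h₁, e₁⟩ ⟨h₂, e₂⟩
    refine ⟨h₁.trans h₂, ?_⟩
    rw [← e₁, ← e₂]
    ext c
    rfl

variable {B x}

lemma Ext.le_def (E₁ E₂ : Ext B x) :
    E₁ ≤ E₂ ↔ ∃ h : E₁.C ≤ E₂.C, E₂.y.comp (Subalgebra.inclusion h) = E₁.y := Iff.rfl

/-- chains of partial extensions are bounded above -/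
theorem Ext.bddAbove (c : Set (Ext B x)) (hc : IsChain (· ≤ ·) c) (hne : c.Nonempty) :
    BddAbove c := by
  classical
  obtain ⟨E₀, hE₀⟩ := hne
  haveI : Nonempty ↥c := ⟨⟨E₀, hE₀⟩⟩
  let K : ↥c → Subalgebra k A := fun i => i.1.C
  have dir : Directed (· ≤ ·) K := by
    intro i j
    rcases hc.total i.2 j.2 with h | h
    · exact ⟨j, h.1, le_rfl⟩
    · exact ⟨i, le_rfl, h.1⟩
  let f : ∀ i : ↥c, K i →ₐ[k] k := fun i => i.1.y
  have hf : ∀ (i j : ↥c) (h : K i ≤ K j), f i = (f j).comp (Subalgebra.inclusion h) := by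
    intro i j h
    rcases hc.total i.2 j.2 with h' | h'
    · obtain ⟨h'', e⟩ := h'
      exact e.symm
    · obtain ⟨h'', e⟩ := h'
      -- `K j ≤ K i` and `K i ≤ K j`
      have e' : f j = (f i).comp (Subalgebra.inclusion h'') := e.symm
      rw [e']
      ext a
      rfl
  let U : Ext B x :=
    { C := iSup K
      hC := isHopfSub_iSup K (fun i => i.1.hC)
      le := E₀.le.trans (le_iSup K ⟨E₀, hE₀⟩)
      y := Subalgebra.iSupLift K dir f hf (iSup K) le_rfl
      comp := by
        ext b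
        have h1 : Subalgebra.inclusion (E₀.le.trans (le_iSup K ⟨E₀, hE₀⟩)) b =
            Subalgebra.inclusion (le_iSup K ⟨E₀, hE₀⟩) (Subalgebra.inclusion E₀.le b) := rfl
        show Subalgebra.iSupLift K dir f hf (iSup K) le_rfl
          (Subalgebra.inclusion (E₀.le.trans (le_iSup K ⟨E₀, hE₀⟩)) b) = x b
        rw [h1, Subalgebra.iSupLift_inclusion]
        exact DFunLike.congr_fun E₀.comp b }
  refine ⟨U, ?_⟩
  intro E hE
  refine ⟨le_iSup K ⟨E, hE⟩, ?_⟩
  exact Subalgebra.iSupLift_comp_inclusion (K := K) (dir := dir) (f := f) (hf := hf)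
    (T := iSup K) (hT := le_rfl) (i := ⟨E, hE⟩) (le_iSup K ⟨E, hE⟩)

end Zorn

/-- **Extension of rational points.**  Over an algebraically closed field, a rational point of a
Hopf subalgebra extends to a rational point of the whole Hopf algebra. -/
theorem exists_extension [IsAlgClosed k] (B : Subalgebra k A) (hB : IsHopfSub B) (x : B →ₐ[k] k) :
    ∃ y : A →ₐ[k] k, ∀ b : B, y (b : A) = x b := by
  classical
  haveI : Nonempty (Ext B x) := ⟨⟨B, hB, le_rfl, x, by ext b; rfl⟩⟩
  obtain ⟨m, hm⟩ := zorn_le_nonempty (α := Ext B x) (fun c hc hne => Ext.bddAbove c hc hne)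
  have htop : m.C = ⊤ := by
    rw [eq_top_iff]
    intro a _
    obtain ⟨D, haD, hDfg, hDH⟩ := exists_fg_hopfSub_mem (k := k) a
    obtain ⟨z, hz⟩ := exists_step m.C m.hC m.y D hDfg
    let m' : Ext B x :=
      { C := m.C ⊔ D
        hC := isHopfSub_sup m.hC hDH
        le := m.le.trans le_sup_left
        y := z
        comp := by
          ext b
          have h1 := DFunLike.congr_fun hz (Subalgebra.inclusion m.le b)
          have h2 := DFunLike.congr_fun m.comp b
          exact h1.trans h2 }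
    have h1 : m ≤ m' := ⟨le_sup_left, hz⟩
    have h2 : m' ≤ m := hm h1
    exact h2.1 ((le_sup_right : D ≤ m.C ⊔ D) haD)
  refine ⟨m.y.comp ((AlgHom.id k A).codRestrict m.C
    (fun a => by rw [htop]; exact Algebra.mem_top)), ?_⟩
  intro b
  have := DFunLike.congr_fun m.comp b
  exact this

/-- **Density of rational points** (algebraic form): a non-nilpotent element of a commutative
Hopf algebra over an algebraically closed field is nonzero at some rational point. -/
theorem exists_point_ne_zero [IsAlgClosed k] (a : A) (ha : ¬ IsNilpotent a) :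
    ∃ y : A →ₐ[k] k, y a ≠ 0 := by
  classical
  obtain ⟨D, haD, hDfg, hDH⟩ := exists_fg_hopfSub_mem (k := k) a
  haveI : Algebra.FiniteType k ↥D := (Subalgebra.fg_iff_finiteType D).mp hDfg
  haveI : IsJacobsonRing ↥D := isJacobsonRing_of_finiteType (A := k)
  have hna : ¬ IsNilpotent (⟨a, haD⟩ : ↥D) := by
    intro h
    apply ha
    have := h.map D.val
    exact this
  have hex : ∃ n : Ideal ↥D, n.IsMaximal ∧ (⟨a, haD⟩ : ↥D) ∉ n := by
    by_contra hcon
    push_neg at hcon
    apply hna
    rw [← mem_nilradical, nilradical, Ideal.zero_eq_bot, Ideal.radical_eq_jacobson,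
      Ideal.jacobson, Ideal.mem_sInf]
    rintro J ⟨-, hJ⟩
    exact hcon J hJ
  obtain ⟨n, hn, han⟩ := hex
  haveI := hn
  obtain ⟨z, hz⟩ := TakTrans.exists_point_of_isMaximal (K := k) n
  obtain ⟨y, hy⟩ := exists_extension D hDH z
  refine ⟨y, ?_⟩
  have h1 := hy ⟨a, haD⟩
  show y a ≠ 0
  rw [show y a = z ⟨a, haD⟩ from h1]
  intro h0
  apply han
  rw [← hz]
  exact h0

/-- **Surjectivity on rational points**: if the kernel of a rational point `x` of `A'` is the
contraction of a prime of `A` along a bialgebra map `φ : A' → A`, then `x` lifts to a rational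
point of `A`. -/
theorem exists_lift_of_comap [IsAlgClosed k] {A' : Type w} [CommRing A'] [HopfAlgebra k A']
    (φ : A' →ₐc[k] A) (x : A' →ₐ[k] k)
    (hx : ∃ p : Ideal A, p.IsPrime ∧ p.comap (φ : A' →ₐ[k] A) = RingHom.ker x) :
    ∃ y : A →ₐ[k] k, y.comp (φ : A' →ₐ[k] A) = x := by
  classical
  obtain ⟨p, hp, hpx⟩ := hx
  have hker : RingHom.ker ((φ : A' →ₐ[k] A).rangeRestrict) ≤ RingHom.ker x := by
    intro a' ha'
    rw [← hpx]
    show (φ : A' →ₐ[k] A) a' ∈ p
    have h0 : (φ : A' →ₐ[k] A) a' = 0 := by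
      have := congrArg Subtype.val ((RingHom.mem_ker).mp ha')
      exact this
    rw [h0]
    exact p.zero_mem
  let xbar : ↥((φ : A' →ₐ[k] A).range) →ₐ[k] k :=
    AlgHom.liftOfSurjective _ (AlgHom.rangeRestrict_surjective _) x hker
  obtain ⟨y, hy⟩ := exists_extension _ (range_isHopfSub φ) xbar
  refine ⟨y, ?_⟩
  ext a'
  have h1 := hy ((φ : A' →ₐ[k] A).rangeRestrict a')
  have h2 : xbar ((φ : A' →ₐ[k] A).rangeRestrict a') = x a' :=
    AlgHom.liftOfSurjective_apply _ _ _ _ _
  rw [h2] at h1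
  exact h1

end Groth.Agent.Lib.Helper28.HopfPtExt
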