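/-
Helper28 library: rational points of affine group schemes over an algebraically closed field
(no finiteness hypotheses), scheme-level forms of `HopfPtExt`.
-/
import Groth.Agent.Lib.Helper28.HopfPtExt

set_option autoImplicit false
universe u
open CategoryTheory AlgebraicGeometry Opposite MonoidalCategory CartesianMonoidalCategory

namespace Groth.Agent.Lib.Helper28.AffGrpPts

variable {k : Type u} [Field k]

/-- the rational point of `Spec A` attached to an algebra homomorphism `A → k` -/
noncomputable def ptOf {A : Type u} [CommRing A] [Algebra k A] (y : A →ₐ[k] k) :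
    𝟙_ (Over (Spec (CommRingCat.of k))) ⟶
      (Spec (CommRingCat.of A)).asOver (Spec (CommRingCat.of k)) :=
  Over.homMk (Spec.map (CommRingCat.ofHom (y : A →+* k))) (by
    change Spec.map _ ≫ Spec.map (CommRingCat.ofHom (algebraMap k A)) = 𝟙 _
    rw [← Spec.map_comp, ← CommRingCat.ofHom_comp, y.comp_algebraMap]
    exact Spec.map_id _)

lemma ptOf_left {A : Type u} [CommRing A] [Algebra k A] (y : A →ₐ[k] k) :
    (ptOf y).left = Spec.map (CommRingCat.ofHom (y : A →+* k)) := rfl

lemma ptOf_left_base_asIdeal {A : Type u} [CommRing A] [Algebra k A] (y : A →ₐ[k] k) :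
    ((ptOf y).left.base (IsLocalRing.closedPoint k)).asIdeal = RingHom.ker (y : A →+* k) := by
  change Ideal.comap (y : A →+* k) (IsLocalRing.maximalIdeal k) = _
  rw [IsLocalRing.maximalIdeal_eq_bot]
  rfl

/-- every rational point of `Spec A` comes from an algebra homomorphism -/
lemma exists_ptOf {A : Type u} [CommRing A] [Algebra k A]
    (pt : 𝟙_ (Over (Spec (CommRingCat.of k))) ⟶
      (Spec (CommRingCat.of A)).asOver (Spec (CommRingCat.of k))) :
    ∃ y : A →ₐ[k] k, ptOf y = pt := by
  let ψ : CommRingCat.of A ⟶ CommRingCat.of k := Spec.preimage pt.left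
  have hψ : Spec.map ψ = pt.left := Spec.map_preimage _
  have hw : pt.left ≫ Spec.map (CommRingCat.ofHom (algebraMap k A)) =
      𝟙 (Spec (CommRingCat.of k)) := Over.w pt
  have h1 : CommRingCat.ofHom (algebraMap k A) ≫ ψ = 𝟙 _ := by
    apply Spec.map_injective
    rw [Spec.map_comp, Spec.map_id]
    exact (congrArg (· ≫ Spec.map (CommRingCat.ofHom (algebraMap k A))) hψ).trans hw
  refine ⟨{ ψ.hom with
    commutes' := fun c => by
      have := congr($(h1).hom c)
      exact this }, ?_⟩
  apply Over.OverMorphism.ext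
  rw [ptOf_left, ← hψ]
  rfl

/-- **Density of rational points** in an affine group scheme over an algebraically closed field. -/
theorem dense_rationalPoints [IsAlgClosed k] (G : Over (Spec (CommRingCat.of k))) [GrpObj G]
    [IsAffine G.left] :
    Dense {x : ↥G.left | ∃ g : 𝟙_ (Over (Spec (CommRingCat.of k))) ⟶ G,
      g.left.base (IsLocalRing.closedPoint k) = x} := by
  obtain ⟨H, ⟨e⟩⟩ := (essImage_hopfSpec (G := Grp.mk G)).mpr ‹_›
  let A : Type u := H.unop.X
  let f : (Spec (CommRingCat.of A)).asOver (Spec (CommRingCat.of k)) ⟶ G := e.hom.hom.hom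
  let g' : G ⟶ (Spec (CommRingCat.of A)).asOver (Spec (CommRingCat.of k)) := e.inv.hom.hom
  have hfg : g' ≫ f = 𝟙 G := congrArg (fun t => t.hom.hom) e.inv_hom_id
  have hfg' : g'.left ≫ f.left = 𝟙 G.left := congrArg (fun t => t.left) hfg
  rw [dense_iff_inter_open]
  intro U hU hne
  obtain ⟨u, hu⟩ := hne
  let v : ↥(Spec (CommRingCat.of A)) := g'.left.base u
  have hv : f.left.base v = u := by
    have := congr($(hfg').base u)
    simpa using this
  have hVopen : IsOpen (f.left.base ⁻¹' U) := hU.preimage f.left.continuous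
  have hvV : v ∈ f.left.base ⁻¹' U := by
    show f.left.base v ∈ U
    rw [hv]
    exact hu
  obtain ⟨_, ⟨a, rfl⟩, hva, haU⟩ :=
    PrimeSpectrum.isTopologicalBasis_basic_opens.exists_subset_of_mem_open hvV hVopen
  have hva' : a ∉ v.asIdeal := hva
  have hnil : ¬ IsNilpotent a := by
    rintro ⟨n, hn⟩
    apply hva'
    exact v.isPrime.mem_of_pow_mem n (by rw [hn]; exact v.asIdeal.zero_mem)
  obtain ⟨y, hy⟩ := HopfPtExt.exists_point_ne_zero (k := k) a hnil
  refine ⟨f.left.base ((ptOf y).left.base (IsLocalRing.closedPoint k)), ?_, ptOf y ≫ f, ?_⟩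
  · apply haU
    show a ∉ ((ptOf y).left.base (IsLocalRing.closedPoint k)).asIdeal
    rw [ptOf_left_base_asIdeal]
    exact hy
  · rfl

/-- **Surjectivity on rational points** for a surjective homomorphism of affine group schemes over
an algebraically closed field. -/
theorem points_surjective [IsAlgClosed k] (G G' : Over (Spec (CommRingCat.of k))) [GrpObj G]
    [GrpObj G'] [IsAffine G.left] [IsAffine G'.left] (h : G ⟶ G') [IsMonHom h]
    (hs : Surjective h.left) (x : 𝟙_ (Over (Spec (CommRingCat.of k))) ⟶ G') :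
    ∃ g : 𝟙_ (Over (Spec (CommRingCat.of k))) ⟶ G, g ≫ h = x := by
  obtain ⟨H, ⟨e⟩⟩ := (essImage_hopfSpec (G := Grp.mk G)).mpr ‹IsAffine G.left›
  obtain ⟨H', ⟨e'⟩⟩ := (essImage_hopfSpec (G := Grp.mk G')).mpr ‹IsAffine G'.left›
  let A : Type u := H.unop.X
  let A' : Type u := H'.unop.X
  let hh : Grp.mk G ⟶ Grp.mk G' := Grp.homMk h
  let ψ : H ⟶ H' := (hopfSpec.fullyFaithful (R := CommRingCat.of k)).preimage
    (e.hom ≫ hh ≫ e'.inv)
  have hψ : (hopfSpec (CommRingCat.of k)).map ψ = e.hom ≫ hh ≫ e'.inv :=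
    (hopfSpec.fullyFaithful (R := CommRingCat.of k)).map_preimage _
  let φ : A' →ₐc[k] A := ψ.unop.hom
  let f : (Spec (CommRingCat.of A)).asOver (Spec (CommRingCat.of k)) ⟶ G := e.hom.hom.hom
  let f' : (Spec (CommRingCat.of A')).asOver (Spec (CommRingCat.of k)) ⟶ G' := e'.hom.hom.hom
  let g'' : G' ⟶ (Spec (CommRingCat.of A')).asOver (Spec (CommRingCat.of k)) := e'.inv.hom.hom
  have hgf' : g'' ≫ f' = 𝟙 G' := congrArg (fun t => t.hom.hom) e'.inv_hom_id
  let sφ : (Spec (CommRingCat.of A)).asOver (Spec (CommRingCat.of k)) ⟶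
      (Spec (CommRingCat.of A')).asOver (Spec (CommRingCat.of k)) :=
    ((hopfSpec (CommRingCat.of k)).map ψ).hom.hom
  have hsφ : sφ = f ≫ h ≫ g'' := congrArg (fun t => t.hom.hom) hψ
  have hsφ_left : sφ.left = Spec.map (CommRingCat.ofHom ((φ : A' →ₐ[k] A) : A' →+* A)) := rfl
  haveI : IsIso f.left := by
    have : IsIso e.hom.hom.hom := by
      refine ⟨e.inv.hom.hom, congrArg (fun t => t.hom.hom) e.hom_inv_id,
        congrArg (fun t => t.hom.hom) e.inv_hom_id⟩
    exact inferInstanceAs (IsIso ((Over.forget _).map e.hom.hom.hom))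
  haveI : IsIso g''.left := by
    have : IsIso e'.inv.hom.hom := by
      refine ⟨e'.hom.hom.hom, congrArg (fun t => t.hom.hom) e'.inv_hom_id,
        congrArg (fun t => t.hom.hom) e'.hom_inv_id⟩
    exact inferInstanceAs (IsIso ((Over.forget _).map e'.inv.hom.hom))
  have hsurj : Surjective sφ.left := by
    have : sφ.left = f.left ≫ h.left ≫ g''.left := congrArg (fun t => t.left) hsφ
    rw [this]
    infer_instance
  obtain ⟨x', hx'⟩ := exists_ptOf (x ≫ g'')
  let q : ↥(Spec (CommRingCat.of A')) := (ptOf x').left.base (IsLocalRing.closedPoint k)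
  obtain ⟨P, hP⟩ := hsurj.surj q
  have hprime : ∃ p : Ideal A, p.IsPrime ∧ p.comap (φ : A' →ₐ[k] A) = RingHom.ker x' := by
    refine ⟨P.asIdeal, P.isPrime, ?_⟩
    have h1 := congrArg PrimeSpectrum.asIdeal hP
    rw [ptOf_left_base_asIdeal] at h1
    exact h1
  obtain ⟨y, hy⟩ := HopfPtExt.exists_lift_of_comap φ x' hprime
  refine ⟨ptOf y ≫ f, ?_⟩
  have h2 : ptOf y ≫ sφ = ptOf x' := by
    apply Over.OverMorphism.ext
    rw [Over.comp_left, hsφ_left, ptOf_left, ptOf_left]
    have hcomp : CommRingCat.ofHom ((φ : A' →ₐ[k] A) : A' →+* A) ≫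
        CommRingCat.ofHom ((y : A →ₐ[k] k) : A →+* k) =
        CommRingCat.ofHom ((x' : A' →ₐ[k] k) : A' →+* k) := by
      rw [← CommRingCat.ofHom_comp]
      congr 1
      rw [← hy]
      rfl
    exact (Spec.map_comp _ _).symm.trans (congrArg Spec.map hcomp)
  have h3 : (ptOf y ≫ f ≫ h) ≫ g'' = x ≫ g'' := by
    rw [← hx', ← h2, hsφ]
    simp only [Category.assoc]
  have h4 := congrArg (fun t => t ≫ f') h3
  simp only [Category.assoc, hgf', Category.comp_id] at h4
  simpa only [Category.assoc] using h4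

end Groth.Agent.Lib.Helper28.AffGrpPts
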