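import Mathlib
import Groth.Agent.S16572

/-!
# An affine cover with algebraically closed residue fields

For a qcqs scheme `X` there are an affine scheme `X'` and a quasi-compact surjective morphism
`X' ⟶ X` whose residue fields are algebraic closures of those of `X`.
-/

set_option autoImplicit false
set_option backward.isDefEq.respectTransparency false
set_option backward.isDefEq.respectTransparency.types false
universe u
open CategoryTheory CategoryTheory.Limits AlgebraicGeometry

namespace Groth.Agent.Lib.Helper28.AlgClCover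

/-- compatibility of `residueFieldMap` on `Spec` with `Ideal.ResidueField.map`. -/
theorem residueFieldMap_Spec {R T : CommRingCat.{u}} (φ : R ⟶ T) (y : Spec T) :
    (Scheme.Spec.residueFieldIso R ((Spec.map φ) y)).inv ≫ (Spec.map φ).residueFieldMap y =
      CommRingCat.ofHom (Ideal.ResidueField.map (y.asIdeal.comap φ.hom) y.asIdeal φ.hom rfl) ≫
        (Scheme.Spec.residueFieldIso T y).inv := by
  have key : CommRingCat.ofHom (algebraMap R (y.asIdeal.comap φ.hom).ResidueField) ≫
      (Scheme.Spec.residueFieldIso R ((Spec.map φ) y)).inv ≫ (Spec.map φ).residueFieldMap y =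
      CommRingCat.ofHom (algebraMap R (y.asIdeal.comap φ.hom).ResidueField) ≫
      CommRingCat.ofHom (Ideal.ResidueField.map (y.asIdeal.comap φ.hom) y.asIdeal φ.hom rfl) ≫
        (Scheme.Spec.residueFieldIso T y).inv := by
    have h1 := Scheme.Spec.algebraMap_residueFieldIso_inv R ((Spec.map φ) y)
    have h2 := Scheme.Spec.algebraMap_residueFieldIso_inv T y
    have h3 : CommRingCat.ofHom (algebraMap R (y.asIdeal.comap φ.hom).ResidueField) ≫
        CommRingCat.ofHom (Ideal.ResidueField.map (y.asIdeal.comap φ.hom) y.asIdeal φ.hom rfl) =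
        φ ≫ CommRingCat.ofHom (algebraMap T y.asIdeal.ResidueField) := by
      ext r
      exact Ideal.ResidueField.map_algebraMap _ _ _ _ r
    have e1 : CommRingCat.ofHom (algebraMap R (y.asIdeal.comap φ.hom).ResidueField) ≫
        (Scheme.Spec.residueFieldIso R ((Spec.map φ) y)).inv ≫ (Spec.map φ).residueFieldMap y =
        ((Scheme.ΓSpecIso R).inv ≫ (Spec R).Γevaluation ((Spec.map φ) y)) ≫
          (Spec.map φ).residueFieldMap y := by
      rw [← Category.assoc]
      exact congrArg (· ≫ (Spec.map φ).residueFieldMap y) h1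
    have e2 : (φ ≫ CommRingCat.ofHom (algebraMap T y.asIdeal.ResidueField)) ≫
        (Scheme.Spec.residueFieldIso T y).inv =
        φ ≫ (Scheme.ΓSpecIso T).inv ≫ (Spec T).Γevaluation y := by
      rw [Category.assoc]
      exact congrArg (φ ≫ ·) h2
    have e3 : ((Scheme.ΓSpecIso R).inv ≫ (Spec R).Γevaluation ((Spec.map φ) y)) ≫
          (Spec.map φ).residueFieldMap y = φ ≫ (Scheme.ΓSpecIso T).inv ≫ (Spec T).Γevaluation y := by
      rw [Category.assoc, Scheme.Γevaluation_naturality, ← Category.assoc, ← Category.assoc,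
        Scheme.ΓSpecIso_inv_naturality]
    have e4 : CommRingCat.ofHom (algebraMap R (y.asIdeal.comap φ.hom).ResidueField) ≫
        CommRingCat.ofHom (Ideal.ResidueField.map (y.asIdeal.comap φ.hom) y.asIdeal φ.hom rfl) ≫
          (Scheme.Spec.residueFieldIso T y).inv =
        (φ ≫ CommRingCat.ofHom (algebraMap T y.asIdeal.ResidueField)) ≫
          (Scheme.Spec.residueFieldIso T y).inv := by
      rw [← Category.assoc]
      exact congrArg (· ≫ (Scheme.Spec.residueFieldIso T y).inv) h3
    exact e1.trans (e3.trans (e2.symm.trans e4.symm))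
  ext1
  apply Ideal.ResidueField.ringHom_ext
  exact congrArg CommRingCat.Hom.hom key

/-- integrality of the residue field map at a point -/
def IntAt {X' X : Scheme.{u}} (f : X' ⟶ X) (x' : X') : Prop :=
  (f.residueFieldMap x').hom.IsIntegral

theorem intAt_of_isIso {X' X : Scheme.{u}} (f : X' ⟶ X) (x' : X') [IsIso (f.residueFieldMap x')] :
    IntAt f x' := by
  apply RingHom.isIntegral_of_surjective
  exact (ConcreteCategory.bijective_of_isIso (f.residueFieldMap x')).2

theorem intAt_comp {X'' X' X : Scheme.{u}} (g : X'' ⟶ X') (f : X' ⟶ X) (x : X'')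
    (hg : IntAt g x) (hf : IntAt f (g x)) : IntAt (g ≫ f) x := by
  unfold IntAt at *
  rw [Scheme.residueFieldMap_comp]
  exact RingHom.IsIntegral.trans _ _ hf hg

theorem intAt_congr {X' X : Scheme.{u}} {f f' : X' ⟶ X} (h : f = f') (x : X') (hf : IntAt f x) :
    IntAt f' x := by
  subst h; exact hf

theorem intAt_cancel {X'' X' X : Scheme.{u}} (g : X'' ⟶ X') (f : X' ⟶ X) (x : X'')
    [IsIso (g.residueFieldMap x)] (h : IntAt (g ≫ f) x) : IntAt f (g x) := by
  unfold IntAt at *
  rw [Scheme.residueFieldMap_comp] at h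
  have e : f.residueFieldMap (g x) =
      (f.residueFieldMap (g x) ≫ g.residueFieldMap x) ≫ inv (g.residueFieldMap x) := by
    rw [Category.assoc, IsIso.hom_inv_id, Category.comp_id]
  rw [e]
  refine RingHom.IsIntegral.trans _ _ h ?_
  apply RingHom.isIntegral_of_surjective
  exact (ConcreteCategory.bijective_of_isIso (inv (g.residueFieldMap x))).2

/-- the ring `T` of S16572 -/
noncomputable abbrev TR (R : CommRingCat.{u}) : CommRingCat.{u} := CommRingCat.of (Groth.Agent.S16572.TT R)

/-- the structure map `R ⟶ T` -/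
noncomputable abbrev φR (R : CommRingCat.{u}) : R ⟶ TR R :=
  CommRingCat.ofHom (algebraMap R (Groth.Agent.S16572.TT R))

theorem spec_surjective (R : CommRingCat.{u}) (x : Spec R) : ∃ y : Spec (TR R), (Spec.map (φR R)) y = x :=
  (Groth.Agent.S16572.result R).1 x

theorem spec_algClosed (R : CommRingCat.{u}) (y : Spec (TR R)) :
    IsAlgClosed ((Spec (TR R)).residueField y) := by
  haveI := ((Groth.Agent.S16572.result R).2 y.asIdeal).1
  exact IsAlgClosed.of_ringEquiv _ _
    (Scheme.Spec.residueFieldIso (TR R) y).symm.commRingCatIsoToRingEquiv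

theorem spec_intAt (R : CommRingCat.{u}) (y : Spec (TR R)) : IntAt (Spec.map (φR R)) y := by
  have h := ((Groth.Agent.S16572.result R).2 y.asIdeal).2
  have e := residueFieldMap_Spec (φR R) y
  have e' : (Spec.map (φR R)).residueFieldMap y =
      (Scheme.Spec.residueFieldIso R ((Spec.map (φR R)) y)).hom ≫
      CommRingCat.ofHom (Ideal.ResidueField.map (y.asIdeal.comap (φR R).hom) y.asIdeal
        (φR R).hom rfl) ≫ (Scheme.Spec.residueFieldIso (TR R) y).inv := by
    rw [← e, Iso.hom_inv_id_assoc]
  unfold IntAt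
  rw [e']
  refine RingHom.IsIntegral.trans _ _ ?_ (RingHom.IsIntegral.trans _ _ h ?_)
  · apply RingHom.isIntegral_of_surjective
    exact (ConcreteCategory.bijective_of_isIso
      (Scheme.Spec.residueFieldIso R ((Spec.map (φR R)) y)).hom).2
  · apply RingHom.isIntegral_of_surjective
    exact (ConcreteCategory.bijective_of_isIso
      (Scheme.Spec.residueFieldIso (TR R) y).inv).2

theorem exists_cover (X : Scheme.{u}) [CompactSpace X] [QuasiSeparatedSpace X] :
    ∃ (X' : Scheme.{u}) (f : X' ⟶ X), IsAffine X' ∧ QuasiCompact f ∧ Surjective f ∧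
      ∀ x' : X', IsAlgClosed (X'.residueField x') ∧ (f.residueFieldMap x').hom.IsIntegral := by
  let 𝒱 := X.affineCover.finiteSubcover
  let R : 𝒱.I₀ → CommRingCat.{u} := fun i => Γ(𝒱.X i, ⊤)
  let Y : 𝒱.I₀ → Scheme.{u} := fun i => Spec (TR (R i))
  let h : ∀ i, Y i ⟶ X := fun i => Spec.map (φR (R i)) ≫ (𝒱.X i).isoSpec.inv ≫ 𝒱.f i
  have hι : ∀ i, Sigma.ι Y i ≫ Sigma.desc h = h i := fun i => Sigma.ι_desc h i
  refine ⟨∐ Y, Sigma.desc h, inferInstance, inferInstance, ⟨fun x => ?_⟩, fun x' => ?_⟩
  · obtain ⟨i, z, rfl⟩ := 𝒱.exists_eq x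
    obtain ⟨y, hy⟩ := spec_surjective (R i) ((𝒱.X i).isoSpec.hom z)
    refine ⟨Sigma.ι Y i y, ?_⟩
    rw [← Scheme.Hom.comp_apply, hι]
    change (𝒱.f i) ((𝒱.X i).isoSpec.inv ((Spec.map (φR (R i))) y)) = _
    rw [hy]
    have e : (𝒱.X i).isoSpec.hom ≫ (𝒱.X i).isoSpec.inv = 𝟙 _ := Iso.hom_inv_id _
    have e' := congrArg (fun k : 𝒱.X i ⟶ 𝒱.X i => k z) e
    simp only [Scheme.Hom.comp_apply] at e'
    rw [e']
    rfl
  · obtain ⟨i, y, rfl⟩ := (sigmaOpenCover Y).exists_eq x'
    constructor
    · haveI := spec_algClosed (R i) y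
      exact IsAlgClosed.of_ringEquiv _ _
        (asIso ((Sigma.ι Y i).residueFieldMap y)).symm.commRingCatIsoToRingEquiv
    · apply intAt_cancel (Sigma.ι Y i) (Sigma.desc h) y
      apply intAt_congr (hι i).symm
      apply intAt_comp
      · exact spec_intAt _ _
      · exact intAt_of_isIso _ _

end Groth.Agent.Lib.Helper28.AlgClCover
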