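import Groth.Agent.Lib.Helper29.SGA3Quot
import Groth.Agent.Lib.Helper29.AntiAffine

/-!
# Helper library (helper28): anti-affine groups in extensions (for S18070)
-/

set_option autoImplicit false
universe u
open CategoryTheory CategoryTheory.Limits AlgebraicGeometry MonoidalCategory CartesianMonoidalCategory
  MonObj GrpObj

namespace Groth.Agent.Lib.Helper28.AntiAffExt

open Groth.Agent.Lib.Helper29 Groth.Agent.Lib.Helper29.AssocBundle Groth.Agent.Lib.Helper29.SGA3Quot

/-- descent of a morphism along a covering homomorphism with kernel `i`. -/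
theorem exists_desc_of_kernel {S : Scheme.{u}} {G₁ G G₂ N : Over S} [GrpObj G₁] [GrpObj G] [GrpObj G₂]
    (i : G₁ ⟶ G) [IsMonHom i] (q : G ⟶ G₂) [IsMonHom q] (c : OCov q)
    (hex : AlgGrp.IsKernel i q) (n : G ⟶ N)
    (hn : ((G ◁ i) ≫ μ[G]) ≫ n = fst G G₁ ≫ n) : ∃ m : G₂ ⟶ N, q ≫ m = n := by
  refine c.desc n (fun T e₁ e₂ he => ?_)
  have h1 : (e₁⁻¹ * e₂) ≫ q = toUnit T ≫ η[G₂] := by
    rw [MonObj.mul_comp, GrpObj.inv_comp, he, inv_mul_cancel, Hom.one_def]
  have hh : hex.lift (e₁⁻¹ * e₂) (toUnit T) h1 ≫ i = e₁⁻¹ * e₂ := hex.lift_fst _ _ _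
  have e : e₂ = lift e₁ (hex.lift (e₁⁻¹ * e₂) (toUnit T) h1) ≫ ((G ◁ i) ≫ μ[G]) := by
    rw [QuotGrp.act_eq, MonObj.comp_mul, lift_fst, ← Category.assoc, lift_snd, hh,
      mul_inv_cancel_left]
  calc e₁ ≫ n = (lift e₁ (hex.lift (e₁⁻¹ * e₂) (toUnit T) h1) ≫ fst G G₁) ≫ n := by
        rw [lift_fst]
    _ = lift e₁ (hex.lift (e₁⁻¹ * e₂) (toUnit T) h1) ≫ ((G ◁ i) ≫ μ[G]) ≫ n := by
        rw [Category.assoc, ← hn]
    _ = e₂ ≫ n := by rw [← Category.assoc, ← e]

/-- a flat surjective morphism from a noetherian scheme is an fpqc covering. -/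
theorem ocov_of_flat_surjective {S : Scheme.{u}} {G G₂ : Over S} (q : G ⟶ G₂)
    [Surjective q.left] [Flat q.left] [TopologicalSpace.NoetherianSpace G.left] : Nonempty (OCov q) := by
  refine ⟨ocovOf q q.left (𝟙 _) (Category.id_comp _)
    (singleton_mem_fpqc_of_cover q.left inferInstance inferInstance (fun V _ => ?_))⟩
  refine ⟨q.left ⁻¹ᵁ V, TopologicalSpace.NoetherianSpace.isCompact _, ?_⟩
  exact Set.image_preimage_eq _ q.left.surjective

variable (k : Type u) [Field k]

/-- the comparison map `k → Γ(G)` factors through `Γ(G₂)`. -/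
theorem appTop_eq {G G₂ : Over (Spec (CommRingCat.of k))} (q : G ⟶ G₂) (r : Γ(Spec (CommRingCat.of k), ⊤)) :
    G.hom.appTop r = q.left.appTop (G₂.hom.appTop r) := by
  have h : G.hom = q.left ≫ G₂.hom := (Over.w q).symm
  rw [h]
  rfl

/-- anti-affineness passes to a quotient. -/
theorem bijective_of_epi {G G₂ : Over (Spec (CommRingCat.of k))} (q : G ⟶ G₂) [Epi q.left]
    (hG : Function.Bijective ((Scheme.ΓSpecIso (CommRingCat.of k)).inv ≫ G.hom.appTop).hom) :
    Function.Bijective ((Scheme.ΓSpecIso (CommRingCat.of k)).inv ≫ G₂.hom.appTop).hom := by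
  have hq := InvFun.appTop_injective_of_epi q.left
  constructor
  · intro a b hab
    apply hG.1
    change G.hom.appTop ((Scheme.ΓSpecIso (CommRingCat.of k)).inv a) =
      G.hom.appTop ((Scheme.ΓSpecIso (CommRingCat.of k)).inv b)
    rw [appTop_eq k q, appTop_eq k q]
    exact congrArg _ hab
  · intro t
    obtain ⟨c, hc⟩ := hG.2 (q.left.appTop t)
    refine ⟨c, hq ?_⟩
    rw [← hc]
    exact (appTop_eq k q _).symm

/-- the `Over`-object `𝔸¹_k`. -/
noncomputable abbrev A1 : Over (Spec (CommRingCat.of k)) :=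
  Over.mk (𝔸(PUnit.{u+1}; Spec (CommRingCat.of k)) ↘ Spec (CommRingCat.of k))

instance : IsAffine (A1 k).left :=
  inferInstanceAs (IsAffine 𝔸(PUnit.{u+1}; Spec (CommRingCat.of k)))

/-- the morphism to `𝔸¹_k` attached to a global section. -/
noncomputable def ofSec {G : Over (Spec (CommRingCat.of k))} (s : Γ(G.left, ⊤)) : G ⟶ A1 k :=
  Over.homMk (AffineSpace.homOfVector G.hom (fun _ => s)) (AffineSpace.homOfVector_over _ _)

theorem ofSec_appTop {G : Over (Spec (CommRingCat.of k))} (s : Γ(G.left, ⊤)) :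
    (ofSec k s).left.appTop (AffineSpace.coord _ PUnit.unit) = s :=
  AffineSpace.homOfVector_appTop_coord _ _ _

theorem comp_ofSec {G H : Over (Spec (CommRingCat.of k))} (f : H ⟶ G) (s : Γ(G.left, ⊤)) :
    f ≫ ofSec k s = ofSec k (f.left.appTop s) := by
  apply Over.OverMorphism.ext
  apply AffineSpace.hom_ext
  · change (f.left ≫ AffineSpace.homOfVector G.hom (fun _ => s)) ≫ _ =
      AffineSpace.homOfVector H.hom (fun _ => f.left.appTop s) ≫ _
    rw [Category.assoc, AffineSpace.homOfVector_over, AffineSpace.homOfVector_over]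
    exact Over.w f
  · intro j
    rw [Over.comp_left, Scheme.Hom.comp_appTop]
    change f.left.appTop ((ofSec k s).left.appTop (AffineSpace.coord _ j)) =
      (ofSec k (f.left.appTop s)).left.appTop (AffineSpace.coord _ j)
    rw [ofSec_appTop, ofSec_appTop]

/-- the key step: extension of anti-affine by anti-affine is anti-affine. -/
theorem bijective_of_extension {G₁ G G₂ : Over (Spec (CommRingCat.of k))}
    [GrpObj G₁] [GrpObj G] [GrpObj G₂]
    (i : G₁ ⟶ G) [IsMonHom i] (q : G ⟶ G₂) [IsMonHom q] [Epi q.left] (c : OCov q)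
    (hex : AlgGrp.IsKernel i q)
    (hprod : ∀ (F : G ⊗ G₁ ⟶ A1 k), F = fst G G₁ ≫ lift (𝟙 G) (toUnit G ≫ η[G₁]) ≫ F)
    (hG₂ : Function.Bijective ((Scheme.ΓSpecIso (CommRingCat.of k)).inv ≫ G₂.hom.appTop).hom) :
    Function.Bijective ((Scheme.ΓSpecIso (CommRingCat.of k)).inv ≫ G.hom.appTop).hom := by
  have hq := InvFun.appTop_injective_of_epi q.left
  constructor
  · intro a b hab
    apply hG₂.1
    apply hq
    change G.hom.appTop ((Scheme.ΓSpecIso (CommRingCat.of k)).inv a) =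
      G.hom.appTop ((Scheme.ΓSpecIso (CommRingCat.of k)).inv b) at hab
    rw [appTop_eq k q, appTop_eq k q] at hab
    exact hab
  · intro s
    have hσ : lift (𝟙 G) (toUnit G ≫ η[G₁]) ≫ ((G ◁ i) ≫ μ[G]) = 𝟙 G := by
      rw [QuotGrp.act_eq, MonObj.comp_mul, lift_fst, ← Category.assoc, lift_snd, Category.assoc,
        IsMonHom.one_hom, ← Hom.one_def, _root_.mul_one]
    have hn : ((G ◁ i) ≫ μ[G]) ≫ ofSec k s = fst G G₁ ≫ ofSec k s := by
      have h := hprod (((G ◁ i) ≫ μ[G]) ≫ ofSec k s)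
      rw [h, ← Category.assoc (lift (𝟙 G) (toUnit G ≫ η[G₁])), hσ, Category.id_comp]
    obtain ⟨m, hm⟩ := exists_desc_of_kernel i q c hex (ofSec k s) hn
    have hconst := AntiAffine.eq_const_of_bijective k hG₂ m
    have hu : (toUnit G).left = G.hom := by
      have := Over.w (toUnit G)
      simpa using this
    have e1 : ofSec k s = toUnit G ≫ (η[G₂] ≫ m) := by
      calc ofSec k s = q ≫ m := hm.symm
        _ = q ≫ (toUnit G₂ ≫ η[G₂] ≫ m) := congrArg (fun t => q ≫ t) hconst
        _ = toUnit G ≫ (η[G₂] ≫ m) := by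
            rw [← Category.assoc, toUnit_unique (q ≫ toUnit G₂) (toUnit G)]
    have e2 : s = G.hom.appTop ((η[G₂] ≫ m).left.appTop (AffineSpace.coord _ PUnit.unit)) := by
      have := congrArg (fun t : G ⟶ A1 k => t.left.appTop (AffineSpace.coord _ PUnit.unit)) e1
      simp only [ofSec_appTop] at this
      rw [this, Over.comp_left, Scheme.Hom.comp_appTop, hu]
      rfl
    refine ⟨(Scheme.ΓSpecIso (CommRingCat.of k)).hom
      ((η[G₂] ≫ m).left.appTop (AffineSpace.coord _ PUnit.unit)), ?_⟩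
    rw [e2]
    change G.hom.appTop ((Scheme.ΓSpecIso (CommRingCat.of k)).inv
      ((Scheme.ΓSpecIso (CommRingCat.of k)).hom _)) = _
    congr 1
    simp

end Groth.Agent.Lib.Helper28.AntiAffExt
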