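import Mathlib
import Groth.Prelude.Def_BlowUp2
import Groth.Agent.Lib.Helper28.IdealComap

/-!
# Effective Cartier ideals: generators are nonzerodivisors; pullback to cofiltered limits (helper28)
-/

set_option autoImplicit false

universe u

open CategoryTheory AlgebraicGeometry Limits

namespace Groth.Agent.Lib.Helper28

open Scheme

/-- If `𝓘(U) = (a)` with `a` a nonzerodivisor, the same holds on every basic open of `U`.
(Same statement as `Helper3.principal_basicOpen`.) -/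
theorem principal_basicOpen' {X : Scheme.{u}} (𝓘 : X.IdealSheafData) (U : X.affineOpens)
    (a : Γ(X, U.1))
    (ha : a ∈ nonZeroDivisors Γ(X, U.1)) (hI : 𝓘.ideal U = Ideal.span {a}) (s : Γ(X, U.1)) :
    algebraMap Γ(X, U.1) Γ(X, X.basicOpen s) a ∈ nonZeroDivisors Γ(X, X.basicOpen s) ∧
      𝓘.ideal (X.affineBasicOpen s) =
        Ideal.span {algebraMap Γ(X, U.1) Γ(X, X.basicOpen s) a} := by
  have hloc := U.2.isLocalization_basicOpen s
  constructor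
  · exact IsLocalization.map_nonZeroDivisors_le (Submonoid.powers s) Γ(X, X.basicOpen s)
      (Submonoid.mem_map_of_mem _ ha)
  · rw [← 𝓘.map_ideal_basicOpen U s, hI, Ideal.map_span, Set.image_singleton]
    rfl

/-- An effective Cartier ideal is principal on arbitrarily small affine neighbourhoods. -/
theorem exists_affine_principal_le' {X : Scheme.{u}} (𝓘 : X.IdealSheafData)
    (h : BlowUp.IsEffCartierIdeal 𝓘)
    (x : X) (O : X.Opens) (hxO : x ∈ O) :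
    ∃ U : X.affineOpens, x ∈ U.1 ∧ U.1 ≤ O ∧
      ∃ a : Γ(X, U.1), a ∈ nonZeroDivisors Γ(X, U.1) ∧ 𝓘.ideal U = Ideal.span {a} := by
  obtain ⟨U, hxU, a, ha, hI⟩ := h x
  obtain ⟨s, hsO, hxs⟩ := U.2.exists_basicOpen_le (V := O) ⟨x, hxO⟩ hxU
  obtain ⟨h1, h2⟩ := principal_basicOpen' 𝓘 U a ha hI s
  exact ⟨X.affineBasicOpen s, hxs, hsO, _, h1, h2⟩

/-- In a commutative ring, if `(a) = (g)` and `a` is a nonzerodivisor, so is `g`. -/
theorem mem_nonZeroDivisors_of_span_eq {R : Type*} [CommRing R] {a g : R}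
    (ha : a ∈ nonZeroDivisors R) (h : Ideal.span {a} = Ideal.span {g}) :
    g ∈ nonZeroDivisors R := by
  obtain ⟨u, hu⟩ := Ideal.mem_span_singleton'.mp (h ▸ Ideal.mem_span_singleton_self a :
    a ∈ Ideal.span {g})
  obtain ⟨v, hv⟩ := Ideal.mem_span_singleton'.mp (h.symm ▸ Ideal.mem_span_singleton_self g :
    g ∈ Ideal.span {a})
  -- a = u * g, g = v * a
  rw [mem_nonZeroDivisors_iff_right]
  intro z hz
  have h1 : z * a = 0 := by rw [← hu, ← mul_assoc, mul_comm z u, mul_assoc, hz, mul_zero]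
  exact (mem_nonZeroDivisors_iff_right.mp ha) z h1

/-- If `J` is an effective Cartier ideal and `J(W) = (g)` on an affine open `W`, then `g` is a
nonzerodivisor. -/
theorem mem_nonZeroDivisors_of_isEffCartierIdeal {X : Scheme.{u}} (J : X.IdealSheafData)
    (hJ : BlowUp.IsEffCartierIdeal J) (W : X.affineOpens) (g : Γ(X, W.1))
    (hg : J.ideal W = Ideal.span {g}) : g ∈ nonZeroDivisors Γ(X, W.1) := by
  rw [mem_nonZeroDivisors_iff_right]
  intro z hz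
  apply X.IsSheaf.section_ext
  rintro x hx
  obtain ⟨U, hxU, hUW, a, ha, hIa⟩ := exists_affine_principal_le' J hJ x W.1 hx
  refine ⟨U.1, hUW, hxU, ?_⟩
  have h1 : J.ideal U = Ideal.span {(X.presheaf.map (homOfLE hUW).op).hom g} := by
    rw [← J.map_ideal hUW, hg, Ideal.map_span, Set.image_singleton]
    rfl
  have h2 := mem_nonZeroDivisors_of_span_eq ha (hIa.symm.trans h1)
  rw [map_zero]
  apply (mem_nonZeroDivisors_iff_right.mp h2)
  rw [← map_mul, hz, map_zero]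

/-- Pullback of a principal ideal along a morphism with affine preimage: generator, and
nonzerodivisor property when the pulled-back ideal is effective Cartier. -/
theorem comap_principal {X Y : Scheme.{u}} (J : Y.IdealSheafData) (t : X ⟶ Y)
    (hJ' : BlowUp.IsEffCartierIdeal (J.comap t)) (U : Y.affineOpens)
    (hU' : IsAffineOpen (t ⁻¹ᵁ U.1)) (f : Γ(Y, U.1)) (hf : J.ideal U = Ideal.span {f}) :
    (J.comap t).ideal ⟨t ⁻¹ᵁ U.1, hU'⟩ = Ideal.span {(t.app U.1).hom f} ∧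
      (t.app U.1).hom f ∈ nonZeroDivisors Γ(X, t ⁻¹ᵁ U.1) := by
  have h1 : (J.comap t).ideal ⟨t ⁻¹ᵁ U.1, hU'⟩ = Ideal.span {(t.app U.1).hom f} := by
    rw [ideal_comap_of_le J t U ⟨t ⁻¹ᵁ U.1, hU'⟩ le_rfl, hf, Ideal.map_span, Set.image_singleton,
      ← Scheme.Hom.app_eq_appLE]
  exact ⟨h1, mem_nonZeroDivisors_of_isEffCartierIdeal _ hJ' ⟨t ⁻¹ᵁ U.1, hU'⟩ _ h1⟩

section Limit

variable {I : Type u} [Category.{u} I] [IsCofiltered I] (D : I ⥤ Scheme.{u}) (c : Cone D)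
  (hc : IsLimit c) [∀ {i j : I} (t : i ⟶ j), IsAffineHom (D.map t)]

include hc in
/-- Sections of the limit over the preimage of an affine open come from a finite level. -/
theorem exists_appLE_eq_of_isLimit (i : I) (U : (D.obj i).Opens) (hU : IsAffineOpen U)
    (h : Γ(c.pt, c.π.app i ⁻¹ᵁ U)) :
    ∃ (j : I) (t : j ⟶ i) (σ : Γ(D.obj j, D.map t ⁻¹ᵁ U)),
      ((c.π.app j).appLE (D.map t ⁻¹ᵁ U) (c.π.app i ⁻¹ᵁ U)
        (by rw [← Scheme.Hom.comp_preimage, c.w])).hom σ = h := by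
  have (j : Over i) : IsAffine ((opensDiagram D i U).obj j) := hU.preimage (D.map _)
  obtain ⟨j, σ', hj⟩ := exists_appTop_π_eq_of_isAffine_of_isLimit _ _
    (isLimitOpensCone D c hc i U)
    ((c.pt.presheaf.map (homOfLE (show (c.π.app i ⁻¹ᵁ U).ι ''ᵁ ⊤ ≤ c.π.app i ⁻¹ᵁ U by simp)).op).hom h)
  refine ⟨j.left, j.hom, ((D.obj j.left).presheaf.map (homOfLE
    (show D.map j.hom ⁻¹ᵁ U ≤ (D.map j.hom ⁻¹ᵁ U).ι ''ᵁ ⊤ by simp)).op).hom σ', ?_⟩
  have h2 := congrArg (c.pt.presheaf.map (homOfLE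
    (show c.π.app i ⁻¹ᵁ U ≤ (c.π.app i ⁻¹ᵁ U).ι ''ᵁ ⊤ by simp)).op).hom hj
  have h3 : ∀ (e1 : (c.π.app i ⁻¹ᵁ U).ι ''ᵁ ⊤ ≤ c.π.app i ⁻¹ᵁ U)
      (e2 : c.π.app i ⁻¹ᵁ U ≤ (c.π.app i ⁻¹ᵁ U).ι ''ᵁ ⊤),
      (c.pt.presheaf.map (homOfLE e2).op).hom ((c.pt.presheaf.map (homOfLE e1).op).hom h) = h := by
    intro e1 e2
    rw [← CommRingCat.comp_apply, ← Functor.map_comp,
      Subsingleton.elim ((homOfLE e1).op ≫ (homOfLE e2).op) (𝟙 _),
      CategoryTheory.Functor.map_id]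
    rfl
  have e3 : ∀ (e : c.π.app i ⁻¹ᵁ U ≤ c.π.app j.left ⁻¹ᵁ (D.map j.hom ⁻¹ᵁ U))
      (e'' : c.π.app i ⁻¹ᵁ U ≤ (c.π.app i ⁻¹ᵁ U).ι ''ᵁ ⊤)
      (e4 : c.π.app i ⁻¹ᵁ U ≤ c.π.app j.left ⁻¹ᵁ ((D.map j.hom ⁻¹ᵁ U).ι ''ᵁ ⊤)),
      ((c.π.app j.left).resLE (D.map j.hom ⁻¹ᵁ U) (c.π.app i ⁻¹ᵁ U) e).appTop ≫
        c.pt.presheaf.map (homOfLE e'').op =
      (c.π.app j.left).appLE ((D.map j.hom ⁻¹ᵁ U).ι ''ᵁ ⊤) (c.π.app i ⁻¹ᵁ U) e4 := by
    intro e e'' e4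
    rw [Scheme.Hom.appTop, Scheme.Hom.app_eq_appLE, Scheme.Hom.resLE_appLE]
    exact Scheme.Hom.appLE_map _ _ _
  rw [h3] at h2
  rw [← h2]
  change ((D.obj j.left).presheaf.map _ ≫ Hom.appLE (c.π.app j.left) _ _ _).hom σ' =
    (Hom.appTop ((opensCone D c i U).π.app j) ≫ c.pt.presheaf.map _).hom σ'
  congr 2
  exact (Scheme.Hom.map_appLE _ _ _).trans (e3 _ _ _).symm

/-- Functoriality of `appLE` along a factorization `g ≫ t = p`. -/
theorem appLE_of_comp_eq {X Y Z : Scheme.{u}} (g : X ⟶ Y) (t : Y ⟶ Z) (p : X ⟶ Z)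
    (hp : g ≫ t = p) (U : Z.Opens) (V : X.Opens) (e : V ≤ p ⁻¹ᵁ U) (e' : V ≤ g ⁻¹ᵁ (t ⁻¹ᵁ U)) :
    p.appLE U V e = t.app U ≫ g.appLE (t ⁻¹ᵁ U) V e' := by
  subst hp
  rw [Scheme.Hom.comp_appLE]

include hc in
/-- A section on an affine open of some `D i` all of whose pullbacks to the later stages are
nonzerodivisors pulls back to a nonzerodivisor on the limit. -/
theorem app_mem_nonZeroDivisors_of_isLimit (i : I) (U : (D.obj i).Opens) (hU : IsAffineOpen U)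
    (f : Γ(D.obj i, U))
    (hf : ∀ (j : I) (t : j ⟶ i) (l : I) (s : l ⟶ j),
      ((D.map s).app (D.map t ⁻¹ᵁ U)).hom (((D.map t).app U).hom f) ∈
        nonZeroDivisors Γ(D.obj l, D.map s ⁻¹ᵁ D.map t ⁻¹ᵁ U)) :
    ((c.π.app i).app U).hom f ∈ nonZeroDivisors Γ(c.pt, c.π.app i ⁻¹ᵁ U) := by
  refine mem_nonZeroDivisors_iff_right.mpr ?_
  intro h hh
  obtain ⟨j, t, σ, rfl⟩ := exists_appLE_eq_of_isLimit D c hc i U hU h
  have e1 : c.π.app i ⁻¹ᵁ U ≤ c.π.app j ⁻¹ᵁ (D.map t ⁻¹ᵁ U) := by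
    rw [← Scheme.Hom.comp_preimage, c.w]
  have key1 : (c.π.app i).app U =
      (D.map t).app U ≫ (c.π.app j).appLE (D.map t ⁻¹ᵁ U) (c.π.app i ⁻¹ᵁ U) e1 := by
    rw [Scheme.Hom.app_eq_appLE]
    exact appLE_of_comp_eq (c.π.app j) (D.map t) (c.π.app i) (c.w t) U _ le_rfl e1
  rw [key1, CommRingCat.comp_apply, ← map_mul] at hh
  have key2 : ((c.π.app j).app (D.map t ⁻¹ᵁ U)).hom (σ * ((D.map t).app U).hom f) = 0 := by
    have e2 : c.π.app j ⁻¹ᵁ (D.map t ⁻¹ᵁ U) ≤ c.π.app i ⁻¹ᵁ U := by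
      rw [← Scheme.Hom.comp_preimage, c.w]
    have h5 := congrArg (c.pt.presheaf.map (homOfLE e2).op).hom hh
    rw [map_zero, ← CommRingCat.comp_apply] at h5
    have h6 : (c.π.app j).appLE (D.map t ⁻¹ᵁ U) (c.π.app i ⁻¹ᵁ U) e1 ≫
        c.pt.presheaf.map (homOfLE e2).op = (c.π.app j).app (D.map t ⁻¹ᵁ U) :=
      (Scheme.Hom.appLE_map _ _ _).trans (Scheme.Hom.app_eq_appLE _).symm
    rw [h6] at h5
    exact h5
  obtain ⟨l, s, hs⟩ := exists_app_map_eq_zero_of_isLimit D c hc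
    (hU.preimage (D.map t)).isCompact _ key2
  rw [map_mul] at hs
  have h0 := (mem_nonZeroDivisors_iff_right.mp (hf j t l s)) _ hs
  have e3 : c.π.app i ⁻¹ᵁ U ≤ c.π.app l ⁻¹ᵁ (D.map s ⁻¹ᵁ (D.map t ⁻¹ᵁ U)) := by
    rw [← Scheme.Hom.comp_preimage, c.w, ← Scheme.Hom.comp_preimage, c.w]
  rw [appLE_of_comp_eq (c.π.app l) (D.map s) (c.π.app j) (c.w s) _ _ _ e3,
    CommRingCat.comp_apply, h0, map_zero]

end Limit

end Groth.Agent.Lib.Helper28
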