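import Groth.Prelude.Def_W4c1tameactTame
import Groth.Agent.Lib.Helper28.HopfIntegral

/-!
# Total integrals and the Reynolds operator (helper28)

`k` a commutative ring, `A` a commutative Hopf algebra, `B` a comodule algebra, `M` a `(B, A)`-Hopf
module, `α : A → B` a comodule map.  Main results:
* `lam α : M ⊗ A → M`, `m ⊗ a ↦ Σ α(S(m₁) a) • m₀`, is a comodule map from the induced comodule
  (`coact_lam`), and a retraction of the coaction when `α 1 = 1` (`lam_coact`).
* `reynolds_mem_fixedPts`, `reynolds_of_mem_fixedPts`.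
-/

set_option autoImplicit false
set_option linter.unusedSectionVars false
universe u v w w'

open TensorProduct WithConv
open Groth.Agent.Lib.Helper28.HopfIntegral

namespace Groth.Agent.Lib.Helper28.TameAct

theorem grp_aux {G : Type*} [Group G] (a b : G) : b * (a * b)⁻¹ = a⁻¹ := by
  rw [mul_inv_rev, mul_inv_cancel_left]

section hopf

variable {k : Type u} [CommRing k] {A : Type v} [CommRing A] [HopfAlgebra k A]

variable (k A) in
/-- `c ⊗ a ↦ (1 ⊗ c) * Δ(S a)` -/
noncomputable def G₀ : A ⊗[k] A →ₐ[k] A ⊗[k] A :=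
  Algebra.TensorProduct.productMap (inr k A) ((dlt k A).comp (anti k A))

lemma G₀_tmul (c a : A) :
    G₀ k A (c ⊗ₜ[k] a) =
      ((1 : A) ⊗ₜ[k] c) * Coalgebra.comul (R := k) (HopfAlgebra.antipode k a) := by
  simp [G₀]

lemma G₀_comp_dlt : (G₀ k A).comp (dlt k A) = (inl k A).comp (anti k A) := by
  have h1 : (G₀ k A).comp (inl k A) = inr k A := Algebra.TensorProduct.productMap_left _ _
  have h2 : (G₀ k A).comp (inr k A) = (dlt k A).comp (anti k A) :=
    Algebra.TensorProduct.productMap_right _ _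
  rw [← ofConv_toConv (dlt k A), ← inl_mul_inr, comp_mul, h1, h2, ← inv_toConv, ← inl_mul_inr,
    ← ofConv_toConv ((inl k A).comp (anti k A)), ← inv_toConv]
  exact congrArg ofConv (grp_aux (toConv (inl k A)) (toConv (inr k A)))

lemma G₀_comul (c : A) :
    G₀ k A (Coalgebra.comul (R := k) c) = HopfAlgebra.antipode k c ⊗ₜ[k] (1 : A) :=
  AlgHom.congr_fun G₀_comp_dlt c

end hopf

section comodule

variable {k : Type u} [CommRing k] {A : Type v} [CommRing A] [Bialgebra k A]
variable {M : Type w'} [AddCommGroup M] [Module k M] [HopfRep.Comod k A M]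

lemma coact_rTensor_coact (m : M) :
    (HopfRep.Comod.coact (k := k) (A := A)).rTensor A
        (HopfRep.Comod.coact (k := k) (A := A) m) =
      (TensorProduct.assoc k M A A).symm ((Coalgebra.comul (R := k) (A := A)).lTensor M
        (HopfRep.Comod.coact (k := k) (A := A) m)) := by
  have h3 := LinearMap.congr_fun (HopfRep.Comod.coassoc (k := k) (A := A) (V := M)) m
  simp only [LinearMap.comp_apply, LinearEquiv.coe_coe] at h3
  rw [← h3, LinearEquiv.symm_apply_apply]

lemma counit_lTensor_coact (m : M) :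
    (Coalgebra.counit (R := k) (A := A)).lTensor M (HopfRep.Comod.coact (k := k) (A := A) m) =
      m ⊗ₜ[k] (1 : k) :=
  LinearMap.congr_fun (HopfRep.Comod.counit_comp (k := k) (A := A) (V := M)) m

end comodule

section reynolds

variable {k : Type u} [CommRing k] {A : Type v} [CommRing A] [HopfAlgebra k A]
variable {B : Type w} [CommRing B] [Algebra k B] [HopfRep.Comod k A B]
variable {M : Type w'} [AddCommGroup M] [Module k M] [Module B M] [IsScalarTower k B M]
  [HopfRep.Comod k A M]
variable (α : A →ₗ[k] B)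

/-- `x ⊗ u ↦ α u • x` -/
noncomputable def act : M ⊗[k] A →ₗ[k] M :=
  TensorProduct.lift ((Algebra.lsmul k k M : B →ₐ[k] Module.End k M).toLinearMap ∘ₗ α).flip

@[simp] lemma act_tmul (x : M) (u : A) : act α (x ⊗ₜ[k] u) = α u • x := by
  simp [act]

/-- `x ⊗ (u ⊗ v) ↦ α u • x ⊗ v` -/
noncomputable def E : M ⊗[k] (A ⊗[k] A) →ₗ[k] M ⊗[k] A :=
  (act α).rTensor A ∘ₗ (TensorProduct.assoc k M A A).symm.toLinearMap

@[simp] lemma E_tmul (x : M) (u v : A) : E α (x ⊗ₜ[k] (u ⊗ₜ[k] v)) = (α u • x) ⊗ₜ[k] v := by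
  simp [E]

variable (k A) in
/-- `c ⊗ a ↦ S c * a` -/
noncomputable def mulS : A ⊗[k] A →ₗ[k] A :=
  LinearMap.mul' k A ∘ₗ (HopfAlgebra.antipode k (A := A)).rTensor A

@[simp] lemma mulS_tmul (c a : A) : mulS k A (c ⊗ₜ[k] a) = HopfAlgebra.antipode k c * a := by
  simp [mulS]

lemma mulS_comul (c : A) :
    mulS k A (Coalgebra.comul (R := k) c) = algebraMap k A (Coalgebra.counit (R := k) c) :=
  HopfAlgebra.mul_antipode_rTensor_comul_apply c

/-- `(x ⊗ c) ⊗ a ↦ α (S c * a) • x` -/
noncomputable def Lmap2 : (M ⊗[k] A) ⊗[k] A →ₗ[k] M :=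
  act α ∘ₗ (mulS k A).lTensor M ∘ₗ (TensorProduct.assoc k M A A).toLinearMap

@[simp] lemma Lmap2_tmul (x : M) (c a : A) :
    Lmap2 α ((x ⊗ₜ[k] c) ⊗ₜ[k] a) = α (HopfAlgebra.antipode k c * a) • x := by
  simp [Lmap2]

/-- `m ⊗ a ↦ Σ α (S m₁ * a) • m₀` -/
noncomputable def lam : M ⊗[k] A →ₗ[k] M :=
  Lmap2 α ∘ₗ (HopfRep.Comod.coact (k := k) (A := A)).rTensor A

lemma lam_tmul (m : M) (a : A) :
    lam α (m ⊗ₜ[k] a) = Lmap2 α (HopfRep.Comod.coact (k := k) (A := A) m ⊗ₜ[k] a) := rfl

variable (k A) in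
/-- `c ⊗ w ↦ (S c ⊗ 1) * w` -/
noncomputable def mulSw : A ⊗[k] (A ⊗[k] A) →ₗ[k] A ⊗[k] A :=
  LinearMap.mul' k (A ⊗[k] A) ∘ₗ (((inl k A).comp (anti k A)).toLinearMap).rTensor (A ⊗[k] A)

@[simp] lemma mulSw_tmul (c : A) (w : A ⊗[k] A) :
    mulSw k A (c ⊗ₜ[k] w) = (HopfAlgebra.antipode k c ⊗ₜ[k] (1 : A)) * w := by
  simp [mulSw]

/-- `(x ⊗ c) ⊗ w ↦ E (x ⊗ (S c ⊗ 1) * w)` -/
noncomputable def Xi : (M ⊗[k] A) ⊗[k] (A ⊗[k] A) →ₗ[k] M ⊗[k] A :=
  E α ∘ₗ (mulSw k A).lTensor M ∘ₗ (TensorProduct.assoc k M A (A ⊗[k] A)).toLinearMap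

@[simp] lemma Xi_tmul (x : M) (c : A) (w : A ⊗[k] A) :
    Xi α ((x ⊗ₜ[k] c) ⊗ₜ[k] w) =
      E α (x ⊗ₜ[k] ((HopfAlgebra.antipode k c ⊗ₜ[k] (1 : A)) * w)) := by
  simp [Xi]

variable (k A) in
/-- `c' ⊗ a ↦ (α ⊗ id) (Δ (S c' * a))` -/
noncomputable def Pmap : A ⊗[k] A →ₗ[k] B ⊗[k] A :=
  α.rTensor A ∘ₗ Coalgebra.comul (R := k) (A := A) ∘ₗ mulS k A

/-- `((y ⊗ c') ⊗ a) ↦ hmSMul (Pmap (c' ⊗ a)) y` -/
noncomputable def Psi2 : ((M ⊗[k] A) ⊗[k] A) ⊗[k] A →ₗ[k] M ⊗[k] A :=
  TensorProduct.lift ((TameAct.hmSMul k A B M ∘ₗ Pmap k A α).flip) ∘ₗ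
    (TensorProduct.assoc k (M ⊗[k] A) A A).toLinearMap

@[simp] lemma Psi2_tmul (y : M ⊗[k] A) (c' a : A) :
    Psi2 α ((y ⊗ₜ[k] c') ⊗ₜ[k] a) =
      TameAct.hmSMul k A B M (α.rTensor A (Coalgebra.comul (R := k)
        (HopfAlgebra.antipode k c' * a))) y := by
  simp [Psi2, Pmap]

lemma hmSMul_rTensor (w : A ⊗[k] A) (x : M) (c : A) :
    TameAct.hmSMul k A B M (α.rTensor A w) (x ⊗ₜ[k] c) =
      E α (x ⊗ₜ[k] (((1 : A) ⊗ₜ[k] c) * w)) := by
  induction w using TensorProduct.induction_on with
  | zero => simp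
  | tmul u v => simp [mul_comm]
  | add a b ha hb => simp only [map_add, LinearMap.add_apply, mul_add, TensorProduct.tmul_add, ha, hb]

end reynolds

section main

variable {k : Type u} [CommRing k] {A : Type v} [CommRing A] [HopfAlgebra k A]
variable {B : Type w} [CommRing B] [Algebra k B] [HopfRep.Comod k A B]
variable {M : Type w'} [AddCommGroup M] [Module k M] [Module B M] [IsScalarTower k B M]
  [HopfRep.Comod k A M] [TameAct.IsHopfMod k A B M]
variable (α : A →ₗ[k] B)

lemma coact_alpha (hα : Hoch.IsComodHom A α) (u : A) :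
    HopfRep.Comod.coact (k := k) (A := A) (α u) = α.rTensor A (Coalgebra.comul (R := k) u) :=
  LinearMap.congr_fun hα u

/-- Lemma A -/
lemma coact_Lmap2 (hα : Hoch.IsComodHom A α) (t : M ⊗[k] A) (a : A) :
    HopfRep.Comod.coact (k := k) (A := A) (Lmap2 α (t ⊗ₜ[k] a)) =
      Psi2 α (((HopfRep.Comod.coact (k := k) (A := A)).rTensor A t) ⊗ₜ[k] a) := by
  induction t using TensorProduct.induction_on with
  | zero => simp
  | tmul x c =>
    rw [Lmap2_tmul, TameAct.IsHopfMod.coact_smul (k := k) (A := A), coact_alpha α hα,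
      LinearMap.rTensor_tmul, Psi2_tmul]
  | add t₁ t₂ h₁ h₂ => simp only [TensorProduct.add_tmul, map_add, h₁, h₂]

lemma Psi2_assoc_symm (x : M) (z : A ⊗[k] A) (a : A) :
    Psi2 α (((TensorProduct.assoc k M A A).symm (x ⊗ₜ[k] z)) ⊗ₜ[k] a) =
      E α (x ⊗ₜ[k] (G₀ k A z * Coalgebra.comul (R := k) a)) := by
  induction z using TensorProduct.induction_on with
  | zero => simp
  | tmul c c' =>
    rw [TensorProduct.assoc_symm_tmul, Psi2_tmul, hmSMul_rTensor, G₀_tmul, Bialgebra.comul_mul,
      mul_assoc]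
  | add z₁ z₂ h₁ h₂ =>
    simp only [TensorProduct.tmul_add, TensorProduct.add_tmul, map_add, add_mul, h₁, h₂]

/-- Lemma B -/
lemma Psi2_comul (t : M ⊗[k] A) (a : A) :
    Psi2 α (((TensorProduct.assoc k M A A).symm
        ((Coalgebra.comul (R := k) (A := A)).lTensor M t)) ⊗ₜ[k] a) =
      Xi α (t ⊗ₜ[k] Coalgebra.comul (R := k) a) := by
  induction t using TensorProduct.induction_on with
  | zero => simp
  | tmul x c => rw [LinearMap.lTensor_tmul, Psi2_assoc_symm, G₀_comul, Xi_tmul]
  | add t₁ t₂ h₁ h₂ => simp only [TensorProduct.add_tmul, map_add, h₁, h₂]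

/-- Lemma C -/
lemma Lmap2_rTensor (t : M ⊗[k] A) (w : A ⊗[k] A) :
    (Lmap2 α).rTensor A ((TensorProduct.assoc k (M ⊗[k] A) A A).symm (t ⊗ₜ[k] w)) =
      Xi α (t ⊗ₜ[k] w) := by
  induction t using TensorProduct.induction_on with
  | zero => simp
  | tmul x c =>
    induction w using TensorProduct.induction_on with
    | zero => simp
    | tmul a₁ a₂ => simp
    | add w₁ w₂ h₁ h₂ => simp only [TensorProduct.tmul_add, map_add, h₁, h₂]
  | add t₁ t₂ h₁ h₂ => simp only [TensorProduct.add_tmul, map_add, h₁, h₂]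

/-- Lemma C' -/
lemma lam_rTensor (m : M) (w : A ⊗[k] A) :
    (lam α).rTensor A ((TensorProduct.assoc k M A A).symm (m ⊗ₜ[k] w)) =
      (Lmap2 α).rTensor A ((TensorProduct.assoc k (M ⊗[k] A) A A).symm
        (HopfRep.Comod.coact (k := k) (A := A) m ⊗ₜ[k] w)) := by
  induction w using TensorProduct.induction_on with
  | zero => simp
  | tmul a₁ a₂ => simp [lam_tmul]
  | add w₁ w₂ h₁ h₂ => simp only [TensorProduct.tmul_add, map_add, h₁, h₂]

/-- `lam α` is a comodule map from the induced comodule `M ⊗ A` (coaction `id ⊗ Δ`). -/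
theorem coact_lam (hα : Hoch.IsComodHom A α) (y : M ⊗[k] A) :
    HopfRep.Comod.coact (k := k) (A := A) (lam α y) =
      (lam α).rTensor A ((TensorProduct.assoc k M A A).symm
        ((Coalgebra.comul (R := k) (A := A)).lTensor M y)) := by
  induction y using TensorProduct.induction_on with
  | zero => simp
  | tmul m a =>
    rw [lam_tmul, coact_Lmap2 α hα, coact_rTensor_coact, Psi2_comul, LinearMap.lTensor_tmul,
      lam_rTensor, Lmap2_rTensor]
  | add y₁ y₂ h₁ h₂ => simp only [map_add, h₁, h₂]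

lemma Lmap2_assoc_symm_comul (hα1 : α 1 = 1) (t : M ⊗[k] A) :
    Lmap2 α ((TensorProduct.assoc k M A A).symm
        ((Coalgebra.comul (R := k) (A := A)).lTensor M t)) =
      TensorProduct.rid k M ((Coalgebra.counit (R := k) (A := A)).lTensor M t) := by
  induction t using TensorProduct.induction_on with
  | zero => simp
  | tmul x c =>
    have h : ∀ z : A ⊗[k] A, Lmap2 α ((TensorProduct.assoc k M A A).symm (x ⊗ₜ[k] z)) =
        α (mulS k A z) • x := by
      intro z
      induction z using TensorProduct.induction_on with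
      | zero => simp
      | tmul c₁ c₂ => simp
      | add z₁ z₂ h₁ h₂ => simp only [TensorProduct.tmul_add, map_add, add_smul, h₁, h₂]
    rw [LinearMap.lTensor_tmul, h, mulS_comul, Algebra.algebraMap_eq_smul_one, map_smul, hα1,
      LinearMap.lTensor_tmul, TensorProduct.rid_tmul, smul_assoc, one_smul]
  | add t₁ t₂ h₁ h₂ => simp only [map_add, h₁, h₂]

/-- `lam α` is a retraction of the coaction when `α 1 = 1`. -/
theorem lam_coact (hα1 : α 1 = 1) (m : M) :
    lam α (HopfRep.Comod.coact (k := k) (A := A) m) = m := by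
  change Lmap2 α ((HopfRep.Comod.coact (k := k) (A := A)).rTensor A
    (HopfRep.Comod.coact (k := k) (A := A) m)) = m
  rw [coact_rTensor_coact, Lmap2_assoc_symm_comul α hα1, counit_lTensor_coact,
    TensorProduct.rid_tmul, one_smul]

lemma reynolds_eq_lam (m : M) : TameAct.reynolds k A B M α m = lam α (m ⊗ₜ[k] (1 : A)) := by
  have h : ∀ t : M ⊗[k] A, TensorProduct.lift
      ((Algebra.lsmul k k M : B →ₐ[k] Module.End k M).toLinearMap ∘ₗ α ∘ₗ
        (HopfAlgebraStruct.antipode (R := k) (A := A))).flip t = Lmap2 α (t ⊗ₜ[k] (1 : A)) := by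
    intro t
    induction t using TensorProduct.induction_on with
    | zero => simp
    | tmul x c => simp
    | add t₁ t₂ h₁ h₂ => simp only [TensorProduct.add_tmul, map_add, h₁, h₂]
  exact h _

theorem reynolds_mem_fixedPts (hα : Hoch.IsComodHom A α) (m : M) :
    TameAct.reynolds k A B M α m ∈ HopfRep.fixedPts k A M := by
  change HopfRep.Comod.coact (k := k) (A := A) (TameAct.reynolds k A B M α m) =
    TameAct.reynolds k A B M α m ⊗ₜ[k] (1 : A)
  rw [reynolds_eq_lam, coact_lam α hα, LinearMap.lTensor_tmul, Bialgebra.comul_one,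
    Algebra.TensorProduct.one_def, TensorProduct.assoc_symm_tmul, LinearMap.rTensor_tmul]

theorem reynolds_of_mem_fixedPts (hα1 : α 1 = 1) (m : M) (hm : m ∈ HopfRep.fixedPts k A M) :
    TameAct.reynolds k A B M α m = m := by
  have hm' : HopfRep.Comod.coact (k := k) (A := A) m = m ⊗ₜ[k] (1 : A) := hm
  rw [TameAct.reynolds_apply_of_coact_eq k A B M α m m 1 hm']
  have : HopfAlgebraStruct.antipode (R := k) (1 : A) = 1 := HopfAlgebra.antipode_one
  rw [this, hα1, one_smul]

end main

section functorial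

variable {k : Type u} [CommRing k] {A : Type v} [CommRing A] [HopfAlgebra k A]
variable {B : Type w} [CommRing B] [Algebra k B]
variable {M : Type w'} [AddCommGroup M] [Module k M] [Module B M] [IsScalarTower k B M]
  [HopfRep.Comod k A M]
variable {N : Type*} [AddCommGroup N] [Module k N] [Module B N] [IsScalarTower k B N]
  [HopfRep.Comod k A N]
variable (α : A →ₗ[k] B)

/-- the Reynolds map commutes with `B`-linear comodule maps -/
theorem reynolds_map (f : M →ₗ[B] N) (hf : Hoch.IsComodHom A (f.restrictScalars k)) (m : M) :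
    f (TameAct.reynolds k A B M α m) = TameAct.reynolds k A B N α (f m) := by
  have h : ∀ t : M ⊗[k] A, f (TensorProduct.lift
      ((Algebra.lsmul k k M : B →ₐ[k] Module.End k M).toLinearMap ∘ₗ α ∘ₗ
        (HopfAlgebraStruct.antipode (R := k) (A := A))).flip t) =
      TensorProduct.lift
      ((Algebra.lsmul k k N : B →ₐ[k] Module.End k N).toLinearMap ∘ₗ α ∘ₗ
        (HopfAlgebraStruct.antipode (R := k) (A := A))).flip
        ((f.restrictScalars k).rTensor A t) := by
    intro t
    induction t using TensorProduct.induction_on with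
    | zero => simp
    | tmul x c => simp
    | add t₁ t₂ h₁ h₂ => simp only [map_add, h₁, h₂]
  have h2 : HopfRep.Comod.coact (k := k) (A := A) (f m) =
      (f.restrictScalars k).rTensor A (HopfRep.Comod.coact (k := k) (A := A) m) :=
    LinearMap.congr_fun hf m
  change f (TensorProduct.lift _ (HopfRep.Comod.coact (k := k) (A := A) m)) =
    TensorProduct.lift _ (HopfRep.Comod.coact (k := k) (A := A) (f m))
  rw [h, h2]

end functorial

section selfModule

variable {k : Type u} [CommRing k] {A : Type v} [CommRing A] [HopfAlgebra k A]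
variable {B : Type w} [CommRing B] [Algebra k B] [HopfRep.Comod k A B] [GLin.IsCoactAlg k A B]

lemma hmSMul_self (z y : B ⊗[k] A) : TameAct.hmSMul k A B B z y = z * y := by
  induction z using TensorProduct.induction_on with
  | zero => simp
  | tmul b a =>
    induction y using TensorProduct.induction_on with
    | zero => simp
    | tmul b' a' => simp
    | add y₁ y₂ h₁ h₂ => simp only [map_add, mul_add, h₁, h₂]
  | add z₁ z₂ h₁ h₂ => simp only [map_add, LinearMap.add_apply, add_mul, h₁, h₂]

variable (k A B) in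
/-- a comodule algebra is a Hopf module over itself -/
theorem isHopfMod_self : TameAct.IsHopfMod k A B B :=
  ⟨fun b m => by rw [smul_eq_mul, GLin.IsCoactAlg.coact_mul, hmSMul_self]⟩

variable (α : A →ₗ[k] B)

/-- the Reynolds operator of `B` -/
noncomputable abbrev rey : B →ₗ[k] B := TameAct.reynolds k A B B α

lemma rey_mem (hα : Hoch.IsComodHom A α) (b : B) : rey α b ∈ GLin.invariants k A B :=
  haveI := isHopfMod_self k A B
  reynolds_mem_fixedPts α hα b

lemma rey_of_mem (hα1 : α 1 = 1) (c : B) (hc : c ∈ GLin.invariants k A B) : rey α c = c :=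
  haveI := isHopfMod_self k A B
  reynolds_of_mem_fixedPts α hα1 c hc

lemma isComodHom_mulLeft (c : B) (hc : c ∈ GLin.invariants k A B) :
    Hoch.IsComodHom A ((LinearMap.mulLeft B c).restrictScalars k) := by
  have hc' : HopfRep.Comod.coact (k := k) (A := A) c = c ⊗ₜ[k] (1 : A) := hc
  apply LinearMap.ext
  intro b
  have h : ∀ t : B ⊗[k] A, ((LinearMap.mulLeft B c).restrictScalars k).rTensor A t =
      (c ⊗ₜ[k] (1 : A)) * t := by
    intro t
    induction t using TensorProduct.induction_on with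
    | zero => simp
    | tmul x a => simp
    | add t₁ t₂ h₁ h₂ => simp only [map_add, mul_add, h₁, h₂]
  simp only [LinearMap.comp_apply, LinearMap.coe_restrictScalars, LinearMap.mulLeft_apply]
  rw [GLin.IsCoactAlg.coact_mul, hc', h]

lemma rey_mul (c : B) (hc : c ∈ GLin.invariants k A B) (b : B) :
    rey α (c * b) = c * rey α b :=
  (reynolds_map α (LinearMap.mulLeft B c) (isComodHom_mulLeft c hc) b).symm

/-- the Reynolds operator sends an extended ideal into the original ideal -/
lemma rey_mem_of_mem_map (hα : Hoch.IsComodHom A α) (c : Ideal (GLin.invariants k A B)) (y : B)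
    (hy : y ∈ c.map (algebraMap (GLin.invariants k A B) B)) :
    (⟨rey α y, rey_mem α hα y⟩ : GLin.invariants k A B) ∈ c := by
  suffices h : ∀ b : B, (⟨rey α (b * y), rey_mem α hα (b * y)⟩ : GLin.invariants k A B) ∈ c by
    simpa using h 1
  rw [Ideal.map] at hy
  induction hy using Submodule.span_induction with
  | mem y hy =>
    obtain ⟨c₀, hc₀, rfl⟩ := hy
    intro b
    have : (⟨rey α (b * (algebraMap (GLin.invariants k A B) B) c₀), rey_mem α hα _⟩ :
        GLin.invariants k A B) = c₀ * ⟨rey α b, rey_mem α hα b⟩ := by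
      apply Subtype.ext
      change rey α (b * (c₀ : B)) = (c₀ : B) * rey α b
      rw [mul_comm b, rey_mul α _ c₀.2]
    rw [this]
    exact c.mul_mem_right _ hc₀
  | zero =>
    intro b
    have : (⟨rey α (b * 0), rey_mem α hα _⟩ : GLin.invariants k A B) = 0 := by
      apply Subtype.ext
      simp
    rw [this]
    exact c.zero_mem
  | add y₁ y₂ _ _ h₁ h₂ =>
    intro b
    have : (⟨rey α (b * (y₁ + y₂)), rey_mem α hα _⟩ : GLin.invariants k A B) =
        ⟨rey α (b * y₁), rey_mem α hα _⟩ + ⟨rey α (b * y₂), rey_mem α hα _⟩ := by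
      apply Subtype.ext
      change rey α (b * (y₁ + y₂)) = rey α (b * y₁) + rey α (b * y₂)
      rw [mul_add, map_add]
    rw [this]
    exact c.add_mem (h₁ b) (h₂ b)
  | smul b' y _ h =>
    intro b
    have : b * (b' • y) = (b * b') * y := by rw [smul_eq_mul, mul_assoc]
    simp only [this]
    exact h (b * b')

theorem comap_map_eq (hα : Hoch.IsComodHom A α) (hα1 : α 1 = 1)
    (c : Ideal (GLin.invariants k A B)) :
    (c.map (algebraMap (GLin.invariants k A B) B)).comap (algebraMap (GLin.invariants k A B) B)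
      = c := by
  apply le_antisymm _ Ideal.le_comap_map
  intro x hx
  have h := rey_mem_of_mem_map α hα c _ (Ideal.mem_comap.mp hx)
  have : (⟨rey α ((algebraMap (GLin.invariants k A B) B) x), rey_mem α hα _⟩ :
      GLin.invariants k A B) = x := by
    apply Subtype.ext
    exact rey_of_mem α hα1 _ x.2
  rwa [this] at h

end selfModule

section invariantIdeal

variable {k : Type u} [CommRing k] {A : Type v} [CommRing A] [HopfAlgebra k A]
variable {B : Type w} [CommRing B] [Algebra k B] [HopfRep.Comod k A B] [GLin.IsCoactAlg k A B]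
variable (α : A →ₗ[k] B)

/-- the Reynolds operator preserves invariant ideals -/
lemma rey_mem_ideal (b : Ideal B)
    (hb : HopfRep.IsSubcomod (k := k) (A := A) (b.restrictScalars k)) (β : B) (hβ : β ∈ b) :
    rey α β ∈ b := by
  obtain ⟨t, ht⟩ := hb β hβ
  have h : ∀ t : ↥(b.restrictScalars k) ⊗[k] A, TensorProduct.lift
      ((Algebra.lsmul k k B : B →ₐ[k] Module.End k B).toLinearMap ∘ₗ α ∘ₗ
        (HopfAlgebraStruct.antipode (R := k) (A := A))).flip
        ((b.restrictScalars k).subtype.rTensor A t) ∈ b := by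
    intro t
    induction t using TensorProduct.induction_on with
    | zero => simp
    | tmul x a =>
      simp only [LinearMap.rTensor_tmul, Submodule.subtype_apply, TensorProduct.lift.tmul,
        LinearMap.flip_apply, LinearMap.comp_apply, AlgHom.toLinearMap_apply,
        Algebra.lsmul_coe, smul_eq_mul]
      exact b.mul_mem_left _ x.2
    | add t₁ t₂ h₁ h₂ =>
      rw [map_add, map_add]
      exact b.add_mem h₁ h₂
  change TensorProduct.lift _ (HopfRep.Comod.coact (k := k) (A := A) β) ∈ b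
  rw [← ht]
  exact h t

theorem image_zeroLocus (hα : Hoch.IsComodHom A α) (hα1 : α 1 = 1) (b : Ideal B)
    (hb : HopfRep.IsSubcomod (k := k) (A := A) (b.restrictScalars k)) :
    PrimeSpectrum.comap (algebraMap (GLin.invariants k A B) B) ''
        PrimeSpectrum.zeroLocus (b : Set B) =
      PrimeSpectrum.zeroLocus ((b.comap (algebraMap (GLin.invariants k A B) B) :
        Ideal (GLin.invariants k A B)) : Set (GLin.invariants k A B)) := by
  ext p
  constructor
  · rintro ⟨q, hq, rfl⟩
    rw [PrimeSpectrum.mem_zeroLocus] at hq ⊢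
    intro x hx
    exact hq hx
  · intro hp
    rw [PrimeSpectrum.mem_zeroLocus] at hp
    let f' : GLin.invariants k A B →+* B ⧸ b :=
      (Ideal.Quotient.mk b).comp (algebraMap (GLin.invariants k A B) B)
    have key : (p.asIdeal.map f').comap f' = p.asIdeal := by
      apply le_antisymm _ Ideal.le_comap_map
      intro x hx
      have hx1 : f' x ∈ p.asIdeal.map f' := Ideal.mem_comap.mp hx
      have hmm : p.asIdeal.map f' =
          (p.asIdeal.map (algebraMap (GLin.invariants k A B) B)).map (Ideal.Quotient.mk b) :=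
        (Ideal.map_map _ _).symm
      rw [hmm] at hx1
      have hx2 : (algebraMap (GLin.invariants k A B) B) x ∈
          (p.asIdeal.map (algebraMap (GLin.invariants k A B) B)) ⊔ b := by
        have := Ideal.comap_map_of_surjective (Ideal.Quotient.mk b) Ideal.Quotient.mk_surjective
          (p.asIdeal.map (algebraMap (GLin.invariants k A B) B))
        rw [← RingHom.ker_eq_comap_bot, Ideal.mk_ker] at this
        rw [← this]
        exact Ideal.mem_comap.mpr hx1
      obtain ⟨y, hy, β, hβ, hyβ⟩ := Submodule.mem_sup.mp hx2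
      have h1 := rey_mem_of_mem_map α hα p.asIdeal y hy
      have h2 : (⟨rey α β, rey_mem α hα β⟩ : GLin.invariants k A B) ∈ p.asIdeal :=
        hp (Ideal.mem_comap.mpr (rey_mem_ideal α b hb β hβ))
      have h3 : x = (⟨rey α y, rey_mem α hα y⟩ : GLin.invariants k A B) +
          ⟨rey α β, rey_mem α hα β⟩ := by
        apply Subtype.ext
        change (x : B) = rey α y + rey α β
        rw [← map_add, hyβ]
        exact (rey_of_mem α hα1 _ x.2).symm
      rw [h3]
      exact p.asIdeal.add_mem h1 h2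
    obtain ⟨q', hq', hq'p⟩ := (Ideal.comap_map_eq_self_iff_of_isPrime p.asIdeal).mp key
    refine ⟨⟨q'.comap (Ideal.Quotient.mk b), inferInstance⟩, ?_, ?_⟩
    · rw [PrimeSpectrum.mem_zeroLocus]
      intro x hx
      change Ideal.Quotient.mk b x ∈ q'
      rw [Ideal.Quotient.eq_zero_iff_mem.mpr hx]
      exact q'.zero_mem
    · apply PrimeSpectrum.ext
      change (q'.comap (Ideal.Quotient.mk b)).comap (algebraMap (GLin.invariants k A B) B) = _
      rw [Ideal.comap_comap]
      exact hq'p

end invariantIdeal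

section totalIntegral

variable {k : Type u} [CommRing k] {A : Type v} [CommRing A] [HopfAlgebra k A]
variable {B : Type w} [CommRing B] [Algebra k B] [HopfRep.Comod k A B] [GLin.IsCoactAlg k A B]

lemma rTensor_assoc_symm_one (lam' : B ⊗[k] A →ₗ[k] B) (w : A ⊗[k] A) :
    lam'.rTensor A ((TensorProduct.assoc k B A A).symm ((1 : B) ⊗ₜ[k] w)) =
      (lam' ∘ₗ TensorProduct.mk k B A 1).rTensor A w := by
  induction w using TensorProduct.induction_on with
  | zero => simp
  | tmul a₁ a₂ => simp
  | add w₁ w₂ h₁ h₂ => simp only [TensorProduct.tmul_add, map_add, h₁, h₂]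

theorem exists_totalIntegral_iff :
    (∃ α : A →ₗ[k] B, Hoch.IsComodHom A α ∧ α 1 = 1) ↔
      ∃ lam : Hoch.Ind k A B →ₗ[k] B, Hoch.IsComodHom A lam ∧
        lam ∘ₗ Hoch.toInd k A B = LinearMap.id := by
  have := isHopfMod_self k A B
  constructor
  · rintro ⟨α, hα, hα1⟩
    refine ⟨lam α ∘ₗ (Hoch.Ind.equiv k A B).symm.toLinearMap,
      ?_, ?_⟩
    · apply LinearMap.ext
      intro y
      exact coact_lam α hα y
    · apply LinearMap.ext
      intro b
      exact lam_coact α hα1 b
  · rintro ⟨lam, hlam, hlam1⟩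
    let lam' : B ⊗[k] A →ₗ[k] B := lam ∘ₗ (Hoch.Ind.equiv k A B).toLinearMap
    let α : A →ₗ[k] B := lam' ∘ₗ TensorProduct.mk k B A 1
    refine ⟨α, ?_, ?_⟩
    · apply LinearMap.ext
      intro a
      have h1 : HopfRep.Comod.coact (k := k) (A := A) (lam' ((1 : B) ⊗ₜ[k] a)) =
          lam'.rTensor A ((TensorProduct.assoc k B A A).symm
            ((1 : B) ⊗ₜ[k] Coalgebra.comul (R := k) a)) :=
        LinearMap.congr_fun hlam (Hoch.Ind.equiv k A B ((1 : B) ⊗ₜ[k] a))
      change HopfRep.Comod.coact (k := k) (A := A) (lam' ((1 : B) ⊗ₜ[k] a)) =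
        α.rTensor A (Coalgebra.comul (R := k) a)
      rw [h1]
      exact rTensor_assoc_symm_one lam' _
    · change lam' ((1 : B) ⊗ₜ[k] (1 : A)) = 1
      have h1 : lam' (HopfRep.Comod.coact (k := k) (A := A) (1 : B)) = 1 :=
        LinearMap.congr_fun hlam1 (1 : B)
      rwa [GLin.IsCoactAlg.coact_one (k := k) (A := A) (R := B),
        Algebra.TensorProduct.one_def] at h1

end totalIntegral

section homInvariants

variable {k : Type u} [CommRing k] {A : Type v} [CommRing A] [Bialgebra k A]
variable {B : Type w} [CommRing B] [Algebra k B] [HopfRep.Comod k A B] [GLin.IsCoactAlg k A B]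
variable {M : Type w'} [AddCommGroup M] [Module k M] [Module B M] [IsScalarTower k B M]
  [HopfRep.Comod k A M] [TameAct.IsHopfMod k A B M]

lemma hmSMul_tmul_one (m : M) (t : B ⊗[k] A) :
    TameAct.hmSMul k A B M t (m ⊗ₜ[k] (1 : A)) =
      ((LinearMap.toSpanSingleton B M m).restrictScalars k).rTensor A t := by
  induction t using TensorProduct.induction_on with
  | zero => simp
  | tmul b a => simp
  | add t₁ t₂ h₁ h₂ => simp only [map_add, LinearMap.add_apply, h₁, h₂]

theorem hom_invariants :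
    (∀ f : B →ₗ[B] M, Hoch.IsComodHom A (f.restrictScalars k) →
        f 1 ∈ HopfRep.fixedPts k A M) ∧
      ∀ m ∈ HopfRep.fixedPts k A M,
        ∃! f : B →ₗ[B] M, Hoch.IsComodHom A (f.restrictScalars k) ∧ f 1 = m := by
  constructor
  · intro f hf
    have h := LinearMap.congr_fun hf (1 : B)
    simp only [LinearMap.comp_apply, LinearMap.coe_restrictScalars] at h
    rw [GLin.IsCoactAlg.coact_one (k := k) (A := A) (R := B), Algebra.TensorProduct.one_def,
      LinearMap.rTensor_tmul] at h
    exact h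
  · intro m hm
    have hm' : HopfRep.Comod.coact (k := k) (A := A) m = m ⊗ₜ[k] (1 : A) := hm
    refine ⟨LinearMap.toSpanSingleton B M m, ⟨?_, ?_⟩, ?_⟩
    · apply LinearMap.ext
      intro b
      simp only [LinearMap.comp_apply, LinearMap.coe_restrictScalars,
        LinearMap.toSpanSingleton_apply]
      rw [TameAct.IsHopfMod.coact_smul (k := k) (A := A), hm', hmSMul_tmul_one]
    · simp
    · rintro g ⟨_, hg1⟩
      apply LinearMap.ext_ring
      rw [hg1]
      simp

end homInvariants

section cofree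

variable {k : Type u} [CommRing k] {A : Type v} [CommRing A] [Bialgebra k A]
variable {M : Type w} [AddCommGroup M] [Module k M] [HopfRep.Comod k A M]
variable {N : Type w'} [AddCommGroup N] [Module k N]

lemma assoc_symm_rTensor (h : M →ₗ[k] N) (x : M) (w : A ⊗[k] A) :
    (TensorProduct.assoc k N A A).symm (h x ⊗ₜ[k] w) =
      (h.rTensor A).rTensor A ((TensorProduct.assoc k M A A).symm (x ⊗ₜ[k] w)) := by
  induction w using TensorProduct.induction_on with
  | zero => simp
  | tmul a₁ a₂ => simp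
  | add w₁ w₂ h₁ h₂ => simp only [TensorProduct.tmul_add, map_add, h₁, h₂]

lemma coactAux_rTensor (h : M →ₗ[k] N) (t : M ⊗[k] A) :
    (TensorProduct.assoc k N A A).symm
        ((Coalgebra.comul (R := k) (A := A)).lTensor N (h.rTensor A t)) =
      (h.rTensor A).rTensor A ((TensorProduct.assoc k M A A).symm
        ((Coalgebra.comul (R := k) (A := A)).lTensor M t)) := by
  induction t using TensorProduct.induction_on with
  | zero => simp
  | tmul x c =>
    rw [LinearMap.rTensor_tmul, LinearMap.lTensor_tmul, LinearMap.lTensor_tmul, assoc_symm_rTensor]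
  | add t₁ t₂ h₁ h₂ => simp only [map_add, h₁, h₂]

/-- `n ⊗ a ↦ ε a • n` on plain tensors -/
noncomputable def cou : N ⊗[k] A →ₗ[k] N :=
  (TensorProduct.rid k N).toLinearMap ∘ₗ (Coalgebra.counit (R := k) (A := A)).lTensor N

@[simp] lemma cou_tmul (n : N) (a : A) :
    cou (k := k) (A := A) (n ⊗ₜ[k] a) = Coalgebra.counit (R := k) a • n := by
  simp [cou]

lemma cou_rTensor_assoc_symm (n : N) (w : A ⊗[k] A) :
    (cou (k := k) (A := A) (N := N)).rTensor A ((TensorProduct.assoc k N A A).symm (n ⊗ₜ[k] w)) =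
      n ⊗ₜ[k] TensorProduct.lid k A ((Coalgebra.counit (R := k) (A := A)).rTensor A w) := by
  induction w using TensorProduct.induction_on with
  | zero => simp
  | tmul a₁ a₂ => simp [TensorProduct.smul_tmul]
  | add w₁ w₂ h₁ h₂ => simp only [TensorProduct.tmul_add, map_add, h₁, h₂]

lemma cou_rTensor_coactAux (y : N ⊗[k] A) :
    (cou (k := k) (A := A) (N := N)).rTensor A ((TensorProduct.assoc k N A A).symm
      ((Coalgebra.comul (R := k) (A := A)).lTensor N y)) = y := by
  induction y using TensorProduct.induction_on with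
  | zero => simp
  | tmul n a =>
    rw [LinearMap.lTensor_tmul, cou_rTensor_assoc_symm, Coalgebra.rTensor_counit_comul,
      TensorProduct.lid_tmul, one_smul]
  | add y₁ y₂ h₁ h₂ => simp only [map_add, h₁, h₂]

lemma cou_rTensor (h : M →ₗ[k] N) (t : M ⊗[k] A) :
    cou (k := k) (A := A) (h.rTensor A t) = h (cou (k := k) (A := A) t) := by
  induction t using TensorProduct.induction_on with
  | zero => simp
  | tmul x c => simp
  | add t₁ t₂ h₁ h₂ => simp only [map_add, h₁, h₂]

lemma cou_coact (m : M) : cou (k := k) (A := A) (HopfRep.Comod.coact (k := k) (A := A) m) = m := by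
  unfold cou
  rw [LinearMap.comp_apply, counit_lTensor_coact]
  simp

theorem cofree_hom :
    (∀ h : M →ₗ[k] N, Hoch.IsComodHom A
        ((Hoch.Ind.equiv k A N).toLinearMap ∘ₗ h.rTensor A ∘ₗ
          HopfRep.Comod.coact (k := k) (A := A))) ∧
      ∀ f : M →ₗ[k] Hoch.Ind k A N, Hoch.IsComodHom A f →
        ∃! h : M →ₗ[k] N,
          f = (Hoch.Ind.equiv k A N).toLinearMap ∘ₗ h.rTensor A ∘ₗ
            HopfRep.Comod.coact (k := k) (A := A) := by
  constructor
  · intro h
    apply LinearMap.ext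
    intro m
    change (TensorProduct.assoc k N A A).symm ((Coalgebra.comul (R := k) (A := A)).lTensor N
        (h.rTensor A (HopfRep.Comod.coact (k := k) (A := A) m))) =
      (h.rTensor A ∘ₗ HopfRep.Comod.coact (k := k) (A := A)).rTensor A
        (HopfRep.Comod.coact (k := k) (A := A) m)
    rw [coactAux_rTensor, LinearMap.rTensor_comp, LinearMap.comp_apply, coact_rTensor_coact]
  · intro f hf
    obtain ⟨f', rfl⟩ : ∃ f' : M →ₗ[k] N ⊗[k] A, f = (Hoch.Ind.equiv k A N).toLinearMap ∘ₗ f' :=
      ⟨(Hoch.Ind.equiv k A N).symm.toLinearMap ∘ₗ f, by ext m; rfl⟩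
    have hf' : ∀ m : M, (TensorProduct.assoc k N A A).symm
        ((Coalgebra.comul (R := k) (A := A)).lTensor N (f' m)) =
        f'.rTensor A (HopfRep.Comod.coact (k := k) (A := A) m) :=
      fun m => LinearMap.congr_fun hf m
    refine ⟨cou (k := k) (A := A) ∘ₗ f', ?_, ?_⟩
    · apply LinearMap.ext
      intro m
      change f' m = (cou (k := k) (A := A) ∘ₗ f').rTensor A
        (HopfRep.Comod.coact (k := k) (A := A) m)
      rw [LinearMap.rTensor_comp, LinearMap.comp_apply, ← hf', cou_rTensor_coactAux]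
    · intro h' hh'
      apply LinearMap.ext
      intro m
      have : f' m = h'.rTensor A (HopfRep.Comod.coact (k := k) (A := A) m) :=
        LinearMap.congr_fun hh' m
      rw [LinearMap.comp_apply, this, cou_rTensor, cou_coact]

end cofree

end Groth.Agent.Lib.Helper28.TameAct
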