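import Groth.Agent.Lib.Helper28.HilbertFin
import Groth.Agent.Lib.Helper28.ComodIntegral

/-!
# The cofree comodule algebra `A ⊗ H` and finite generation over invariants (helper28)

For a comodule algebra `A` over a commutative Hopf algebra `H`, the algebra `Cof k H A = A ⊗ H` with
coaction `id ⊗ Δ` and `A`-algebra structure given by the coaction `ρ : A → A ⊗ H`.  It is a finite type
`A`-algebra when `H` is of finite type, its invariants are `A ⊗ 1`.  Combined with relative Hilbert
finiteness: a Noetherian comodule algebra over a linearly reductive `H` of finite type is of finite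
type over its invariants (`finiteType_invariants`).
-/

set_option autoImplicit false
set_option linter.unusedSectionVars false
universe u v w

open TensorProduct
open Groth.Agent.Lib.Helper28.HopfIntegral
open Groth.Agent.Lib.Helper28.TameAct

namespace Groth.Agent.Lib.Helper28.CofreeAlg

section defs

variable (k : Type u) [CommRing k] (H : Type v) [CommRing H] [HopfAlgebra k H]
variable (A : Type w) [CommRing A] [Algebra k A] [HopfRep.Comod k H A] [GLin.IsCoactAlg k H A]

/-- type synonym of `A ⊗ H` -/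
def Cof : Type (max w v) := A ⊗[k] H

noncomputable instance : CommRing (Cof k H A) := inferInstanceAs (CommRing (A ⊗[k] H))
noncomputable instance : Algebra k (Cof k H A) := inferInstanceAs (Algebra k (A ⊗[k] H))

/-- identity -/
noncomputable def Cof.equiv : (A ⊗[k] H) ≃ₐ[k] Cof k H A := AlgEquiv.refl

/-- `ρ` as an algebra map into `Cof` -/
noncomputable def Cof.str : A →ₐ[k] Cof k H A :=
  (Cof.equiv k H A).toAlgHom.comp (GLin.coactAlgHom k H A)

noncomputable instance : Algebra A (Cof k H A) := (Cof.str k H A).toRingHom.toAlgebra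

instance : IsScalarTower k A (Cof k H A) :=
  IsScalarTower.of_algebraMap_eq (fun r => ((Cof.str k H A).commutes r).symm)

lemma Cof.algebraMap_apply (a : A) :
    algebraMap A (Cof k H A) a = Cof.equiv k H A (HopfRep.Comod.coact (k := k) (A := H) a) := rfl

/-- the coaction `id ⊗ Δ` as algebra map -/
noncomputable def Cof.coactAlg : A ⊗[k] H →ₐ[k] (A ⊗[k] H) ⊗[k] H :=
  (Algebra.TensorProduct.assoc k k k A H H).symm.toAlgHom.comp
    (Algebra.TensorProduct.map (AlgHom.id k A) (Bialgebra.comulAlgHom k H))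

lemma Cof.coactAlg_eq :
    (Cof.coactAlg k H A).toLinearMap = Hoch.Ind.coactAux k H A := by
  apply TensorProduct.ext'
  intro a h
  simp only [AlgHom.toLinearMap_apply, Hoch.Ind.coactAux_tmul]
  change (Algebra.TensorProduct.assoc k k k A H H).symm (a ⊗ₜ[k] Coalgebra.comul (R := k) h) = _
  generalize Coalgebra.comul (R := k) h = w
  induction w using TensorProduct.induction_on with
  | zero => simp
  | tmul x y => rfl
  | add x y hx hy => simp only [TensorProduct.tmul_add, map_add, hx, hy]

noncomputable instance Cof.comod : HopfRep.Comod k H (Cof k H A) where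
  coact := Hoch.Ind.coactAux k H A
  coassoc := (Hoch.Ind.comod k H A).coassoc
  counit_comp := (Hoch.Ind.comod k H A).counit_comp

lemma Cof.coact_apply (t : A ⊗[k] H) :
    HopfRep.Comod.coact (k := k) (A := H) (Cof.equiv k H A t) = Cof.coactAlg k H A t := by
  change Hoch.Ind.coactAux k H A t = _
  rw [← Cof.coactAlg_eq]
  rfl

instance Cof.isCoactAlg : GLin.IsCoactAlg k H (Cof k H A) where
  coact_one := by
    have h := Cof.coact_apply k H A 1
    have e : Cof.equiv k H A 1 = 1 := map_one _
    rw [e, map_one (Cof.coactAlg k H A)] at h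
    exact h
  coact_mul f g := by
    obtain ⟨f', rfl⟩ := (Cof.equiv k H A).surjective f
    obtain ⟨g', rfl⟩ := (Cof.equiv k H A).surjective g
    rw [← map_mul, Cof.coact_apply, Cof.coact_apply, Cof.coact_apply, map_mul]
    rfl

/-- the structure map is a comodule map (this is coassociativity) -/
lemma Cof.isComodHom_str :
    Hoch.IsComodHom H (IsScalarTower.toAlgHom k A (Cof k H A)).toLinearMap := by
  apply LinearMap.ext
  intro a
  change Hoch.Ind.coactAux k H A (HopfRep.Comod.coact (k := k) (A := H) a) =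
    (HopfRep.Comod.coact (k := k) (A := H)).rTensor H (HopfRep.Comod.coact (k := k) (A := H) a)
  rw [coact_rTensor_coact]
  rfl

end defs

section finiteType

variable (k : Type u) [CommRing k] (H : Type v) [CommRing H] [HopfAlgebra k H]
variable (A : Type w) [CommRing A] [Algebra k A] [HopfRep.Comod k H A] [GLin.IsCoactAlg k H A]

/-- `h₁ ⊗ h₂ ↦ h₁ * S h₂` -/
noncomputable def mS : H ⊗[k] H →ₗ[k] H :=
  LinearMap.mul' k H ∘ₗ (HopfAlgebra.antipode k (A := H)).lTensor H

/-- `(a ⊗ h₁) ⊗ h₂ ↦ a ⊗ h₁ * S h₂` -/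
noncomputable def Q : (A ⊗[k] H) ⊗[k] H →ₗ[k] A ⊗[k] H :=
  (mS k H).lTensor A ∘ₗ (TensorProduct.assoc k A H H).toLinearMap

lemma Q_tmul (t : A ⊗[k] H) (h : H) :
    Q k H A (t ⊗ₜ[k] h) = t * ((1 : A) ⊗ₜ[k] HopfAlgebra.antipode k h) := by
  induction t using TensorProduct.induction_on with
  | zero => simp
  | tmul a h' => simp [Q, mS]
  | add x y hx hy => simp only [TensorProduct.add_tmul, map_add, add_mul, hx, hy]

lemma Q_coact (a : A) :
    Q k H A ((HopfRep.Comod.coact (k := k) (A := H)).rTensor H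
      (HopfRep.Comod.coact (k := k) (A := H) a)) = a ⊗ₜ[k] (1 : H) := by
  rw [coact_rTensor_coact]
  unfold Q
  rw [LinearMap.comp_apply, LinearEquiv.coe_coe, LinearEquiv.apply_symm_apply,
    ← LinearMap.comp_apply, ← LinearMap.lTensor_comp]
  have h1 : mS k H ∘ₗ Coalgebra.comul (R := k) (A := H) =
      Algebra.linearMap k H ∘ₗ Coalgebra.counit (R := k) (A := H) :=
    HopfAlgebra.mul_antipode_lTensor_comul
  rw [h1, LinearMap.lTensor_comp, LinearMap.comp_apply, counit_lTensor_coact]
  simp

/-- `a ⊗ h ↦ ρ(a) * (1 ⊗ h)` as `A`-algebra map from the base change -/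
noncomputable def Phi : A ⊗[k] H →ₐ[A] Cof k H A :=
  Algebra.TensorProduct.lift (Algebra.ofId A (Cof k H A))
    ((Cof.equiv k H A).toAlgHom.comp Algebra.TensorProduct.includeRight)
    (fun _ _ => Commute.all _ _)

lemma Phi_tmul (a : A) (h : H) :
    Phi k H A (a ⊗ₜ[k] h) =
      Cof.equiv k H A (HopfRep.Comod.coact (k := k) (A := H) a * ((1 : A) ⊗ₜ[k] h)) := by
  simp [Phi, Cof.algebraMap_apply, Algebra.ofId_apply]

lemma Phi_surjective : Function.Surjective (Phi k H A) := by
  have h1 : ∀ t : A ⊗[k] H, Cof.equiv k H A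
      (Q k H A ((HopfRep.Comod.coact (k := k) (A := H)).rTensor H t)) ∈ (Phi k H A).range := by
    intro t
    induction t using TensorProduct.induction_on with
    | zero => simp
    | tmul a h =>
      rw [LinearMap.rTensor_tmul, Q_tmul]
      exact ⟨a ⊗ₜ[k] HopfAlgebra.antipode k h, Phi_tmul k H A a _⟩
    | add x y hx hy =>
      simp only [map_add]
      exact Subalgebra.add_mem _ hx hy
  intro y
  obtain ⟨t, rfl⟩ := (Cof.equiv k H A).surjective y
  change Cof.equiv k H A t ∈ (Phi k H A).range
  induction t using TensorProduct.induction_on with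
  | zero => simp
  | tmul a h =>
    have h2 := h1 (HopfRep.Comod.coact (k := k) (A := H) a)
    rw [Q_coact] at h2
    have h3 : Cof.equiv k H A ((1 : A) ⊗ₜ[k] h) ∈ (Phi k H A).range := by
      refine ⟨(1 : A) ⊗ₜ[k] h, ?_⟩
      change Phi k H A ((1 : A) ⊗ₜ[k] h) = _
      rw [Phi_tmul, GLin.IsCoactAlg.coact_one (k := k) (A := H) (R := A), one_mul]
    have h4 := Subalgebra.mul_mem _ h2 h3
    rw [← map_mul, Algebra.TensorProduct.tmul_mul_tmul, mul_one, one_mul] at h4
    exact h4
  | add x y hx hy =>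
    simp only [map_add]
    exact Subalgebra.add_mem _ hx hy

/-- `h₁ ⊗ h₂ ↦ S h₁ * h₂` -/
noncomputable def mS' : H ⊗[k] H →ₗ[k] H :=
  LinearMap.mul' k H ∘ₗ (HopfAlgebra.antipode k (A := H)).rTensor H

/-- `(a ⊗ h₁) ⊗ h₂ ↦ a ⊗ S h₁ * h₂` -/
noncomputable def Q' : (A ⊗[k] H) ⊗[k] H →ₗ[k] A ⊗[k] H :=
  (mS' k H).lTensor A ∘ₗ (TensorProduct.assoc k A H H).toLinearMap

lemma Q'_tmul (t : A ⊗[k] H) (h : H) :
    Q' k H A (t ⊗ₜ[k] h) =
      (HopfAlgebra.antipode k (A := H)).lTensor A t * ((1 : A) ⊗ₜ[k] h) := by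
  induction t using TensorProduct.induction_on with
  | zero => simp
  | tmul a h' => simp [Q', mS']
  | add x y hx hy => simp only [TensorProduct.add_tmul, map_add, add_mul, hx, hy]

lemma Q'_coact (a : A) :
    Q' k H A ((HopfRep.Comod.coact (k := k) (A := H)).rTensor H
      (HopfRep.Comod.coact (k := k) (A := H) a)) = a ⊗ₜ[k] (1 : H) := by
  rw [coact_rTensor_coact]
  unfold Q'
  rw [LinearMap.comp_apply, LinearEquiv.coe_coe, LinearEquiv.apply_symm_apply,
    ← LinearMap.comp_apply, ← LinearMap.lTensor_comp]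
  have h1 : mS' k H ∘ₗ Coalgebra.comul (R := k) (A := H) =
      Algebra.linearMap k H ∘ₗ Coalgebra.counit (R := k) (A := H) :=
    HopfAlgebra.mul_antipode_rTensor_comul
  rw [h1, LinearMap.lTensor_comp, LinearMap.comp_apply, counit_lTensor_coact]
  simp

/-- inverse shear `a ⊗ h ↦ a₀ ⊗ S(a₁) h` -/
noncomputable def Psi : A ⊗[k] H →ₐ[k] A ⊗[k] H :=
  Algebra.TensorProduct.productMap
    ((Algebra.TensorProduct.map (AlgHom.id k A) (HopfAlgebra.antipodeAlgHom k H)).comp
      (GLin.coactAlgHom k H A))
    Algebra.TensorProduct.includeRight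

lemma map_id_antipode (t : A ⊗[k] H) :
    Algebra.TensorProduct.map (AlgHom.id k A) (HopfAlgebra.antipodeAlgHom k H) t =
      (HopfAlgebra.antipode k (A := H)).lTensor A t := by
  induction t using TensorProduct.induction_on with
  | zero => simp
  | tmul a h => simp
  | add x y hx hy => simp only [map_add, hx, hy]

lemma Psi_eq (t : A ⊗[k] H) :
    Psi k H A t = Q' k H A ((HopfRep.Comod.coact (k := k) (A := H)).rTensor H t) := by
  induction t using TensorProduct.induction_on with
  | zero => simp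
  | tmul a h =>
    rw [LinearMap.rTensor_tmul, Q'_tmul, ← map_id_antipode]
    simp [Psi]
  | add x y hx hy => simp only [map_add, hx, hy]

lemma Psi_coact (a : A) :
    Psi k H A (HopfRep.Comod.coact (k := k) (A := H) a) = a ⊗ₜ[k] (1 : H) := by
  rw [Psi_eq, Q'_coact]

lemma Psi_Phi (t : A ⊗[k] H) : Psi k H A ((Cof.equiv k H A).symm (Phi k H A t)) = t := by
  induction t using TensorProduct.induction_on with
  | zero => simp
  | tmul a h =>
    have h1 : Psi k H A ((1 : A) ⊗ₜ[k] h) = (1 : A) ⊗ₜ[k] h := by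
      rw [Psi, Algebra.TensorProduct.productMap_right_apply]
      rfl
    rw [Phi_tmul, AlgEquiv.symm_apply_apply, map_mul, Psi_coact, h1,
      Algebra.TensorProduct.tmul_mul_tmul, mul_one, one_mul]
  | add x y hx hy => simp only [map_add, hx, hy]

lemma Phi_injective : Function.Injective (Phi k H A) := by
  intro x y hxy
  rw [← Psi_Phi k H A x, ← Psi_Phi k H A y, hxy]

lemma Phi_bijective : Function.Bijective (Phi k H A) :=
  ⟨Phi_injective k H A, Phi_surjective k H A⟩

lemma tmul_one_mem_nonZeroDivisors [Module.Flat k H] (s : A) (hs : s ∈ nonZeroDivisors A) :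
    s ⊗ₜ[k] (1 : H) ∈ nonZeroDivisors (A ⊗[k] H) := by
  have key : ∀ x : A ⊗[k] H, (LinearMap.mulRight k s).rTensor H x = x * (s ⊗ₜ[k] (1 : H)) := by
    intro x
    induction x using TensorProduct.induction_on with
    | zero => simp
    | tmul a h => simp
    | add x y hx' hy' => simp only [map_add, add_mul, hx', hy']
  rw [mem_nonZeroDivisors_iff_right]
  intro x hx
  have hinj : Function.Injective (LinearMap.mulRight k s) := fun a b hab =>
    (mul_cancel_right_mem_nonZeroDivisors hs).mp hab
  have h2 := Module.Flat.rTensor_preserves_injective_linearMap (M := H) _ hinj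
  apply h2
  rw [map_zero, key, hx]

/-- the coaction preserves non-zero-divisors -/
lemma coact_mem_nonZeroDivisors [Module.Flat k H] (s : A) (hs : s ∈ nonZeroDivisors A) :
    HopfRep.Comod.coact (k := k) (A := H) s ∈ nonZeroDivisors (A ⊗[k] H) := by
  have h1 := tmul_one_mem_nonZeroDivisors k H A s hs
  rw [mem_nonZeroDivisors_iff_right] at h1 ⊢
  intro x hx
  obtain ⟨u, hu⟩ := Phi_surjective k H A (Cof.equiv k H A x)
  have hPs : Phi k H A (s ⊗ₜ[k] (1 : H)) =
      Cof.equiv k H A (HopfRep.Comod.coact (k := k) (A := H) s) := by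
    rw [Phi_tmul, ← Algebra.TensorProduct.one_def, mul_one]
  have h3 : Phi k H A (u * (s ⊗ₜ[k] (1 : H))) = 0 := by
    rw [map_mul, hu, hPs, ← map_mul, hx, map_zero]
  have h4 : u * (s ⊗ₜ[k] (1 : H)) = 0 := Phi_injective k H A (h3.trans (map_zero _).symm)
  have h5 := h1 u h4
  rw [h5, map_zero] at hu
  exact (Cof.equiv k H A).injective ((map_zero _).trans hu).symm

instance Cof.finiteType [Algebra.FiniteType k H] : Algebra.FiniteType A (Cof k H A) :=
  Algebra.FiniteType.of_surjective (Phi k H A) (Phi_surjective k H A)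

end finiteType

section main

variable {k : Type u} [Field k] {H : Type v} [CommRing H] [HopfAlgebra k H]
variable {A : Type w} [CommRing A] [Algebra k A] [HopfRep.Comod k H A] [GLin.IsCoactAlg k H A]

variable (k H A) in
/-- `a ⊗ h ↦ ε(h) a` -/
noncomputable def theta : Cof k H A →ₐ[k] A :=
  ((Algebra.TensorProduct.rid k k A).toAlgHom.comp
    (Algebra.TensorProduct.map (AlgHom.id k A) (Bialgebra.counitAlgHom k H))).comp
      (Cof.equiv k H A).symm.toAlgHom

lemma theta_eq_cou (t : A ⊗[k] H) :
    theta k H A (Cof.equiv k H A t) = cou (k := k) (A := H) t := by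
  induction t using TensorProduct.induction_on with
  | zero => simp
  | tmul a h =>
    rw [cou_tmul]
    change (Algebra.TensorProduct.rid k k A) ((Algebra.TensorProduct.map (AlgHom.id k A)
      (Bialgebra.counitAlgHom k H)) (a ⊗ₜ[k] h)) = _
    simp
  | add x y hx hy => simp only [map_add, hx, hy]

lemma theta_algebraMap (a : A) : theta k H A (algebraMap A (Cof k H A) a) = a := by
  rw [Cof.algebraMap_apply, theta_eq_cou, cou_coact]

lemma tmul_one_mem (a : A) :
    Cof.equiv k H A (a ⊗ₜ[k] (1 : H)) ∈ GLin.invariants k H (Cof k H A) := by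
  change HopfRep.Comod.coact (k := k) (A := H) (Cof.equiv k H A (a ⊗ₜ[k] (1 : H))) = _
  rw [Cof.coact_apply]
  simp only [Cof.coactAlg, AlgEquiv.toAlgHom_eq_coe, AlgHom.coe_comp, AlgHom.coe_coe,
    Function.comp_apply, Algebra.TensorProduct.map_tmul, AlgHom.coe_id, id_eq, map_one]
  rfl

theorem finiteType_invariants [Algebra.FiniteType k H] [IsNoetherianRing A]
    (I : H →ₗ[k] k) (hI : IsIntegral I) :
    Algebra.FiniteType ↥(GLin.invariants k H A) A := by
  classical
  obtain ⟨s, hs, h⟩ := HilbertFin.exists_finset_adjoin_rel (k := k) (H := H) (K := A)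
    (R' := Cof k H A) I hI (Cof.isComodHom_str k H A)
  refine ⟨⟨s.image (theta k H A), ?_⟩⟩
  rw [eq_top_iff]
  intro a _
  have ha := h _ (tmul_one_mem (k := k) (H := H) a)
  have h2 : theta k H A (Cof.equiv k H A (a ⊗ₜ[k] (1 : H))) ∈
      (Algebra.adjoin k (⇑(algebraMap A (Cof k H A)) '' ↑(GLin.invariants k H A) ∪ ↑s)).map
        (theta k H A) := ⟨_, ha, rfl⟩
  rw [AlgHom.map_adjoin, theta_eq_cou, cou_tmul, Bialgebra.counit_one, one_smul] at h2
  have h3 : Algebra.adjoin k (⇑(theta k H A) ''
      (⇑(algebraMap A (Cof k H A)) '' ↑(GLin.invariants k H A) ∪ ↑s)) ≤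
      (Algebra.adjoin ↥(GLin.invariants k H A)
        ((s.image (theta k H A) : Finset A) : Set A)).restrictScalars k := by
    apply Algebra.adjoin_le
    rintro _ ⟨x, (⟨c, hc, rfl⟩ | hx), rfl⟩
    · rw [theta_algebraMap]
      exact Subalgebra.algebraMap_mem (Algebra.adjoin ↥(GLin.invariants k H A)
        ((s.image (theta k H A) : Finset A) : Set A)) ⟨c, hc⟩
    · apply Algebra.subset_adjoin
      exact Finset.mem_coe.mpr (Finset.mem_image_of_mem _ hx)
  exact h3 h2

end main

end Groth.Agent.Lib.Helper28.CofreeAlg
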