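import Mathlib

/-!
# Hopf ideals of a flat Hopf algebra over a Dedekind domain and of its generic fibre
(helper28)
-/

set_option autoImplicit false
universe u
open TensorProduct

namespace Groth.Agent.Lib.Helper28.DedekindHopf

section Basic

variable (R : Type u) [CommRing R] [IsDomain R] (K : Type u) [Field K] [Algebra R K]
  [IsFractionRing R K] (A : Type u) [CommRing A] [Algebra R A]

/-- every element of `K ⊗ A` has a denominator -/
theorem exists_denom (x : K ⊗[R] A) :
    ∃ s : R, s ≠ 0 ∧ ∃ a : A, s • x = (1 : K) ⊗ₜ[R] a := by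
  induction x using TensorProduct.induction_on with
  | zero => exact ⟨1, one_ne_zero, 0, by simp⟩
  | tmul k a =>
    obtain ⟨r, s, hs, rfl⟩ := IsFractionRing.div_surjective (A := R) k
    refine ⟨s, nonZeroDivisors.ne_zero hs, r • a, ?_⟩
    have hs' : algebraMap R K s ≠ 0 := by
      intro h
      exact nonZeroDivisors.ne_zero hs ((IsFractionRing.injective R K)
        (h.trans (map_zero _).symm))
    rw [TensorProduct.smul_tmul', Algebra.smul_def, mul_div_cancel₀ _ hs',
      ← mul_one (algebraMap R K r), ← Algebra.smul_def, TensorProduct.smul_tmul]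
  | add x y hx hy =>
    obtain ⟨s₁, hs₁, a₁, h₁⟩ := hx
    obtain ⟨s₂, hs₂, a₂, h₂⟩ := hy
    refine ⟨s₁ * s₂, mul_ne_zero hs₁ hs₂, s₂ • a₁ + s₁ • a₂, ?_⟩
    have e1 : (s₁ * s₂) • x = s₂ • (s₁ • x) := by rw [smul_smul, mul_comm]
    have e2 : (s₁ * s₂) • y = s₁ • (s₂ • y) := by rw [smul_smul]
    rw [smul_add, e1, e2, h₁, h₂, TensorProduct.tmul_add, TensorProduct.tmul_smul,
      TensorProduct.tmul_smul]

/-- `K`-scalars act on `K ⊗ A` through multiplication by `k ⊗ 1` -/
lemma smul_eq_mul (k : K) (x : K ⊗[R] A) : k • x = (k ⊗ₜ[R] (1 : A)) * x := by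
  induction x using TensorProduct.induction_on with
  | zero => simp
  | tmul l a => rw [TensorProduct.smul_tmul', Algebra.TensorProduct.tmul_mul_tmul, one_mul,
      _root_.smul_eq_mul]
  | add x y hx hy => rw [smul_add, mul_add, hx, hy]

lemma rsmul_eq_mul (r : R) (x : K ⊗[R] A) : r • x = ((algebraMap R K r) ⊗ₜ[R] (1 : A)) * x := by
  rw [← smul_eq_mul, algebraMap_smul]

/-- an ideal of `K ⊗ A` is generated by its trace on `A` -/
theorem map_comap_eq (J : Ideal (K ⊗[R] A)) :
    Ideal.map (Algebra.TensorProduct.includeRight : A →ₐ[R] K ⊗[R] A)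
      (Ideal.comap (Algebra.TensorProduct.includeRight : A →ₐ[R] K ⊗[R] A) J) = J := by
  apply le_antisymm Ideal.map_comap_le
  intro x hx
  obtain ⟨s, hs, a, ha⟩ := exists_denom R K A x
  have hs' : algebraMap R K s ≠ 0 := by
    intro h
    exact hs ((IsFractionRing.injective R K) (h.trans (map_zero _).symm))
  have ha' : a ∈ Ideal.comap (Algebra.TensorProduct.includeRight : A →ₐ[R] K ⊗[R] A) J := by
    rw [Ideal.mem_comap, Algebra.TensorProduct.includeRight_apply, ← ha, rsmul_eq_mul]
    exact Ideal.mul_mem_left _ _ hx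
  have hx' : x = ((algebraMap R K s)⁻¹ ⊗ₜ[R] (1 : A)) * ((1 : K) ⊗ₜ[R] a) := by
    rw [← ha, rsmul_eq_mul, ← mul_assoc, Algebra.TensorProduct.tmul_mul_tmul, inv_mul_cancel₀ hs',
      one_mul]
    exact (one_mul x).symm
  rw [hx']
  exact Ideal.mul_mem_left _ _ (Ideal.mem_map_of_mem _ ha')

/-- an ideal of `A` with flat quotient is saturated in `K ⊗ A` -/
theorem comap_map_eq (J' : Ideal A) [Module.Flat R (A ⧸ J')] :
    Ideal.comap (Algebra.TensorProduct.includeRight : A →ₐ[R] K ⊗[R] A)
      (Ideal.map (Algebra.TensorProduct.includeRight : A →ₐ[R] K ⊗[R] A) J') = J' := by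
  apply le_antisymm _ Ideal.le_comap_map
  intro a ha
  rw [Ideal.mem_comap] at ha
  have hker := Algebra.TensorProduct.lTensor_ker (A := K) (Ideal.Quotient.mkₐ R J')
    (Ideal.Quotient.mkₐ_surjective R J')
  have hk2 : RingHom.ker (Ideal.Quotient.mkₐ R J') = J' := Ideal.Quotient.mkₐ_ker R J'
  rw [hk2] at hker
  rw [← hker, RingHom.mem_ker, Algebra.TensorProduct.includeRight_apply,
    Algebra.TensorProduct.map_tmul] at ha
  have hinj : Function.Injective (Algebra.TensorProduct.includeRight : (A ⧸ J') →ₐ[R] K ⊗[R] (A ⧸ J')) :=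
    Algebra.TensorProduct.includeRight_injective (IsFractionRing.injective R K)
  have h0 : Ideal.Quotient.mkₐ R J' a = 0 := by
    apply hinj
    rw [Algebra.TensorProduct.includeRight_apply, map_zero]
    exact ha
  exact Ideal.Quotient.eq_zero_iff_mem.1 h0

end Basic

section Hopf

variable (R : Type u) [CommRing R] [IsDomain R] (K : Type u) [Field K] [Algebra R K]
  [IsFractionRing R K] (A : Type u) [CommRing A] [HopfAlgebra R A]

variable (J' : Ideal A) (J : Ideal (K ⊗[R] A))
  (h : J' ≤ Ideal.comap (Algebra.TensorProduct.includeRight : A →ₐ[R] K ⊗[R] A) J)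

/-- the map `A ⧸ J' → (K ⊗ A) ⧸ J` -/
noncomputable def iotaBar : (A ⧸ J'.restrictScalars R) →ₗ[R] ((K ⊗[R] A) ⧸ J.restrictScalars K) :=
  (J'.restrictScalars R).liftQ
    (((J.restrictScalars K).mkQ.restrictScalars R) ∘ₗ
      (Algebra.TensorProduct.includeRight : A →ₐ[R] K ⊗[R] A).toLinearMap)
    (by
      intro a ha
      rw [LinearMap.mem_ker, LinearMap.comp_apply]
      exact (Submodule.Quotient.mk_eq_zero _).2 (h ha))

lemma iotaBar_mk (a : A) :
    iotaBar R K A J' J h ((J'.restrictScalars R).mkQ a) =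
      (J.restrictScalars K).mkQ ((1 : K) ⊗ₜ[R] a) := rfl

/-- the comparison map `(A ⧸ J') ⊗ (A ⧸ J') → ((K ⊗ A) ⧸ J) ⊗[K] ((K ⊗ A) ⧸ J)` -/
noncomputable def Theta : (A ⧸ J'.restrictScalars R) ⊗[R] (A ⧸ J'.restrictScalars R) →ₗ[R]
    ((K ⊗[R] A) ⧸ J.restrictScalars K) ⊗[K] ((K ⊗[R] A) ⧸ J.restrictScalars K) :=
  ((IsLocalization.moduleTensorEquiv (nonZeroDivisors R) K
      ((K ⊗[R] A) ⧸ J.restrictScalars K)
      ((K ⊗[R] A) ⧸ J.restrictScalars K)).symm.restrictScalars R).toLinearMap ∘ₗ
    TensorProduct.map (iotaBar R K A J' J h) (iotaBar R K A J' J h)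

lemma Theta_tmul (x y : A ⧸ J'.restrictScalars R) :
    Theta R K A J' J h (x ⊗ₜ[R] y) =
      iotaBar R K A J' J h x ⊗ₜ[K] iotaBar R K A J' J h y := by
  unfold Theta
  rw [LinearMap.comp_apply, TensorProduct.map_tmul]
  exact (LinearEquiv.symm_apply_eq _).2 rfl

/-- the key compatibility of comultiplications -/
theorem map_mkQ_comul (a : A) :
    TensorProduct.map (J.restrictScalars K).mkQ (J.restrictScalars K).mkQ
        (Coalgebra.comul (R := K) ((1 : K) ⊗ₜ[R] a)) =
      Theta R K A J' J h (TensorProduct.map (J'.restrictScalars R).mkQ (J'.restrictScalars R).mkQ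
        (Coalgebra.comul (R := R) a)) := by
  rw [TensorProduct.comul_tmul, CommSemiring.comul_apply]
  generalize Coalgebra.comul (R := R) a = t
  induction t using TensorProduct.induction_on with
  | zero => simp
  | tmul b c =>
    rw [TensorProduct.AlgebraTensorModule.tensorTensorTensorComm_tmul, TensorProduct.map_tmul,
      TensorProduct.map_tmul, Theta_tmul, iotaBar_mk, iotaBar_mk]
  | add x y hx hy =>
    rw [TensorProduct.tmul_add, map_add, map_add, hx, hy, map_add, map_add]

lemma counit_one_tmul (a : A) :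
    Coalgebra.counit (R := K) ((1 : K) ⊗ₜ[R] a) = algebraMap R K (Coalgebra.counit (R := R) a) := by
  rw [TensorProduct.counit_tmul, CommSemiring.counit_apply, Algebra.smul_def, mul_one]

lemma antipode_one_tmul (a : A) :
    HopfAlgebra.antipode K ((1 : K) ⊗ₜ[R] a) = (1 : K) ⊗ₜ[R] HopfAlgebra.antipode R a := by
  rw [TensorProduct.antipode_def]
  rfl

/-- the trace on `A` of a Hopf ideal of the generic fibre is a Hopf ideal with flat quotient -/
theorem comap_isHopfIdeal [IsDedekindDomain R] [J.IsHopfIdeal K] :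
    (Ideal.comap (Algebra.TensorProduct.includeRight : A →ₐ[R] K ⊗[R] A) J).IsHopfIdeal R ∧
      Module.Flat R (A ⧸ Ideal.comap (Algebra.TensorProduct.includeRight : A →ₐ[R] K ⊗[R] A) J) := by
  set J₀ := Ideal.comap (Algebra.TensorProduct.includeRight : A →ₐ[R] K ⊗[R] A) J with hJ₀
  have hinj : Function.Injective (iotaBar R K A J₀ J le_rfl) := by
    rw [injective_iff_map_eq_zero]
    intro x hx
    obtain ⟨a, rfl⟩ := (J₀.restrictScalars R).mkQ_surjective x
    rw [iotaBar_mk, Submodule.mkQ_apply, Submodule.Quotient.mk_eq_zero] at hx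
    rw [Submodule.mkQ_apply, Submodule.Quotient.mk_eq_zero]
    exact hx
  haveI : Module.Flat R K := IsLocalization.flat K (nonZeroDivisors R)
  haveI : Module.Flat R ((K ⊗[R] A) ⧸ J.restrictScalars K) := Module.Flat.trans R K _
  haveI : Module.IsTorsionFree R ((K ⊗[R] A) ⧸ J.restrictScalars K) := by
    rw [Submodule.isTorsionFree_iff_torsion_eq_bot]
    exact Module.Flat.torsion_eq_bot
  haveI : Module.IsTorsionFree R (A ⧸ J₀.restrictScalars R) :=
    Function.Injective.moduleIsTorsionFree (iotaBar R K A J₀ J le_rfl) hinj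
      (fun r m => map_smul _ r m)
  haveI : Module.Flat R (A ⧸ J₀.restrictScalars R) := inferInstance
  refine ⟨?_, Module.Flat.of_linearEquiv (Submodule.Quotient.restrictScalarsEquiv R J₀).symm⟩
  have hΘ : Function.Injective (Theta R K A J₀ J le_rfl) := by
    unfold Theta
    rw [LinearMap.coe_comp]
    exact (LinearEquiv.injective _).comp
      (TensorProduct.map_injective_of_flat_flat _ _ hinj hinj)
  refine { toIsCoideal := ⟨?_, ?_⟩, antipode_mem := ?_ }
  · intro a ha
    have h1 : Coalgebra.counit (R := K) ((1 : K) ⊗ₜ[R] a) = 0 :=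
      Submodule.IsCoideal.counit_eq_zero (I := J.restrictScalars K) ha
    rw [counit_one_tmul] at h1
    exact (IsFractionRing.injective R K) (h1.trans (map_zero _).symm)
  · intro a ha
    have h1 := Submodule.IsCoideal.map_mkQ_comul_eq_zero (I := J.restrictScalars K)
      (x := (1 : K) ⊗ₜ[R] a) ha
    rw [map_mkQ_comul R K A J₀ J le_rfl] at h1
    exact hΘ (h1.trans (map_zero _).symm)
  · intro a ha
    have h1 : HopfAlgebra.antipode K ((1 : K) ⊗ₜ[R] a) ∈ J :=
      Ideal.IsHopfIdeal.antipode_mem (R := K) ha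
    rw [antipode_one_tmul] at h1
    exact h1

/-- the ideal generated in the generic fibre by a Hopf ideal with flat quotient is a Hopf ideal -/
theorem map_isHopfIdeal [J'.IsHopfIdeal R] [Module.Flat R (A ⧸ J')] :
    (Ideal.map (Algebra.TensorProduct.includeRight : A →ₐ[R] K ⊗[R] A) J').IsHopfIdeal K := by
  set J₁ := Ideal.map (Algebra.TensorProduct.includeRight : A →ₐ[R] K ⊗[R] A) J' with hJ₁
  have hle : J' ≤ Ideal.comap (Algebra.TensorProduct.includeRight : A →ₐ[R] K ⊗[R] A) J₁ :=
    Ideal.le_comap_map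
  have key : ∀ x ∈ J₁, ∃ (c : K) (a : A), a ∈ J' ∧ x = c • ((1 : K) ⊗ₜ[R] a) := by
    intro x hx
    obtain ⟨s, hs, a, ha⟩ := exists_denom R K A x
    have hs' : algebraMap R K s ≠ 0 := by
      intro h0
      exact hs ((IsFractionRing.injective R K) (h0.trans (map_zero _).symm))
    refine ⟨(algebraMap R K s)⁻¹, a, ?_, ?_⟩
    · rw [← comap_map_eq R K A J', Ideal.mem_comap, Algebra.TensorProduct.includeRight_apply, ← ha,
        rsmul_eq_mul]
      exact Ideal.mul_mem_left _ _ hx
    · rw [← ha, ← algebraMap_smul K s x, smul_smul, inv_mul_cancel₀ hs', one_smul]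
  refine { toIsCoideal := ⟨?_, ?_⟩, antipode_mem := ?_ }
  · intro x hx
    obtain ⟨c, a, ha, rfl⟩ := key x hx
    have h0 : Coalgebra.counit (R := R) a = 0 :=
      Submodule.IsCoideal.counit_eq_zero (I := J'.restrictScalars R) ha
    rw [map_smul, counit_one_tmul, h0, map_zero, smul_zero]
  · intro x hx
    obtain ⟨c, a, ha, rfl⟩ := key x hx
    have h0 := Submodule.IsCoideal.map_mkQ_comul_eq_zero (I := J'.restrictScalars R) (x := a) ha
    rw [map_smul, map_smul, map_mkQ_comul R K A J' J₁ hle, h0, map_zero, smul_zero]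
  · intro x hx
    obtain ⟨c, a, ha, rfl⟩ := key x hx
    have h0 : HopfAlgebra.antipode R a ∈ J' := Ideal.IsHopfIdeal.antipode_mem (R := R) ha
    rw [map_smul, antipode_one_tmul, smul_eq_mul]
    exact Ideal.mul_mem_left _ _ (Ideal.mem_map_of_mem _ h0)

/-- **Hopf ideals of `A` with flat quotient correspond to Hopf ideals of the generic fibre** -/
theorem bijOn [IsDedekindDomain R] [Module.Flat R A] :
    Set.BijOn (fun J' : Ideal A =>
        Ideal.map (Algebra.TensorProduct.includeRight : A →ₐ[R] K ⊗[R] A) J')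
      {J' : Ideal A | J'.IsHopfIdeal R ∧ Module.Flat R (A ⧸ J')}
      {J : Ideal (K ⊗[R] A) | J.IsHopfIdeal K} := by
  refine ⟨?_, ?_, ?_⟩
  · rintro J' ⟨h1, h2⟩
    haveI := h1
    haveI := h2
    exact map_isHopfIdeal R K A J'
  · rintro J₁ ⟨_, h2⟩ J₂ ⟨_, h2'⟩ heq
    haveI := h2
    haveI := h2'
    have := congrArg (Ideal.comap (Algebra.TensorProduct.includeRight : A →ₐ[R] K ⊗[R] A)) heq
    simp only at this
    rwa [comap_map_eq, comap_map_eq] at this
  · intro J hJ
    haveI : J.IsHopfIdeal K := hJ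
    exact ⟨_, comap_isHopfIdeal R K A J, map_comap_eq R K A J⟩

end Hopf

end Groth.Agent.Lib.Helper28.DedekindHopf
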