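import Mathlib.RingTheory.Flat.Basic
import Mathlib.LinearAlgebra.TensorProduct.Quotient
import Mathlib.RingTheory.Nakayama
import Mathlib.RingTheory.Artinian.Ring
import Mathlib.RingTheory.HopkinsLevitzki
import Mathlib.RingTheory.LocalRing.MaximalIdeal.Basic

/-!
# Endomorphisms of deformations of a module with only scalar endomorphisms

`F` flat over an Artinian local `K`-algebra `R` with residue field `K`, with a commuting `D`-action,
`θ : F → E` exhibiting `E = F / m F`, and `End_D(E) = K`.  Then every `R`- and `D`-linear endomorphism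
of `F` is multiplication by a unique element of `R`.
-/

set_option autoImplicit false

namespace Groth.Agent.Lib.Helper28.DeformScalar

open TensorProduct

section flat
variable {R : Type*} [CommRing R] {F : Type*} [AddCommGroup F] [Module R F]

/-- Flatness: `(J F : a) ⊆ (J : a) F`. -/
theorem mem_smul_top_of_smul_mem [Module.Flat R F] (J I : Ideal R) (a : R)
    (h2 : ∀ r, r * a ∈ J → r ∈ I) (x : F) (hx : a • x ∈ J • (⊤ : Submodule R F)) :
    x ∈ I • (⊤ : Submodule R F) := by
  let C : Ideal R := Submodule.comap (LinearMap.toSpanSingleton R R a) J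
  have hC : ∀ r, r ∈ C ↔ r * a ∈ J := fun r => by
    change LinearMap.toSpanSingleton R R a r ∈ J ↔ _
    rw [LinearMap.toSpanSingleton_apply, smul_eq_mul]
  let μ : (R ⧸ C) →ₗ[R] (R ⧸ J) := Submodule.mapQ C J (LinearMap.toSpanSingleton R R a) le_rfl
  have hμ : Function.Injective μ := by
    rw [injective_iff_map_eq_zero]
    intro z hz
    obtain ⟨r, rfl⟩ := Submodule.Quotient.mk_surjective C z
    rw [Submodule.mapQ_apply, Submodule.Quotient.mk_eq_zero, LinearMap.toSpanSingleton_apply,
      smul_eq_mul] at hz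
    exact (Submodule.Quotient.mk_eq_zero C).mpr ((hC r).mpr hz)
  have hflat := Module.Flat.rTensor_preserves_injective_linearMap (M := F) μ hμ
  have h0 : (μ.rTensor F) ((Ideal.Quotient.mk C 1) ⊗ₜ x) = 0 := by
    rw [LinearMap.rTensor_tmul]
    apply (TensorProduct.quotTensorEquivQuotSMul F J).injective
    rw [map_zero]
    have : μ (Ideal.Quotient.mk C 1) = Ideal.Quotient.mk J a := by
      change Submodule.mapQ C J _ _ (Submodule.Quotient.mk 1) = Submodule.Quotient.mk a
      rw [Submodule.mapQ_apply, LinearMap.toSpanSingleton_apply, one_smul]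
    rw [this, TensorProduct.quotTensorEquivQuotSMul_mk_tmul, Submodule.Quotient.mk_eq_zero]
    exact hx
  have h1 : (Ideal.Quotient.mk C 1) ⊗ₜ[R] x = 0 := hflat (h0.trans (map_zero _).symm)
  have h3 := congrArg (TensorProduct.quotTensorEquivQuotSMul F C) h1
  rw [TensorProduct.quotTensorEquivQuotSMul_mk_tmul, one_smul, map_zero,
    Submodule.Quotient.mk_eq_zero] at h3
  exact Submodule.smul_mono_left (fun r hr => h2 r ((hC r).mp hr)) h3

end flat

section main
variable {K : Type*} [Field K] {D : Type*} [Ring D] [Algebra K D]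
  {E : Type*} [AddCommGroup E] [Module K E] [Module D E] [IsScalarTower K D E]
  {R : Type*} [CommRing R] [IsLocalRing R] [IsArtinianRing R] [Algebra K R]
  {F : Type*} [AddCommGroup F] [Module K F] [Module R F] [Module D F]
  [IsScalarTower K R F] [IsScalarTower K D F] [SMulCommClass R D F]

omit [IsLocalRing R] [IsArtinianRing R] [Algebra K R] [Module K F] [IsScalarTower K R F]
  [IsScalarTower K D F] in
theorem smul_mem_smul_top (J : Ideal R) (d : D) {y : F} (hy : y ∈ J • (⊤ : Submodule R F)) :
    d • y ∈ J • (⊤ : Submodule R F) := by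
  refine Submodule.smul_induction_on hy ?_ ?_
  · intro r hr n _
    rw [← smul_comm r d n]
    exact Submodule.smul_mem_smul hr Submodule.mem_top
  · intro x y hx hy
    rw [smul_add]; exact add_mem hx hy

variable [Module.Flat R F]

theorem exists_mem_smul (hE : ∀ ψ : E →ₗ[D] E, ∃ c : K, ∀ y : E, ψ y = c • y)
    (res : R →ₐ[K] K) (hres : ∀ r : R, r ∈ IsLocalRing.maximalIdeal R ↔ res r = 0)
    (θ : F →ₗ[D] E) (hθ : ∀ (r : R) (x : F), θ (r • x) = res r • θ x)
    (hsurj : Function.Surjective θ)
    (hker : ∀ x : F, θ x = 0 ↔ x ∈ IsLocalRing.maximalIdeal R • (⊤ : Submodule R F))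
    (I : Ideal R) :
    ∀ (ψ : F →ₗ[R] F), (∀ (d : D) (x : F), ψ (d • x) = d • ψ x) →
      (∀ x, ψ x ∈ I • (⊤ : Submodule R F)) → ∃ r ∈ I, ∀ x, ψ x = r • x := by
  refine IsArtinian.induction (P := fun I : Ideal R => ∀ (ψ : F →ₗ[R] F),
    (∀ (d : D) (x : F), ψ (d • x) = d • ψ x) →
      (∀ x, ψ x ∈ I • (⊤ : Submodule R F)) → ∃ r ∈ I, ∀ x, ψ x = r • x) ?_ I
  intro (I : Ideal R) ih ψ hψD hψI
  by_cases hI : I = ⊥
  · subst hI
    refine ⟨0, Submodule.zero_mem _, fun x => ?_⟩
    have := hψI x
    rw [Submodule.bot_smul, Submodule.mem_bot] at this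
    rw [this, zero_smul]
  have hN : IsNoetherian R R := inferInstance
  obtain ⟨J, hJI, hJmax⟩ := (set_has_maximal_iff_noetherian.mpr hN) {J : Ideal R | J < I}
    ⟨⊥, bot_lt_iff_ne_bot.mpr hI⟩
  have hJI' : J < I := hJI
  obtain ⟨a, haI, haJ⟩ := SetLike.exists_of_lt hJI'
  have hsup : J ⊔ Ideal.span {a} = I := by
    by_contra hne
    have hle : J ⊔ Ideal.span {a} ≤ I :=
      sup_le hJI'.le ((Ideal.span_singleton_le_iff_mem _).mpr haI)
    have hlt : J ⊔ Ideal.span {a} < I := lt_of_le_of_ne hle hne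
    refine hJmax _ hlt (lt_of_le_of_ne le_sup_left ?_)
    intro h
    apply haJ
    rw [h]
    exact Ideal.mem_sup_right (Ideal.mem_span_singleton_self a)
  have hmI : IsLocalRing.maximalIdeal R • I ≤ J := by
    by_contra hnot
    have hle : J ⊔ IsLocalRing.maximalIdeal R • I ≤ I := sup_le hJI'.le (Submodule.smul_le.mpr fun r _ n hn => Ideal.mul_mem_left I r hn)
    rcases hle.lt_or_eq with hlt | heq
    · refine hJmax _ hlt (lt_of_le_of_ne le_sup_left ?_)
      intro h; apply hnot; rw [h]; exact le_sup_right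
    · have : I ≤ J := Submodule.le_of_le_smul_of_le_jacobson_bot (IsNoetherian.noetherian I)
        (IsLocalRing.maximalIdeal_le_jacobson ⊥) heq.ge
      exact absurd hJI' (not_lt_of_ge this)
  have ha1 : ∀ r ∈ IsLocalRing.maximalIdeal R, r * a ∈ J :=
    fun r hr => hmI (Submodule.smul_mem_smul hr haI)
  have ha2 : ∀ r, r * a ∈ J → r ∈ IsLocalRing.maximalIdeal R := by
    intro r hr
    by_contra hrm
    have hu : IsUnit r := by
      rwa [IsLocalRing.mem_maximalIdeal, mem_nonunits_iff, not_not] at hrm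
    apply haJ
    obtain ⟨u, rfl⟩ := hu
    have := Ideal.mul_mem_left J (↑u⁻¹ : R) hr
    rwa [← mul_assoc, Units.inv_mul, one_mul] at this
  have hdec : ∀ y ∈ I • (⊤ : Submodule R F), ∃ x' : F, y - a • x' ∈ J • (⊤ : Submodule R F) := by
    intro y hy
    refine Submodule.smul_induction_on hy ?_ ?_
    · intro r hr n _
      rw [← hsup] at hr
      obtain ⟨j, hj, s, hs, rfl⟩ := Submodule.mem_sup.mp hr
      obtain ⟨c, rfl⟩ := Ideal.mem_span_singleton'.mp hs
      refine ⟨c • n, ?_⟩
      have : (j + c * a) • n - a • c • n = j • n := by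
        rw [add_smul, mul_comm, mul_smul]; abel
      rw [this]; exact Submodule.smul_mem_smul hj Submodule.mem_top
    · rintro x y ⟨x1, h1⟩ ⟨y1, h2⟩
      refine ⟨x1 + y1, ?_⟩
      have : x + y - a • (x1 + y1) = (x - a • x1) + (y - a • y1) := by rw [smul_add]; abel
      rw [this]; exact add_mem h1 h2
  choose x' hx' using fun x => hdec (ψ x) (hψI x)
  have hU : ∀ z : F, a • z ∈ J • (⊤ : Submodule R F) → θ z = 0 := fun z hz =>
    (hker z).mpr (mem_smul_top_of_smul_mem J _ a ha2 z hz)
  have hq_add : ∀ x y, θ (x' (x + y)) = θ (x' x) + θ (x' y) := by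
    intro x y
    have : a • (x' (x + y) - x' x - x' y) ∈ J • (⊤ : Submodule R F) := by
      have e : a • (x' (x + y) - x' x - x' y) =
          (ψ x - a • x' x) + (ψ y - a • x' y) - (ψ (x + y) - a • x' (x + y)) := by
        rw [map_add, smul_sub, smul_sub]; abel
      rw [e]; exact sub_mem (add_mem (hx' x) (hx' y)) (hx' _)
    have := hU _ this
    rw [map_sub, map_sub, sub_sub, sub_eq_zero] at this
    exact this
  have hq_smul : ∀ (d : D) x, θ (x' (d • x)) = d • θ (x' x) := by
    intro d x
    have : a • (x' (d • x) - d • x' x) ∈ J • (⊤ : Submodule R F) := by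
      have e : a • (x' (d • x) - d • x' x) =
          d • (ψ x - a • x' x) - (ψ (d • x) - a • x' (d • x)) := by
        rw [hψD, smul_sub, smul_sub, smul_comm a d]; abel
      rw [e]; exact sub_mem (smul_mem_smul_top J d (hx' x)) (hx' _)
    have := hU _ this
    rw [map_sub, map_smul, sub_eq_zero] at this
    exact this
  have hq_m : ∀ x ∈ IsLocalRing.maximalIdeal R • (⊤ : Submodule R F), θ (x' x) = 0 := by
    intro x hx
    refine Submodule.smul_induction_on hx ?_ ?_
    · intro r hr n _
      have : a • (x' (r • n) - r • x' n) ∈ J • (⊤ : Submodule R F) := by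
        have e : a • (x' (r • n) - r • x' n) =
            r • (ψ n - a • x' n) - (ψ (r • n) - a • x' (r • n)) := by
          rw [map_smul, smul_sub, smul_sub, smul_comm a r]; abel
        rw [e]; exact sub_mem (Submodule.smul_mem _ r (hx' n)) (hx' _)
      have := hU _ this
      rw [map_sub, hθ, (hres r).mp hr, zero_smul, sub_zero] at this
      exact this
    · intro x y hx hy; rw [hq_add, hx, hy, add_zero]
  have hq_ker : ∀ x y, θ x = θ y → θ (x' x) = θ (x' y) := by
    intro x y h
    have : θ (x' (x - y)) = 0 := hq_m _ ((hker _).mp (by rw [map_sub, h, sub_self]))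
    have h2 := hq_add (x - y) y
    rw [sub_add_cancel, this, zero_add] at h2; exact h2
  have hσ : ∀ e, θ (Function.surjInv hsurj e) = e := Function.surjInv_eq hsurj
  let ebar : E →ₗ[D] E :=
    { toFun := fun e => θ (x' (Function.surjInv hsurj e))
      map_add' := fun e e' => by
        rw [← hq_add]; apply hq_ker; rw [hσ, map_add, hσ, hσ]
      map_smul' := fun d e => by
        rw [RingHom.id_apply, ← hq_smul]; apply hq_ker; rw [hσ, map_smul, hσ] }
  obtain ⟨c, hc⟩ := hE ebar
  have hqc : ∀ x, θ (x' x) = c • θ x := fun x => by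
    have := hc (θ x)
    change θ (x' (Function.surjInv hsurj (θ x))) = _ at this
    rw [← this]; apply hq_ker; rw [hσ]
  have hθK : ∀ (k : K) x, θ (k • x) = k • θ x := fun k x => by
    rw [← algebraMap_smul D k x, map_smul, algebraMap_smul]
  have hdiff : ∀ x, a • (x' x - c • x) ∈ J • (⊤ : Submodule R F) := by
    intro x
    have h0 : θ (x' x - c • x) = 0 := by rw [map_sub, hθK, ← hqc, sub_self]
    have hm := (hker _).mp h0
    refine Submodule.smul_induction_on hm ?_ ?_
    · intro r hr n _
      rw [smul_smul, mul_comm]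
      exact Submodule.smul_mem_smul (ha1 r hr) Submodule.mem_top
    · intro x y hx hy; rw [smul_add]; exact add_mem hx hy
  let r0 : R := a * algebraMap K R c
  let ψ' : F →ₗ[R] F := ψ - r0 • LinearMap.id
  have hψ'D : ∀ (d : D) x, ψ' (d • x) = d • ψ' x := by
    intro d x
    simp only [ψ', LinearMap.sub_apply, LinearMap.smul_apply, LinearMap.id_apply, hψD, smul_sub]
    rw [smul_comm r0 d x]
  have hψ'J : ∀ x, ψ' x ∈ J • (⊤ : Submodule R F) := by
    intro x
    have e : ψ' x = (ψ x - a • x' x) + a • (x' x - c • x) := by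
      simp only [ψ', r0, LinearMap.sub_apply, LinearMap.smul_apply, LinearMap.id_apply, mul_smul,
        algebraMap_smul, smul_sub]
      abel
    rw [e]; exact add_mem (hx' x) (hdiff x)
  obtain ⟨r', hr'J, hr'⟩ := ih J hJI' ψ' hψ'D hψ'J
  refine ⟨r0 + r', add_mem (Ideal.mul_mem_right _ I haI) (hJI'.le hr'J), fun x => ?_⟩
  have := hr' x
  simp only [ψ', LinearMap.sub_apply, LinearMap.smul_apply, LinearMap.id_apply] at this
  rw [add_smul, ← this]; abel

omit [IsArtinianRing R] [Algebra K R] [Module K F] [IsScalarTower K R F] [IsScalarTower K D F]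
  [SMulCommClass R D F] [Module K E] [IsScalarTower K D E] [Algebra K D] in
theorem eq_zero_of_smul_eq_zero [Nontrivial E]
    (θ : F →ₗ[D] E) (hsurj : Function.Surjective θ)
    (hker : ∀ x : F, θ x = 0 ↔ x ∈ IsLocalRing.maximalIdeal R • (⊤ : Submodule R F))
    (s : R) (hs : ∀ x : F, s • x = 0) : s = 0 := by
  by_contra hne
  have h2 : ∀ r, r * s ∈ (⊥ : Ideal R) → r ∈ IsLocalRing.maximalIdeal R := by
    intro r hr
    by_contra hrm
    have hu : IsUnit r := by
      rwa [IsLocalRing.mem_maximalIdeal, mem_nonunits_iff, not_not] at hrm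
    apply hne
    obtain ⟨u, rfl⟩ := hu
    exact (Units.mul_right_eq_zero u).mp (Ideal.mem_bot.mp hr)
  have : ∀ x : F, θ x = 0 := fun x =>
    (hker x).mpr (mem_smul_top_of_smul_mem ⊥ _ s h2 x (by rw [hs]; exact zero_mem _))
  obtain ⟨e, he⟩ := exists_ne (0 : E)
  obtain ⟨x, rfl⟩ := hsurj e
  exact he (this x)

/-- Every `R`- and `D`-linear endomorphism of the deformation `F` is multiplication by a unique
element of `R`. -/
theorem existsUnique_smul [Nontrivial E]
    (hE : ∀ ψ : E →ₗ[D] E, ∃ c : K, ∀ y : E, ψ y = c • y)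
    (res : R →ₐ[K] K) (hres : ∀ r : R, r ∈ IsLocalRing.maximalIdeal R ↔ res r = 0)
    (θ : F →ₗ[D] E) (hθ : ∀ (r : R) (x : F), θ (r • x) = res r • θ x)
    (hsurj : Function.Surjective θ)
    (hker : ∀ x : F, θ x = 0 ↔ x ∈ IsLocalRing.maximalIdeal R • (⊤ : Submodule R F))
    (φ : F →ₗ[R] F) (hφ : ∀ (d : D) (x : F), φ (d • x) = d • φ x) :
    ∃! r : R, ∀ x : F, φ x = r • x := by
  obtain ⟨r, -, hr⟩ := exists_mem_smul hE res hres θ hθ hsurj hker ⊤ φ hφ
    (fun x => by rw [Submodule.top_smul]; exact Submodule.mem_top)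
  refine ⟨r, hr, fun r' hr' => ?_⟩
  have : r' - r = 0 := eq_zero_of_smul_eq_zero θ hsurj hker (r' - r) (fun x => by
    rw [sub_smul, ← hr, ← hr', sub_self])
  exact sub_eq_zero.mp this

end main

end Groth.Agent.Lib.Helper28.DeformScalar
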