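import Mathlib.RingTheory.PiTensorProduct
import Mathlib.RingTheory.Ideal.Operations
import Mathlib.RingTheory.Ideal.Quotient.Operations
import Mathlib.Algebra.BigOperators.Pi
import Mathlib.Tactic.Ring

/-!
# The action of a transposition on powers of a diagonal ideal in a tensor power
-/

set_option autoImplicit false
universe u v

namespace Groth.Agent.Lib.Helper28.DiagSwap

open PiTensorProduct TensorProduct

variable {k : Type u} [CommRing k] {A : Type v} [CommRing A] [Algebra k A] {n : ℕ}

/-- reindexing as a linear endomorphism of the tensor power. -/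
noncomputable def τ (σ : Equiv.Perm (Fin n)) :
    (⨂[k] _ : Fin n, A) →ₗ[k] (⨂[k] _ : Fin n, A) :=
  (PiTensorProduct.reindex k (fun _ : Fin n => A) σ).toLinearMap

theorem τ_apply (σ : Equiv.Perm (Fin n)) (x : ⨂[k] _ : Fin n, A) :
    τ σ x = PiTensorProduct.reindex k (fun _ : Fin n => A) σ x := rfl

theorem τ_tprod (σ : Equiv.Perm (Fin n)) (f : Fin n → A) :
    τ (k := k) σ (tprod k f) = tprod k (fun i => f (σ.symm i)) :=
  PiTensorProduct.reindex_tprod σ f

theorem τ_mul (σ : Equiv.Perm (Fin n)) (x y : ⨂[k] _ : Fin n, A) :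
    τ σ (x * y) = τ σ x * τ σ y := by
  induction x using PiTensorProduct.induction_on with
  | smul_tprod r f =>
    induction y using PiTensorProduct.induction_on with
    | smul_tprod r' g =>
      rw [smul_tprod_mul_smul_tprod, map_smul, map_smul, map_smul, τ_tprod, τ_tprod, τ_tprod,
        smul_tprod_mul_smul_tprod]
      rfl
    | add y z hy hz => rw [mul_add, map_add, map_add, mul_add, hy, hz]
  | add x z hx hz => rw [add_mul, map_add, map_add, add_mul, hx, hz]

theorem τ_one (σ : Equiv.Perm (Fin n)) : τ σ (1 : ⨂[k] _ : Fin n, A) = 1 := by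
  rw [PiTensorProduct.one_def, τ_tprod]
  rfl

/-- reindexing as an algebra endomorphism. -/
noncomputable def τA (σ : Equiv.Perm (Fin n)) :
    (⨂[k] _ : Fin n, A) →ₐ[k] (⨂[k] _ : Fin n, A) :=
  AlgHom.ofLinearMap (τ σ) (τ_one σ) (τ_mul σ)

theorem τA_apply (σ : Equiv.Perm (Fin n)) (x : ⨂[k] _ : Fin n, A) : τA σ x = τ σ x := rfl

theorem τ_single (σ : Equiv.Perm (Fin n)) (l : Fin n) (a : A) :
    τ σ (singleAlgHom (R := k) (A := fun _ : Fin n => A) l a) =
      singleAlgHom (R := k) (A := fun _ : Fin n => A) (σ l) a := by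
  rw [singleAlgHom_apply, singleAlgHom_apply, τ_tprod]
  congr 1
  funext i'
  rw [MonoidHom.mulSingle_apply, MonoidHom.mulSingle_apply]
  by_cases h : i' = σ l
  · subst h
    simp
  · rw [Pi.mulSingle_eq_of_ne h, Pi.mulSingle_eq_of_ne]
    intro h2
    exact h (by rw [← h2]; simp)

theorem tprod_eq_prod_single (f : Fin n → A) :
    tprod k f = ∏ l, singleAlgHom (R := k) (A := fun _ : Fin n => A) l (f l) := by
  conv_lhs => rw [← Finset.univ_prod_mulSingle f]
  rw [tprod_prod]
  rfl

variable (i j : Fin n)

/-- the ideal of the `(i, j)`-diagonal. -/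
noncomputable def Ip : Ideal (⨂[k] _ : Fin n, A) :=
  Ideal.span (Set.range fun a : A =>
    singleAlgHom (R := k) (A := fun _ : Fin n => A) i a -
      singleAlgHom (R := k) (A := fun _ : Fin n => A) j a)

theorem gen_mem (a : A) :
    singleAlgHom (R := k) (A := fun _ : Fin n => A) i a -
      singleAlgHom (R := k) (A := fun _ : Fin n => A) j a ∈ Ip (k := k) (A := A) i j :=
  Ideal.subset_span ⟨a, rfl⟩

theorem swap_sub_mem (hij : i ≠ j) (r : ⨂[k] _ : Fin n, A) :
    τ (Equiv.swap i j) r - r ∈ Ip (k := k) (A := A) i j := by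
  induction r using PiTensorProduct.induction_on with
  | smul_tprod c f =>
    rw [map_smul, ← smul_sub]
    refine Submodule.smul_of_tower_mem _ c ?_
    rw [← Ideal.Quotient.eq, ← τA_apply, tprod_eq_prod_single, map_prod, map_prod, map_prod]
    refine Finset.prod_congr rfl fun l _ => ?_
    rw [τA_apply, τ_single, Ideal.Quotient.eq]
    by_cases hl : l = i
    · subst hl
      rw [Equiv.swap_apply_left, ← neg_sub]
      exact neg_mem (gen_mem l j (f l))
    · by_cases hl' : l = j
      · subst hl'
        rw [Equiv.swap_apply_right]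
        exact gen_mem i l (f l)
      · rw [Equiv.swap_apply_of_ne_of_ne hl hl', sub_self]
        exact zero_mem _
  | add x y hx hy =>
    have : τ (Equiv.swap i j) (x + y) - (x + y) =
        (τ (Equiv.swap i j) x - x) + (τ (Equiv.swap i j) y - y) := by
      rw [map_add]; ring
    rw [this]
    exact add_mem hx hy

theorem swap_add_mem (hij : i ≠ j) {g : ⨂[k] _ : Fin n, A} (hg : g ∈ Ip (k := k) (A := A) i j) :
    τ (Equiv.swap i j) g + g ∈ Ip (k := k) (A := A) i j ^ 2 ∧
      τ (Equiv.swap i j) g ∈ Ip (k := k) (A := A) i j := by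
  have key : τ (Equiv.swap i j) g + g ∈ Ip (k := k) (A := A) i j ^ 2 := by
    unfold Ip at hg
    induction hg using Submodule.span_induction with
    | mem g hg =>
      obtain ⟨a, rfl⟩ := hg
      rw [map_sub, τ_single, τ_single, Equiv.swap_apply_left, Equiv.swap_apply_right]
      have : singleAlgHom (R := k) (A := fun _ : Fin n => A) j a -
          singleAlgHom (R := k) (A := fun _ : Fin n => A) i a +
          (singleAlgHom (R := k) (A := fun _ : Fin n => A) i a -
            singleAlgHom (R := k) (A := fun _ : Fin n => A) j a) = 0 := by ring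
      rw [this]
      exact zero_mem _
    | zero => rw [map_zero, add_zero]; exact zero_mem _
    | add x y _ _ hx hy =>
      have : τ (Equiv.swap i j) (x + y) + (x + y) =
          (τ (Equiv.swap i j) x + x) + (τ (Equiv.swap i j) y + y) := by
        rw [map_add]; ring
      rw [this]
      exact add_mem hx hy
    | smul r g hg ih =>
      rw [smul_eq_mul, τ_mul]
      have : τ (Equiv.swap i j) r * τ (Equiv.swap i j) g + r * g =
          (τ (Equiv.swap i j) r - r) * τ (Equiv.swap i j) g + r * (τ (Equiv.swap i j) g + g) := by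
        ring
      rw [this]
      refine add_mem ?_ (Ideal.mul_mem_left _ _ ih)
      have h1 : τ (Equiv.swap i j) g ∈ Ip (k := k) (A := A) i j := by
        have : τ (Equiv.swap i j) g = (τ (Equiv.swap i j) g + g) - g := by ring
        rw [this]
        exact sub_mem (Ideal.pow_le_self two_ne_zero ih) hg
      rw [pow_two]
      exact Ideal.mul_mem_mul (swap_sub_mem i j hij r) h1
  refine ⟨key, ?_⟩
  have : τ (Equiv.swap i j) g = (τ (Equiv.swap i j) g + g) - g := by ring
  rw [this]
  exact sub_mem (Ideal.pow_le_self two_ne_zero key) hg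

theorem swap_pow_mem (hij : i ≠ j) : ∀ (s : ℕ) (y : ⨂[k] _ : Fin n, A),
    y ∈ Ip (k := k) (A := A) i j ^ s →
      τ (Equiv.swap i j) y - (-1) ^ s * y ∈ Ip (k := k) (A := A) i j ^ (s + 1)
  | 0 => by
    intro y _
    rw [pow_zero, one_mul, zero_add, pow_one]
    exact swap_sub_mem i j hij y
  | s + 1 => by
    intro y hy
    rw [pow_succ] at hy
    refine Submodule.mul_induction_on hy ?_ ?_
    · intro m hm g hg
      have em := swap_pow_mem hij s m hm
      obtain ⟨eg, h1⟩ := swap_add_mem i j hij hg
      rw [τ_mul]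
      have : τ (Equiv.swap i j) m * τ (Equiv.swap i j) g - (-1) ^ (s + 1) * (m * g) =
          (τ (Equiv.swap i j) m - (-1) ^ s * m) * τ (Equiv.swap i j) g +
            ((-1) ^ s * m) * (τ (Equiv.swap i j) g + g) := by ring
      rw [this]
      refine add_mem ?_ ?_
      · rw [pow_succ _ (s + 1)]
        exact Ideal.mul_mem_mul em h1
      · have h2 : Ip (k := k) (A := A) i j ^ (s + 1 + 1) =
            Ip (k := k) (A := A) i j ^ s * Ip (k := k) (A := A) i j ^ 2 := by
          rw [← pow_add]
        rw [h2]
        exact Ideal.mul_mem_mul (Ideal.mul_mem_left _ _ hm) eg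
    · intro x y hx hy
      have : τ (Equiv.swap i j) (x + y) - (-1) ^ (s + 1) * (x + y) =
          (τ (Equiv.swap i j) x - (-1) ^ (s + 1) * x) +
            (τ (Equiv.swap i j) y - (-1) ^ (s + 1) * y) := by
        rw [map_add]; ring
      rw [this]
      exact add_mem hx hy

end Groth.Agent.Lib.Helper28.DiagSwap
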