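import Mathlib
import Groth.Prelude.Def_SGA3x

/-!
# Helper library (helper28): every morphism to the spectrum of a field is essentially free
(sub-lemma EC for helper27's S5356).
-/

set_option autoImplicit false
set_option linter.style.haveILetI false
universe u
open CategoryTheory CategoryTheory.Limits AlgebraicGeometry

namespace Groth.Agent.Lib.Helper28.EssFreeC

theorem projective_of_isField {R : Type*} [CommRing R] (hR : IsField R) (M : Type*)
    [AddCommGroup M] [Module R M] : Module.Projective R M := by
  letI := hR.toField
  exact Module.Projective.of_free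

theorem projective_of_isField' {R : Type*} [CommRing R] (hR : IsField R) {M : Type*}
    [AddCommGroup M] (inst : Module R M) : @Module.Projective R _ M _ inst :=
  projective_of_isField hR M

theorem isEssentiallyFree_field (k : Type u) [Field k] (X : Scheme.{u})
    (f : X ⟶ Spec (CommRingCat.of k)) : SGA3x.IsEssentiallyFree f := by
  intro s
  refine ⟨⊤, trivial, isAffineOpen_top _, Spec (CommRingCat.of k), inferInstance,
    (Scheme.topIso _).inv, inferInstance, inferInstance, fun x => ?_⟩
  obtain ⟨V, hV, hxV, -⟩ := exists_isAffineOpen_mem_and_subset
    (show x ∈ (⊤ : (pullback f ((Scheme.topIso _).inv ≫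
      (⊤ : (Spec (CommRingCat.of k)).Opens).ι)).Opens) from trivial)
  refine ⟨V, hxV, hV, ?_⟩
  have hF : IsField Γ(Spec (CommRingCat.of k), ⊤) :=
    MulEquiv.isField (Field.toIsField k)
      (Scheme.ΓSpecIso (CommRingCat.of k)).commRingCatIsoToRingEquiv.toMulEquiv
  exact projective_of_isField' hF _

end Groth.Agent.Lib.Helper28.EssFreeC
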