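/-
Helper28 library: an étale quotient with radicial kernel of an algebraic group over a perfect field
lifts uniquely to the reduced subgroup.
-/
import Groth.Agent.Lib.Helper28.NilHopf
import Groth.Agent.Lib.Helper28.NrmCorr
import Groth.Agent.Lib.Helper28.TakRange

set_option autoImplicit false
universe u
open TensorProduct WithConv

namespace Groth.Agent.Lib.Helper28.EtaleLift

open Groth.Agent.Lib.Helper28.TakShear Groth.Agent.Lib.Helper28.TakSubalg
  Groth.Agent.Lib.Helper28.NrmPts Groth.Agent.Lib.Helper28.NrmInv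
  Groth.Agent.Lib.Helper28.NrmCorr

/-- the augmentation ideal of a formally unramified Hopf algebra over a field is idempotent -/
theorem augIdeal_le_sq (k : Type u) [Field k] (C : Type u) [CommRing C] [HopfAlgebra k C]
    [Algebra.FormallyUnramified k C] :
    RingHom.ker (Bialgebra.counitAlgHom k C) ≤ RingHom.ker (Bialgebra.counitAlgHom k C) ^ 2 := by
  set 𝔪 := RingHom.ker (Bialgebra.counitAlgHom k C) with h𝔪
  let f₁ : C →ₐ[k] C ⧸ 𝔪 ^ 2 := Ideal.Quotient.mkₐ k (𝔪 ^ 2)
  let f₂ : C →ₐ[k] C ⧸ 𝔪 ^ 2 := (Algebra.ofId k (C ⧸ 𝔪 ^ 2)).comp (Bialgebra.counitAlgHom k C)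
  let I₂ : Ideal (C ⧸ 𝔪 ^ 2) := 𝔪.map (Ideal.Quotient.mk (𝔪 ^ 2))
  have hnil : IsNilpotent I₂ := by
    refine ⟨2, ?_⟩
    rw [← Ideal.map_pow, Ideal.zero_eq_bot, Ideal.map_eq_bot_iff_le_ker, Ideal.mk_ker]
  have H : ∀ c, Ideal.Quotient.mk I₂ (f₁ c) = Ideal.Quotient.mk I₂ (f₂ c) := by
    intro c
    rw [Ideal.Quotient.eq]
    have h1 : c - algebraMap k C (Coalgebra.counit (R := k) c) ∈ 𝔪 := sub_counit_mem c
    have h2 : f₁ c - f₂ c = Ideal.Quotient.mk (𝔪 ^ 2)
        (c - algebraMap k C (Coalgebra.counit (R := k) c)) := by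
      rw [map_sub]
      rfl
    rw [h2]
    exact Ideal.mem_map_of_mem _ h1
  have h12 : f₁ = f₂ := Algebra.FormallyUnramified.ext _ hnil H
  intro c hc
  have h3 := congrArg (fun f : C →ₐ[k] C ⧸ 𝔪 ^ 2 => f c) h12
  have hc' : Bialgebra.counitAlgHom k C c = 0 := hc
  simp only [f₁, f₂, AlgHom.coe_comp, Function.comp_apply, hc', map_zero] at h3
  exact Ideal.Quotient.eq_zero_iff_mem.1 h3

/-- the quotient of a reduced ring by an ideal generated by an idempotent is reduced -/
theorem isReduced_quotient_span_idempotent {Q : Type u} [CommRing Q] [IsReduced Q] (e : Q)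
    (he : IsIdempotentElem e) : IsReduced (Q ⧸ Ideal.span ({e} : Set Q)) := by
  rw [← Ideal.isRadical_iff_quotient_reduced]
  intro x hx
  obtain ⟨n, hn⟩ := hx
  rw [Ideal.mem_span_singleton'] at hn ⊢
  obtain ⟨a, ha⟩ := hn
  have h0 : e * (1 - e) = 0 := by rw [mul_sub, mul_one, he.eq, sub_self]
  have h1 : (x * (1 - e)) ^ (n + 1) = 0 := by
    rw [mul_pow, he.one_sub.pow_succ_eq, pow_succ, ← ha]
    calc a * e * x * (1 - e) = a * x * (e * (1 - e)) := by ring
      _ = 0 := by rw [h0, mul_zero]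
  have h2 : x * (1 - e) = 0 := IsNilpotent.eq_zero ⟨n + 1, h1⟩
  refine ⟨x, ?_⟩
  rw [mul_sub, mul_one, sub_eq_zero] at h2
  exact h2.symm


attribute [local instance] ptGroup

/-- **an étale quotient with radicial kernel lifts uniquely, onto the reduced subgroup** -/
theorem existsUnique_retraction (k : Type u) [Field k] [PerfectField k] (A C : Type u)
    [CommRing A] [HopfAlgebra k A] [Algebra.FiniteType k A]
    [CommRing C] [HopfAlgebra k C] [Algebra.Etale k C] (ψ : C →ₐc[k] A)
    (hψ : Function.Injective ψ) (J : Ideal A) [J.IsHopfIdeal k]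
    (hJ : J = Ideal.map (ψ : C →+* A) (RingHom.ker (Bialgebra.counitAlgHom k C)))
    [IsLocalRing (A ⧸ J)] :
    (∃! r : A →ₐc[k] C, r.comp ψ = BialgHom.id k C) ∧
    ∀ r : A →ₐc[k] C, r.comp ψ = BialgHom.id k C →
      RingHom.ker (r : A →+* C) = nilradical A := by
  haveI hN : (nilradical A).IsHopfIdeal k := NilHopf.nilradical_isHopfIdeal k A
  let π : A →ₐc[k] A ⧸ nilradical A := Bialgebra.Quotient.mkBialgHom (R := k) (nilradical A)
  let φ : C →ₐc[k] A ⧸ nilradical A := π.comp ψ
  haveI : IsReduced C := Algebra.FormallyUnramified.isReduced_of_field k C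
  haveI : IsReduced (A ⧸ nilradical A) := by
    rw [← Ideal.isRadical_iff_quotient_reduced]
    exact Ideal.radical_isRadical _
  have hφinj : Function.Injective φ := by
    rw [injective_iff_map_eq_zero]
    intro c hc
    have hc' : ψ c ∈ nilradical A := Ideal.Quotient.eq_zero_iff_mem.1 hc
    obtain ⟨n, hn⟩ := mem_nilradical.1 hc'
    have : IsNilpotent c := ⟨n, hψ (by rw [map_pow, hn, map_zero])⟩
    exact this.eq_zero
  -- the augmentation ideal of `C` is generated by an idempotent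
  set 𝔪 := RingHom.ker (Bialgebra.counitAlgHom k C) with h𝔪
  have h𝔪idem : IsIdempotentElem 𝔪 := by
    apply le_antisymm Ideal.mul_le_right
    have := augIdeal_le_sq k C
    rwa [pow_two] at this
  haveI : IsNoetherianRing C := Algebra.FiniteType.isNoetherianRing k C
  have h𝔪fg : 𝔪.FG := (isNoetherianRing_iff_ideal_fg C).mp inferInstance 𝔪
  obtain ⟨e₀, he₀, h𝔪e⟩ := (Ideal.isIdempotentElem_iff_of_fg 𝔪 h𝔪fg).1 h𝔪idem
  have hJQ : augMap φ = Ideal.span ({φ e₀} : Set (A ⧸ nilradical A)) := by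
    unfold augMap
    rw [← h𝔪, h𝔪e, Ideal.submodule_span_eq, Ideal.map_span, Set.image_singleton]
  haveI : IsReduced ((A ⧸ nilradical A) ⧸ augMap φ) := by
    rw [hJQ]
    exact isReduced_quotient_span_idempotent (φ e₀) (he₀.map φ)
  haveI : Nontrivial ((A ⧸ nilradical A) ⧸ augMap φ) :=
    (Bialgebra.counitAlgHom k ((A ⧸ nilradical A) ⧸ augMap φ)).toRingHom.domain_nontrivial
  -- `B` is local
  have hJle : J ≤ RingHom.ker ((Ideal.Quotient.mk (augMap φ)).comp
      (Ideal.Quotient.mk (nilradical A))) := by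
    rw [hJ, Ideal.map_le_iff_le_comap]
    intro c hc
    rw [Ideal.mem_comap, RingHom.mem_ker]
    have : φ c ∈ augMap φ := Ideal.mem_map_of_mem _ hc
    exact Ideal.Quotient.eq_zero_iff_mem.2 this
  let g : A ⧸ J →+* (A ⧸ nilradical A) ⧸ augMap φ := Ideal.Quotient.lift J _ hJle
  have hg : Function.Surjective g := by
    intro b
    obtain ⟨q, rfl⟩ := Ideal.Quotient.mk_surjective b
    obtain ⟨a, rfl⟩ := Ideal.Quotient.mk_surjective q
    exact ⟨Ideal.Quotient.mk J a, rfl⟩
  haveI : IsLocalRing ((A ⧸ nilradical A) ⧸ augMap φ) := IsLocalRing.of_surjective' g hg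
  haveI : Algebra.FiniteType k ((A ⧸ nilradical A) ⧸ augMap φ) :=
    (inferInstance : Algebra.FiniteType k A).of_surjective
      ((Ideal.Quotient.mkₐ k (augMap φ)).comp (Ideal.Quotient.mkₐ k (nilradical A)))
      (Ideal.Quotient.mk_surjective.comp Ideal.Quotient.mk_surjective)
  haveI : IsJacobsonRing ((A ⧸ nilradical A) ⧸ augMap φ) :=
    isJacobsonRing_of_finiteType (A := k)
  have hmax0 : IsLocalRing.maximalIdeal ((A ⧸ nilradical A) ⧸ augMap φ) = ⊥ := by
    have hrad : (⊥ : Ideal ((A ⧸ nilradical A) ⧸ augMap φ)).IsRadical := by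
      intro x hx
      obtain ⟨n, hn⟩ := hx
      have : IsNilpotent x := ⟨n, hn⟩
      exact this.eq_zero
    have h1 := IsJacobsonRing.out' (⊥ : Ideal ((A ⧸ nilradical A) ⧸ augMap φ)) hrad
    rw [IsLocalRing.jacobson_eq_maximalIdeal _ bot_ne_top] at h1
    exact h1
  have hsurjε : Function.Surjective (Bialgebra.counitAlgHom k ((A ⧸ nilradical A) ⧸ augMap φ) :
      (A ⧸ nilradical A) ⧸ augMap φ →+* k) := fun c =>
    ⟨algebraMap k _ c, by simp⟩
  have hkerB : RingHom.ker (Bialgebra.counitAlgHom k ((A ⧸ nilradical A) ⧸ augMap φ) :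
      (A ⧸ nilradical A) ⧸ augMap φ →+* k) = ⊥ :=
    (IsLocalRing.eq_maximalIdeal (RingHom.ker_isMaximal_of_surjective _ hsurjε)).trans hmax0
  have hker : ∀ x : A ⧸ nilradical A, Coalgebra.counit (R := k) x = 0 → x ∈ augMap φ := by
    intro x hx
    have : Ideal.Quotient.mk (augMap φ) x ∈ RingHom.ker
        (Bialgebra.counitAlgHom k ((A ⧸ nilradical A) ⧸ augMap φ) :
          (A ⧸ nilradical A) ⧸ augMap φ →+* k) := by
      rw [RingHom.mem_ker]
      exact hx
    rw [hkerB] at this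
    exact Ideal.Quotient.eq_zero_iff_mem.1 this
  -- the range of `φ`
  have hC' := Groth.Agent.Lib.Helper28.TakRange.range_isHopfSub φ
  have hle : ∀ x : A ⧸ nilradical A, Coalgebra.counit (R := k) x = 0 →
      x ∈ augIdeal (φ : C →ₐ[k] A ⧸ nilradical A).range hC' := by
    intro x hx
    have h1 : augMap φ ≤ augIdeal (φ : C →ₐ[k] A ⧸ nilradical A).range hC' := by
      unfold augMap
      rw [Ideal.map_le_iff_le_comap]
      intro c hc
      rw [Ideal.mem_comap]
      refine mem_augIdeal_of_mem hC' ⟨c, rfl⟩ ?_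
      have hc' : Coalgebra.counit (R := k) c = 0 := hc
      show Coalgebra.counit (R := k) (φ c) = 0
      rw [CoalgHomClass.counit_comp_apply, hc']
    exact h1 (hker x hx)
  have htop : coinv k (augIdeal (φ : C →ₐ[k] A ⧸ nilradical A).range hC') = ⊤ := by
    rw [eq_top_iff]
    intro x _
    rw [mem_coinv_iff_pts]
    intro R _ _ g n hn
    have hn1 : n = 1 := by
      apply WithConv.ofConv_injective
      ext y
      have h2 := hn _ (hle (y - algebraMap k _ (Coalgebra.counit (R := k) y))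
        (by rw [map_sub, Bialgebra.counit_algebraMap, sub_self]))
      rw [map_sub, AlgHom.commutes, sub_eq_zero] at h2
      rw [h2]
      rfl
    rw [hn1, mul_one]
  have hrange : (φ : C →ₐ[k] A ⧸ nilradical A).range = ⊤ :=
    (coinv_augIdeal _ hC').symm.trans htop
  have hφsurj : Function.Surjective φ := (AlgHom.range_eq_top _).1 hrange
  let e : C ≃ₐc[k] A ⧸ nilradical A := BialgEquiv.ofBijective φ ⟨hφinj, hφsurj⟩
  have key : ∀ r : A →ₐc[k] C, r.comp ψ = BialgHom.id k C → ∀ a, r a = e.symm (π a) := by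
    intro r hr a
    obtain ⟨c, hc⟩ := hφsurj (π a)
    have h1 : a - ψ c ∈ nilradical A := by
      rw [← Ideal.Quotient.eq_zero_iff_mem, map_sub, sub_eq_zero]
      exact hc.symm
    have h2 : r (a - ψ c) = 0 := ((mem_nilradical.1 h1).map r).eq_zero
    have h3 : r (ψ c) = c := congrArg (fun f : C →ₐc[k] C => f c) hr
    rw [map_sub, h3, sub_eq_zero] at h2
    rw [h2, ← hc]
    exact (e.symm_apply_apply c).symm
  have hr₀ : ((e.symm : (A ⧸ nilradical A) →ₐc[k] C).comp π).comp ψ = BialgHom.id k C := by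
    ext c
    exact e.symm_apply_apply c
  constructor
  · refine ⟨(e.symm : (A ⧸ nilradical A) →ₐc[k] C).comp π, hr₀, ?_⟩
    intro r hr
    ext a
    exact key r hr a
  · intro r hr
    ext a
    rw [RingHom.mem_ker]
    show r a = 0 ↔ _
    rw [key r hr a, EmbeddingLike.map_eq_zero_iff]
    exact Ideal.Quotient.eq_zero_iff_mem

end Groth.Agent.Lib.Helper28.EtaleLift
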