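import Groth.Agent.Lib.Helper28.DepthLoc
import Groth.Agent.Lib.Helper28.SuppLoc

/-!
# Localization of the evaluation map into the double dual (helper28)
-/

set_option autoImplicit false

universe u

namespace Groth.Agent.Lib.Helper28

section evalLoc

variable {A : Type u} [CommRing A] [IsNoetherianRing A] (G : Type u) [AddCommGroup G] [Module A G]
  [Module.Finite A G] (S : Submonoid A)

/-- the localization map `G* → (G_S)*` -/
noncomputable def dualLoc :
    Module.Dual A G →ₗ[A] Module.Dual (Localization S) (LocalizedModule S G) :=
  IsLocalizedModule.mapExtendScalars S (LocalizedModule.mkLinearMap S G)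
    (Algebra.linearMap A (Localization S)) (Localization S)

instance dualLoc_isLocalizedModule : IsLocalizedModule S (dualLoc G S) := by
  have := Module.finitePresentation_of_finite A G
  unfold dualLoc
  infer_instance

theorem dualLoc_apply (φ : Module.Dual A G) (m : G) :
    dualLoc G S φ (LocalizedModule.mkLinearMap S G m) = algebraMap A (Localization S) (φ m) := by
  unfold dualLoc
  rw [IsLocalizedModule.mapExtendScalars_apply_apply, IsLocalizedModule.map_apply]
  rfl

/-- the localization map `G** → (G_S)**` -/
noncomputable def ddualLoc :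
    Module.Dual A (Module.Dual A G) →ₗ[A]
      Module.Dual (Localization S) (Module.Dual (Localization S) (LocalizedModule S G)) :=
  IsLocalizedModule.mapExtendScalars S (dualLoc G S)
    (Algebra.linearMap A (Localization S)) (Localization S)

instance ddualLoc_isLocalizedModule : IsLocalizedModule S (ddualLoc G S) := by
  have := Module.finitePresentation_of_finite A (Module.Dual A G)
  unfold ddualLoc
  infer_instance

theorem ddualLoc_apply (ψ : Module.Dual A (Module.Dual A G)) (φ : Module.Dual A G) :
    ddualLoc G S ψ (dualLoc G S φ) = algebraMap A (Localization S) (ψ φ) := by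
  unfold ddualLoc
  rw [IsLocalizedModule.mapExtendScalars_apply_apply, IsLocalizedModule.map_apply]
  rfl

theorem ddualLoc_eval (m : G) :
    ddualLoc G S (Module.Dual.eval A G m) =
      Module.Dual.eval (Localization S) (LocalizedModule S G)
        (LocalizedModule.mkLinearMap S G m) := by
  apply LinearMap.restrictScalars_injective A
  apply IsLocalizedModule.linearMap_ext S (dualLoc G S) (Algebra.linearMap A (Localization S))
  ext φ
  simp only [LinearMap.coe_comp, LinearMap.coe_restrictScalars, Function.comp_apply,
    ddualLoc_apply, Module.Dual.eval_apply, dualLoc_apply]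

/-- if `G_S` embeds in its double dual, the kernel of `G → G**` vanishes after localization -/
theorem subsingleton_localized_ker_eval
    (h : Function.Injective (Module.Dual.eval (Localization S) (LocalizedModule S G))) :
    Subsingleton (LocalizedModule S (LinearMap.ker (Module.Dual.eval A G))) := by
  rw [LocalizedModule.subsingleton_iff]
  rintro ⟨k, hk⟩
  have h0 : LocalizedModule.mkLinearMap S G k = 0 := by
    apply h
    rw [← ddualLoc_eval, LinearMap.mem_ker.mp hk, map_zero, map_zero]
  rw [LocalizedModule.mkLinearMap_apply, ← LocalizedModule.zero_mk (1 : S),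
    LocalizedModule.mk_eq] at h0
  obtain ⟨t, ht⟩ := h0
  simp only [one_smul, smul_zero] at ht
  exact ⟨t, t.2, Subtype.ext ht⟩

/-- if `G_S` surjects onto its double dual, the cokernel of `G → G**` vanishes after
localization -/
theorem subsingleton_localized_coker_eval
    (h : Function.Surjective (Module.Dual.eval (Localization S) (LocalizedModule S G))) :
    Subsingleton (LocalizedModule S
      (Module.Dual A (Module.Dual A G) ⧸ LinearMap.range (Module.Dual.eval A G))) := by
  rw [LocalizedModule.subsingleton_iff]
  intro c
  obtain ⟨ψ, rfl⟩ := Submodule.Quotient.mk_surjective _ c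
  obtain ⟨y, hy⟩ := h (ddualLoc G S ψ)
  obtain ⟨⟨m, s⟩, hms⟩ := IsLocalizedModule.surj S (LocalizedModule.mkLinearMap S G) y
  have hms' : (s : A) • y = LocalizedModule.mkLinearMap S G m := hms
  have h1 : ddualLoc G S ((s : A) • ψ) = ddualLoc G S (Module.Dual.eval A G m) := by
    rw [ddualLoc_eval, ← hms', map_smul, LinearMap.map_smul_of_tower, hy]
  obtain ⟨t, ht⟩ := IsLocalizedModule.exists_of_eq (S := S) h1
  have ht' : (t : A) • (s : A) • ψ = (t : A) • Module.Dual.eval A G m := ht
  refine ⟨(t : A) * (s : A), (t * s).2, ?_⟩
  rw [← Submodule.Quotient.mk_smul, Submodule.Quotient.mk_eq_zero]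
  refine ⟨(t : A) • m, ?_⟩
  rw [map_smul, ← ht', mul_smul]

end evalLoc

section assoc

variable {A : Type u} [CommRing A] [IsNoetherianRing A] (I : Ideal A)

theorem mem_support_of_mem_associatedPrimes {N : Type u} [AddCommGroup N] [Module A N]
    {P : Ideal A} (hP : P ∈ associatedPrimes A N) :
    (⟨P, hP.isPrime⟩ : PrimeSpectrum A) ∈ Module.support A N := by
  obtain ⟨-, z, hz⟩ := isAssociatedPrime_iff.mp hP
  rw [Module.mem_support_iff_exists_annihilator]
  refine ⟨z, ?_⟩
  intro a ha
  change a ∈ P
  rw [hz, Submodule.mem_colon_singleton, Submodule.mem_bot]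
  exact (Submodule.mem_annihilator_span_singleton z a).mp ha

/-- A nonzero module vanishing at all primes outside `V(I)` has an associated prime containing
`I`. -/
theorem exists_le_associatedPrime_of_forall_subsingleton (N : Type u) [AddCommGroup N] [Module A N]
    [Nontrivial N]
    (h : ∀ p : PrimeSpectrum A, ¬ I ≤ p.asIdeal →
      Subsingleton (LocalizedModule p.asIdeal.primeCompl N)) :
    ∃ P ∈ associatedPrimes A N, I ≤ P := by
  obtain ⟨P, hP⟩ := associatedPrimes.nonempty A N
  refine ⟨P, hP, ?_⟩
  by_contra hn
  have := hP.isPrime
  have hs := h ⟨P, hP.isPrime⟩ hn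
  have hsupp := mem_support_of_mem_associatedPrimes hP
  rw [Module.mem_support_iff] at hsupp
  exact false_of_nontrivial_of_subsingleton (LocalizedModule P.primeCompl N)

/-- If `I` lies in an associated prime of the finite module `N`, then `depth_I N = 0`. -/
theorem idealDepth_eq_zero_of_le_associatedPrime {N : Type u} [AddCommGroup N] [Module A N]
    [Module.Finite A N] {P : Ideal A} (hP : P ∈ associatedPrimes A N) (hIP : I ≤ P) :
    LocCoh.idealDepth I N = 0 := by
  have hIN : I • (⊤ : Submodule A N) ≠ ⊤ := by
    intro htop
    have := hP.isPrime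
    have hs := subsingleton_localizedModule_of_smul_top_eq I P hIP htop
    have hsupp := mem_support_of_mem_associatedPrimes hP
    rw [Module.mem_support_iff] at hsupp
    exact false_of_nontrivial_of_subsingleton (LocalizedModule P.primeCompl N)
  exact (Groth.Agent.Lib.Helper4.idealDepth_eq_zero_iff_exists_le_associatedPrime I hIN).mpr
    ⟨P, hP, hIP⟩

/-- A dual module has positive `I`-depth when the ring does. -/
theorem one_le_idealDepth_dual (hA : 1 ≤ LocCoh.idealDepth I A) (N : Type u) [AddCommGroup N]
    [Module A N] : 1 ≤ LocCoh.idealDepth I (Module.Dual A N) := by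
  by_cases hD : I • (⊤ : Submodule A (Module.Dual A N)) = ⊤
  · rw [Groth.Agent.Lib.Helper4.idealDepth_of_smul_top_eq I hD]; exact le_top
  by_cases hI : I • (⊤ : Submodule A A) = ⊤
  · exfalso
    apply hD
    have hItop : I = ⊤ := by simpa using hI
    rw [hItop]
    simp
  · obtain ⟨x, hxI, hx⟩ := (Groth.Agent.Lib.Helper4.one_le_idealDepth_iff I hI).mp hA
    rw [Groth.Agent.Lib.Helper4.one_le_idealDepth_iff I hD]
    refine ⟨x, hxI, ?_⟩
    intro φ ψ h
    ext n
    apply hx
    have := LinearMap.congr_fun h n
    simpa using this

end assoc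

end Groth.Agent.Lib.Helper28
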