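import Groth.Agent.Lib.Helper19.DualComod
import Groth.Agent.Lib.Helper28.TameAct

/-!
# Exactness of invariants on Hopf modules gives a total integral (helper28)

* `isHopfMod_tensor`: `B ⊗ W` with the tensor product coaction is a `(B, A)`-Hopf module.
* `exists_totalIntegral_of_exact`: for `A` finite projective, if invariants are right exact on the surjection
  `B ⊗ A^* → B`, `b ⊗ φ ↦ φ(1) b`, then there is a total integral `A → B`.
-/

set_option autoImplicit false
set_option linter.unusedSectionVars false
set_option linter.style.haveILetI false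
universe u v w w'

open TensorProduct
open Groth.Agent.Lib.Helper19.DualComod

namespace Groth.Agent.Lib.Helper28.ExactInt

section

variable {k : Type u} [CommRing k] {A : Type v} [CommRing A] [HopfAlgebra k A]
variable {B : Type w} [CommRing B] [Algebra k B] [cB : HopfRep.Comod k A B] [GLin.IsCoactAlg k A B]
variable {W : Type w'} [AddCommGroup W] [Module k W] (d : HopfRep.Comod k A W)

lemma key_hmSMul (p p' : B ⊗[k] A) (q : W ⊗[k] A) :
    TensorProduct.map LinearMap.id (LinearMap.mul' k A)
      (AlgebraTensorModule.tensorTensorTensorComm k k k k B A W A ((p * p') ⊗ₜ[k] q)) =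
    TameAct.hmSMul k A B (B ⊗[k] W) p
      (TensorProduct.map LinearMap.id (LinearMap.mul' k A)
        (AlgebraTensorModule.tensorTensorTensorComm k k k k B A W A (p' ⊗ₜ[k] q))) := by
  induction p using TensorProduct.induction_on with
  | zero => simp
  | tmul b a =>
    induction p' using TensorProduct.induction_on with
    | zero => simp
    | tmul b' a' =>
      induction q using TensorProduct.induction_on with
      | zero => simp
      | tmul w a'' =>
        simp only [Algebra.TensorProduct.tmul_mul_tmul, AlgebraTensorModule.tensorTensorTensorComm_tmul,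
          TensorProduct.map_tmul, LinearMap.id_apply, LinearMap.mul'_apply, TameAct.hmSMul_tmul,
          TensorProduct.smul_tmul', smul_eq_mul, mul_assoc]
      | add q q' hq hq' => simp only [TensorProduct.tmul_add, map_add, hq, hq']
    | add p₁ p₂ h₁ h₂ => simp only [mul_add, TensorProduct.add_tmul, map_add, h₁, h₂]
  | add p₁ p₂ h₁ h₂ =>
    simp only [add_mul, TensorProduct.add_tmul, map_add, h₁, h₂, LinearMap.add_apply]

/-- `B ⊗ W` with the tensor product coaction is a `(B, A)`-Hopf module -/
theorem isHopfMod_tensor :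
    letI := ComodTens.Comod.tensor cB d
    TameAct.IsHopfMod k A B (B ⊗[k] W) := by
  letI := ComodTens.Comod.tensor cB d
  refine ⟨fun b x => ?_⟩
  induction x using TensorProduct.induction_on with
  | zero => simp
  | tmul b' w =>
    rw [TensorProduct.smul_tmul', smul_eq_mul]
    change (ComodTens.Comod.tensor cB d).coact ((b * b') ⊗ₜ[k] w) =
      TameAct.hmSMul k A B _ (cB.coact b) ((ComodTens.Comod.tensor cB d).coact (b' ⊗ₜ[k] w))
    rw [ComodTens.tensor_coact_tmul, ComodTens.tensor_coact_tmul, GLin.IsCoactAlg.coact_mul (k := k)]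
    exact key_hmSMul (cB.coact b) (cB.coact b') (d.coact w)
  | add x y hx hy => rw [smul_add, map_add, map_add, hx, hy, map_add]

end

section main

variable {k : Type u} [CommRing k] {A : Type v} [CommRing A] [HopfAlgebra k A]
variable {B : Type w} [CommRing B] [Algebra k B] [cB : HopfRep.Comod k A B] [GLin.IsCoactAlg k A B]

variable (k A B) in
/-- evaluation at `1`: `b ⊗ φ ↦ φ 1 • b`, a `B`-linear map -/
noncomputable def ev1 : B ⊗[k] Module.Dual k A →ₗ[B] B :=
  (TensorProduct.AlgebraTensorModule.rid k B B).toLinearMap ∘ₗ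
    TensorProduct.AlgebraTensorModule.map (LinearMap.id : B →ₗ[B] B) (Module.Dual.eval k A 1)

@[simp] lemma ev1_tmul (b : B) (φ : Module.Dual k A) : ev1 k A B (b ⊗ₜ[k] φ) = φ 1 • b := by
  simp [ev1]

lemma ev1_eq_Th (x : B ⊗[k] Module.Dual k A) : ev1 k A B x = Th (k := k) x 1 := by
  induction x using TensorProduct.induction_on with
  | zero => simp
  | tmul b φ => rw [ev1_tmul, Th_tmul]
  | add x y hx hy => rw [map_add, map_add, LinearMap.add_apply, hx, hy]

lemma ev1_rTensor (y : (B ⊗[k] Module.Dual k A) ⊗[k] A) :
    ((ev1 k A B).restrictScalars k).rTensor A y = Th2 (k := k) y 1 := by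
  induction y using TensorProduct.induction_on with
  | zero => simp
  | tmul x a =>
    induction x using TensorProduct.induction_on with
    | zero => simp
    | tmul b φ =>
      rw [LinearMap.rTensor_tmul, LinearMap.restrictScalars_apply, ev1_tmul, Th2_tmul,
        TensorProduct.smul_tmul']
    | add x y hx hy =>
      rw [TensorProduct.add_tmul, map_add, map_add, LinearMap.add_apply, hx, hy]
  | add x y hx hy => rw [map_add, map_add, LinearMap.add_apply, hx, hy]

variable [Module.Finite k A] [Module.Projective k A]

/-- evaluation at `1` is a comodule map -/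
theorem isComodHom_ev1 :
    letI := ComodTens.Comod.tensor cB (dualComod (HopfRep.Comod.regular k A))
    Hoch.IsComodHom A ((ev1 k A B).restrictScalars k) := by
  letI := ComodTens.Comod.tensor cB (dualComod (HopfRep.Comod.regular k A))
  apply LinearMap.ext
  intro x
  change cB.coact (ev1 k A B x) = ((ev1 k A B).restrictScalars k).rTensor A
    ((ComodTens.Comod.tensor cB (dualComod (HopfRep.Comod.regular k A))).coact x)
  rw [ev1_rTensor, Th2_coact cB (HopfRep.Comod.regular k A) _ (isDual_dualComod _) x, ev1_eq_Th]
  change _ = rmul (k := k) (TensorProduct.map (cB.coact ∘ₗ Th (k := k) x)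
    (HopfAlgebraStruct.antipode (R := k) (A := A)) (Coalgebra.comul (R := k) (1 : A)))
  rw [Bialgebra.comul_one, Algebra.TensorProduct.one_def, TensorProduct.map_tmul,
    HopfAlgebra.antipode_one, rmul_tmul_one, LinearMap.comp_apply]

/-- if invariants lift along `B ⊗ A^* → B` then there is a total integral -/
theorem exists_totalIntegral_of_exact
    (h : ∃ m ∈ @HopfRep.fixedPts k A _ _ _ (B ⊗[k] Module.Dual k A) _ _
        (ComodTens.Comod.tensor cB (dualComod (HopfRep.Comod.regular k A))), ev1 k A B m = 1) :
    ∃ α : A →ₗ[k] B, Hoch.IsComodHom A α ∧ α 1 = 1 := by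
  obtain ⟨m, hm, hm1⟩ := h
  refine ⟨Th (k := k) m, ?_, ?_⟩
  · exact (mem_fixedPts_tensor_dual_iff cB (HopfRep.Comod.regular k A) _ (isDual_dualComod _)
      (dualTensorHom_bijective (R := k) (M := A) (N := B ⊗[k] A)).1 m).mp hm
  · rw [← ev1_eq_Th, hm1]

end main

section statement

/-- the form used in S12928 -/
theorem exists_totalIntegral_of_hexact
    (k : Type u) [CommRing k] (A : Type u) [CommRing A] [HopfAlgebra k A]
    [Module.Finite k A] [Module.Projective k A]
    (B : Type u) [CommRing B] [Algebra k B] [HopfRep.Comod k A B] [GLin.IsCoactAlg k A B]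
    (hexact : ∀ (M N : Type u) [AddCommGroup M] [Module k M] [Module B M] [IsScalarTower k B M]
      [HopfRep.Comod k A M] [TameAct.IsHopfMod k A B M]
      [AddCommGroup N] [Module k N] [Module B N] [IsScalarTower k B N]
      [HopfRep.Comod k A N] [TameAct.IsHopfMod k A B N] (f : M →ₗ[B] N),
      Hoch.IsComodHom A (f.restrictScalars k) → Function.Surjective f →
      ∀ n ∈ HopfRep.fixedPts k A N, ∃ m ∈ HopfRep.fixedPts k A M, f m = n) :
    ∃ α : A →ₗ[k] B, Hoch.IsComodHom A α ∧ α 1 = 1 := by
  letI cM : HopfRep.Comod k A (B ⊗[k] Module.Dual k A) :=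
    ComodTens.Comod.tensor inferInstance (dualComod (HopfRep.Comod.regular k A))
  haveI hM : TameAct.IsHopfMod k A B (B ⊗[k] Module.Dual k A) := isHopfMod_tensor _
  haveI hB : TameAct.IsHopfMod k A B B := Groth.Agent.Lib.Helper28.TameAct.isHopfMod_self k A B
  have h1 : (1 : B) ∈ HopfRep.fixedPts k A B := by
    change HopfRep.Comod.coact (k := k) (A := A) (1 : B) = (1 : B) ⊗ₜ[k] (1 : A)
    rw [GLin.IsCoactAlg.coact_one (k := k), Algebra.TensorProduct.one_def]
  have hsurj : Function.Surjective (ev1 k A B) := by
    intro b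
    refine ⟨b ⊗ₜ[k] (Coalgebra.counit (R := k) (A := A)), ?_⟩
    rw [ev1_tmul, Bialgebra.counit_one, one_smul]
  obtain ⟨m, hm, hm1⟩ := hexact (B ⊗[k] Module.Dual k A) B (ev1 k A B) isComodHom_ev1 hsurj 1 h1
  exact exists_totalIntegral_of_exact ⟨m, hm, hm1⟩

end statement

end Groth.Agent.Lib.Helper28.ExactInt
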