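import Mathlib
import Groth.Prelude.Def_HopfRep

/-!
# The exterior algebra of a comodule as a comodule algebra (helper28)

For a commutative bialgebra `A` over `k` and an `A`-comodule `W`, the exterior algebra
`ExteriorAlgebra k W` carries a comodule structure whose coaction is the algebra map extending
`w ↦ (ι ⊗ id)(ρ w)`.

* `jmap k W R : W ⊗ R → ExteriorAlgebra k W ⊗ R` is `ι ⊗ id` (`jmap_sq`, `jmap_anti`).
* `coactAlg`, `coactAlg_ι`, `extComod`.
* `actAlg g : ExteriorAlgebra k W →ₐ ExteriorAlgebra k W ⊗ R` for a point `g : A →ₐ R`.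
-/

set_option autoImplicit false
set_option linter.unusedSectionVars false
universe u v w w'

open TensorProduct

namespace Groth.Agent.Lib.Helper28.ExtComod

section J

variable (k : Type u) [CommRing k] (W : Type w) [AddCommGroup W] [Module k W]
  (R : Type w') [CommRing R] [Algebra k R]

/-- `ι ⊗ id : W ⊗ R → Λ W ⊗ R`. -/
noncomputable def jmap : W ⊗[k] R →ₗ[k] ExteriorAlgebra k W ⊗[k] R :=
  (ExteriorAlgebra.ι k).rTensor R

variable {k W R}

@[simp] lemma jmap_tmul (w : W) (r : R) :
    jmap k W R (w ⊗ₜ[k] r) = ExteriorAlgebra.ι k w ⊗ₜ[k] r := rfl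

lemma jmap_anti (x y : W ⊗[k] R) :
    jmap k W R x * jmap k W R y = - (jmap k W R y * jmap k W R x) := by
  induction x using TensorProduct.induction_on with
  | zero => simp
  | add x₁ x₂ h₁ h₂ => simp only [map_add, add_mul, mul_add, h₁, h₂, neg_add]
  | tmul w r =>
    induction y using TensorProduct.induction_on with
    | zero => simp
    | add y₁ y₂ h₁ h₂ => simp only [map_add, add_mul, mul_add, h₁, h₂, neg_add]
    | tmul w' r' =>
      simp only [jmap_tmul, Algebra.TensorProduct.tmul_mul_tmul]
      have h := ExteriorAlgebra.ι_add_mul_swap (R := k) w w'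
      rw [eq_neg_of_add_eq_zero_left h, mul_comm r r', TensorProduct.neg_tmul]

lemma jmap_sq (x : W ⊗[k] R) : jmap k W R x * jmap k W R x = 0 := by
  induction x using TensorProduct.induction_on with
  | zero => simp
  | tmul w r =>
    simp only [jmap_tmul, Algebra.TensorProduct.tmul_mul_tmul, ExteriorAlgebra.ι_sq_zero,
      TensorProduct.zero_tmul]
  | add x₁ x₂ h₁ h₂ =>
    simp only [map_add, add_mul, mul_add, h₁, h₂, zero_add, add_zero]
    rw [jmap_anti x₁ x₂]
    simp

end J

section Coact

variable {k : Type u} [CommRing k] {A : Type v} [CommRing A] [Bialgebra k A]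
  {W : Type w} [AddCommGroup W] [Module k W] [HopfRep.Comod k A W]

/-- The coaction on the exterior algebra, as an algebra map. -/
noncomputable def coactAlg : ExteriorAlgebra k W →ₐ[k] ExteriorAlgebra k W ⊗[k] A :=
  ExteriorAlgebra.lift k ⟨jmap k W A ∘ₗ HopfRep.Comod.coact (k := k) (A := A) (V := W),
    fun w => jmap_sq _⟩

@[simp] lemma coactAlg_ι (w : W) :
    coactAlg (A := A) (ExteriorAlgebra.ι k w) =
      jmap k W A (HopfRep.Comod.coact (k := k) (A := A) w) := by
  simp [coactAlg]

lemma claimA (t : W ⊗[k] A) :
    Algebra.TensorProduct.assoc k k k (ExteriorAlgebra k W) A A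
      (Algebra.TensorProduct.map (coactAlg (A := A) (W := W)) (AlgHom.id k A) (jmap k W A t)) =
    (ExteriorAlgebra.ι k).rTensor (A ⊗[k] A)
      (TensorProduct.assoc k W A A
        ((HopfRep.Comod.coact (k := k) (A := A) (V := W)).rTensor A t)) := by
  induction t using TensorProduct.induction_on with
  | zero => simp
  | add u₁ u₂ h₁ h₂ => simp only [map_add, h₁, h₂]
  | tmul x h =>
    rw [jmap_tmul, Algebra.TensorProduct.map_tmul, coactAlg_ι, AlgHom.id_apply,
      LinearMap.rTensor_tmul]
    generalize HopfRep.Comod.coact (k := k) (A := A) x = s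
    induction s using TensorProduct.induction_on with
    | zero => simp
    | add u₁ u₂ h₁ h₂ => simp only [map_add, TensorProduct.add_tmul, h₁, h₂]
    | tmul y a => simp

lemma claimB (t : W ⊗[k] A) :
    Algebra.TensorProduct.map (AlgHom.id k (ExteriorAlgebra k W)) (Bialgebra.comulAlgHom k A)
      (jmap k W A t) =
    (ExteriorAlgebra.ι k).rTensor (A ⊗[k] A)
      ((Coalgebra.comul (R := k) (A := A)).lTensor W t) := by
  induction t using TensorProduct.induction_on with
  | zero => simp
  | tmul x h => simp
  | add u₁ u₂ h₁ h₂ => simp only [map_add, h₁, h₂]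

lemma claimC (t : W ⊗[k] A) :
    Algebra.TensorProduct.rid k k (ExteriorAlgebra k W)
      (Algebra.TensorProduct.map (AlgHom.id k (ExteriorAlgebra k W)) (Bialgebra.counitAlgHom k A)
        (jmap k W A t)) =
    ExteriorAlgebra.ι k (TensorProduct.rid k W ((Coalgebra.counit (R := k) (A := A)).lTensor W t)) := by
  induction t using TensorProduct.induction_on with
  | zero => simp
  | tmul x h => simp
  | add u₁ u₂ h₁ h₂ => simp only [map_add, h₁, h₂]

theorem coactAlg_coassoc :
    (Algebra.TensorProduct.assoc k k k (ExteriorAlgebra k W) A A).toAlgHom.comp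
        ((Algebra.TensorProduct.map (coactAlg (A := A) (W := W)) (AlgHom.id k A)).comp coactAlg) =
      (Algebra.TensorProduct.map (AlgHom.id k _) (Bialgebra.comulAlgHom k A)).comp coactAlg := by
  apply ExteriorAlgebra.hom_ext
  refine LinearMap.ext fun w => ?_
  have hK := LinearMap.congr_fun (HopfRep.Comod.coassoc (k := k) (A := A) (V := W)) w
  simp only [LinearMap.comp_apply, LinearEquiv.coe_coe] at hK
  simp only [LinearMap.comp_apply, AlgHom.toLinearMap_apply, AlgHom.comp_apply, coactAlg_ι]
  refine (claimA _).trans ?_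
  rw [hK, ← claimB]

theorem coactAlg_counit :
    (Algebra.TensorProduct.rid k k (ExteriorAlgebra k W)).toAlgHom.comp
        ((Algebra.TensorProduct.map (AlgHom.id k _) (Bialgebra.counitAlgHom k A)).comp
          (coactAlg (A := A) (W := W))) = AlgHom.id k _ := by
  apply ExteriorAlgebra.hom_ext
  refine LinearMap.ext fun w => ?_
  have hK := LinearMap.congr_fun (HopfRep.Comod.counit_comp (k := k) (A := A) (V := W)) w
  simp only [LinearMap.comp_apply, LinearMap.flip_apply, TensorProduct.mk_apply] at hK
  simp only [LinearMap.comp_apply, AlgHom.toLinearMap_apply, AlgHom.comp_apply, coactAlg_ι,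
    AlgHom.id_apply]
  refine (claimC _).trans ?_
  rw [hK]
  simp

variable (k A W) in
/-- The comodule structure on the exterior algebra of a comodule. -/
@[reducible] noncomputable def extComod : HopfRep.Comod k A (ExteriorAlgebra k W) where
  coact := (coactAlg (A := A) (W := W)).toLinearMap
  coassoc := by
    refine LinearMap.ext fun p => ?_
    exact congrArg (fun φ => φ p) (coactAlg_coassoc (A := A) (W := W))
  counit_comp := by
    refine LinearMap.ext fun p => ?_
    have h' : (Algebra.TensorProduct.rid k k (ExteriorAlgebra k W))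
        (LinearMap.lTensor (ExteriorAlgebra k W) (CoalgebraStruct.counit (R := k) (A := A))
          (coactAlg (A := A) (W := W) p)) = p :=
      congrArg (fun φ => φ p) (coactAlg_counit (A := A) (W := W))
    apply (Algebra.TensorProduct.rid k k (ExteriorAlgebra k W)).injective
    simpa using h'

theorem extComod_coact (p : ExteriorAlgebra k W) :
    (extComod k A W).coact p = coactAlg (A := A) (W := W) p := rfl

end Coact

end Groth.Agent.Lib.Helper28.ExtComod
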