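import Mathlib

/-!
# Affine lemmas for the finite form of Zariski's main theorem (helper28)
-/

set_option autoImplicit false
set_option linter.style.haveILetI false
set_option linter.unusedSectionVars false
universe u
open AlgebraicGeometry CategoryTheory Limits TopologicalSpace

namespace Groth.Agent.Lib.Helper28.QCSubAff

section algebra

theorem bijective_of_isLocalization_away {R R' L L' : Type*} [CommRing R] [CommRing R']
    [CommRing L] [CommRing L'] [Algebra R L] [Algebra R' L'] (φ : R →+* R') (r : R)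
    [IsLocalization.Away r L] [IsLocalization.Away (φ r) L'] (ψ : L →+* L')
    (hψ : ψ.comp (algebraMap R L) = (algebraMap R' L').comp φ)
    (hinj : Function.Injective φ) (hsurj : ∀ a : R', ∃ n : ℕ, ∃ c : R, φ c = φ r ^ n * a) :
    Function.Bijective ψ := by
  have hψ' : ∀ c : R, ψ (algebraMap R L c) = algebraMap R' L' (φ c) :=
    fun c => congr($hψ c)
  have hu : IsUnit (algebraMap R L r) := IsLocalization.Away.algebraMap_isUnit r
  have hu' : IsUnit (algebraMap R' L' (φ r)) := IsLocalization.Away.algebraMap_isUnit (φ r)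
  constructor
  · rw [injective_iff_map_eq_zero]
    intro x hx
    obtain ⟨n, c, hc⟩ := IsLocalization.Away.surj r x
    have h1 : algebraMap R' L' (φ c) = 0 := by
      rw [← hψ', ← hc, map_mul, hx, zero_mul]
    obtain ⟨⟨_, m, rfl⟩, hm⟩ := (IsLocalization.map_eq_zero_iff (Submonoid.powers (φ r)) L' _).1 h1
    have h2 : r ^ m * c = 0 := hinj (by rw [map_mul, map_pow, map_zero]; exact hm)
    have h3 : algebraMap R L r ^ m * algebraMap R L c = 0 := by
      rw [← map_pow, ← map_mul, h2, map_zero]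
    have h4 : algebraMap R L c = 0 := (hu.pow m).mul_right_eq_zero.1 h3
    rw [h4] at hc
    exact (hu.pow n).mul_left_eq_zero.1 hc
  · intro y
    obtain ⟨n, a, ha⟩ := IsLocalization.Away.surj (φ r) y
    obtain ⟨m, c, hc⟩ := hsurj a
    obtain ⟨v, hv⟩ := (hu.pow (n + m)).exists_left_inv
    refine ⟨algebraMap R L c * v, ?_⟩
    have h1 : ψ (algebraMap R L c * v) * algebraMap R' L' (φ r) ^ (n + m) =
        y * algebraMap R' L' (φ r) ^ (n + m) := by
      have h2 : algebraMap R' L' (φ r) ^ (n + m) = ψ (algebraMap R L r ^ (n + m)) := by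
        rw [map_pow, hψ']
      rw [h2, ← map_mul, mul_assoc, hv, mul_one, hψ', hc, map_mul, map_pow, ← ha, ← h2, pow_add]
      ring
    exact (hu'.pow (n + m)).mul_left_injective h1

end algebra

section spec

theorem SpecMap_app_comp_algebraMap {R R' : CommRingCat.{u}} (φ : R ⟶ R') (U : (Spec R).Opens) :
    ((Spec.map φ).app U).hom.comp (algebraMap R Γ(Spec R, U)) =
      (algebraMap R' Γ(Spec R', Spec.map φ ⁻¹ᵁ U)).comp φ.hom := by
  rw [IsAffineOpen.algebraMap_Spec_obj, IsAffineOpen.algebraMap_Spec_obj, ← CommRingCat.hom_comp, ← CommRingCat.hom_comp]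
  congr 1
  rw [Category.assoc, (Spec.map φ).naturality]
  have h := Scheme.ΓSpecIso_inv_naturality φ
  rw [← Category.assoc, ← Category.assoc]
  erw [← h]
  rfl

set_option backward.isDefEq.respectTransparency.types false in
theorem isIso_SpecMap_restrict_basicOpen {R R' : CommRingCat.{u}} (φ : R ⟶ R') (r : R)
    (hinj : Function.Injective φ.hom)
    (hsurj : ∀ a : R', ∃ n : ℕ, ∃ c : R, φ.hom c = φ.hom r ^ n * a) :
    IsIso (Spec.map φ ∣_ (PrimeSpectrum.basicOpen r : (Spec R).Opens)) := by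
  have hU : IsAffineOpen (X := Spec R) (PrimeSpectrum.basicOpen r) :=
    IsAffineOpen.Spec_basicOpen r
  rw [isIso_morphismRestrict_iff_isIso_app _ hU, ConcreteCategory.isIso_iff_bijective]
  haveI : IsLocalization.Away (φ.hom r)
      Γ(Spec R', Spec.map φ ⁻¹ᵁ (PrimeSpectrum.basicOpen r : (Spec R).Opens)) :=
    inferInstanceAs (IsLocalization.Away (φ.hom r)
      Γ(Spec R', (PrimeSpectrum.basicOpen (φ.hom r) : (Spec R').Opens)))
  exact bijective_of_isLocalization_away φ.hom r _ (SpecMap_app_comp_algebraMap φ _) hinj hsurj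

end spec

section cover

theorem isIso_morphismRestrict_iSup {Y' Y : Scheme.{u}} (h : Y' ⟶ Y) {ι : Type u}
    (V : ι → Y.Opens) (hV : ∀ i, IsIso (h ∣_ V i)) : IsIso (h ∣_ ⨆ i, V i) := by
  let 𝒰 := Scheme.Opens.iSupOpenCover V
  refine (IsZariskiLocalAtTarget.iff_of_openCover (P := .isomorphisms _) 𝒰).mpr fun x ↦ ?_
  refine (MorphismProperty.arrow_mk_iso_iff (.isomorphisms _)
    ((morphismRestrictRestrict ..).symm ≪≫ morphismRestrictOpensRange ..)).mp ?_
  have : Scheme.Opens.ι _ ''ᵁ (𝒰.f x).opensRange = V x := by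
    simp only [Scheme.Opens.iSupOpenCover, 𝒰, ← Scheme.Hom.opensRange_comp, Scheme.homOfLE_ι,
      Scheme.Opens.opensRange_ι]
  convert! hV x

theorem isOpenImmersion_comp_of_cover {W Y' Y : Scheme.{u}} (g : W ⟶ Y') [IsOpenImmersion g]
    (h : Y' ⟶ Y) {ι : Type u} (V : ι → Y.Opens) (hV : ∀ i, IsIso (h ∣_ V i))
    (hcov : ∀ w : W, ∃ i, h (g w) ∈ V i) : IsOpenImmersion (g ≫ h) := by
  haveI := isIso_morphismRestrict_iSup h V hV
  set O := ⨆ i, V i with hO
  have hrange : Set.range g ⊆ Set.range (h ⁻¹ᵁ O).ι := by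
    rintro _ ⟨w, rfl⟩
    rw [Scheme.Opens.range_ι]
    obtain ⟨i, hi⟩ := hcov w
    exact Opens.mem_iSup.2 ⟨i, hi⟩
  have hfac : IsOpenImmersion.lift (h ⁻¹ᵁ O).ι g hrange ≫ (h ⁻¹ᵁ O).ι = g :=
    IsOpenImmersion.lift_fac _ _ _
  haveI : IsOpenImmersion (IsOpenImmersion.lift (h ⁻¹ᵁ O).ι g hrange) := by
    have : IsOpenImmersion (IsOpenImmersion.lift (h ⁻¹ᵁ O).ι g hrange ≫ (h ⁻¹ᵁ O).ι) := by
      rw [hfac]; infer_instance
    exact IsOpenImmersion.of_comp _ (h ⁻¹ᵁ O).ι
  have e : g ≫ h = IsOpenImmersion.lift (h ⁻¹ᵁ O).ι g hrange ≫ (h ∣_ O) ≫ O.ι := by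
    rw [morphismRestrict_ι, ← Category.assoc, hfac]
  rw [e]
  infer_instance

end cover

section vaff

variable {X : Scheme.{u}}

/-- If `W → Spec A'` is an open immersion, `C' ⊆ A'` and finitely (or arbitrarily) many
`b i ∈ C'` cover `W` with `A'[1/b i] = C'[1/b i]`, then `W → Spec C'` is an open immersion. -/
theorem isOpenImmersion_toSpecΓ_subring (W : X.Opens) (A' C' : Subring Γ(X, W)) (hCA : C' ≤ A')
    (hA : IsOpenImmersion (W.toSpecΓ ≫ Spec.map (CommRingCat.ofHom A'.subtype)))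
    {ι : Type u} (b : ι → Γ(X, W)) (hb : ∀ i, b i ∈ C')
    (hcov : ∀ x ∈ W, ∃ i, x ∈ X.basicOpen (b i))
    (hpow : ∀ i, ∀ a ∈ A', ∃ n : ℕ, b i ^ n * a ∈ C') :
    IsOpenImmersion (W.toSpecΓ ≫ Spec.map (CommRingCat.ofHom C'.subtype)) := by
  haveI := hA
  set g := W.toSpecΓ ≫ Spec.map (CommRingCat.ofHom A'.subtype) with hg
  set φ : CommRingCat.of C' ⟶ CommRingCat.of A' :=
    CommRingCat.ofHom (Subring.inclusion hCA) with hφ
  have hcomp : W.toSpecΓ ≫ Spec.map (CommRingCat.ofHom C'.subtype) = g ≫ Spec.map φ := by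
    rw [hg, Category.assoc, ← Spec.map_comp]
    rfl
  rw [hcomp]
  refine isOpenImmersion_comp_of_cover g (Spec.map φ)
    (fun i => (PrimeSpectrum.basicOpen (⟨b i, hb i⟩ : C') : (Spec (CommRingCat.of C')).Opens))
    (fun i => ?_) (fun w => ?_)
  · refine isIso_SpecMap_restrict_basicOpen φ ⟨b i, hb i⟩ (Subring.inclusion_injective hCA) ?_
    rintro ⟨a, ha⟩
    obtain ⟨n, hn⟩ := hpow i a ha
    exact ⟨n, ⟨_, hn⟩, rfl⟩
  · obtain ⟨i, hi⟩ := hcov w.1 w.2
    refine ⟨i, ?_⟩
    have h1 : w ∈ W.toSpecΓ ⁻¹ᵁ (PrimeSpectrum.basicOpen (b i)) := by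
      rw [Scheme.Opens.toSpecΓ_preimage_basicOpen]
      exact hi
    rw [← Scheme.Hom.comp_apply, ← hcomp]
    exact h1

end vaff

end Groth.Agent.Lib.Helper28.QCSubAff
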