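import Mathlib

/-!
# Quasi-coherent subalgebras of `f_* O_X` on affine opens, and their relative spectrum (helper28)
-/

set_option autoImplicit false
set_option linter.style.haveILetI false
set_option linter.unusedSectionVars false
universe u
open AlgebraicGeometry CategoryTheory Limits TopologicalSpace

namespace Groth.Agent.Lib.Helper28.QCSub

section algebra

/-- A subring of a localization away from `a` which is "the localization of a subring". -/
theorem isLocalization_away_subring {A A' : Type*} [CommRing A] [CommRing A'] (ρ : A →+* A')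
    (a : A) (hloc : letI := ρ.toAlgebra; IsLocalization.Away a A')
    (C : Subring A) (C' : Subring A') (ha : a ∈ C) (hρ : ∀ c ∈ C, ρ c ∈ C')
    (hinv : ∃ u ∈ C', u * ρ a = 1)
    (hsurj : ∀ b ∈ C', ∃ n : ℕ, ∃ c ∈ C, ρ c = ρ a ^ n * b) :
    letI := (ρ.restrict C C' hρ).toAlgebra
    IsLocalization.Away (⟨a, ha⟩ : C) C' := by
  letI algA := ρ.toAlgebra
  letI algC := (ρ.restrict C C' hρ).toAlgebra
  have hmap : ∀ c : C, ((algebraMap C C' c : C') : A') = ρ c := fun c => rfl
  obtain ⟨u, huC', hu⟩ := hinv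
  refine ⟨?_, ?_, ?_⟩
  · rintro ⟨_, n, rfl⟩
    rw [map_pow]
    apply IsUnit.pow
    refine ⟨⟨algebraMap C C' ⟨a, ha⟩, ⟨u, huC'⟩, ?_, ?_⟩, rfl⟩
    · apply Subtype.ext
      show ρ a * u = 1
      rw [mul_comm]; exact hu
    · apply Subtype.ext
      exact hu
  · rintro ⟨b, hb⟩
    obtain ⟨n, c, hc, e⟩ := hsurj b hb
    refine ⟨(⟨c, hc⟩, ⟨⟨a, ha⟩ ^ n, n, rfl⟩), ?_⟩
    apply Subtype.ext
    show b * ρ (a ^ n) = ρ c
    rw [e, map_pow, mul_comm]
  · intro x y hxy
    have h1 : algebraMap A A' x = algebraMap A A' y := congrArg Subtype.val hxy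
    obtain ⟨⟨_, n, rfl⟩, hn⟩ := (IsLocalization.eq_iff_exists (Submonoid.powers a) A').1 h1
    refine ⟨⟨⟨a, ha⟩ ^ n, n, rfl⟩, ?_⟩
    apply Subtype.ext
    exact hn

end algebra

variable {X S : Scheme.{u}} (f : X ⟶ S)

/-- The restriction map `Γ(X, f⁻¹U) → Γ(X, f⁻¹U')` for `U' ≤ U`. -/
noncomputable abbrev res {U U' : S.Opens} (h : U' ≤ U) : Γ(X, f ⁻¹ᵁ U) →+* Γ(X, f ⁻¹ᵁ U') :=
  (X.presheaf.map (homOfLE (f.preimage_mono h)).op).hom

theorem res_res {U U' U'' : S.Opens} (h : U' ≤ U) (h' : U'' ≤ U') (b : Γ(X, f ⁻¹ᵁ U)) :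
    res f h' (res f h b) = res f (h'.trans h) b := by
  show ((X.presheaf.map _) ≫ (X.presheaf.map _)).hom b = _
  rw [← X.presheaf.map_comp]
  rfl

theorem res_self {U : S.Opens} (b : Γ(X, f ⁻¹ᵁ U)) : res f (le_refl U) b = b := by
  show (X.presheaf.map (𝟙 _)).hom b = b
  rw [X.presheaf.map_id]
  rfl

theorem res_app {U U' : S.Opens} (h : U' ≤ U) (r : Γ(S, U)) :
    res f h ((f.app U).hom r) = (f.app U').hom ((S.presheaf.map (homOfLE h).op).hom r) :=
  (congr($(f.naturality (homOfLE h).op).hom r)).symm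

/-- A "quasi-coherent subalgebra" of `f_* O_X`: a compatible family of subrings of
`Γ(X, f⁻¹U)` containing the image of `Γ(S, U)` and compatible with localization on affine
opens. -/
structure Sub where
  /-- the subring of sections over `f⁻¹U` -/
  sub : ∀ U : S.Opens, Subring Γ(X, f ⁻¹ᵁ U)
  map_mem : ∀ (U : S.Opens) (r : Γ(S, U)), (f.app U).hom r ∈ sub U
  res_mem : ∀ {U U' : S.Opens} (h : U' ≤ U) {b : Γ(X, f ⁻¹ᵁ U)}, b ∈ sub U → res f h b ∈ sub U'
  loc : ∀ (U : S.Opens), IsAffineOpen U → ∀ (r : Γ(S, U)) (b : Γ(X, f ⁻¹ᵁ S.basicOpen r)),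
    b ∈ sub (S.basicOpen r) → ∃ (n : ℕ) (c : Γ(X, f ⁻¹ᵁ U)), c ∈ sub U ∧
      res f (S.basicOpen_le r) c = res f (S.basicOpen_le r) ((f.app U).hom r) ^ n * b

namespace Sub

variable {f} (C : Sub f)

/-- The presheaf of rings `U ↦ C(U)`. -/
noncomputable def diagram : S.Opensᵒᵖ ⥤ CommRingCat where
  obj U := .of (C.sub U.unop)
  map {V U} i := CommRingCat.ofHom ((res f i.unop.le).restrict _ _ fun _ hx => C.res_mem _ hx)
  map_id U := by
    ext x
    exact res_self f _
  map_comp i j := by
    ext x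
    exact (res_res f _ _ _).symm

/-- The structure map `O_S → C`. -/
noncomputable def diagramMap : S.presheaf ⟶ C.diagram where
  app U := CommRingCat.ofHom ((f.app U.unop).hom.codRestrict (C.sub U.unop) (C.map_mem _))
  naturality {U V} i := by
    ext x
    exact Subtype.ext congr($(f.naturality i) x)

end Sub

section coeq

variable [QuasiCompact f] [QuasiSeparated f]

theorem isLocalization_of_eq_basicOpen {V W : X.Opens} (hV : IsCompact (V : Set X))
    (hV' : IsQuasiSeparated (V : Set X)) (a : Γ(X, V)) (hW : W = X.basicOpen a) (hle : W ≤ V) :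
    letI := (X.presheaf.map (homOfLE hle).op).hom.toAlgebra
    IsLocalization.Away a Γ(X, W) := by
  subst hW
  exact isLocalization_basicOpen_of_qcqs hV hV' a

theorem isLocalization_res {U : S.Opens} (hU : IsAffineOpen U) (r : Γ(S, U)) :
    letI := (res f (S.basicOpen_le r)).toAlgebra
    IsLocalization.Away ((f.app U).hom r) Γ(X, f ⁻¹ᵁ S.basicOpen r) :=
  isLocalization_of_eq_basicOpen (f.isCompact_preimage hU.isCompact)
    (f.isQuasiSeparated_preimage hU.isQuasiSeparated) ((f.app U).hom r)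
    (f.preimage_basicOpen r) (f.preimage_mono (S.basicOpen_le r))

theorem isUnit_app_basicOpen {U : S.Opens} (r : Γ(S, U)) :
    IsUnit ((S.presheaf.map (homOfLE (S.basicOpen_le r)).op).hom r) :=
  RingedSpace.isUnit_res_basicOpen _ r

namespace Sub

variable {f} (C : Sub f)

open Scheme.AffineZariskiSite in
theorem coequifibered_diagramMap :
    ((toOpensFunctor S).op.whiskerLeft C.diagramMap).Coequifibered := by
  refine coequifibered_iff_forall_isLocalizationAway.mpr fun U r ↦ ?_
  have hloc := isLocalization_res f U.2 r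
  have ha : (f.app U.1).hom r ∈ C.sub U.1 := C.map_mem _ _
  have hρ : ∀ c ∈ C.sub U.1, res f (S.basicOpen_le r) c ∈ C.sub (S.basicOpen r) :=
    fun c hc => C.res_mem _ hc
  have hinv : ∃ u ∈ C.sub (S.basicOpen r),
      u * res f (S.basicOpen_le r) ((f.app U.1).hom r) = 1 := by
    obtain ⟨v, hv⟩ := (isUnit_app_basicOpen r).exists_left_inv
    refine ⟨(f.app (S.basicOpen r)).hom v, C.map_mem _ _, ?_⟩
    rw [res_app, ← map_mul, hv, map_one]
  have hsurj : ∀ b ∈ C.sub (S.basicOpen r), ∃ n : ℕ, ∃ c ∈ C.sub U.1,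
      res f (S.basicOpen_le r) c = res f (S.basicOpen_le r) ((f.app U.1).hom r) ^ n * b := by
    intro b hb
    obtain ⟨n, c, hc, e⟩ := C.loc U.1 U.2 r b hb
    exact ⟨n, c, hc, e⟩
  exact isLocalization_away_subring (res f (S.basicOpen_le r)) ((f.app U.1).hom r) hloc
    (C.sub U.1) (C.sub (S.basicOpen r)) ha hρ hinv hsurj

end Sub

end coeq

section spec

variable [QuasiCompact f] [QuasiSeparated f]

namespace Sub

variable {f} (C : Sub f)

open Scheme.AffineZariskiSite

/-- The gluing data for the relative spectrum of `C`. -/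
noncomputable def glueData := relativeGluingData C.coequifibered_diagramMap

instance : (C.glueData.functor ⋙ Scheme.forget).IsLocallyDirected :=
  Scheme.Cover.RelativeGluingData.instIsLocallyDirectedI₀CompFunctorForgetOfIsThin ..

/-- The relative spectrum of `C`. -/
noncomputable def spec : Scheme.{u} := C.glueData.glued

/-- The open cover of `C.spec` by the `Spec C(U)`. -/
noncomputable def specCover : C.spec.OpenCover := C.glueData.cover

/-- The structure morphism. -/
noncomputable def toBase : C.spec ⟶ S := C.glueData.toBase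

@[reassoc]
theorem ι_toBase (U : S.affineOpens) :
    C.specCover.f U ≫ C.toBase = Spec.map (C.diagramMap.app (.op U.1)) ≫ U.2.fromSpec :=
  colimit.ι_desc _ _

set_option backward.isDefEq.respectTransparency.types false in
theorem toBase_preimage (U : S.affineOpens) :
    C.toBase ⁻¹ᵁ U = (C.specCover.f U).opensRange := by
  simpa using! C.glueData.toBase_preimage_eq_opensRange_ι U

set_option backward.defeqAttrib.useBackward true in
set_option backward.isDefEq.respectTransparency false in
/-- The canonical morphism from `X` to the relative spectrum. -/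
noncomputable def fromX : X ⟶ C.spec :=
  Scheme.OpenCover.glueMorphismsOfLocallyDirected
    ((directedCover S).pullback₁ f)
    (fun U ↦
      (pullbackRestrictIsoRestrict f _).hom ≫
      (f ⁻¹ᵁ U.1).toSpecΓ ≫ Spec.map (CommRingCat.ofHom (C.sub U.1).subtype) ≫
        C.specCover.f U) fun {U V : S.AffineZariskiSite} i ↦ by
  have : (pullbackRestrictIsoRestrict f U.1).inv ≫
      Scheme.Cover.trans ((directedCover S).pullback₁ f) i ≫
      (pullbackRestrictIsoRestrict f V.1).hom = X.homOfLE
        (f.preimage_mono (toOpens_mono i.1.1)) := by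
    rw [← cancel_mono (Scheme.Opens.ι _)]
    simp +instances [Scheme.Cover.trans, Scheme.Cover.locallyDirectedPullbackCover]
  rw [← Iso.inv_comp_eq, reassoc_of% this, ← Scheme.Opens.toSpecΓ_SpecMap_presheaf_map_assoc,
    ← Spec.map_comp_assoc]
  dsimp [specCover]
  rw [← colimit.w C.glueData.functor i]
  dsimp [glueData, relativeGluingData]
  rw [← Spec.map_comp_assoc]
  rfl

set_option backward.isDefEq.respectTransparency.types false in
set_option backward.defeqAttrib.useBackward true in
@[reassoc]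
theorem ι_fromX (U : S.affineOpens) :
    (f ⁻¹ᵁ U.1).ι ≫ C.fromX = (f ⁻¹ᵁ U.1).toSpecΓ ≫
      Spec.map (CommRingCat.ofHom (C.sub U.1).subtype) ≫ C.specCover.f U := by
  rw [← cancel_epi (pullbackRestrictIsoRestrict f U.1).hom, ← Category.assoc]
  trans ((directedCover S).pullback₁ f).f U ≫ C.fromX
  · congr 1; simp
  delta fromX
  generalize_proofs _ _ _ _ H
  exact Scheme.OpenCover.map_glueMorphismsOfLocallyDirected _ _ H _

set_option backward.isDefEq.respectTransparency false in
@[reassoc (attr := simp)]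
theorem fromX_toBase : C.fromX ≫ C.toBase = f := by
  refine Scheme.Cover.hom_ext (X.openCoverOfIsOpenCover _
    (.comap (iSup_affineOpens_eq_top S) f.base.hom)) _ _ fun U ↦ ?_
  refine (C.ι_fromX_assoc _ _).trans ?_
  rw [C.ι_toBase, ← Spec.map_comp_assoc]
  change (f ⁻¹ᵁ U.1).toSpecΓ ≫ Spec.map (f.app _) ≫ U.2.fromSpec = (f ⁻¹ᵁ U.1).ι ≫ _
  simp

set_option backward.isDefEq.respectTransparency false in
/-- The restriction of `toBase` over an affine open is `Spec` of the structure map. -/
theorem isFinite_toBase {ι : Type*} (U : ι → S.affineOpens) (hU : ⨆ i, (U i).1 = ⊤)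
    (h : ∀ i, (C.diagramMap.app (.op (U i).1)).hom.Finite) : IsFinite C.toBase := by
  rw [IsZariskiLocalAtTarget.iff_of_iSup_eq_top (P := @IsFinite) _ hU]
  intro i
  let e := IsOpenImmersion.isoOfRangeEq (C.toBase ⁻¹ᵁ (U i).1).ι (C.specCover.f (U i))
      (by simpa using congr($(C.toBase_preimage (U i)).1))
  rw [← MorphismProperty.cancel_left_of_respectsIso @IsFinite e.inv,
    ← MorphismProperty.cancel_right_of_respectsIso @IsFinite _ (U i).2.isoSpec.hom]
  convert! (IsFinite.SpecMap_iff _).mpr (h i)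
  rw [← cancel_mono (U i).2.fromSpec]
  simp [IsAffineOpen.isoSpec_hom, e, ι_toBase]

/-- The chart of the relative spectrum over an affine open, as a morphism from `Spec`. -/
noncomputable def chart (U : S.affineOpens) : Spec (CommRingCat.of (C.sub U.1)) ⟶ C.spec :=
  C.specCover.f U

instance (U : S.affineOpens) : IsOpenImmersion (C.chart U) := C.specCover.map_prop U

theorem chart_toBase (U : S.affineOpens) :
    C.chart U ≫ C.toBase = Spec.map (C.diagramMap.app (.op U.1)) ≫ U.2.fromSpec :=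
  C.ι_toBase U

theorem chart_opensRange (U : S.affineOpens) : (C.chart U).opensRange = C.toBase ⁻¹ᵁ U.1 :=
  (C.toBase_preimage U).symm

theorem ι_fromX_chart (U : S.affineOpens) :
    (f ⁻¹ᵁ U.1).ι ≫ C.fromX = (f ⁻¹ᵁ U.1).toSpecΓ ≫
      Spec.map (CommRingCat.ofHom (C.sub U.1).subtype) ≫ C.chart U :=
  C.ι_fromX U

/-- If the affine open is everything, the chart is an isomorphism. -/
theorem isIso_chart_of_eq_top (U : S.affineOpens) (hU : U.1 = ⊤) : IsIso (C.chart U) := by
  rw [isIso_iff_isOpenImmersion_and_surjective]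
  refine ⟨inferInstance, ⟨fun x => ?_⟩⟩
  have : x ∈ (C.chart U).opensRange := by
    rw [C.chart_opensRange, hU]; trivial
  exact this

theorem isOpenImmersion_ι_comp_of_eq {Y : Scheme.{u}} (g : X ⟶ Y) {W W' : X.Opens} (h : W = W')
    (hg : IsOpenImmersion (W'.ι ≫ g)) : IsOpenImmersion (W.ι ≫ g) := by
  subst h
  exact hg

/-- `fromX` is an open immersion as soon as it is so over the members of an affine cover. -/
theorem isOpenImmersion_fromX {ι : Type*} (U : ι → S.affineOpens) (hU : ⨆ i, (U i).1 = ⊤)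
    (h : ∀ i, IsOpenImmersion ((f ⁻¹ᵁ (U i).1).toSpecΓ ≫
      Spec.map (CommRingCat.ofHom (C.sub (U i).1).subtype))) : IsOpenImmersion C.fromX := by
  have hO : ⨆ i, C.toBase ⁻¹ᵁ (U i).1 = ⊤ := by
    rw [← Scheme.Hom.preimage_iSup, hU]
    rfl
  rw [IsZariskiLocalAtTarget.iff_of_iSup_eq_top (P := @IsOpenImmersion) _ hO]
  intro i
  have h1 : IsOpenImmersion ((C.fromX ∣_ (C.toBase ⁻¹ᵁ (U i).1)) ≫ (C.toBase ⁻¹ᵁ (U i).1).ι) := by
    rw [morphismRestrict_ι]
    have heq : C.fromX ⁻¹ᵁ (C.toBase ⁻¹ᵁ (U i).1) = f ⁻¹ᵁ (U i).1 := by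
      rw [← Scheme.Hom.comp_preimage, C.fromX_toBase]
    apply isOpenImmersion_ι_comp_of_eq _ heq
    rw [C.ι_fromX, ← Category.assoc]
    haveI := h i
    exact @IsOpenImmersion.comp _ _ _ _ (C.specCover.f (U i)) (h i) (C.specCover.map_prop (U i))
  exact IsOpenImmersion.of_comp _ (C.toBase ⁻¹ᵁ (U i).1).ι

end Sub

end spec

end Groth.Agent.Lib.Helper28.QCSub
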