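import Mathlib
import Groth.Agent.Lib.Helper28.QCSub

/-!
# Cutting down a quasi-coherent subalgebra over an affine open (helper28)
-/

set_option autoImplicit false
set_option linter.style.haveILetI false
set_option linter.unusedSectionVars false
universe u
open AlgebraicGeometry CategoryTheory Limits TopologicalSpace

namespace Groth.Agent.Lib.Helper28.QCSub

variable {X S : Scheme.{u}} (f : X ⟶ S)

/-- restriction of sections of `S` -/
noncomputable abbrev rs {U U' : S.Opens} (h : U' ≤ U) : Γ(S, U) →+* Γ(S, U') :=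
  (S.presheaf.map (homOfLE h).op).hom

/-- The subring of `Γ(X, f⁻¹W)` generated by `Γ(S, W)` and the restriction of `B ⊆ Γ(X, f⁻¹V)`. -/
noncomputable def gen (V : S.Opens) (B : Subring Γ(X, f ⁻¹ᵁ V)) {W : S.Opens} (h : W ≤ V) :
    Subring Γ(X, f ⁻¹ᵁ W) :=
  Subring.closure (Set.range (f.app W).hom ∪ res f h '' B)

variable {f}

theorem app_mem_gen (V : S.Opens) (B : Subring Γ(X, f ⁻¹ᵁ V)) {W : S.Opens} (h : W ≤ V)
    (r : Γ(S, W)) : (f.app W).hom r ∈ gen f V B h :=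
  Subring.subset_closure (Or.inl ⟨r, rfl⟩)

theorem res_mem_gen (V : S.Opens) (B : Subring Γ(X, f ⁻¹ᵁ V)) {W : S.Opens} (h : W ≤ V)
    {b : Γ(X, f ⁻¹ᵁ V)} (hb : b ∈ B) : res f h b ∈ gen f V B h :=
  Subring.subset_closure (Or.inr ⟨b, hb, rfl⟩)

theorem gen_res (V : S.Opens) (B : Subring Γ(X, f ⁻¹ᵁ V)) {W W' : S.Opens} (h : W ≤ V)
    (h' : W' ≤ W) {g : Γ(X, f ⁻¹ᵁ W)} (hg : g ∈ gen f V B h) :
    res f h' g ∈ gen f V B (h'.trans h) := by
  have hle : gen f V B h ≤ (gen f V B (h'.trans h)).comap (res f h') := by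
    rw [gen, Subring.closure_le]
    rintro x (⟨r, rfl⟩ | ⟨b, hb, rfl⟩)
    · show res f h' ((f.app W).hom r) ∈ gen f V B (h'.trans h)
      rw [res_app]
      exact app_mem_gen _ _ _ _
    · show res f h' (res f h b) ∈ gen f V B (h'.trans h)
      rw [res_res]
      exact res_mem_gen _ _ _ hb
  exact hle hg

theorem gen_self (V : S.Opens) (B : Subring Γ(X, f ⁻¹ᵁ V))
    (hB : ∀ r : Γ(S, V), (f.app V).hom r ∈ B) : gen f V B (le_refl V) = B := by
  apply le_antisymm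
  · rw [gen, Subring.closure_le]
    rintro x (⟨r, rfl⟩ | ⟨b, hb, rfl⟩)
    · exact hB r
    · show res f (le_refl V) b ∈ B
      rw [res_self]
      exact hb
  · intro b hb
    have := res_mem_gen V B (le_refl V) hb
    rwa [res_self] at this

section loc

variable [QuasiCompact f] [QuasiSeparated f]

/-- Elements of `gen` over a basic open have bounded denominators. -/
theorem gen_loc (V : S.Opens) (B : Subring Γ(X, f ⁻¹ᵁ V)) {W : S.Opens} (h : W ≤ V)
    (hW : IsAffineOpen W) (s : Γ(S, W)) {g : Γ(X, f ⁻¹ᵁ S.basicOpen s)}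
    (hg : g ∈ gen f V B ((S.basicOpen_le s).trans h)) :
    ∃ (n : ℕ) (g' : Γ(X, f ⁻¹ᵁ W)), g' ∈ gen f V B h ∧
      res f (S.basicOpen_le s) g' = res f (S.basicOpen_le s) ((f.app W).hom s) ^ n * g := by
  rw [gen] at hg
  induction hg using Subring.closure_induction with
  | mem x hx =>
    rcases hx with ⟨y, rfl⟩ | ⟨b, hb, rfl⟩
    · haveI := hW.isLocalization_basicOpen s
      obtain ⟨n, z, hz⟩ := IsLocalization.Away.surj s y
      refine ⟨n, (f.app W).hom z, app_mem_gen _ _ _ _, ?_⟩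
      rw [res_app, res_app, ← map_pow, ← map_mul]
      congr 1
      rw [mul_comm]
      exact hz.symm
    · refine ⟨0, res f h b, res_mem_gen _ _ _ hb, ?_⟩
      rw [pow_zero, one_mul, res_res]
  | zero => exact ⟨0, 0, zero_mem _, by simp⟩
  | one => exact ⟨0, 1, one_mem _, by simp⟩
  | add x y _ _ hx hy =>
    obtain ⟨n₁, g₁, hg₁, e₁⟩ := hx
    obtain ⟨n₂, g₂, hg₂, e₂⟩ := hy
    refine ⟨n₁ + n₂, (f.app W).hom s ^ n₂ * g₁ + (f.app W).hom s ^ n₁ * g₂,
      add_mem (mul_mem (pow_mem (app_mem_gen _ _ _ _) _) hg₁)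
        (mul_mem (pow_mem (app_mem_gen _ _ _ _) _) hg₂), ?_⟩
    rw [map_add, map_mul, map_mul, map_pow, map_pow, e₁, e₂]
    ring
  | neg x _ hx =>
    obtain ⟨n, g', hg', e⟩ := hx
    exact ⟨n, -g', neg_mem hg', by rw [map_neg, e, mul_neg]⟩
  | mul x y _ _ hx hy =>
    obtain ⟨n₁, g₁, hg₁, e₁⟩ := hx
    obtain ⟨n₂, g₂, hg₂, e₂⟩ := hy
    refine ⟨n₁ + n₂, g₁ * g₂, mul_mem hg₁ hg₂, ?_⟩
    rw [map_mul, e₁, e₂]
    ring

end loc

section loc2

variable [QuasiCompact f] [QuasiSeparated f]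

/-- If a multiple of `d` by a power of `s` restricts into `gen` over `D(s)`, then after multiplying
by a further power it lies in `gen` over `W`. -/
theorem exists_pow_mul_mem_gen (V : S.Opens) (B : Subring Γ(X, f ⁻¹ᵁ V)) {W : S.Opens}
    (h : W ≤ V) (hW : IsAffineOpen W) (s : Γ(S, W)) (d : Γ(X, f ⁻¹ᵁ W))
    (hd : res f (S.basicOpen_le s) d ∈ gen f V B ((S.basicOpen_le s).trans h)) :
    ∃ N : ℕ, ∀ N' : ℕ, N ≤ N' → (f.app W).hom s ^ N' * d ∈ gen f V B h := by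
  obtain ⟨n, g', hg', e⟩ := gen_loc V B h hW s hd
  have hloc := isLocalization_res f hW s
  letI := (res f (S.basicOpen_le s)).toAlgebra
  have e' : algebraMap Γ(X, f ⁻¹ᵁ W) Γ(X, f ⁻¹ᵁ S.basicOpen s) g' =
      algebraMap Γ(X, f ⁻¹ᵁ W) Γ(X, f ⁻¹ᵁ S.basicOpen s) ((f.app W).hom s ^ n * d) := by
    show res f _ g' = res f _ _
    rw [e, map_mul, map_pow]
  obtain ⟨⟨_, m, rfl⟩, hm⟩ :=
    (IsLocalization.eq_iff_exists (Submonoid.powers ((f.app W).hom s)) _).1 e'
  refine ⟨m + n, fun N' hN' => ?_⟩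
  obtain ⟨k, rfl⟩ := Nat.exists_eq_add_of_le hN'
  have h1 : (f.app W).hom s ^ (m + n + k) * d =
      (f.app W).hom s ^ k * ((f.app W).hom s ^ m * g') := by
    rw [hm]; ring
  rw [h1]
  exact mul_mem (pow_mem (app_mem_gen _ _ _ _) _) (mul_mem (pow_mem (app_mem_gen _ _ _ _) _) hg')

/-- Membership in `gen` is local on affine opens. -/
theorem gen_local (V : S.Opens) (B : Subring Γ(X, f ⁻¹ᵁ V)) {W : S.Opens} (h : W ≤ V)
    (hW : IsAffineOpen W) (t : Finset Γ(S, W)) (ht : Ideal.span (t : Set Γ(S, W)) = ⊤)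
    (d : Γ(X, f ⁻¹ᵁ W))
    (hd : ∀ s ∈ t, res f (S.basicOpen_le s) d ∈ gen f V B ((S.basicOpen_le s).trans h)) :
    d ∈ gen f V B h := by
  classical
  choose! N hN using fun s (hs : s ∈ t) => exists_pow_mul_mem_gen V B h hW s d (hd s hs)
  set M := t.sup N with hM
  have h1 : ∀ s ∈ t, (f.app W).hom s ^ M * d ∈ gen f V B h :=
    fun s hs => hN s hs M (Finset.le_sup hs)
  have h2 := Ideal.span_pow_eq_top (t : Set Γ(S, W)) ht M
  have h3 : (1 : Γ(S, W)) ∈ Ideal.span ((fun x => x ^ M) '' (t : Set Γ(S, W))) := by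
    rw [h2]; exact Submodule.mem_top
  rw [← Finset.coe_image, Ideal.span, Submodule.mem_span_finset] at h3
  obtain ⟨c, -, hc⟩ := h3
  have h4 : d = (∑ a ∈ t.image (fun x => x ^ M), (f.app W).hom (c a * a)) * d := by
    rw [← map_sum]
    simp only [smul_eq_mul] at hc
    rw [hc, map_one, one_mul]
  rw [h4, Finset.sum_mul]
  refine sum_mem fun a ha => ?_
  rw [map_mul, mul_assoc]
  refine mul_mem (app_mem_gen _ _ _ _) ?_
  obtain ⟨s, hs, rfl⟩ := Finset.mem_image.1 ha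
  rw [map_pow]
  exact h1 s hs

end loc2

section cover

variable (S)

/-- The intersection of two affine opens in a quasi-separated scheme is covered by finitely many
opens which are basic opens in both. -/
theorem exists_finite_basic_cover [QuasiSeparatedSpace S] {U V : S.Opens} (hU : IsAffineOpen U)
    (hV : IsAffineOpen V) :
    ∃ P : Finset (Γ(S, U) × Γ(S, V)), (∀ p ∈ P, S.basicOpen p.1 = S.basicOpen p.2) ∧
      ∀ x ∈ U ⊓ V, ∃ p ∈ P, x ∈ S.basicOpen p.1 := by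
  classical
  have hc : IsCompact ((U : Set S) ∩ V) :=
    QuasiSeparatedSpace.inter_isCompact _ _ U.2 hU.isCompact V.2 hV.isCompact
  choose! t s hts hxt using fun (x : S) (hx : x ∈ (U : Set S) ∩ V) =>
    exists_basicOpen_le_affine_inter hU hV x hx
  obtain ⟨F, hF, hcov⟩ := hc.elim_finite_subcover_image
    (b := (U : Set S) ∩ V) (c := fun x => (S.basicOpen (t x) : Set S))
    (fun x _ => (S.basicOpen (t x)).2) (fun x hx => Set.mem_biUnion hx (hxt x hx))
  refine ⟨hcov.1.toFinset.image (fun x => (t x, s x)), ?_, ?_⟩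
  · intro p hp
    obtain ⟨x, hx, rfl⟩ := Finset.mem_image.1 hp
    exact hts x (hF (hcov.1.mem_toFinset.1 hx))
  · intro x hx
    obtain ⟨y, hy, hxy⟩ := Set.mem_iUnion₂.1 (hcov.2 hx)
    exact ⟨(t y, s y), Finset.mem_image.2 ⟨y, hcov.1.mem_toFinset.2 hy, rfl⟩, hxy⟩

variable {S}

/-- Restrictions of functions whose basic opens cover an affine open generate the unit ideal. -/
theorem span_rs_eq_top {V W : S.Opens} (h : W ≤ V) (hW : IsAffineOpen W) (t : Finset Γ(S, V))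
    (hcov : ∀ x ∈ W, ∃ s ∈ t, x ∈ S.basicOpen s) :
    Ideal.span (rs h '' (t : Set Γ(S, V))) = ⊤ := by
  rw [← hW.self_le_iSup_basicOpen_iff]
  intro x hx
  obtain ⟨s, hs, hxs⟩ := hcov x hx
  refine Opens.mem_iSup.2 ⟨⟨rs h s, Set.mem_image_of_mem _ (Finset.mem_coe.2 hs)⟩, ?_⟩
  show x ∈ S.basicOpen (rs h s)
  rw [Scheme.basicOpen_res]
  exact ⟨hx, hxs⟩

end cover

section cut

variable [QuasiCompact f] [QuasiSeparated f]

/-- The sections of the cut-down subalgebra. -/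
noncomputable def cutSub (C : Sub f) (V : S.Opens) (B : Subring Γ(X, f ⁻¹ᵁ V)) (U : S.Opens) :
    Subring Γ(X, f ⁻¹ᵁ U) where
  carrier := {b | b ∈ C.sub U ∧ ∀ (W : S.Opens) (hWU : W ≤ U) (hWV : W ≤ V),
    (∃ s : Γ(S, V), W = S.basicOpen s) → res f hWU b ∈ gen f V B hWV}
  mul_mem' := fun ha hb => ⟨mul_mem ha.1 hb.1, fun W hWU hWV hs => by
    rw [map_mul]; exact mul_mem (ha.2 W hWU hWV hs) (hb.2 W hWU hWV hs)⟩
  one_mem' := ⟨one_mem _, fun W hWU hWV _ => by rw [map_one]; exact one_mem _⟩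
  add_mem' := fun ha hb => ⟨add_mem ha.1 hb.1, fun W hWU hWV hs => by
    rw [map_add]; exact add_mem (ha.2 W hWU hWV hs) (hb.2 W hWU hWV hs)⟩
  zero_mem' := ⟨zero_mem _, fun W hWU hWV _ => by rw [map_zero]; exact zero_mem _⟩
  neg_mem' := fun ha => ⟨neg_mem ha.1, fun W hWU hWV hs => by
    rw [map_neg]; exact neg_mem (ha.2 W hWU hWV hs)⟩

theorem mem_cutSub {C : Sub f} {V : S.Opens} {B : Subring Γ(X, f ⁻¹ᵁ V)} {U : S.Opens}
    {b : Γ(X, f ⁻¹ᵁ U)} : b ∈ cutSub C V B U ↔ b ∈ C.sub U ∧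
      ∀ (W : S.Opens) (hWU : W ≤ U) (hWV : W ≤ V),
        (∃ s : Γ(S, V), W = S.basicOpen s) → res f hWU b ∈ gen f V B hWV := Iff.rfl

theorem exists_basicOpen_eq_of_eq {V W : S.Opens} (hV : IsAffineOpen V) (s : Γ(S, V))
    (h2 : S.basicOpen s = W) (g : Γ(S, W)) : ∃ s' : Γ(S, V), S.basicOpen g = S.basicOpen s' := by
  subst h2
  obtain ⟨s', hs'⟩ := hV.basicOpen_basicOpen_is_basicOpen s g
  exact ⟨s', hs'.symm⟩

theorem isAffineOpen_of_eq_basicOpen {V W : S.Opens} (hV : IsAffineOpen V) (s : Γ(S, V))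
    (h2 : W = S.basicOpen s) : IsAffineOpen W := by
  subst h2
  exact hV.basicOpen s

variable [QuasiSeparatedSpace S]

theorem cutSub_loc (C : Sub f) (V : S.Opens) (hV : IsAffineOpen V) (B : Subring Γ(X, f ⁻¹ᵁ V))
    (U : S.Opens) (hU : IsAffineOpen U) (r : Γ(S, U)) (b : Γ(X, f ⁻¹ᵁ S.basicOpen r))
    (hb : b ∈ cutSub C V B (S.basicOpen r)) :
    ∃ (n : ℕ) (c : Γ(X, f ⁻¹ᵁ U)), c ∈ cutSub C V B U ∧
      res f (S.basicOpen_le r) c = res f (S.basicOpen_le r) ((f.app U).hom r) ^ n * b := by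
  classical
  obtain ⟨hbC, hbG⟩ := hb
  obtain ⟨n₀, c₀, hc₀, e₀⟩ := C.loc U hU r b hbC
  obtain ⟨P, hP, hPcov⟩ := exists_finite_basic_cover S hU hV
  have hPU : ∀ p ∈ P, S.basicOpen p.1 ≤ U := fun p _ => S.basicOpen_le _
  have hPV : ∀ p ∈ P, S.basicOpen p.1 ≤ V := fun p hp => by rw [hP p hp]; exact S.basicOpen_le _
  -- step 2
  have key : ∀ (p : Γ(S, U) × Γ(S, V)) (hp : p ∈ P), ∃ N : ℕ, ∀ N' : ℕ, N ≤ N' →
      (f.app (S.basicOpen p.1)).hom (rs (S.basicOpen_le p.1) r) ^ N' *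
        res f (S.basicOpen_le p.1) c₀ ∈ gen f V B (hPV p hp) := by
    intro p hp
    have hWaff : IsAffineOpen (S.basicOpen p.1) := hU.basicOpen p.1
    refine exists_pow_mul_mem_gen V B (hPV p hp) hWaff (rs (S.basicOpen_le p.1) r)
      (res f (S.basicOpen_le p.1) c₀) ?_
    have hle' : S.basicOpen (rs (S.basicOpen_le p.1) r) ≤ S.basicOpen r := by
      rw [Scheme.basicOpen_res]; exact inf_le_right
    obtain ⟨s', hs'⟩ := exists_basicOpen_eq_of_eq hV p.2 (hP p hp).symm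
      (rs (S.basicOpen_le p.1) r)
    have h1 := hbG _ hle' ((S.basicOpen_le _).trans (hPV p hp)) ⟨s', hs'⟩
    have h2 : res f (S.basicOpen_le (rs (S.basicOpen_le p.1) r)) (res f (S.basicOpen_le p.1) c₀) =
        res f hle' (res f (S.basicOpen_le r) c₀) := by
      rw [res_res, res_res]
    rw [h2, e₀, map_mul, map_pow, res_res, res_app]
    exact mul_mem (pow_mem (app_mem_gen _ _ _ _) _) h1
  choose! N hN using key
  set M := P.sup N with hM
  refine ⟨M + n₀, (f.app U).hom r ^ M * c₀, ⟨mul_mem (pow_mem (C.map_mem _ _) _) hc₀, ?_⟩, ?_⟩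
  · rintro W hWU hWV ⟨s, hs⟩
    have hWaff : IsAffineOpen W := isAffineOpen_of_eq_basicOpen hV s hs
    have hspan := span_rs_eq_top hWV hWaff (P.image Prod.snd) (fun x hx => by
      obtain ⟨p, hp, hxp⟩ := hPcov x ⟨hWU hx, hWV hx⟩
      exact ⟨p.2, Finset.mem_image_of_mem _ hp, by rw [← hP p hp]; exact hxp⟩)
    rw [← Finset.coe_image] at hspan
    refine gen_local V B hWV hWaff _ hspan _ ?_
    intro s' hs'
    obtain ⟨s₂, hs₂, rfl⟩ := Finset.mem_image.1 hs'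
    obtain ⟨p, hp, rfl⟩ := Finset.mem_image.1 hs₂
    have hle1 : S.basicOpen (rs hWV p.2) ≤ S.basicOpen p.1 := by
      rw [Scheme.basicOpen_res, hP p hp]; exact inf_le_right
    have h3 : res f (S.basicOpen_le (rs hWV p.2)) (res f hWU ((f.app U).hom r ^ M * c₀)) =
        res f hle1 (res f (S.basicOpen_le p.1) ((f.app U).hom r ^ M * c₀)) := by
      rw [res_res, res_res]
    rw [h3]
    refine gen_res V B (hPV p hp) hle1 ?_
    rw [map_mul, map_pow, res_app]
    exact hN p hp M (Finset.le_sup hp)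
  · rw [map_mul, map_pow, e₀, ← mul_assoc, ← pow_add]

/-- Cut `C` down over the affine open `V` to the subring generated by `B`. -/
noncomputable def cut (C : Sub f) (V : S.Opens) (hV : IsAffineOpen V)
    (B : Subring Γ(X, f ⁻¹ᵁ V)) : Sub f where
  sub := cutSub C V B
  map_mem U r := ⟨C.map_mem U r, fun W hWU hWV _ => by
    rw [res_app]; exact app_mem_gen _ _ _ _⟩
  res_mem {U U'} h b hb := ⟨C.res_mem h hb.1, fun W hWU hWV hs => by
    rw [res_res]; exact hb.2 W (hWU.trans h) hWV hs⟩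
  loc U hU r b hb := cutSub_loc C V hV B U hU r b hb

end cut

end Groth.Agent.Lib.Helper28.QCSub
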