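import Mathlib
import Groth.Agent.Lib.Helper28.QCSubCut

/-!
# Finiteness for quasi-coherent subalgebras; the finite-subalgebra lemma (helper28)
-/

set_option autoImplicit false
set_option linter.style.haveILetI false
set_option linter.unusedSectionVars false
universe u
open AlgebraicGeometry CategoryTheory Limits TopologicalSpace

namespace Groth.Agent.Lib.Helper28.QCSub

section algebra

variable {R A : Type*} [CommRing R] [CommRing A] (φ : R →+* A)

/-- The subring `T` is spanned over `R` by a finite set. -/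
def SubringFG (T : Subring A) : Prop :=
  letI := φ.toAlgebra
  ∃ G : Finset A, (Submodule.span R (G : Set A) : Set A) = T

variable {φ}

theorem SubringFG.finite {T : Subring A} (h : SubringFG φ T) (hT : ∀ r, φ r ∈ T) :
    (φ.codRestrict T hT).Finite := by
  letI := φ.toAlgebra
  obtain ⟨G, hG⟩ := h
  letI algT := (φ.codRestrict T hT).toAlgebra
  show Module.Finite R T
  have hfg : (Submodule.span R (G : Set A)).FG := ⟨G, rfl⟩
  haveI := Module.Finite.iff_fg.2 hfg
  have hmem : ∀ x : A, x ∈ Submodule.span R (G : Set A) ↔ x ∈ T := fun x => by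
    rw [← SetLike.mem_coe, hG]; rfl
  let e : Submodule.span R (G : Set A) ≃ₗ[R] T :=
    { toFun := fun x => ⟨x.1, (hmem _).1 x.2⟩
      invFun := fun x => ⟨x.1, (hmem _).2 x.2⟩
      map_add' := fun x y => rfl
      map_smul' := fun r x => rfl
      left_inv := fun x => rfl
      right_inv := fun x => rfl }
  exact Module.Finite.equiv e

theorem SubringFG.exists_generators {T : Subring A} (h : SubringFG φ T) :
    ∃ G : Finset A, (G : Set A) ⊆ T ∧ ∀ T' : Subring A, (∀ r, φ r ∈ T') → (G : Set A) ⊆ T' →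
      T ≤ T' := by
  letI := φ.toAlgebra
  obtain ⟨G, hG⟩ := h
  refine ⟨G, ?_, ?_⟩
  · intro g hg
    have : g ∈ (Submodule.span R (G : Set A) : Set A) := Submodule.subset_span hg
    rw [hG] at this
    exact this
  · intro T' hφ hGT' x hx
    have hx' : x ∈ Submodule.span R (G : Set A) := by
      rw [← SetLike.mem_coe, hG]; exact hx
    clear hx
    induction hx' using Submodule.span_induction with
    | mem x hx => exact hGT' hx
    | zero => exact zero_mem _
    | add x y _ _ hx hy => exact add_mem hx hy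
    | smul r x _ hx => exact mul_mem (hφ r) hx

theorem subringFG_closure (E : Finset A) (hE : ∀ e ∈ E, φ.IsIntegralElem e) :
    SubringFG φ (Subring.closure (Set.range φ ∪ (E : Set A))) := by
  letI := φ.toAlgebra
  have h1 : (Subalgebra.toSubmodule (Algebra.adjoin R (E : Set A))).FG :=
    fg_adjoin_of_finite E.finite_toSet hE
  obtain ⟨G, hG⟩ := h1
  refine ⟨G, ?_⟩
  rw [hG]
  ext x
  have h2 := Algebra.adjoin_eq_ring_closure (R := R) (E : Set A)
  show x ∈ Algebra.adjoin R (E : Set A) ↔ x ∈ Subring.closure (Set.range φ ∪ (E : Set A))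
  rw [← Subalgebra.mem_toSubring, h2]
  rfl

end algebra

variable {X S : Scheme.{u}} {f : X ⟶ S}

namespace Sub

/-- `C` is integral over `O_S` on `U`. -/
def IsIntegralOn (C : Sub f) (U : S.Opens) : Prop :=
  ∀ b ∈ C.sub U, (f.app U).hom.IsIntegralElem b

/-- `C` is finite over `O_S` on `U`. -/
def IsFinOn (C : Sub f) (U : S.Opens) : Prop := SubringFG (f.app U).hom (C.sub U)

theorem IsFinOn.finite {C : Sub f} {U : S.Opens} (h : C.IsFinOn U) :
    (C.diagramMap.app (.op U)).hom.Finite :=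
  SubringFG.finite h (C.map_mem U)

end Sub

theorem isUnit_rs_of_le_basicOpen {V O : S.Opens} (r : Γ(S, V)) (hO : O ≤ S.basicOpen r) :
    IsUnit (rs (hO.trans (S.basicOpen_le r)) r) := by
  have h1 : rs (hO.trans (S.basicOpen_le r)) r = rs hO (rs (S.basicOpen_le r) r) := by
    show _ = ((S.presheaf.map _) ≫ (S.presheaf.map _)).hom r
    rw [← S.presheaf.map_comp]
    rfl
  rw [h1]
  exact (isUnit_app_basicOpen r).map _

section cut

variable [QuasiCompact f] [QuasiSeparated f] [QuasiSeparatedSpace S]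

theorem cut_le (C : Sub f) (V : S.Opens) (hV : IsAffineOpen V) (B : Subring Γ(X, f ⁻¹ᵁ V))
    (U : S.Opens) : (cut C V hV B).sub U ≤ C.sub U := fun _ hb => hb.1

theorem cut_sub_self (C : Sub f) (V : S.Opens) (hV : IsAffineOpen V)
    (B : Subring Γ(X, f ⁻¹ᵁ V)) (hφ : ∀ r : Γ(S, V), (f.app V).hom r ∈ B) (hBC : B ≤ C.sub V) :
    (cut C V hV B).sub V = B := by
  apply le_antisymm
  · intro b hb
    have h1 : V = S.basicOpen (1 : Γ(S, V)) := (S.basicOpen_of_isUnit isUnit_one).symm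
    have h2 := hb.2 V (le_refl V) (le_refl V) ⟨1, h1⟩
    rw [gen_self V B hφ, res_self] at h2
    exact h2
  · intro b hb
    exact ⟨hBC hb, fun W hWU hWV _ => res_mem_gen V B hWV hb⟩

/-- A given section of `C` over an affine open `V'` survives cutting over `V` as soon as `B`
contains a certain finite subset of `C(V)`. -/
theorem exists_finset_forall_mem_cutSub (C : Sub f) {V V' : S.Opens} (hV : IsAffineOpen V)
    (hV' : IsAffineOpen V') (g : Γ(X, f ⁻¹ᵁ V')) (hg : g ∈ C.sub V') :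
    ∃ T : Finset Γ(X, f ⁻¹ᵁ V), (T : Set Γ(X, f ⁻¹ᵁ V)) ⊆ C.sub V ∧
      ∀ B : Subring Γ(X, f ⁻¹ᵁ V), (T : Set Γ(X, f ⁻¹ᵁ V)) ⊆ B → g ∈ cutSub C V B V' := by
  classical
  obtain ⟨P, hP, hPcov⟩ := exists_finite_basic_cover S hV' hV
  have hPV' : ∀ p ∈ P, S.basicOpen p.2 ≤ V' := fun p hp => by
    rw [← hP p hp]; exact S.basicOpen_le _
  have key : ∀ (p : Γ(S, V') × Γ(S, V)) (hp : p ∈ P), ∃ (n : ℕ) (a : Γ(X, f ⁻¹ᵁ V)),
      a ∈ C.sub V ∧ res f (S.basicOpen_le p.2) a =
        res f (S.basicOpen_le p.2) ((f.app V).hom p.2) ^ n * res f (hPV' p hp) g :=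
    fun p hp => C.loc V hV p.2 _ (C.res_mem (hPV' p hp) hg)
  choose! n a ha hna using key
  refine ⟨P.image a, ?_, ?_⟩
  · intro x hx
    obtain ⟨p, hp, rfl⟩ := Finset.mem_image.1 (Finset.mem_coe.1 hx)
    exact ha p hp
  · intro B hTB
    refine ⟨hg, ?_⟩
    rintro W hWV' hWV ⟨s, hs⟩
    have hWaff : IsAffineOpen W := isAffineOpen_of_eq_basicOpen hV s hs
    have hspan := span_rs_eq_top hWV hWaff (P.image Prod.snd) (fun x hx => by
      obtain ⟨p, hp, hxp⟩ := hPcov x ⟨hWV' hx, hWV hx⟩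
      exact ⟨p.2, Finset.mem_image_of_mem _ hp, by rw [← hP p hp]; exact hxp⟩)
    rw [← Finset.coe_image] at hspan
    refine gen_local V B hWV hWaff _ hspan _ ?_
    intro s' hs'
    obtain ⟨s₂, hs₂, rfl⟩ := Finset.mem_image.1 hs'
    obtain ⟨p, hp, rfl⟩ := Finset.mem_image.1 hs₂
    have hle1 : S.basicOpen (rs hWV p.2) ≤ S.basicOpen p.2 := by
      rw [Scheme.basicOpen_res]; exact inf_le_right
    obtain ⟨v, hv⟩ := (isUnit_rs_of_le_basicOpen p.2 hle1).exists_left_inv
    have h3 : res f (S.basicOpen_le (rs hWV p.2)) (res f hWV' g) =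
        (f.app _).hom v ^ n p * res f (hle1.trans (S.basicOpen_le p.2)) (a p) := by
      have h4 : res f (hle1.trans (S.basicOpen_le p.2)) (a p) =
          res f hle1 (res f (S.basicOpen_le p.2) (a p)) := (res_res ..).symm
      rw [h4, hna p hp, map_mul, map_pow]
      simp only [res_res]
      rw [res_app, ← mul_assoc, ← mul_pow, ← map_mul, hv, map_one, one_pow, one_mul]
    rw [h3]
    exact mul_mem (pow_mem (app_mem_gen _ _ _ _) _)
      (res_mem_gen _ _ _ (hTB (Finset.mem_coe.2 (Finset.mem_image_of_mem _ hp))))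

/-- The finite-subalgebra lemma: an integral quasi-coherent subalgebra contains a quasi-coherent
subalgebra which is finite over finitely many given affine opens and contains finitely many
given sections over them. -/
theorem exists_finite_sub (A : Sub f) {ι : Type*} [Finite ι] (V : ι → S.Opens)
    (hV : ∀ i, IsAffineOpen (V i)) (hA : ∀ i, A.IsIntegralOn (V i))
    (E : ∀ i, Finset Γ(X, f ⁻¹ᵁ V i)) (hE : ∀ i, (E i : Set Γ(X, f ⁻¹ᵁ V i)) ⊆ A.sub (V i)) :
    ∃ C : Sub f, (∀ U, C.sub U ≤ A.sub U) ∧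
      (∀ i, (E i : Set Γ(X, f ⁻¹ᵁ V i)) ⊆ C.sub (V i)) ∧ ∀ i, C.IsFinOn (V i) := by
  classical
  cases nonempty_fintype ι
  suffices H : ∀ s : Finset ι, ∃ C : Sub f, (∀ U, C.sub U ≤ A.sub U) ∧
      (∀ i, (E i : Set Γ(X, f ⁻¹ᵁ V i)) ⊆ C.sub (V i)) ∧ ∀ i ∈ s, C.IsFinOn (V i) by
    obtain ⟨C, h1, h2, h3⟩ := H Finset.univ
    exact ⟨C, h1, h2, fun i => h3 i (Finset.mem_univ i)⟩
  intro s
  induction s using Finset.induction_on with
  | empty => exact ⟨A, fun U => le_refl _, hE, fun i hi => absurd hi (Finset.notMem_empty i)⟩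
  | insert a s has ih =>
    obtain ⟨C, hCA, hEC, hfin⟩ := ih
    -- generators over the already treated opens
    have hgen : ∀ i, ∃ G : Finset Γ(X, f ⁻¹ᵁ V i), (G : Set Γ(X, f ⁻¹ᵁ V i)) ⊆ C.sub (V i) ∧
        (i ∈ s → ∀ T' : Subring Γ(X, f ⁻¹ᵁ V i), (∀ r, (f.app (V i)).hom r ∈ T') →
          (G : Set Γ(X, f ⁻¹ᵁ V i)) ⊆ T' → C.sub (V i) ≤ T') := by
      intro i
      by_cases hi : i ∈ s
      · obtain ⟨G, hG1, hG2⟩ := (hfin i hi).exists_generators
        exact ⟨G, hG1, fun _ => hG2⟩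
      · exact ⟨∅, by simp, fun h => absurd h hi⟩
    choose G hG1 hG2 using hgen
    have hstep : ∀ i, ∀ g : Γ(X, f ⁻¹ᵁ V i), g ∈ C.sub (V i) →
        ∃ T : Finset Γ(X, f ⁻¹ᵁ V a), (T : Set Γ(X, f ⁻¹ᵁ V a)) ⊆ C.sub (V a) ∧
          ∀ B : Subring Γ(X, f ⁻¹ᵁ V a), (T : Set Γ(X, f ⁻¹ᵁ V a)) ⊆ B →
            g ∈ cutSub C (V a) B (V i) :=
      fun i g hg => exists_finset_forall_mem_cutSub C (hV a) (hV i) g hg
    choose! T hT1 hT2 using hstep
    set B₁ : Finset Γ(X, f ⁻¹ᵁ V a) :=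
      (Finset.univ.biUnion fun i => (G i ∪ E i).biUnion (T i)) ∪ E a with hB₁
    have hK : ∀ i, ∀ g ∈ G i ∪ E i, g ∈ C.sub (V i) := by
      intro i g hg
      rcases Finset.mem_union.1 hg with h | h
      · exact hG1 i (Finset.mem_coe.2 h)
      · exact hEC i (Finset.mem_coe.2 h)
    have hB₁C : ∀ x ∈ B₁, x ∈ C.sub (V a) := by
      intro x hx
      rcases Finset.mem_union.1 hx with h | h
      · obtain ⟨i, -, hi⟩ := Finset.mem_biUnion.1 h
        obtain ⟨g, hg, hxg⟩ := Finset.mem_biUnion.1 hi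
        exact hT1 i g (hK i g hg) (Finset.mem_coe.2 hxg)
      · exact hEC a (Finset.mem_coe.2 h)
    set B : Subring Γ(X, f ⁻¹ᵁ V a) :=
      Subring.closure (Set.range (f.app (V a)).hom ∪ (B₁ : Set Γ(X, f ⁻¹ᵁ V a))) with hB
    have hφB : ∀ r : Γ(S, V a), (f.app (V a)).hom r ∈ B :=
      fun r => Subring.subset_closure (Or.inl ⟨r, rfl⟩)
    have hB₁B : (B₁ : Set Γ(X, f ⁻¹ᵁ V a)) ⊆ B :=
      fun x hx => Subring.subset_closure (Or.inr hx)
    have hBC : B ≤ C.sub (V a) := by
      rw [hB, Subring.closure_le]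
      rintro x (⟨r, rfl⟩ | hx)
      · exact C.map_mem _ r
      · exact hB₁C x (Finset.mem_coe.1 hx)
    have hBfg : SubringFG (f.app (V a)).hom B :=
      subringFG_closure B₁ fun e he => hA a e (hCA _ (hB₁C e he))
    have hmem : ∀ i, ∀ g ∈ G i ∪ E i, g ∈ (cut C (V a) (hV a) B).sub (V i) := by
      intro i g hg
      refine hT2 i g (hK i g hg) B ?_
      intro x hx
      refine hB₁B (Finset.mem_coe.2 (Finset.mem_union_left _ ?_))
      exact Finset.mem_biUnion.2 ⟨i, Finset.mem_univ i, Finset.mem_biUnion.2 ⟨g, hg, hx⟩⟩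
    refine ⟨cut C (V a) (hV a) B, fun U => (cut_le C _ _ B U).trans (hCA U), ?_, ?_⟩
    · intro i g hg
      exact hmem i g (Finset.mem_union_right _ (Finset.mem_coe.1 hg))
    · intro i hi
      rcases Finset.mem_insert.1 hi with rfl | hi
      · show SubringFG _ _
        rw [cut_sub_self C _ _ B hφB hBC]
        exact hBfg
      · have heq : (cut C (V a) (hV a) B).sub (V i) = C.sub (V i) := by
          apply le_antisymm (cut_le C _ _ B _)
          refine hG2 i hi _ ((cut C (V a) (hV a) B).map_mem _) ?_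
          intro g hg
          exact hmem i g (Finset.mem_union_left _ (Finset.mem_coe.1 hg))
        show SubringFG _ _
        rw [heq]
        exact hfin i hi

end cut

end Groth.Agent.Lib.Helper28.QCSub
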