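import Mathlib
import Groth.Agent.Lib.Helper28.QCSubFin

/-!
# The integral closure of `O_S` in `f_* O_X` as a quasi-coherent subalgebra (helper28)
-/

set_option autoImplicit false
set_option linter.style.haveILetI false
set_option linter.unusedSectionVars false
universe u
open AlgebraicGeometry CategoryTheory Limits TopologicalSpace

namespace Groth.Agent.Lib.Helper28.QCSub

variable {X S : Scheme.{u}} (f : X ⟶ S)

theorem isIntegralElem_res {U U' : S.Opens} (h : U' ≤ U) {b : Γ(X, f ⁻¹ᵁ U)}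
    (hb : (f.app U).hom.IsIntegralElem b) : (f.app U').hom.IsIntegralElem (res f h b) := by
  letI := (f.app U).hom.toAlgebra
  letI := (f.app U').hom.toAlgebra
  have hb' : IsIntegral Γ(S, U) b := hb
  have : IsIntegral Γ(S, U') (res f h b) := by
    refine IsIntegral.map_of_comp_eq (rs h) (res f h) ?_ hb'
    ext r
    exact (res_app f h r).symm
  exact this

variable [QuasiCompact f] [QuasiSeparated f]

theorem isIntegralElem_loc (U : S.Opens) (hU : IsAffineOpen U) (r : Γ(S, U))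
    (b : Γ(X, f ⁻¹ᵁ S.basicOpen r)) (hb : (f.app (S.basicOpen r)).hom.IsIntegralElem b) :
    ∃ (n : ℕ) (c : Γ(X, f ⁻¹ᵁ U)), (f.app U).hom.IsIntegralElem c ∧
      res f (S.basicOpen_le r) c = res f (S.basicOpen_le r) ((f.app U).hom r) ^ n * b := by
  letI aRA : Algebra Γ(S, U) Γ(X, f ⁻¹ᵁ U) := (f.app U).hom.toAlgebra
  letI aR'A' : Algebra Γ(S, S.basicOpen r) Γ(X, f ⁻¹ᵁ S.basicOpen r) :=
    (f.app (S.basicOpen r)).hom.toAlgebra
  letI aAA' : Algebra Γ(X, f ⁻¹ᵁ U) Γ(X, f ⁻¹ᵁ S.basicOpen r) :=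
    (res f (S.basicOpen_le r)).toAlgebra
  letI aRR' : Algebra Γ(S, U) Γ(S, S.basicOpen r) := (rs (S.basicOpen_le r)).toAlgebra
  letI aRA' : Algebra Γ(S, U) Γ(X, f ⁻¹ᵁ S.basicOpen r) :=
    ((res f (S.basicOpen_le r)).comp (f.app U).hom).toAlgebra
  haveI t1 : IsScalarTower Γ(S, U) Γ(X, f ⁻¹ᵁ U) Γ(X, f ⁻¹ᵁ S.basicOpen r) :=
    .of_algebraMap_eq' rfl
  haveI t2 : IsScalarTower Γ(S, U) Γ(S, S.basicOpen r) Γ(X, f ⁻¹ᵁ S.basicOpen r) :=
    .of_algebraMap_eq' (by
      ext x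
      exact res_app f (S.basicOpen_le r) x)
  haveI l1 : IsLocalization.Away r Γ(S, S.basicOpen r) := hU.isLocalization_basicOpen r
  haveI l2 : IsLocalization.Away ((f.app U).hom r) Γ(X, f ⁻¹ᵁ S.basicOpen r) :=
    isLocalization_res f hU r
  have hb' : IsIntegral Γ(S, S.basicOpen r) b := hb
  obtain ⟨⟨_, k, rfl⟩, hk⟩ := IsIntegral.exists_multiple_integral_of_isLocalization
    (Submonoid.powers r) b hb'
  obtain ⟨l, x, hx⟩ := IsLocalization.Away.surj ((f.app U).hom r)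
    ((⟨r ^ k, k, rfl⟩ : Submonoid.powers r) • b)
  have hx' : IsIntegral Γ(S, U) (algebraMap Γ(X, f ⁻¹ᵁ U) Γ(X, f ⁻¹ᵁ S.basicOpen r) x) := by
    rw [← hx]
    refine hk.mul ?_
    rw [← map_pow]
    have : (f.app U).hom r ^ l = algebraMap Γ(S, U) Γ(X, f ⁻¹ᵁ U) (r ^ l) := by
      rw [map_pow]; rfl
    rw [this, ← IsScalarTower.algebraMap_apply]
    exact isIntegral_algebraMap
  have hr : IsIntegral Γ(S, U) ((f.app U).hom r) :=
    isIntegral_algebraMap (R := Γ(S, U)) (A := Γ(X, f ⁻¹ᵁ U)) (x := r)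
  obtain ⟨n, hn⟩ := IsLocalization.Away.exists_isIntegral_mul_of_isIntegral_algebraMap
    (Sₘ := Γ(X, f ⁻¹ᵁ S.basicOpen r)) hr hx'
  refine ⟨n + k + l, (f.app U).hom r ^ n * x, hn, ?_⟩
  have hx2 : res f (S.basicOpen_le r) x =
      (res f (S.basicOpen_le r) ((f.app U).hom r) ^ k * b) *
        res f (S.basicOpen_le r) ((f.app U).hom r) ^ l := by
    have := hx.symm
    rw [Submonoid.smul_def, Algebra.smul_def, map_pow] at this
    exact this
  rw [map_mul, map_pow, hx2]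
  ring

/-- The integral closure of `O_S` in `f_* O_X`. -/
noncomputable def intSub : Sub f where
  sub U := letI := (f.app U).hom.toAlgebra; (integralClosure Γ(S, U) Γ(X, f ⁻¹ᵁ U)).toSubring
  map_mem U r := by
    letI := (f.app U).hom.toAlgebra
    exact isIntegral_algebraMap (R := Γ(S, U)) (A := Γ(X, f ⁻¹ᵁ U)) (x := r)
  res_mem h b hb := isIntegralElem_res f h hb
  loc U hU r b hb := isIntegralElem_loc f U hU r b hb

theorem mem_intSub {U : S.Opens} {b : Γ(X, f ⁻¹ᵁ U)} :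
    b ∈ (intSub f).sub U ↔ (f.app U).hom.IsIntegralElem b := Iff.rfl

theorem intSub_isIntegralOn (U : S.Opens) : (intSub f).IsIntegralOn U := fun _ hb => hb

end Groth.Agent.Lib.Helper28.QCSub
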