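import Mathlib
import Groth.Agent.Lib.Helper28.QCSubInt
import Groth.Agent.Lib.Helper28.QCSubAff

/-!
# Zariski's main theorem: finite factorization over a qcqs base (helper28)
-/

set_option autoImplicit false
set_option linter.style.haveILetI false
set_option linter.unusedSectionVars false
universe u
open AlgebraicGeometry CategoryTheory Limits TopologicalSpace

namespace Groth.Agent.Lib.Helper28.ZMTFin

open QCSub QCSubAff

section algebra

/-- If `A[1/b]` is of finite type over `R`, then finitely many elements of `A` together with `b`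
generate a subring `T` with `A[1/b] = T[1/b]`. -/
theorem exists_finset_pow_mul_mem {R A : Type*} [CommRing R] [CommRing A] (ψ : R →+* A) (b : A)
    (hft : ((algebraMap A (Localization.Away b)).comp ψ).FiniteType) :
    ∃ E : Finset A, ∀ T : Subring A, (∀ r, ψ r ∈ T) → (E : Set A) ⊆ T → b ∈ T →
      ∀ a : A, ∃ n : ℕ, b ^ n * a ∈ T := by
  classical
  letI : Algebra R (Localization.Away b) := ((algebraMap A (Localization.Away b)).comp ψ).toAlgebra
  have hft' : Algebra.FiniteType R (Localization.Away b) := hft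
  obtain ⟨s, hs⟩ := hft'.out
  have key : ∀ y : Localization.Away b, ∃ (n : ℕ) (a : A),
      y * algebraMap A (Localization.Away b) b ^ n = algebraMap A (Localization.Away b) a :=
    fun y => IsLocalization.Away.surj b y
  choose n a hna using key
  refine ⟨s.image a, fun T hψ hE hb => ?_⟩
  have hP : ∀ z : Localization.Away b, ∃ (m : ℕ) (c : A), c ∈ T ∧
      z * algebraMap A (Localization.Away b) b ^ m = algebraMap A (Localization.Away b) c := by
    intro z
    have hz : z ∈ Algebra.adjoin R (s : Set (Localization.Away b)) := by rw [hs]; trivial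
    induction hz using Algebra.adjoin_induction with
    | mem y hy =>
      exact ⟨n y, a y, hE (Finset.mem_coe.2 (Finset.mem_image_of_mem _ (Finset.mem_coe.1 hy))),
        hna y⟩
    | algebraMap r => exact ⟨0, ψ r, hψ r, by rw [pow_zero, mul_one]; rfl⟩
    | add x y _ _ hx hy =>
      obtain ⟨m₁, c₁, hc₁, e₁⟩ := hx
      obtain ⟨m₂, c₂, hc₂, e₂⟩ := hy
      refine ⟨m₁ + m₂, c₁ * b ^ m₂ + c₂ * b ^ m₁,
        add_mem (mul_mem hc₁ (pow_mem hb _)) (mul_mem hc₂ (pow_mem hb _)), ?_⟩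
      rw [map_add, map_mul, map_mul, map_pow, map_pow, ← e₁, ← e₂]
      ring
    | mul x y _ _ hx hy =>
      obtain ⟨m₁, c₁, hc₁, e₁⟩ := hx
      obtain ⟨m₂, c₂, hc₂, e₂⟩ := hy
      refine ⟨m₁ + m₂, c₁ * c₂, mul_mem hc₁ hc₂, ?_⟩
      rw [map_mul, ← e₁, ← e₂]
      ring
  intro x
  obtain ⟨m, c, hc, e⟩ := hP (algebraMap A (Localization.Away b) x)
  rw [← map_pow, ← map_mul] at e
  obtain ⟨⟨_, k, rfl⟩, hk⟩ := (IsLocalization.eq_iff_exists (Submonoid.powers b) _).1 e
  refine ⟨k + m, ?_⟩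
  have : b ^ (k + m) * x = b ^ k * c := by
    rw [← hk]; ring
  rw [this]
  exact mul_mem (pow_mem hb _) hc

end algebra

section cover

variable {X : Scheme.{u}}

/-- If `W → Spec A'` is an open immersion with `W` quasi-compact, finitely many basic opens
`D(b)` inside the image have preimages covering `W`. -/
theorem exists_finset_basicOpen_cover (W : X.Opens) (hW : IsCompact (W : Set X))
    (A' : Subring Γ(X, W))
    (hA : IsOpenImmersion (W.toSpecΓ ≫ Spec.map (CommRingCat.ofHom A'.subtype))) :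
    ∃ 𝔟 : Finset A', (∀ x ∈ W, ∃ b ∈ 𝔟, x ∈ X.basicOpen (b : Γ(X, W))) ∧
      ∀ b ∈ 𝔟, (PrimeSpectrum.basicOpen b : Set (PrimeSpectrum A')) ⊆
        Set.range (W.toSpecΓ ≫ Spec.map (CommRingCat.ofHom A'.subtype)) := by
  classical
  haveI := hA
  obtain ⟨j, hj⟩ : ∃ j, j = W.toSpecΓ ≫ Spec.map (CommRingCat.ofHom A'.subtype) := ⟨_, rfl⟩
  rw [← hj]
  haveI : IsOpenImmersion j := hj ▸ hA
  haveI : CompactSpace W := isCompact_iff_compactSpace.1 hW
  have key : ∀ w : W, ∃ b : A', j w ∈ (PrimeSpectrum.basicOpen b : Set (PrimeSpectrum A')) ∧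
      ((PrimeSpectrum.basicOpen b : Set (PrimeSpectrum A')) ⊆ Set.range j) := by
    intro w
    obtain ⟨_, ⟨b, rfl⟩, h1, h2⟩ :=
      PrimeSpectrum.isTopologicalBasis_basic_opens.exists_subset_of_mem_open
        (Set.mem_range_self w) j.isOpenEmbedding.isOpen_range
    exact ⟨b, h1, h2⟩
  choose b hb1 hb2 using key
  obtain ⟨t, ht⟩ := isCompact_univ.elim_finite_subcover
    (fun w : W => j ⁻¹' (PrimeSpectrum.basicOpen (b w) : Set (PrimeSpectrum A')))
    (fun w => (PrimeSpectrum.basicOpen (b w)).2.preimage j.continuous)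
    (fun w _ => Set.mem_iUnion.2 ⟨w, hb1 w⟩)
  refine ⟨t.image b, ?_, ?_⟩
  · intro x hx
    obtain ⟨w', hw', hxw'⟩ := Set.mem_iUnion₂.1 (ht (Set.mem_univ (⟨x, hx⟩ : W)))
    refine ⟨b w', Finset.mem_image_of_mem _ hw', ?_⟩
    have h1 : (⟨x, hx⟩ : W) ∈ W.toSpecΓ ⁻¹ᵁ (PrimeSpectrum.basicOpen ((b w' : A') : Γ(X, W))) := by
      have h2 : j ⟨x, hx⟩ ∈ (PrimeSpectrum.basicOpen (b w') : Set (PrimeSpectrum A')) := hxw'
      rw [hj, Scheme.Hom.comp_apply] at h2
      exact h2
    rw [Scheme.Opens.toSpecΓ_preimage_basicOpen] at h1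
    exact h1
  · intro b' hb'
    obtain ⟨w, -, rfl⟩ := Finset.mem_image.1 hb'
    exact hb2 w

end cover

section ft

variable {X S : Scheme.{u}} (f : X ⟶ S)

theorem finiteType_away [LocallyOfFiniteType f] (U : S.Opens) (hU : IsAffineOpen U)
    (A' : Subring Γ(X, f ⁻¹ᵁ U)) (hφ : ∀ r, (f.app U).hom r ∈ A')
    (hA : IsOpenImmersion ((f ⁻¹ᵁ U).toSpecΓ ≫ Spec.map (CommRingCat.ofHom A'.subtype)))
    (b : A')
    (hb : (PrimeSpectrum.basicOpen b : Set (PrimeSpectrum A')) ⊆
      Set.range ((f ⁻¹ᵁ U).toSpecΓ ≫ Spec.map (CommRingCat.ofHom A'.subtype))) :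
    ((algebraMap A' (Localization.Away b)).comp
      ((f.app U).hom.codRestrict A' hφ)).FiniteType := by
  haveI := hA
  obtain ⟨j, hj⟩ : ∃ j, j = (f ⁻¹ᵁ U).toSpecΓ ≫ Spec.map (CommRingCat.ofHom A'.subtype) :=
    ⟨_, rfl⟩
  rw [← hj] at hb
  haveI : IsOpenImmersion j := hj ▸ hA
  let g : Spec (.of (Localization.Away b)) ⟶ Spec (.of A') :=
    Spec.map (CommRingCat.ofHom (algebraMap A' (Localization.Away b)))
  haveI : IsOpenImmersion g := inferInstance
  have hrange : Set.range g ⊆ Set.range j := by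
    have : Set.range g = (PrimeSpectrum.basicOpen b : Set (PrimeSpectrum A')) :=
      PrimeSpectrum.localization_away_comap_range _ b
    rw [this]
    exact hb
  let l := IsOpenImmersion.lift j g hrange
  have hl : l ≫ j = g := IsOpenImmersion.lift_fac _ _ _
  haveI : IsOpenImmersion l := by
    have : IsOpenImmersion (l ≫ j) := by rw [hl]; infer_instance
    exact IsOpenImmersion.of_comp l j
  let ψ : CommRingCat.of Γ(S, U) ⟶ CommRingCat.of A' :=
    CommRingCat.ofHom ((f.app U).hom.codRestrict A' hφ)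
  have h1 : ψ ≫ CommRingCat.ofHom A'.subtype = f.app U := rfl
  haveI : LocallyOfFiniteType ((f ⁻¹ᵁ U).toSpecΓ ≫ Spec.map (f.app U)) := by
    have e : ((f ⁻¹ᵁ U).toSpecΓ ≫ Spec.map (f.app U)) ≫ hU.fromSpec = (f ⁻¹ᵁ U).ι ≫ f := by
      simp
    haveI : LocallyOfFiniteType (((f ⁻¹ᵁ U).toSpecΓ ≫ Spec.map (f.app U)) ≫ hU.fromSpec) := by
      rw [e]; infer_instance
    exact locallyOfFiniteType_of_comp _ hU.fromSpec
  have h2 : g ≫ Spec.map ψ = l ≫ (f ⁻¹ᵁ U).toSpecΓ ≫ Spec.map (f.app U) := by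
    rw [← hl, hj, Category.assoc, Category.assoc, ← Spec.map_comp, h1]
  have h3 : LocallyOfFiniteType (g ≫ Spec.map ψ) := by rw [h2]; infer_instance
  rw [← Spec.map_comp, HasRingHomProperty.Spec_iff (P := @LocallyOfFiniteType)] at h3
  exact h3

/-- Over an affine open, finitely many sections of `A'` suffice to keep `f⁻¹U → Spec C'` an open
immersion. -/
theorem exists_finset_isOpenImmersion [LocallyOfFiniteType f] [QuasiCompact f] (U : S.Opens)
    (hU : IsAffineOpen U) (A' : Subring Γ(X, f ⁻¹ᵁ U)) (hφ : ∀ r, (f.app U).hom r ∈ A')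
    (hA : IsOpenImmersion ((f ⁻¹ᵁ U).toSpecΓ ≫ Spec.map (CommRingCat.ofHom A'.subtype))) :
    ∃ E : Finset Γ(X, f ⁻¹ᵁ U), (E : Set Γ(X, f ⁻¹ᵁ U)) ⊆ A' ∧
      ∀ C' : Subring Γ(X, f ⁻¹ᵁ U), C' ≤ A' → (∀ r, (f.app U).hom r ∈ C') →
        (E : Set Γ(X, f ⁻¹ᵁ U)) ⊆ C' →
        IsOpenImmersion ((f ⁻¹ᵁ U).toSpecΓ ≫ Spec.map (CommRingCat.ofHom C'.subtype)) := by
  classical
  obtain ⟨𝔟, hcov, hrange⟩ := exists_finset_basicOpen_cover (f ⁻¹ᵁ U)
    (f.isCompact_preimage hU.isCompact) A' hA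
  have key : ∀ b : A', b ∈ 𝔟 → ∃ Eb : Finset A', ∀ T : Subring A',
      (∀ r, (f.app U).hom.codRestrict A' hφ r ∈ T) → (Eb : Set A') ⊆ T → b ∈ T →
        ∀ a : A', ∃ n : ℕ, b ^ n * a ∈ T :=
    fun b hb => exists_finset_pow_mul_mem _ b (finiteType_away f U hU A' hφ hA b (hrange b hb))
  choose! Eb hEb using key
  refine ⟨(𝔟 ∪ 𝔟.biUnion Eb).image Subtype.val, ?_, ?_⟩
  · intro x hx
    obtain ⟨y, -, rfl⟩ := Finset.mem_image.1 (Finset.mem_coe.1 hx)
    exact y.2
  · intro C' hCA hφC hEC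
    have hmemC : ∀ y : A', y ∈ 𝔟 ∪ 𝔟.biUnion Eb → (y : Γ(X, f ⁻¹ᵁ U)) ∈ C' :=
      fun y hy => hEC (Finset.mem_coe.2 (Finset.mem_image_of_mem _ hy))
    refine isOpenImmersion_toSpecΓ_subring (f ⁻¹ᵁ U) A' C' hCA hA (ι := 𝔟)
      (fun b => (b.1 : Γ(X, f ⁻¹ᵁ U))) (fun b => hmemC b.1 (Finset.mem_union_left _ b.2)) ?_ ?_
    · intro x hx
      obtain ⟨b, hb, hxb⟩ := hcov x hx
      exact ⟨⟨b, hb⟩, hxb⟩
    · rintro ⟨b, hb⟩ a ha
      obtain ⟨n, hn⟩ := hEb b hb (C'.comap A'.subtype) (fun r => hφC r)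
        (fun y hy => hmemC y (Finset.mem_union_right _ (Finset.mem_biUnion.2 ⟨b, hb, hy⟩)))
        (hmemC b (Finset.mem_union_left _ hb)) ⟨a, ha⟩
      exact ⟨n, hn⟩

end ft

section main

variable {X S : Scheme.{u}} (f : X ⟶ S)

theorem isOpenImmersion_intSub_of [QuasiCompact f] [QuasiSeparated f]
    (hf : IsOpenImmersion f.toNormalization) (U : S.affineOpens) :
    IsOpenImmersion ((f ⁻¹ᵁ U.1).toSpecΓ ≫
      Spec.map (CommRingCat.ofHom ((intSub f).sub U.1).subtype)) := by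
  haveI := hf
  have h := f.ι_toNormalization U
  have h1 : IsOpenImmersion ((f ⁻¹ᵁ U.1).ι ≫ f.toNormalization) := inferInstance
  rw [h, ← Category.assoc] at h1
  exact @IsOpenImmersion.of_comp _ _ _ _ (f.normalizationOpenCover.f U)
    (f.normalizationOpenCover.map_prop U) h1

theorem isOpenImmersion_intSub [LocallyQuasiFinite f] [LocallyOfFiniteType f] [IsSeparated f]
    [QuasiCompact f] (U : S.affineOpens) :
    IsOpenImmersion ((f ⁻¹ᵁ U.1).toSpecΓ ≫
      Spec.map (CommRingCat.ofHom ((intSub f).sub U.1).subtype)) :=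
  isOpenImmersion_intSub_of f inferInstance U

/-- A quasi-compact scheme has a finite cover by affine opens. -/
theorem exists_finite_affine_cover (S : Scheme.{u}) [CompactSpace S] :
    ∃ s : Set S.affineOpens, s.Finite ∧ ⨆ i : s, (i.1 : S.Opens) = ⊤ := by
  obtain ⟨s, hs, hcov⟩ := isCompact_iff_finite_and_eq_biUnion_affineOpens.mp
    (show IsCompact ((⊤ : S.Opens) : Set S) from isCompact_univ)
  refine ⟨s, hs, ?_⟩
  rw [hcov, iSup_subtype']

/-- Finite factorization over a qcqs base as soon as the map to the relative normalization is an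
open immersion. -/
theorem zmt_finite_of [CompactSpace S] [QuasiSeparatedSpace S]
    [LocallyOfFiniteType f] [QuasiCompact f] [QuasiSeparated f]
    (hf : IsOpenImmersion f.toNormalization) :
    ∃ (T : Scheme.{u}) (j : X ⟶ T) (π : T ⟶ S),
      IsOpenImmersion j ∧ QuasiCompact j ∧ IsFinite π ∧ j ≫ π = f := by
  obtain ⟨s, hs, hcov⟩ := exists_finite_affine_cover S
  haveI : Finite s := hs.to_subtype
  have hZ : ∀ i : s, ∃ E : Finset Γ(X, f ⁻¹ᵁ i.1.1),
      (E : Set Γ(X, f ⁻¹ᵁ i.1.1)) ⊆ (intSub f).sub i.1.1 ∧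
      ∀ C' : Subring Γ(X, f ⁻¹ᵁ i.1.1), C' ≤ (intSub f).sub i.1.1 →
        (∀ r, (f.app i.1.1).hom r ∈ C') → (E : Set Γ(X, f ⁻¹ᵁ i.1.1)) ⊆ C' →
        IsOpenImmersion ((f ⁻¹ᵁ i.1.1).toSpecΓ ≫ Spec.map (CommRingCat.ofHom C'.subtype)) :=
    fun i => exists_finset_isOpenImmersion f i.1.1 i.1.2 ((intSub f).sub i.1.1)
      ((intSub f).map_mem _) (isOpenImmersion_intSub_of f hf i.1)
  choose E hE1 hE2 using hZ
  obtain ⟨C, hCA, hEC, hfin⟩ := exists_finite_sub (intSub f) (fun i : s => i.1.1)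
    (fun i => i.1.2) (fun i => intSub_isIntegralOn f _) E hE1
  have h1 : IsFinite C.toBase :=
    C.isFinite_toBase (fun i : s => i.1) hcov (fun i => (hfin i).finite)
  refine ⟨C.spec, C.fromX, C.toBase, ?_, ?_, h1, C.fromX_toBase⟩
  · exact C.isOpenImmersion_fromX (fun i : s => i.1) hcov
      (fun i => hE2 i (C.sub i.1.1) (hCA _) (C.map_mem _) (hEC i))
  · have : QuasiCompact (C.fromX ≫ C.toBase) := by rw [C.fromX_toBase]; infer_instance
    exact MorphismProperty.of_postcomp (W := @QuasiCompact) (W' := @QuasiSeparated)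
      C.fromX C.toBase inferInstance this

/-- **Zariski's main theorem**, finite factorization over a qcqs base. -/
theorem zmt_finite [CompactSpace S] [QuasiSeparatedSpace S] [LocallyQuasiFinite f]
    [LocallyOfFiniteType f] [QuasiCompact f] [IsSeparated f] :
    ∃ (T : Scheme.{u}) (j : X ⟶ T) (π : T ⟶ S),
      IsOpenImmersion j ∧ QuasiCompact j ∧ IsFinite π ∧ j ≫ π = f :=
  zmt_finite_of f inferInstance

/-- A quasi-compact immersion with trivial kernel is an open immersion. -/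
theorem isOpenImmersion_of_isImmersion_of_ker_eq_bot {X Y : Scheme.{u}} (g : X ⟶ Y)
    [IsImmersion g] [QuasiCompact g] (hg : g.ker = ⊥) : IsOpenImmersion g := by
  haveI : IsIso g.imageι := IsClosedImmersion.isIso_iff_ker_eq_bot.2 (by
    rw [Scheme.Hom.imageι, Scheme.IdealSheafData.ker_subschemeι, hg])
  rw [← g.toImage_imageι]
  infer_instance

/-- `f` factors as an immersion followed by a finite morphism iff the map to the relative
normalization is an immersion. -/
theorem exists_immersion_finite_fac_iff [CompactSpace S] [QuasiSeparatedSpace S] [IsSeparated f]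
    [LocallyOfFiniteType f] [QuasiCompact f] :
    (∃ (Y' : Scheme.{u}) (f' : X ⟶ Y') (u : Y' ⟶ S), IsImmersion f' ∧ IsFinite u ∧ f' ≫ u = f) ↔
      IsImmersion f.toNormalization := by
  constructor
  · rintro ⟨Y', f', u, hf', hu, hfac⟩
    have h1 : f.toNormalization ≫ f.normalizationDesc f' u hfac.symm = f' :=
      f.toNormalization_normalizationDesc f' u hfac.symm
    haveI : IsImmersion (f.toNormalization ≫ f.normalizationDesc f' u hfac.symm) := by
      rw [h1]; exact hf'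
    exact IsImmersion.of_comp f.toNormalization (f.normalizationDesc f' u hfac.symm)
  · intro h
    have h2 : IsOpenImmersion f.toNormalization :=
      isOpenImmersion_of_isImmersion_of_ker_eq_bot _ f.ker_toNormalization
    obtain ⟨T, j, π, hj, -, hπ, hfac⟩ := zmt_finite_of f h2
    exact ⟨T, j, π, inferInstance, hπ, hfac⟩

end main

end Groth.Agent.Lib.Helper28.ZMTFin
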