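import Mathlib
import Groth.Agent.Lib.Helper28.ZMTFin

/-!
# Extending a finite surjective morphism from a quasi-compact open (helper28)
-/

set_option autoImplicit false
set_option linter.style.haveILetI false
set_option linter.unusedSectionVars false
universe u
open AlgebraicGeometry CategoryTheory Limits TopologicalSpace

namespace Groth.Agent.Lib.Helper28.ExtFin

open QCSub QCSubAff ZMTFin

section general

theorem isIso_ι_of_eq_top {X : Scheme.{u}} (W : X.Opens) (h : W = ⊤) : IsIso W.ι := by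
  subst h
  have : (⊤ : X.Opens).ι = X.topIso.hom := rfl
  rw [this]
  infer_instance

/-- If `(j⁻¹O).ι ≫ j` is an open immersion whose range contains `O`, then `j ∣_ O` is an iso. -/
theorem isIso_morphismRestrict_of_isOpenImmersion {V T : Scheme.{u}} (j : V ⟶ T) (O : T.Opens)
    (W : V.Opens) (hW : W = j ⁻¹ᵁ O) (h : IsOpenImmersion (W.ι ≫ j))
    (hr : (O : Set T) ⊆ Set.range (W.ι ≫ j)) : IsIso (j ∣_ O) := by
  subst hW
  have h1 : IsOpenImmersion ((j ∣_ O) ≫ O.ι) := by rw [morphismRestrict_ι]; exact h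
  haveI : IsOpenImmersion (j ∣_ O) := IsOpenImmersion.of_comp _ O.ι
  rw [isIso_iff_isOpenImmersion_and_surjective]
  refine ⟨inferInstance, ⟨fun y => ?_⟩⟩
  obtain ⟨x, hx⟩ := hr y.2
  refine ⟨x, ?_⟩
  apply O.ι.isOpenEmbedding.injective
  rw [← Scheme.Hom.comp_apply, morphismRestrict_ι]
  exact hx

/-- If `j ∣_ O` is an iso and `j⁻¹ O = ⊤`, then `j` is an open immersion with range `O`. -/
theorem isOpenImmersion_of_isIso_morphismRestrict {V T : Scheme.{u}} (j : V ⟶ T) (O : T.Opens)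
    (h : IsIso (j ∣_ O)) (htop : j ⁻¹ᵁ O = ⊤) :
    IsOpenImmersion j ∧ Set.range j = (O : Set T) := by
  haveI := isIso_ι_of_eq_top _ htop
  have e : j = inv (j ⁻¹ᵁ O).ι ≫ (j ∣_ O) ≫ O.ι := by
    rw [morphismRestrict_ι, IsIso.inv_hom_id_assoc]
  have h1 : IsOpenImmersion (inv (j ⁻¹ᵁ O).ι ≫ (j ∣_ O) ≫ O.ι) := inferInstance
  refine ⟨e ▸ h1, ?_⟩
  apply Set.Subset.antisymm
  · rintro _ ⟨x, rfl⟩
    have hx : x ∈ j ⁻¹ᵁ O := by rw [htop]; trivial
    exact hx
  · intro y hy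
    obtain ⟨x, hx⟩ := (ConcreteCategory.bijective_of_isIso (j ∣_ O).base).2 ⟨y, hy⟩
    refine ⟨x.1, ?_⟩
    have h2 : ((j ∣_ O) ≫ O.ι) x = y := by
      rw [Scheme.Hom.comp_apply]
      show O.ι ((j ∣_ O) x) = y
      have : (j ∣_ O) x = ⟨y, hy⟩ := hx
      rw [this]
      rfl
    rw [morphismRestrict_ι] at h2
    exact h2

/-- An open immersion onto `π⁻¹U` commuting with the projections is a pullback. -/
theorem isPullback_of_isOpenImmersion_of_range_eq {V S V' : Scheme.{u}} (U : S.Opens)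
    (v : V ⟶ (U : Scheme.{u})) (π : V' ⟶ S) (i : V ⟶ V') [IsOpenImmersion i]
    (hcomm : i ≫ π = v ≫ U.ι) (hr : Set.range i = ((π ⁻¹ᵁ U : V'.Opens) : Set V')) :
    IsPullback i v π U.ι := by
  let e := IsOpenImmersion.isoOfRangeEq i (π ⁻¹ᵁ U).ι (by rw [hr, Scheme.Opens.range_ι])
  have he : e.hom ≫ (π ⁻¹ᵁ U).ι = i := IsOpenImmersion.isoOfRangeEq_hom_fac _ _ _
  have h0 := (isPullback_morphismRestrict π U).flip
  refine h0.of_iso e.symm (Iso.refl _) (Iso.refl _) (Iso.refl _) ?_ ?_ (by simp) (by simp)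
  · rw [Iso.symm_hom, Iso.refl_hom, Category.comp_id, ← he, Iso.inv_hom_id_assoc]
  · rw [Iso.symm_hom, Iso.refl_hom, Category.comp_id, Iso.eq_inv_comp,
      ← cancel_mono U.ι, Category.assoc, morphismRestrict_ι, ← Category.assoc, he, hcomm]

end general

section sub

variable {X S : Scheme.{u}} {f : X ⟶ S} [QuasiCompact f] [QuasiSeparated f]

/-- Over an affine open `W` with affine preimage on which `C` is everything, `fromX` is an
isomorphism. -/
theorem isIso_fromX_restrict (C : Sub f) (W : S.affineOpens) (hW : IsAffineOpen (f ⁻¹ᵁ W.1))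
    (htop : C.sub W.1 = ⊤) : IsIso (C.fromX ∣_ (C.toBase ⁻¹ᵁ W.1)) := by
  have heq : f ⁻¹ᵁ W.1 = C.fromX ⁻¹ᵁ (C.toBase ⁻¹ᵁ W.1) := by
    rw [← Scheme.Hom.comp_preimage, C.fromX_toBase]
  haveI h1 : IsIso (f ⁻¹ᵁ W.1).toSpecΓ := by
    rw [← hW.isoSpec_hom]; infer_instance
  haveI h2 : IsIso (CommRingCat.ofHom (C.sub W.1).subtype) := by
    rw [ConcreteCategory.isIso_iff_bijective]
    refine ⟨Subtype.val_injective, fun x => ⟨⟨x, ?_⟩, rfl⟩⟩
    rw [htop]; trivial
  haveI h3 : IsOpenImmersion (C.specCover.f W) := C.specCover.map_prop W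
  have h4 : IsOpenImmersion ((f ⁻¹ᵁ W.1).ι ≫ C.fromX) := by
    rw [C.ι_fromX, ← Category.assoc]
    haveI h5 : IsIso (Spec.map (CommRingCat.ofHom (C.sub W.1).subtype)) := inferInstance
    haveI h6 : IsIso ((f ⁻¹ᵁ W.1).toSpecΓ ≫ Spec.map (CommRingCat.ofHom (C.sub W.1).subtype)) :=
      inferInstance
    have h7 : IsOpenImmersion
        ((f ⁻¹ᵁ W.1).toSpecΓ ≫ Spec.map (CommRingCat.ofHom (C.sub W.1).subtype)) := inferInstance
    exact @IsOpenImmersion.comp _ _ _ _ (C.specCover.f W) h7 h3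
  refine isIso_morphismRestrict_of_isOpenImmersion C.fromX _ (f ⁻¹ᵁ W.1) heq h4 ?_
  rw [C.ι_fromX, C.toBase_preimage]
  intro y hy
  obtain ⟨x, rfl⟩ := hy
  obtain ⟨x', rfl⟩ := (ConcreteCategory.bijective_of_isIso
    ((f ⁻¹ᵁ W.1).toSpecΓ ≫ Spec.map (CommRingCat.ofHom (C.sub W.1).subtype)).base).2 x
  exact ⟨x', rfl⟩

end sub

section fin

theorem subringFG_top_of_finite {R A : Type*} [CommRing R] [CommRing A] {φ : R →+* A}
    (h : φ.Finite) : SubringFG φ (⊤ : Subring A) := by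
  letI := φ.toAlgebra
  have h' : Module.Finite R A := h
  obtain ⟨G, hG⟩ := h'.fg_top
  refine ⟨G, ?_⟩
  rw [hG]
  rfl

variable {S V : Scheme.{u}} (U : S.Opens) (v : V ⟶ (U : Scheme.{u})) [IsFinite v]

theorem isAffineOpen_preimage_of_le {W : S.Opens} (hW : IsAffineOpen W) (hWU : W ≤ U) :
    IsAffineOpen ((v ≫ U.ι) ⁻¹ᵁ W) := by
  have h1 : IsAffineOpen (U.ι ⁻¹ᵁ W) :=
    hW.preimage_of_isOpenImmersion U.ι (by rw [Scheme.Opens.opensRange_ι]; exact hWU)
  exact h1.preimage v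

theorem finite_app_of_le {W : S.Opens} (hW : IsAffineOpen W) (hWU : W ≤ U) :
    ((v ≫ U.ι).app W).hom.Finite := by
  have h1 : IsAffineOpen (U.ι ⁻¹ᵁ W) :=
    hW.preimage_of_isOpenImmersion U.ι (by rw [Scheme.Opens.opensRange_ι]; exact hWU)
  have h2 : (U.ι.app W ≫ v.app (U.ι ⁻¹ᵁ W)).hom.Finite := by
    rw [CommRingCat.hom_comp]
    refine RingHom.Finite.comp (IsFinite.finite_app v _ h1) ?_
    haveI : IsIso (U.ι.app W) :=
      U.ι.isIso_app W (by rw [Scheme.Opens.opensRange_ι]; exact hWU)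
    exact RingHom.Finite.of_surjective _ (ConcreteCategory.bijective_of_isIso (U.ι.app W)).2
  exact h2

end fin

section main

variable {S V : Scheme.{u}}

/-- Core of the extension: a finite quasi-coherent subalgebra of `(v ≫ U.ι)_* O_V` whose relative
spectrum contains `V` as the preimage of `U`. -/
theorem ext_finite_core [CompactSpace S] [QuasiSeparatedSpace S] (U : S.Opens)
    (hU : IsCompact (U : Set S)) (v : V ⟶ (U : Scheme.{u})) [IsFinite v]
    (f : V ⟶ S) (hf : f = v ≫ U.ι) [QuasiCompact f] [QuasiSeparated f] :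
    ∃ C : Sub f, IsFinite C.toBase ∧ IsOpenImmersion C.fromX ∧
      Set.range C.fromX = ((C.toBase ⁻¹ᵁ U : C.spec.Opens) : Set C.spec) := by
  classical
  obtain ⟨L, hLfin, hLcov⟩ := isCompact_iff_finite_and_eq_biUnion_affineOpens.mp hU
  obtain ⟨s, hsfin, hscov⟩ := exists_finite_affine_cover S
  have hLU : ∀ i ∈ L, (i : S.Opens) ≤ U := fun i hi => by
    rw [hLcov]; exact le_iSup₂ (f := fun (i : S.affineOpens) _ => (i : S.Opens)) i hi
  obtain ⟨t, ht⟩ : ∃ t : Set S.affineOpens, t = L ∪ s := ⟨_, rfl⟩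
  haveI : Finite t := by rw [ht]; exact (hLfin.union hsfin).to_subtype
  have htcov : ⨆ i : t, (i.1 : S.Opens) = ⊤ := by
    rw [eq_top_iff, ← hscov]
    exact iSup_le fun i => le_iSup (fun i : t => (i.1 : S.Opens))
      ⟨i.1, by rw [ht]; exact Or.inr i.2⟩
  have hfinapp : ∀ W : S.affineOpens, W.1 ≤ U → (f.app W.1).hom.Finite := fun W h => by
    subst hf; exact finite_app_of_le U v W.2 h
  have haff : ∀ W : S.affineOpens, W.1 ≤ U → IsAffineOpen (f ⁻¹ᵁ W.1) := fun W h => by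
    subst hf; exact isAffineOpen_preimage_of_le U v W.2 h
  have hgen : ∀ i : t, ∃ E : Finset Γ(V, f ⁻¹ᵁ i.1.1),
      (E : Set Γ(V, f ⁻¹ᵁ i.1.1)) ⊆ (intSub f).sub i.1.1 ∧
      (i.1.1 ≤ U → ∀ T : Subring Γ(V, f ⁻¹ᵁ i.1.1), (∀ r, (f.app i.1.1).hom r ∈ T) →
        (E : Set Γ(V, f ⁻¹ᵁ i.1.1)) ⊆ T → T = ⊤) := by
    intro i
    by_cases h : i.1.1 ≤ U
    · obtain ⟨G, hG1, hG2⟩ := (subringFG_top_of_finite (hfinapp i.1 h)).exists_generators
      refine ⟨G, fun g _ => ?_, fun _ T hT hGT => top_le_iff.1 (hG2 T hT hGT)⟩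
      exact (hfinapp i.1 h).to_isIntegral g
    · exact ⟨∅, by simp, fun h' => absurd h' h⟩
  choose E hE1 hE2 using hgen
  obtain ⟨C, hCA, hEC, hfin⟩ := exists_finite_sub (intSub f) (fun i : t => i.1.1)
    (fun i => i.1.2) (fun i => intSub_isIntegralOn f _) E hE1
  have htop : ∀ i : t, i.1.1 ≤ U → C.sub i.1.1 = ⊤ :=
    fun i h => hE2 i h _ (C.map_mem _) (hEC i)
  have hπfin : IsFinite C.toBase :=
    C.isFinite_toBase (fun i : t => i.1) htcov (fun i => (hfin i).finite)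
  -- iso over U
  have hiso : IsIso (C.fromX ∣_ (C.toBase ⁻¹ᵁ U)) := by
    have h1 : ∀ i : L, IsIso (C.fromX ∣_ (C.toBase ⁻¹ᵁ i.1.1)) := fun i =>
      isIso_fromX_restrict C i.1 (haff i.1 (hLU i.1 i.2))
        (htop ⟨i.1, by rw [ht]; exact Or.inl i.2⟩ (hLU i.1 i.2))
    have h2 := isIso_morphismRestrict_iSup C.fromX (fun i : L => C.toBase ⁻¹ᵁ i.1.1) h1
    have h3 : ⨆ i : L, C.toBase ⁻¹ᵁ i.1.1 = C.toBase ⁻¹ᵁ U := by
      rw [← Scheme.Hom.preimage_iSup, hLcov, iSup_subtype']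
    rw [h3] at h2
    exact h2
  have hpre : C.fromX ⁻¹ᵁ (C.toBase ⁻¹ᵁ U) = ⊤ := by
    rw [← Scheme.Hom.comp_preimage, C.fromX_toBase, hf, Scheme.Hom.comp_preimage,
      Scheme.Opens.ι_preimage_self]
    rfl
  obtain ⟨hjopen, hjrange⟩ := isOpenImmersion_of_isIso_morphismRestrict C.fromX _ hiso hpre
  exact ⟨C, hπfin, hjopen, hjrange⟩

/-- A finite surjective morphism over a quasi-compact open of a qcqs scheme extends to a finite
surjective morphism over the whole scheme. -/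
theorem ext_finite [CompactSpace S] [QuasiSeparatedSpace S] (U : S.Opens)
    (hU : IsCompact (U : Set S)) (v : V ⟶ (U : Scheme.{u})) [IsFinite v] [Surjective v] :
    ∃ (V' : Scheme.{u}) (π : V' ⟶ S) (i : V ⟶ V'),
      Surjective π ∧ IsFinite π ∧ IsPullback i v π U.ι := by
  classical
  obtain ⟨f, hf⟩ : ∃ f : V ⟶ S, f = v ≫ U.ι := ⟨_, rfl⟩
  haveI : CompactSpace U := isCompact_iff_compactSpace.1 hU
  haveI : QuasiCompact f := by rw [hf]; infer_instance
  haveI : QuasiSeparated f := by rw [hf]; infer_instance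
  obtain ⟨C, hπfin, hjopen, hjrange⟩ := ext_finite_core U hU v f hf
  -- the closed complement
  let I := Scheme.IdealSheafData.vanishingIdeal ⟨(U : Set S)ᶜ, U.2.isClosed_compl⟩
  have hzrange : Set.range I.subschemeι = (U : Set S)ᶜ := by
    rw [Scheme.IdealSheafData.range_subschemeι, Scheme.IdealSheafData.coe_support_vanishingIdeal]
    rfl
  let π' : C.spec ⨿ I.subscheme ⟶ S := coprod.desc C.toBase I.subschemeι
  haveI : IsFinite π' := inferInstance
  let i : V ⟶ C.spec ⨿ I.subscheme := C.fromX ≫ coprod.inl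
  haveI : IsOpenImmersion i := inferInstance
  have hcomm : i ≫ π' = v ≫ U.ι := by
    simp only [i, π', Category.assoc, coprod.inl_desc, C.fromX_toBase, hf]
  refine ⟨_, π', i, ⟨fun x => ?_⟩, inferInstance,
    isPullback_of_isOpenImmersion_of_range_eq U v π' i hcomm ?_⟩
  · by_cases hx : x ∈ U
    · obtain ⟨y, hy⟩ := v.surjective ⟨x, hx⟩
      refine ⟨i y, ?_⟩
      rw [← Scheme.Hom.comp_apply, hcomm, Scheme.Hom.comp_apply, hy]
      rfl
    · obtain ⟨w, hw⟩ : x ∈ Set.range I.subschemeι := by rw [hzrange]; exact hx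
      refine ⟨(coprod.inr : I.subscheme ⟶ C.spec ⨿ I.subscheme) w, ?_⟩
      rw [← Scheme.Hom.comp_apply, coprod.inr_desc]
      exact hw
  · apply Set.Subset.antisymm
    · rintro _ ⟨y, rfl⟩
      show π' (i y) ∈ U
      rw [← Scheme.Hom.comp_apply, hcomm, Scheme.Hom.comp_apply]
      exact (v y).2
    · intro p hp
      have hp' : π' p ∈ U := hp
      have hcompl := isCompl_range_inl_inr C.spec I.subscheme
      have hmem : p ∈ Set.range (coprod.inl : C.spec ⟶ C.spec ⨿ I.subscheme) ∪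
          Set.range (coprod.inr : I.subscheme ⟶ C.spec ⨿ I.subscheme) := by
        have h := hcompl.sup_eq_top
        have h' : p ∈ (Set.range (coprod.inl : C.spec ⟶ C.spec ⨿ I.subscheme) ⊔
          Set.range (coprod.inr : I.subscheme ⟶ C.spec ⨿ I.subscheme) : Set _) := by
          rw [h]; trivial
        exact h'
      rcases hmem with ⟨a, rfl⟩ | ⟨w, rfl⟩
      · rw [← Scheme.Hom.comp_apply, coprod.inl_desc] at hp'
        have ha : a ∈ Set.range C.fromX := by rw [hjrange]; exact hp'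
        obtain ⟨y, rfl⟩ := ha
        exact ⟨y, rfl⟩
      · exfalso
        rw [← Scheme.Hom.comp_apply, coprod.inr_desc] at hp'
        have : I.subschemeι w ∈ (U : Set S)ᶜ := by rw [← hzrange]; exact ⟨w, rfl⟩
        exact this hp'

/-- Affine base: a finite morphism over a quasi-compact open of `Spec A` is the restriction of
`Spec B → Spec A` for a finite `A`-algebra `B`. -/
theorem ext_finite_affine (A : Type u) [CommRing A] (U : (Spec (CommRingCat.of A)).Opens)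
    (hU : IsCompact (U : Set (Spec (CommRingCat.of A))))
    (U' : Scheme.{u}) (g : U' ⟶ (U : Scheme.{u})) [IsFinite g] :
    ∃ (B : Type u) (_ : CommRing B) (_ : Algebra A B) (i : U' ⟶ Spec (CommRingCat.of B)),
      Module.Finite A B ∧
        IsPullback i g (Spec.map (CommRingCat.ofHom (algebraMap A B))) U.ι := by
  classical
  obtain ⟨f, hf⟩ : ∃ f : U' ⟶ Spec (CommRingCat.of A), f = g ≫ U.ι := ⟨_, rfl⟩
  haveI : CompactSpace U := isCompact_iff_compactSpace.1 hU
  haveI : QuasiCompact f := by rw [hf]; infer_instance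
  haveI : QuasiSeparated f := by rw [hf]; infer_instance
  obtain ⟨C, hπfin, hjopen, hjrange⟩ := ext_finite_core U hU g f hf
  obtain ⟨W, hW⟩ : ∃ W : (Spec (CommRingCat.of A)).affineOpens, W.1 = ⊤ :=
    ⟨⟨⊤, isAffineOpen_top _⟩, rfl⟩
  obtain ⟨e, he'⟩ : ∃ e : Spec (CommRingCat.of (C.sub W.1)) ⟶ C.spec, e = C.chart W := ⟨_, rfl⟩
  haveI he : IsOpenImmersion e := he' ▸ inferInstance
  haveI : IsIso e := he' ▸ C.isIso_chart_of_eq_top W hW
  obtain ⟨ρ, hρ⟩ : ∃ ρ : CommRingCat.of A ⟶ CommRingCat.of (C.sub W.1),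
      Spec.map ρ = e ≫ C.toBase := ⟨Spec.preimage (e ≫ C.toBase), Spec.map_preimage _⟩
  letI : Algebra A (C.sub W.1) := ρ.hom.toAlgebra
  have hfac : (C.fromX ≫ inv e) ≫ Spec.map ρ = g ≫ U.ι := by
    rw [hρ, Category.assoc, IsIso.inv_hom_id_assoc, C.fromX_toBase, hf]
  refine ⟨C.sub W.1, inferInstance, inferInstance, C.fromX ≫ inv e, ?_, ?_⟩
  · have h1 : IsFinite (Spec.map ρ) := by rw [hρ]; infer_instance
    exact (IsFinite.SpecMap_iff ρ).1 h1
  · haveI : IsOpenImmersion (C.fromX ≫ inv e) := inferInstance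
    refine isPullback_of_isOpenImmersion_of_range_eq U g (Spec.map ρ) _ hfac ?_
    apply Set.Subset.antisymm
    · rintro _ ⟨y, rfl⟩
      show (Spec.map ρ) ((C.fromX ≫ inv e) y) ∈ U
      rw [← Scheme.Hom.comp_apply, hfac, Scheme.Hom.comp_apply]
      exact (g y).2
    · intro p hp
      have hp' : (Spec.map ρ) p ∈ U := hp
      rw [hρ, Scheme.Hom.comp_apply] at hp'
      have h2 : e p ∈ Set.range C.fromX := by rw [hjrange]; exact hp'
      obtain ⟨y, hy⟩ := h2
      refine ⟨y, ?_⟩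
      rw [Scheme.Hom.comp_apply, hy, ← Scheme.Hom.comp_apply, IsIso.hom_inv_id]
      rfl

end main

end Groth.Agent.Lib.Helper28.ExtFin
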