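import Groth.Agent.Lib.Helper28.FinFlatLocal
import Groth.Agent.Lib.Helper28.ShearRing

/-!
# Extensions of finite flat group schemes over a local base: connected / étale cases
(helper28)
-/

set_option autoImplicit false
universe u
open TensorProduct

namespace Groth.Agent.Lib.Helper28.FinFlatExt

open Groth.Agent.Lib.Helper28.FinFlatLocal

/-- For a formally unramified algebra with a section, the kernel of the section is idempotent. -/
theorem ker_le_sq_of_formallyUnramified {R D : Type*} [CommRing R] [CommRing D] [Algebra R D]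
    [Algebra.FormallyUnramified R D] (ε : D →ₐ[R] R) :
    RingHom.ker ε ≤ RingHom.ker ε ^ 2 := by
  set 𝔪 := RingHom.ker ε with h𝔪
  let f₁ : D →ₐ[R] D ⧸ 𝔪 ^ 2 := Ideal.Quotient.mkₐ R (𝔪 ^ 2)
  let f₂ : D →ₐ[R] D ⧸ 𝔪 ^ 2 := (Algebra.ofId R (D ⧸ 𝔪 ^ 2)).comp ε
  let I₂ : Ideal (D ⧸ 𝔪 ^ 2) := 𝔪.map (Ideal.Quotient.mk (𝔪 ^ 2))
  have hnil : IsNilpotent I₂ := by
    refine ⟨2, ?_⟩
    rw [← Ideal.map_pow, Ideal.zero_eq_bot, Ideal.map_eq_bot_iff_le_ker, Ideal.mk_ker]
  have H : ∀ c, Ideal.Quotient.mk I₂ (f₁ c) = Ideal.Quotient.mk I₂ (f₂ c) := by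
    intro c
    rw [Ideal.Quotient.eq]
    have h1 : c - algebraMap R D (ε c) ∈ 𝔪 := by
      rw [h𝔪, RingHom.mem_ker, map_sub, AlgHom.commutes]
      simp
    have h2 : f₁ c - f₂ c = Ideal.Quotient.mk (𝔪 ^ 2) (c - algebraMap R D (ε c)) := by
      rw [map_sub]
      rfl
    rw [h2]
    exact Ideal.mem_map_of_mem _ h1
  have h12 : f₁ = f₂ := Algebra.FormallyUnramified.ext _ hnil H
  intro c hc
  have h3 := congrArg (fun f : D →ₐ[R] D ⧸ 𝔪 ^ 2 => f c) h12
  have hc' : ε c = 0 := hc
  simp only [f₁, f₂, AlgHom.coe_comp, Function.comp_apply, hc', map_zero] at h3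
  exact Ideal.Quotient.eq_zero_iff_mem.1 h3

/-- A local formally unramified algebra with a section (and f.g. augmentation ideal) is the base. -/
theorem ker_eq_bot_of_local {R D : Type*} [CommRing R] [Nontrivial R] [CommRing D] [Algebra R D]
    [Algebra.FormallyUnramified R D] [IsLocalRing D] (ε : D →ₐ[R] R) (hfg : (RingHom.ker ε).FG) :
    RingHom.ker ε = ⊥ := by
  have hidem : IsIdempotentElem (RingHom.ker ε) := by
    apply le_antisymm Ideal.mul_le_right
    have := ker_le_sq_of_formallyUnramified ε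
    rwa [pow_two] at this
  obtain ⟨f, hf, hker⟩ := (Ideal.isIdempotentElem_iff_of_fg _ hfg).1 hidem
  rcases idem_eq_zero_or_one hf with h | h
  · rw [hker, h]
    simp
  · exfalso
    have h1 : (1 : D) ∈ RingHom.ker ε := by
      rw [hker, h]
      exact Ideal.subset_span rfl
    rw [RingHom.mem_ker, map_one] at h1
    exact one_ne_zero h1

/-- An integral extension `Q` of a local ring `P` such that `Q ⧸ I Q` is local for a proper ideal
`I` of `P` is local. -/
theorem isLocalRing_of_quotient_map {P Q : Type*} [CommRing P] [CommRing Q] [Algebra P Q]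
    [Algebra.IsIntegral P Q] [IsLocalRing P] (I : Ideal P) (hI : I ≠ ⊤)
    [IsLocalRing (Q ⧸ I.map (algebraMap P Q))] : IsLocalRing Q := by
  set J := I.map (algebraMap P Q) with hJ
  have hmax : ∀ 𝔫 : Ideal Q, 𝔫.IsMaximal → J ≤ 𝔫 := by
    intro 𝔫 h𝔫
    haveI : (𝔫.comap (algebraMap P Q)).IsMaximal :=
      Ideal.isMaximal_comap_of_isIntegral_of_isMaximal 𝔫
    have h1 : 𝔫.comap (algebraMap P Q) = IsLocalRing.maximalIdeal P :=
      IsLocalRing.eq_maximalIdeal inferInstance
    rw [hJ, Ideal.map_le_iff_le_comap, h1]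
    exact IsLocalRing.le_maximalIdeal hI
  set M := (IsLocalRing.maximalIdeal (Q ⧸ J)).comap (Ideal.Quotient.mk J) with hM
  haveI hMmax : M.IsMaximal := Ideal.comap_isMaximal_of_surjective _ Ideal.Quotient.mk_surjective
  apply IsLocalRing.of_unique_max_ideal
  refine ⟨M, hMmax, ?_⟩
  intro 𝔫 h𝔫
  have hle : 𝔫 ≤ M := by
    intro x hx
    rw [hM, Ideal.mem_comap, IsLocalRing.mem_maximalIdeal, mem_nonunits_iff]
    intro hu
    obtain ⟨y, hy⟩ := isUnit_iff_exists_inv.1 hu
    obtain ⟨y, rfl⟩ := Ideal.Quotient.mk_surjective y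
    have h2 : x * y - 1 ∈ J := by
      rw [← Ideal.Quotient.eq_zero_iff_mem, map_sub, map_mul, hy, map_one, sub_self]
    have h3 : (1 : Q) ∈ 𝔫 := by
      have := Ideal.sub_mem _ (Ideal.mul_mem_right y _ hx) (hmax 𝔫 h𝔫 h2)
      simpa using this
    exact h𝔫.ne_top ((Ideal.eq_top_iff_one _).2 h3)
  exact (h𝔫.eq_of_le hMmax.ne_top hle)

end Groth.Agent.Lib.Helper28.FinFlatExt

namespace Groth.Agent.Lib.Helper28.FinFlatExt

open Groth.Agent.Lib.Helper28.FinFlatLocal Groth.Agent.Lib.Helper28.ShearRing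

section Ext

variable (R : Type u) [CommRing R] (A A'' : Type u) [CommRing A] [HopfAlgebra R A]
  [CommRing A''] [HopfAlgebra R A''] [Algebra A'' A] [IsScalarTower R A'' A]
  (hΔ : (Bialgebra.comulAlgHom R A).comp (IsScalarTower.toAlgHom R A'' A) =
    (Algebra.TensorProduct.map (IsScalarTower.toAlgHom R A'' A)
      (IsScalarTower.toAlgHom R A'' A)).comp (Bialgebra.comulAlgHom R A''))
  (hε : (Bialgebra.counitAlgHom R A).comp (IsScalarTower.toAlgHom R A'' A) =
    Bialgebra.counitAlgHom R A'')

/-- the structure map as a bialgebra map -/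
noncomputable def gHom : A'' →ₐc[R] A :=
  BialgHom.ofAlgHom (IsScalarTower.toAlgHom R A'' A) hε hΔ.symm

lemma gHom_apply (x : A'') : gHom R A A'' hΔ hε x = algebraMap A'' A x := rfl

lemma augMap_gHom : augMap (gHom R A A'' hΔ hε) =
    (RingHom.ker (Bialgebra.counitAlgHom R A'')).map (algebraMap A'' A) := rfl

include hΔ hε in
/-- the kernel of a faithfully flat map with étale quotient and étale kernel is étale -/
theorem etale_of_ext [IsNoetherianRing R] [Module.Finite R A] [Module.Flat R A]
    [Module.FaithfullyFlat A'' A] [Algebra.Etale R A'']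
    [Algebra.Etale R (A ⧸ (RingHom.ker (Bialgebra.counitAlgHom R A'')).map (algebraMap A'' A))] :
    Algebra.Etale R A := by
  set g := gHom R A A'' hΔ hε with hg
  haveI : Algebra.FormallyUnramified R (A ⧸ augMap g) := by
    rw [augMap_gHom]
    infer_instance
  let sh : A ⊗[A''] A ≃ₐ[A] A ⊗[R] (A ⧸ augMap g) :=
    shearEquiv g (AlgHom.id R A) (fun b => rfl) (fun b => rfl)
  haveI : Algebra.FormallyUnramified A (A ⊗[A''] A) :=
    Algebra.FormallyUnramified.of_equiv sh.symm
  haveI : Algebra.FormallyUnramified A'' A :=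
    Algebra.FormallyUnramified.of_formallyUnramified_tensorProduct_of_faithfullyFlat A
  haveI : Algebra.FormallyUnramified R A := Algebra.FormallyUnramified.comp R A'' A
  haveI : Algebra.FiniteType R A := inferInstance
  haveI : Algebra.FinitePresentation R A := Algebra.FinitePresentation.of_finiteType.1 inferInstance
  exact Algebra.Etale.of_formallyUnramified_of_flat

include hΔ hε in
/-- the unit component of an extension of a connected group by an étale group maps isomorphically
onto the quotient -/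
theorem unitComponent_bijective [IsLocalRing R] [IsNoetherianRing R] [Module.Finite R A]
    [Module.FaithfullyFlat A'' A] [IsLocalRing A'']
    [Algebra.Etale R (A ⧸ (RingHom.ker (Bialgebra.counitAlgHom R A'')).map (algebraMap A'' A))]
    (e : A) (he : IsIdempotentElem e) (heε : Bialgebra.counitAlgHom R A e = 1)
    [IsLocalRing (A ⧸ Ideal.span ({1 - e} : Set A))] :
    Function.Bijective ((Ideal.Quotient.mkₐ R (Ideal.span ({1 - e} : Set A))).comp
      (IsScalarTower.toAlgHom R A'' A)) := by
  set J : Ideal A := (RingHom.ker (Bialgebra.counitAlgHom R A'')).map (algebraMap A'' A) with hJ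
  set K : Ideal A := J ⊔ Ideal.span ({1 - e} : Set A) with hK
  have hJε : J ≤ RingHom.ker (Bialgebra.counitAlgHom R A) := by
    rw [hJ, Ideal.map_le_iff_le_comap]
    intro x hx
    rw [Ideal.mem_comap, RingHom.mem_ker]
    have h1 := AlgHom.congr_fun hε x
    rw [RingHom.mem_ker] at hx
    rw [AlgHom.comp_apply, IsScalarTower.coe_toAlgHom'] at h1
    exact h1.trans hx
  have hKε : K ≤ RingHom.ker (Bialgebra.counitAlgHom R A) := by
    refine sup_le hJε ?_
    rw [Ideal.span_le, Set.singleton_subset_iff, SetLike.mem_coe, RingHom.mem_ker, map_sub,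
      map_one, heε, sub_self]
  -- Step 1 : `K = ker ε`
  have hKeq : RingHom.ker (Bialgebra.counitAlgHom R A) ≤ K := by
    let εD : A ⧸ K →ₐ[R] R := Ideal.Quotient.liftₐ K (Bialgebra.counitAlgHom R A)
      (fun a ha => hKε ha)
    haveI : Algebra.FormallyUnramified R (A ⧸ K) :=
      Algebra.FormallyUnramified.of_surjective (Ideal.Quotient.factorₐ R (le_sup_left : J ≤ K))
        (Ideal.Quotient.factor_surjective le_sup_left)
    haveI : Nontrivial (A ⧸ K) :=
      Ideal.Quotient.nontrivial_iff.2 (fun h => RingHom.ker_ne_top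
        (Bialgebra.counitAlgHom R A : A →+* R) (top_le_iff.1 (h ▸ hKε)))
    haveI : IsLocalRing (A ⧸ K) :=
      IsLocalRing.of_surjective' (Ideal.Quotient.factor (le_sup_right : _ ≤ K))
        (Ideal.Quotient.factor_surjective le_sup_right)
    haveI : IsNoetherianRing (A ⧸ K) := Algebra.FiniteType.isNoetherianRing R (A ⧸ K)
    have hbot : RingHom.ker εD = ⊥ :=
      ker_eq_bot_of_local εD ((isNoetherianRing_iff_ideal_fg (A ⧸ K)).mp inferInstance _)
    intro a ha
    have h1 : Ideal.Quotient.mk K a ∈ RingHom.ker εD := by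
      rw [RingHom.mem_ker]
      exact ha
    rw [hbot, Ideal.mem_bot] at h1
    exact Ideal.Quotient.eq_zero_iff_mem.1 h1
  haveI : Module.Finite A'' A := Module.Finite.of_restrictScalars_finite R A'' A
  haveI : Module.Finite A'' (A ⧸ Ideal.span ({1 - e} : Set A)) :=
    Module.Finite.of_restrictScalars_finite R A'' _
  constructor
  · -- injective
    haveI := away_quot_idem e he
    haveI : Module.Flat A (A ⧸ Ideal.span ({1 - e} : Set A)) :=
      IsLocalization.flat _ (Submonoid.powers e)
    haveI : Module.Flat A'' (A ⧸ Ideal.span ({1 - e} : Set A)) := Module.Flat.trans A'' A _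
    haveI : IsLocalHom (algebraMap A'' (A ⧸ Ideal.span ({1 - e} : Set A))) :=
      isLocalHom_of_isIntegral _ (algebraMap_isIntegral_iff.2 inferInstance)
    haveI : Module.FaithfullyFlat A'' (A ⧸ Ideal.span ({1 - e} : Set A)) :=
      Module.FaithfullyFlat.of_flat_of_isLocalHom
    exact FaithfulSMul.algebraMap_injective A'' (A ⧸ Ideal.span ({1 - e} : Set A))
  · -- surjective, by Nakayama
    set N' : Submodule A'' (A ⧸ Ideal.span ({1 - e} : Set A)) :=
      LinearMap.range (Algebra.linearMap A'' (A ⧸ Ideal.span ({1 - e} : Set A))) with hN'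
    have hjac : RingHom.ker (Bialgebra.counitAlgHom R A'') ≤ Ideal.jacobson ⊥ := by
      rw [IsLocalRing.jacobson_eq_maximalIdeal ⊥ bot_ne_top]
      exact IsLocalRing.le_maximalIdeal (RingHom.ker_ne_top _)
    have hsmul : ∀ j ∈ J, Ideal.Quotient.mk (Ideal.span ({1 - e} : Set A)) j ∈
        RingHom.ker (Bialgebra.counitAlgHom R A'') •
          (⊤ : Submodule A'' (A ⧸ Ideal.span ({1 - e} : Set A))) := by
      intro j hj
      rw [Ideal.smul_top_eq_map, Submodule.restrictScalars_mem]
      have h1 : Ideal.Quotient.mk (Ideal.span ({1 - e} : Set A)) j ∈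
          J.map (Ideal.Quotient.mk (Ideal.span ({1 - e} : Set A))) := Ideal.mem_map_of_mem _ hj
      rw [hJ, Ideal.map_map] at h1
      exact h1
    have hle : (⊤ : Submodule A'' (A ⧸ Ideal.span ({1 - e} : Set A))) ≤
        N' ⊔ RingHom.ker (Bialgebra.counitAlgHom R A'') • ⊤ := by
      intro y _
      obtain ⟨a, rfl⟩ := Ideal.Quotient.mk_surjective y
      have h1 : a - algebraMap R A (Bialgebra.counitAlgHom R A a) ∈ K := by
        apply hKeq
        rw [RingHom.mem_ker, map_sub, AlgHom.commutes]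
        simp
      obtain ⟨j, hj, c, hc, hjc⟩ := Submodule.mem_sup.1 h1
      have h2 : Ideal.Quotient.mk (Ideal.span ({1 - e} : Set A)) a =
          algebraMap A'' (A ⧸ Ideal.span ({1 - e} : Set A))
            (algebraMap R A'' (Bialgebra.counitAlgHom R A a)) +
          Ideal.Quotient.mk (Ideal.span ({1 - e} : Set A)) j := by
        have h3 : Ideal.Quotient.mk (Ideal.span ({1 - e} : Set A)) c = 0 :=
          Ideal.Quotient.eq_zero_iff_mem.2 hc
        have h4 := congrArg (Ideal.Quotient.mk (Ideal.span ({1 - e} : Set A))) hjc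
        rw [map_add, h3, add_zero, map_sub] at h4
        rw [h4, ← IsScalarTower.algebraMap_apply R A'' (A ⧸ Ideal.span ({1 - e} : Set A)),
          IsScalarTower.algebraMap_apply R A (A ⧸ Ideal.span ({1 - e} : Set A)),
          Ideal.Quotient.algebraMap_eq]
        ring
      rw [h2]
      exact Submodule.add_mem_sup (LinearMap.mem_range_self _ _) (hsmul j hj)
    have htop : (⊤ : Submodule A'' (A ⧸ Ideal.span ({1 - e} : Set A))) ≤ N' :=
      Submodule.le_of_le_smul_of_le_jacobson_bot Module.Finite.fg_top hjac hle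
    intro y
    obtain ⟨x, hx⟩ := htop (Submodule.mem_top : y ∈ ⊤)
    exact ⟨x, hx⟩

end Ext

end Groth.Agent.Lib.Helper28.FinFlatExt
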