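import Groth.Agent.Lib.Helper28.CofreeAlg

/-!
# Invariants of finite group scheme actions (helper28)

`A` a commutative Hopf algebra, finite free over `k`; `R` a comodule algebra.  Every element of `R` is
integral over the invariants (characteristic polynomial of `ρ(r)` acting on the free `R`-module
`R ⊗ A`; its coefficients are invariant because the two base changes of that operator to `R ⊗ A` are
conjugate under the translation automorphism `sig`).  Consequences: `R` finite over `R^G` and `R^G`
of finite type when `R` is.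
-/

set_option autoImplicit false
set_option linter.unusedSectionVars false
universe u v w w'

open TensorProduct WithConv
open Groth.Agent.Lib.Helper28.TameAct

namespace Groth.Agent.Lib.Helper28.FiniteHopfInv

section translation

variable {k : Type u} [CommRing k] {A : Type v} [CommRing A] [HopfAlgebra k A]
variable {T : Type w} [CommRing T] [Algebra k T]

variable (k A T) in
/-- `t ↦ t ⊗ 1` -/
noncomputable abbrev iL : T →ₐ[k] T ⊗[k] A := Algebra.TensorProduct.includeLeft

variable (k A T) in
/-- `a ↦ 1 ⊗ a` -/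
noncomputable abbrev iR : A →ₐ[k] T ⊗[k] A := Algebra.TensorProduct.includeRight

/-- `b ↦ Σ g(b₁) ⊗ b₂` -/
noncomputable def gam (g : WithConv (A →ₐ[k] T)) : A →ₐ[k] T ⊗[k] A :=
  ofConv (toConv ((iL k A T).comp g.ofConv) * toConv (iR k A T))

/-- `t ⊗ b ↦ Σ t g(b₁) ⊗ b₂` -/
noncomputable def sig (g : WithConv (A →ₐ[k] T)) : T ⊗[k] A →ₐ[T] T ⊗[k] A :=
  Algebra.TensorProduct.lift (Algebra.ofId T (T ⊗[k] A)) (gam g) (fun _ _ => Commute.all _ _)

lemma sig_comp_iR (g : WithConv (A →ₐ[k] T)) :
    ((sig g).restrictScalars k).comp (iR k A T) = gam g :=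
  Algebra.TensorProduct.lift_comp_includeRight _ _ _

lemma sig_comp_iL (g : WithConv (A →ₐ[k] T)) :
    ((sig g).restrictScalars k).comp (iL k A T) = iL k A T := by
  ext t
  simp [sig, Algebra.ofId_apply, Algebra.TensorProduct.algebraMap_apply]

lemma algHom_ext_T {f g : T ⊗[k] A →ₐ[T] T ⊗[k] A}
    (h : (f.restrictScalars k).comp (iR k A T) = (g.restrictScalars k).comp (iR k A T)) :
    f = g := by
  apply Algebra.TensorProduct.ext
  · ext
  · exact h

lemma gam_one : gam (1 : WithConv (A →ₐ[k] T)) = iR k A T := by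
  unfold gam
  have h : (iL k A T).comp (1 : WithConv (A →ₐ[k] T)).ofConv =
      (1 : WithConv (A →ₐ[k] T ⊗[k] A)).ofConv := by
    ext a
    simp only [AlgHom.convOne_def, ofConv_toConv, AlgHom.coe_comp, Function.comp_apply,
      Bialgebra.counitAlgHom_apply, Algebra.ofId_apply,
      Algebra.TensorProduct.includeLeft_apply, Algebra.TensorProduct.algebraMap_apply]
  rw [h, toConv_ofConv, one_mul, ofConv_toConv]

lemma sig_one : sig (1 : WithConv (A →ₐ[k] T)) = AlgHom.id T (T ⊗[k] A) := by
  apply algHom_ext_T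
  rw [sig_comp_iR, gam_one]
  rfl

lemma sig_comp_gam (g h : WithConv (A →ₐ[k] T)) :
    ((sig g).restrictScalars k).comp (gam h) = gam (h * g) := by
  unfold gam
  rw [AlgHom.comp_convMul_distrib, toConv_ofConv, toConv_ofConv, ← AlgHom.comp_assoc,
    sig_comp_iL, sig_comp_iR]
  unfold gam
  rw [toConv_ofConv, ← mul_assoc]
  congr 2
  have h2 := AlgHom.comp_convMul_distrib (iL k A T) h g
  rw [h2, toConv_ofConv]

lemma sig_comp_sig (g h : WithConv (A →ₐ[k] T)) :
    (sig g).comp (sig h) = sig (h * g) := by
  apply algHom_ext_T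
  change ((sig g).restrictScalars k).comp (((sig h).restrictScalars k).comp (iR k A T)) = _
  rw [sig_comp_iR, sig_comp_iR, sig_comp_gam]

/-- convolution inverse `g ∘ S` (the target need not be a bialgebra) -/
noncomputable def ginv (g : WithConv (A →ₐ[k] T)) : WithConv (A →ₐ[k] T) :=
  toConv (g.ofConv.comp (HopfAlgebra.antipodeAlgHom k A))

lemma comp_one (g : WithConv (A →ₐ[k] T)) :
    toConv (g.ofConv.comp (1 : WithConv (A →ₐ[k] A)).ofConv) = 1 := by
  apply congrArg toConv
  ext a
  simp [AlgHom.convOne_def, Algebra.ofId_apply]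

lemma ginv_mul (g : WithConv (A →ₐ[k] T)) : ginv g * g = 1 := by
  have h := AlgHom.comp_convMul_distrib g.ofConv (toConv (HopfAlgebra.antipodeAlgHom k A))
    (toConv (AlgHom.id k A))
  rw [AlgHom.antipode_id_cancel, ofConv_toConv, ofConv_toConv, AlgHom.comp_id] at h
  have h2 := congrArg toConv h
  rw [comp_one, toConv_ofConv, toConv_ofConv] at h2
  exact h2.symm

lemma mul_ginv (g : WithConv (A →ₐ[k] T)) : g * ginv g = 1 := by
  have h0 : toConv (AlgHom.id k A) * toConv (HopfAlgebra.antipodeAlgHom k A) = 1 := by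
    have h1 := AlgHom.antipode_id_cancel (R := k) (A := A)
    rw [← mul_right_inj (toConv (HopfAlgebra.antipodeAlgHom k A)), ← mul_assoc, h1, one_mul,
      mul_one]
  have h := AlgHom.comp_convMul_distrib g.ofConv (toConv (AlgHom.id k A))
    (toConv (HopfAlgebra.antipodeAlgHom k A))
  rw [h0, ofConv_toConv, ofConv_toConv, AlgHom.comp_id] at h
  have h2 := congrArg toConv h
  rw [comp_one, toConv_ofConv, toConv_ofConv] at h2
  exact h2.symm

/-- `sig g` as a `T`-algebra automorphism -/
noncomputable def sigEquiv (g : WithConv (A →ₐ[k] T)) : (T ⊗[k] A) ≃ₐ[T] (T ⊗[k] A) :=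
  AlgEquiv.ofAlgHom (sig g) (sig (ginv g))
    (by rw [sig_comp_sig, ginv_mul, sig_one])
    (by rw [sig_comp_sig, mul_ginv, sig_one])

lemma sigEquiv_apply (g : WithConv (A →ₐ[k] T)) (x : T ⊗[k] A) : sigEquiv g x = sig g x := rfl

lemma sig_tmul (g : WithConv (A →ₐ[k] T)) (t : T) (b : A) :
    sig g (t ⊗ₜ[k] b) = (t ⊗ₜ[k] (1 : A)) * gam g b := by
  simp [sig, Algebra.ofId_apply, Algebra.TensorProduct.algebraMap_apply]

end translation

section charpoly

variable {k : Type u} [CommRing k] {A : Type v} [CommRing A] [Algebra k A]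
  [Module.Free k A] [Module.Finite k A]
variable {T : Type w} [CommRing T] [Algebra k T] {T' : Type w'} [CommRing T'] [Algebra k T']

variable (T) in
/-- characteristic polynomial of multiplication by `t` on the free `T`-module `T ⊗ A` -/
noncomputable def cp (t : T ⊗[k] A) : Polynomial T :=
  (Algebra.lmul T (T ⊗[k] A) t).charpoly

lemma cp_monic (t : T ⊗[k] A) : (cp T t).Monic := LinearMap.charpoly_monic _

lemma aeval_cp (t : T ⊗[k] A) : Polynomial.aeval t (cp T t) = 0 := by
  have h := LinearMap.aeval_self_charpoly (Algebra.lmul T (T ⊗[k] A) t)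
  rw [Polynomial.aeval_algHom_apply] at h
  have h2 := LinearMap.congr_fun h (1 : T ⊗[k] A)
  simp only [Algebra.lmul_algebraMap, LinearMap.zero_apply] at h2
  have h3 : Polynomial.aeval t (Algebra.lmul T (T ⊗[k] A) t).charpoly * 1 = 0 := h2
  rw [mul_one] at h3
  exact h3

lemma cp_algEquiv (σ : (T ⊗[k] A) ≃ₐ[T] (T ⊗[k] A)) (t : T ⊗[k] A) :
    cp T (σ t) = cp T t := by
  unfold cp
  rw [← LinearEquiv.charpoly_conj σ.toLinearEquiv (Algebra.lmul T (T ⊗[k] A) t)]
  congr 1
  apply LinearMap.ext
  intro x
  simp [LinearEquiv.conj_apply]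

lemma repr_map (f : T →ₐ[k] T') {ι : Type*} (b : Module.Basis ι k A) (w : T ⊗[k] A) (i : ι) :
    (Algebra.TensorProduct.basis T' b).repr
        (Algebra.TensorProduct.map f (AlgHom.id k A) w) i =
      f ((Algebra.TensorProduct.basis T b).repr w i) := by
  induction w using TensorProduct.induction_on with
  | zero => simp
  | tmul s a =>
    rw [Algebra.TensorProduct.map_tmul, Algebra.TensorProduct.basis_repr_tmul,
      Algebra.TensorProduct.basis_repr_tmul]
    simp
  | add x y hx hy => simp only [map_add, Finsupp.add_apply, hx, hy]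

lemma cp_map (f : T →ₐ[k] T') (t : T ⊗[k] A) :
    cp T' (Algebra.TensorProduct.map f (AlgHom.id k A) t) = (cp T t).map f.toRingHom := by
  classical
  let b := Module.Free.chooseBasis k A
  unfold cp
  rw [← LinearMap.charpoly_toMatrix _ (Algebra.TensorProduct.basis T b),
    ← LinearMap.charpoly_toMatrix _ (Algebra.TensorProduct.basis T' b), ← Matrix.charpoly_map]
  congr 1
  ext i j
  rw [Matrix.map_apply, LinearMap.toMatrix_apply, LinearMap.toMatrix_apply]
  change _ = f _
  rw [← repr_map f b]
  congr 2
  simp [Algebra.TensorProduct.basis_apply]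

end charpoly

section main

variable {k : Type u} [CommRing k] {A : Type v} [CommRing A] [HopfAlgebra k A]
  [Module.Free k A] [Module.Finite k A]
variable {R : Type w} [CommRing R] [Algebra k R] [HopfRep.Comod k A R] [GLin.IsCoactAlg k A R]

variable (k A R) in
/-- `x ⊗ y ↦ (1 ⊗ x) ⊗ y` -/
noncomputable def Lam : A ⊗[k] A →ₐ[k] (R ⊗[k] A) ⊗[k] A :=
  Algebra.TensorProduct.lift
    ((iL k A (R ⊗[k] A)).comp (Algebra.TensorProduct.includeRight : A →ₐ[k] R ⊗[k] A))
    (iR k A (R ⊗[k] A)) (fun _ _ => Commute.all _ _)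

lemma Lam_mul (s : R) (u : A ⊗[k] A) :
    ((s ⊗ₜ[k] (1 : A)) ⊗ₜ[k] (1 : A)) * Lam k A R u =
      (TensorProduct.assoc k R A A).symm (s ⊗ₜ[k] u) := by
  induction u using TensorProduct.induction_on with
  | zero => simp
  | tmul x y => simp [Lam]
  | add x y hx hy => simp only [map_add, mul_add, TensorProduct.tmul_add, hx, hy]

lemma gam_eq (b : A) :
    gam (toConv (Algebra.TensorProduct.includeRight : A →ₐ[k] R ⊗[k] A)) b =
      Lam k A R (Coalgebra.comul (R := k) b) := by
  unfold gam
  rw [AlgHom.convMul_apply]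
  rfl

lemma sig_map (w : R ⊗[k] A) :
    sig (toConv (Algebra.TensorProduct.includeRight : A →ₐ[k] R ⊗[k] A))
        (Algebra.TensorProduct.map (Algebra.TensorProduct.includeLeft : R →ₐ[k] R ⊗[k] A)
          (AlgHom.id k A) w) =
      (TensorProduct.assoc k R A A).symm ((Coalgebra.comul (R := k) (A := A)).lTensor R w) := by
  induction w using TensorProduct.induction_on with
  | zero => simp
  | tmul s b =>
    rw [Algebra.TensorProduct.map_tmul, sig_tmul, gam_eq, LinearMap.lTensor_tmul]
    exact Lam_mul s _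
  | add x y hx hy => simp only [map_add, hx, hy]

lemma map_coact (w : R ⊗[k] A) :
    Algebra.TensorProduct.map (GLin.coactAlgHom k A R) (AlgHom.id k A) w =
      (HopfRep.Comod.coact (k := k) (A := A)).rTensor A w := by
  induction w using TensorProduct.induction_on with
  | zero => simp
  | tmul s b => simp
  | add x y hx hy => simp only [map_add, hx, hy]

/-- the two base changes of `ρ(r)` have the same characteristic polynomial -/
lemma cp_map_coact (r : R) :
    (cp R (HopfRep.Comod.coact (k := k) (A := A) r)).map (GLin.coactAlgHom k A R).toRingHom =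
      (cp R (HopfRep.Comod.coact (k := k) (A := A) r)).map
        (Algebra.TensorProduct.includeLeft : R →ₐ[k] R ⊗[k] A).toRingHom := by
  rw [← cp_map, ← cp_map, map_coact, coact_rTensor_coact, ← sig_map, ← sigEquiv_apply, cp_algEquiv]

lemma coeff_cp_mem (r : R) (n : ℕ) :
    (cp R (HopfRep.Comod.coact (k := k) (A := A) r)).coeff n ∈ GLin.invariants k A R := by
  have h := congrArg (fun p => Polynomial.coeff p n) (cp_map_coact (k := k) (A := A) r)
  simp only [Polynomial.coeff_map] at h
  exact h

variable (k A R) in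
/-- `s ⊗ a ↦ ε(a) s` as an `R`-algebra map -/
noncomputable def thetaR : R ⊗[k] A →ₐ[R] R :=
  Algebra.TensorProduct.lift (AlgHom.id R R)
    ((Algebra.ofId k R).comp (Bialgebra.counitAlgHom k A)) (fun _ _ => Commute.all _ _)

lemma thetaR_eq_cou (t : R ⊗[k] A) : thetaR k A R t = cou (k := k) (A := A) t := by
  induction t using TensorProduct.induction_on with
  | zero => simp
  | tmul s a =>
    simp [thetaR, Algebra.ofId_apply, Algebra.algebraMap_eq_smul_one, mul_comm]
  | add x y hx hy => simp only [map_add, hx, hy]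

lemma thetaR_coact (r : R) : thetaR k A R (HopfRep.Comod.coact (k := k) (A := A) r) = r := by
  rw [thetaR_eq_cou, cou_coact]

theorem aeval_cp_coact (r : R) :
    Polynomial.aeval r (cp R (HopfRep.Comod.coact (k := k) (A := A) r)) = 0 := by
  have h := aeval_cp (T := R) (HopfRep.Comod.coact (k := k) (A := A) r)
  have h2 := congrArg (thetaR k A R) h
  rw [← Polynomial.aeval_algHom_apply, thetaR_coact, map_zero] at h2
  exact h2

theorem isIntegral_invariants (r : R) : IsIntegral ↥(GLin.invariants k A R) r := by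
  have hc : (↑(cp R (HopfRep.Comod.coact (k := k) (A := A) r)).coeffs : Set R) ⊆
      (GLin.invariants k A R).toSubring := by
    intro c hc
    obtain ⟨n, -, rfl⟩ := Polynomial.mem_coeffs_iff.mp (Finset.mem_coe.mp hc)
    exact coeff_cp_mem r n
  refine ⟨Polynomial.toSubring _ _ hc, (Polynomial.monic_toSubring _ _ _).mpr (cp_monic _), ?_⟩
  have h1 : (Polynomial.toSubring _ _ hc).map (Subring.subtype _) =
      cp R (HopfRep.Comod.coact (k := k) (A := A) r) := Polynomial.map_toSubring _ _ _
  have h2 := aeval_cp_coact (k := k) (A := A) r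
  rw [← h1, Polynomial.aeval_def, Polynomial.eval₂_map] at h2
  exact h2

instance isIntegral_algebra : Algebra.IsIntegral ↥(GLin.invariants k A R) R :=
  ⟨fun r => isIntegral_invariants r⟩

theorem finite_invariants [Algebra.FiniteType k R] : Module.Finite ↥(GLin.invariants k A R) R := by
  haveI : Algebra.FiniteType ↥(GLin.invariants k A R) R :=
    Algebra.FiniteType.of_restrictScalars_finiteType k _ R
  exact Algebra.IsIntegral.finite

theorem finiteType_invariants [IsNoetherianRing k] [Algebra.FiniteType k R] :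
    Algebra.FiniteType k ↥(GLin.invariants k A R) := by
  haveI := finite_invariants (k := k) (A := A) (R := R)
  refine ⟨fg_of_fg_of_fg k ↥(GLin.invariants k A R) R Algebra.FiniteType.out
    Module.Finite.fg_top ?_⟩
  exact Subtype.val_injective

end main

end Groth.Agent.Lib.Helper28.FiniteHopfInv
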