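import Mathlib.RingTheory.IntegralClosure.IntegrallyClosed
import Mathlib.RingTheory.Localization.FractionRing
import Mathlib.Algebra.Algebra.Subalgebra.Basic
import Mathlib.RingTheory.Polynomial.RationalRoot
import Mathlib.RingTheory.Polynomial.UniqueFactorization

/-! # Fixed subalgebras of integrally closed domains are integrally closed (helper28) -/
set_option autoImplicit false

namespace Groth.Agent.Lib.Helper28.FixedClosed

theorem isIntegrallyClosed_of_fixed {k P : Type*} [Field k] [CommRing P] [IsDomain P] [Algebra k P]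
    [IsIntegrallyClosed P] (C : Subalgebra k P) {ι : Type*} (φ : ι → P →ₐ[k] P)
    (hC : ∀ p, p ∈ C ↔ ∀ i, φ i p = p) : IsIntegrallyClosed C := by
  let K := FractionRing C
  let L := FractionRing P
  rw [isIntegrallyClosed_iff K]
  intro x hx
  let g : C →+* L := (algebraMap P L).comp C.val.toRingHom
  have hg : Function.Injective g :=
    (IsFractionRing.injective P L).comp Subtype.val_injective
  let j : K →+* L := IsFractionRing.lift hg
  have hj : ∀ c : C, j (algebraMap C K c) = algebraMap P L (c : P) := fun c =>
    IsFractionRing.lift_algebraMap hg c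
  have hjx : IsIntegral P (j x) :=
    IsIntegral.map_of_comp_eq C.val.toRingHom j (by ext c; exact (hj c).symm) hx
  obtain ⟨p, hp⟩ := IsIntegrallyClosed.isIntegral_iff.mp hjx
  obtain ⟨c, d, hd, rfl⟩ := IsFractionRing.div_surjective (A := C) x
  have hd0 : (d : P) ≠ 0 := by
    intro h
    exact nonZeroDivisors.ne_zero hd (Subtype.ext h)
  have hpd : p * (d : P) = (c : P) := by
    apply IsFractionRing.injective P L
    rw [map_mul, hp, map_div₀, hj, hj, div_mul_cancel₀]
    intro h
    exact hd0 ((map_eq_zero_iff _ (IsFractionRing.injective P L)).mp h)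
  have hpC : p ∈ C := by
    rw [hC]
    intro i
    apply mul_right_cancel₀ hd0
    have h1 : φ i (d : P) = d := (hC _).mp d.2 i
    have h2 : φ i (c : P) = c := (hC _).mp c.2 i
    calc φ i p * (d : P) = φ i p * φ i (d : P) := by rw [h1]
      _ = φ i (p * d) := (map_mul _ _ _).symm
      _ = p * d := by rw [hpd, h2]
  refine ⟨⟨p, hpC⟩, ?_⟩
  have hdK : algebraMap C K d ≠ 0 := by
    intro h
    exact nonZeroDivisors.ne_zero hd ((map_eq_zero_iff _ (IsFractionRing.injective C K)).mp h)
  rw [eq_div_iff hdK, ← map_mul]
  congr 1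
  exact Subtype.ext hpd

end Groth.Agent.Lib.Helper28.FixedClosed
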