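/-
Helper28 library: the algebraic core of Hilbert 90 for `GL_n` and a faithfully flat algebra `R → C`:
for an invertible `1`-cocycle `H ∈ GL_n(C ⊗ C)`, locally on `R` there is a matrix `V ∈ M_n(C)` with
`1 ⊗ V = H * (V ⊗ 1)` whose determinant divides a given element outside a given proper ideal.
-/
import Groth.Agent.Lib.Helper28.GmTorsAlg

set_option autoImplicit false
universe u

open TensorProduct

namespace Groth.Agent.Lib.Helper28.GLAlg

open Groth.Agent.Lib.Helper28.GaTors Groth.Agent.Lib.Helper28.GmTors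

/-! ### Determinant of a linear combination of matrices -/

section Det

variable {C : Type*} [CommRing C] {n : ℕ} {α : Type*}

/-- the matrix whose `j`-th column is the `j`-th column of `V (σ j)` -/
def mixC (V : α → Matrix (Fin n) (Fin n) C) (σ : Fin n → α) : Matrix (Fin n) (Fin n) C :=
  Matrix.of fun i j => V (σ j) i j

/-- the matrix whose `i`-th row is the `i`-th row of `W (τ i)` -/
def mixR (W : α → Matrix (Fin n) (Fin n) C) (τ : Fin n → α) : Matrix (Fin n) (Fin n) C :=
  Matrix.of fun i j => W (τ i) i j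

theorem det_sum_smul_col (S : Finset α) (c : α → C) (V : α → Matrix (Fin n) (Fin n) C) :
    (∑ a ∈ S, c a • V a).det =
      ∑ σ ∈ Fintype.piFinset (fun _ : Fin n => S), (∏ j, c (σ j)) * (mixC V σ).det := by
  classical
  rw [Matrix.det_apply']
  have h1 : ∀ π : Equiv.Perm (Fin n), ∏ j, (∑ a ∈ S, c a • V a) (π j) j =
      ∑ σ ∈ Fintype.piFinset (fun _ : Fin n => S), ∏ j, (c (σ j) * V (σ j) (π j) j) := by
    intro π
    have h2 : ∀ j, (∑ a ∈ S, c a • V a) (π j) j = ∑ a ∈ S, c a * V a (π j) j := by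
      intro j
      rw [Matrix.sum_apply]
      rfl
    simp_rw [h2]
    exact Finset.prod_univ_sum (fun _ => S) (fun j a => c a * V a (π j) j)
  simp_rw [h1, Finset.mul_sum]
  rw [Finset.sum_comm]
  refine Finset.sum_congr rfl fun σ _ => ?_
  rw [Matrix.det_apply', Finset.mul_sum]
  refine Finset.sum_congr rfl fun π _ => ?_
  rw [Finset.prod_mul_distrib]
  simp only [mixC, Matrix.of_apply]
  ring

theorem det_sum_smul_row (S : Finset α) (c : α → C) (W : α → Matrix (Fin n) (Fin n) C) :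
    (∑ a ∈ S, c a • W a).det =
      ∑ τ ∈ Fintype.piFinset (fun _ : Fin n => S), (∏ i, c (τ i)) * (mixR W τ).det := by
  rw [← Matrix.det_transpose, Matrix.transpose_sum]
  have h : ∑ a ∈ S, (c a • W a).transpose = ∑ a ∈ S, c a • (W a).transpose :=
    Finset.sum_congr rfl fun a _ => Matrix.transpose_smul _ _
  rw [h, det_sum_smul_col]
  refine Finset.sum_congr rfl fun τ _ => ?_
  congr 1
  rw [← Matrix.det_transpose]
  rfl

end Det

/-! ### Matrices with entries in a tensor product -/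

section Entries

variable (R : Type u) [CommRing R] (C : Type u) [CommRing C] [Algebra R C] (n : ℕ)
variable (P : Type u) [AddCommGroup P] [Module R P]

/-- the element of `M_n(P) ⊗ C` with entries the given elements of `P ⊗ C` -/
noncomputable def Xi (X : Matrix (Fin n) (Fin n) (P ⊗[R] C)) :
    Matrix (Fin n) (Fin n) P ⊗[R] C :=
  ∑ i, ∑ j, (Matrix.singleLinearMap R i j).rTensor C (X i j)

theorem ent_single (i j l m : Fin n) (x : P ⊗[R] C) :
    (Matrix.entryLinearMap R P l m).rTensor C ((Matrix.singleLinearMap R i j).rTensor C x) =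
      if i = l ∧ j = m then x else 0 := by
  induction x using TensorProduct.induction_on with
  | zero => simp
  | add a b ha hb => rw [map_add, map_add, ha, hb]; split_ifs <;> simp
  | tmul p c =>
    rw [LinearMap.rTensor_tmul, LinearMap.rTensor_tmul]
    show (Matrix.single i j p) l m ⊗ₜ[R] c = _
    rw [Matrix.single_apply]
    split_ifs
    · rfl
    · exact TensorProduct.zero_tmul _ _

theorem ent_Xi (X : Matrix (Fin n) (Fin n) (P ⊗[R] C)) (l m : Fin n) :
    (Matrix.entryLinearMap R P l m).rTensor C (Xi R C n P X) = X l m := by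
  unfold Xi
  rw [map_sum]
  simp_rw [map_sum, ent_single]
  rw [Finset.sum_eq_single l, Finset.sum_eq_single m]
  · simp
  · intro b _ hb
    rw [if_neg]
    exact fun h => hb h.2
  · intro h; exact absurd (Finset.mem_univ m) h
  · intro b _ hb
    refine Finset.sum_eq_zero fun b' _ => ?_
    rw [if_neg]
    exact fun h => hb h.1
  · intro h; exact absurd (Finset.mem_univ l) h

theorem eq_sum_ent (y : Matrix (Fin n) (Fin n) P ⊗[R] C) :
    y = ∑ l, ∑ m, (Matrix.singleLinearMap R l m).rTensor C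
      ((Matrix.entryLinearMap R P l m).rTensor C y) := by
  induction y using TensorProduct.induction_on with
  | zero => simp
  | add a b ha hb =>
    conv_lhs => rw [ha, hb]
    simp only [map_add, Finset.sum_add_distrib]
  | tmul X c =>
    simp only [LinearMap.rTensor_tmul]
    simp only [← TensorProduct.sum_tmul]
    congr 1
    exact Matrix.matrix_eq_sum_single X

theorem eq_zero_of_ent (y : Matrix (Fin n) (Fin n) P ⊗[R] C)
    (h : ∀ l m, (Matrix.entryLinearMap R P l m).rTensor C y = 0) : y = 0 := by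
  rw [eq_sum_ent R C n P y]
  simp [h]

end Entries

/-! ### The kernel modules -/

section Main

variable (R : Type u) [CommRing R] (C : Type u) [CommRing C] [Algebra R C] (n : ℕ)

/-- `V ↦ 1 ⊗ V - H * (V ⊗ 1)` -/
noncomputable def PhiP (H : Matrix (Fin n) (Fin n) (C ⊗[R] C)) :
    Matrix (Fin n) (Fin n) C →ₗ[R] Matrix (Fin n) (Fin n) (C ⊗[R] C) :=
  (iR R C).mapMatrix.toLinearMap - (LinearMap.mulLeft R H) ∘ₗ (iL R C).mapMatrix.toLinearMap

/-- `W ↦ (1 ⊗ W) * H - W ⊗ 1` -/
noncomputable def PhiM (H : Matrix (Fin n) (Fin n) (C ⊗[R] C)) :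
    Matrix (Fin n) (Fin n) C →ₗ[R] Matrix (Fin n) (Fin n) (C ⊗[R] C) :=
  (LinearMap.mulRight R H) ∘ₗ (iR R C).mapMatrix.toLinearMap - (iL R C).mapMatrix.toLinearMap

variable {R C n}

theorem PhiP_apply (H : Matrix (Fin n) (Fin n) (C ⊗[R] C)) (V : Matrix (Fin n) (Fin n) C) :
    PhiP R C n H V = (iR R C).mapMatrix V - H * (iL R C).mapMatrix V := rfl

theorem PhiM_apply (H : Matrix (Fin n) (Fin n) (C ⊗[R] C)) (W : Matrix (Fin n) (Fin n) C) :
    PhiM R C n H W = (iR R C).mapMatrix W * H - (iL R C).mapMatrix W := rfl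

theorem PhiP_entry (H : Matrix (Fin n) (Fin n) (C ⊗[R] C)) (V : Matrix (Fin n) (Fin n) C)
    (l m : Fin n) :
    PhiP R C n H V l m = iR R C (V l m) - ∑ k, H l k * iL R C (V k m) := by
  rw [PhiP_apply, Matrix.sub_apply, Matrix.mul_apply]
  rfl

theorem PhiM_entry (H : Matrix (Fin n) (Fin n) (C ⊗[R] C)) (W : Matrix (Fin n) (Fin n) C)
    (l m : Fin n) :
    PhiM R C n H W l m = ∑ k, iR R C (W l k) * H k m - iL R C (W l m) := by
  rw [PhiM_apply, Matrix.sub_apply, Matrix.mul_apply]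
  rfl

theorem PhiP_mixC {α : Type*} (H : Matrix (Fin n) (Fin n) (C ⊗[R] C))
    (V : α → Matrix (Fin n) (Fin n) C) (hV : ∀ a, PhiP R C n H (V a) = 0) (σ : Fin n → α) :
    PhiP R C n H (mixC V σ) = 0 := by
  ext l m
  rw [PhiP_entry]
  have := congrFun (congrFun (hV (σ m)) l) m
  rw [PhiP_entry] at this
  exact this

theorem PhiM_mixR {α : Type*} (H : Matrix (Fin n) (Fin n) (C ⊗[R] C))
    (W : α → Matrix (Fin n) (Fin n) C) (hW : ∀ a, PhiM R C n H (W a) = 0) (τ : Fin n → α) :
    PhiM R C n H (mixR W τ) = 0 := by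
  ext l m
  rw [PhiM_entry]
  have := congrFun (congrFun (hW (τ l)) l) m
  rw [PhiM_entry] at this
  exact this

/-- the pairing of the two kernels takes values in `R` -/
theorem exists_det_mul_det [Module.FaithfullyFlat R C] (H : Matrix (Fin n) (Fin n) (C ⊗[R] C))
    (V W : Matrix (Fin n) (Fin n) C) (hV : PhiP R C n H V = 0) (hW : PhiM R C n H W = 0) :
    ∃ r : R, algebraMap R C r = W.det * V.det := by
  have hV' : (iR R C).mapMatrix V = H * (iL R C).mapMatrix V := sub_eq_zero.mp hV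
  have hW' : (iR R C).mapMatrix W * H = (iL R C).mapMatrix W := sub_eq_zero.mp hW
  have heq : iR R C (W.det * V.det) = iL R C (W.det * V.det) := by
    rw [map_mul, map_mul, AlgHom.map_det, AlgHom.map_det, AlgHom.map_det, AlgHom.map_det, hV',
      Matrix.det_mul, ← mul_assoc, ← Matrix.det_mul, hW']
  have h0 : Algebra.TensorProduct.includeLeftSubRight R C (W.det * V.det) = 0 := by
    rw [Algebra.TensorProduct.includeLeftSubRight_apply]
    exact sub_eq_zero.mpr heq.symm
  obtain ⟨r, hr⟩ := (Algebra.IsEffective.of_faithfullyFlat R C (W.det * V.det)).mp h0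
  exact ⟨r, hr⟩

theorem ent_PhiP_rTensor (H : Matrix (Fin n) (Fin n) (C ⊗[R] C))
    (Z : Matrix (Fin n) (Fin n) C ⊗[R] C) (l m : Fin n) :
    (Matrix.entryLinearMap R (C ⊗[R] C) l m).rTensor C ((PhiP R C n H).rTensor C Z) =
      p23 R C ((Matrix.entryLinearMap R C l m).rTensor C Z) -
        ∑ k, p12 R C (H l k) * p13 R C ((Matrix.entryLinearMap R C k m).rTensor C Z) := by
  induction Z using TensorProduct.induction_on with
  | zero => simp
  | add a b ha hb =>
    rw [map_add, map_add, ha, hb]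
    simp only [map_add, mul_add, Finset.sum_add_distrib]
    abel
  | tmul V c =>
    simp only [LinearMap.rTensor_tmul]
    show (PhiP R C n H V l m) ⊗ₜ[R] c = p23 R C (V l m ⊗ₜ[R] c) -
      ∑ k, p12 R C (H l k) * p13 R C (V k m ⊗ₜ[R] c)
    rw [PhiP_entry, TensorProduct.sub_tmul, TensorProduct.sum_tmul, p23_tmul]
    congr 1
    refine Finset.sum_congr rfl fun k _ => ?_
    rw [p13_tmul]
    show (H l k * (V k m ⊗ₜ[R] (1 : C))) ⊗ₜ[R] c =
      (H l k ⊗ₜ[R] (1 : C)) * ((V k m ⊗ₜ[R] (1 : C)) ⊗ₜ[R] c)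
    rw [Algebra.TensorProduct.tmul_mul_tmul, one_mul]

theorem ent_PhiM_rTensor (H : Matrix (Fin n) (Fin n) (C ⊗[R] C))
    (Z : Matrix (Fin n) (Fin n) C ⊗[R] C) (l m : Fin n) :
    (Matrix.entryLinearMap R (C ⊗[R] C) l m).rTensor C ((PhiM R C n H).rTensor C Z) =
      ∑ k, p23 R C ((Matrix.entryLinearMap R C l k).rTensor C Z) * p12 R C (H k m) -
        p13 R C ((Matrix.entryLinearMap R C l m).rTensor C Z) := by
  induction Z using TensorProduct.induction_on with
  | zero => simp
  | add a b ha hb =>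
    rw [map_add, map_add, ha, hb]
    simp only [map_add, add_mul, Finset.sum_add_distrib]
    abel
  | tmul W c =>
    simp only [LinearMap.rTensor_tmul]
    show (PhiM R C n H W l m) ⊗ₜ[R] c = ∑ k, p23 R C (W l k ⊗ₜ[R] c) * p12 R C (H k m) -
      p13 R C (W l m ⊗ₜ[R] c)
    rw [PhiM_entry, TensorProduct.sub_tmul, TensorProduct.sum_tmul, p13_tmul]
    congr 1
    refine Finset.sum_congr rfl fun k _ => ?_
    rw [p23_tmul]
    show ((((1 : C) ⊗ₜ[R] W l k) * H k m)) ⊗ₜ[R] c =
      (((1 : C) ⊗ₜ[R] W l k) ⊗ₜ[R] c) * (H k m ⊗ₜ[R] (1 : C))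
    rw [Algebra.TensorProduct.tmul_mul_tmul, mul_one]

/-- a matrix over `C ⊗ C` in the kernel of `Φ ⊗ C` is a `C`-combination of matrices in the kernel
of `Φ`; after multiplying the two tensor factors: -/
theorem exists_decomp [Module.Flat R C] (Φ : Matrix (Fin n) (Fin n) C →ₗ[R]
      Matrix (Fin n) (Fin n) (C ⊗[R] C))
    (X : Matrix (Fin n) (Fin n) (C ⊗[R] C))
    (hX : Φ.rTensor C (Xi R C n C X) = 0) :
    ∃ S : Finset (LinearMap.ker Φ × C),
      (Algebra.TensorProduct.lmul' R (S := C)).mapMatrix X =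
        ∑ a ∈ S, a.2 • (a.1 : Matrix (Fin n) (Fin n) C) := by
  have ex := Module.Flat.rTensor_exact C (LinearMap.exact_subtype_ker_map Φ)
  obtain ⟨ω, hω⟩ := (ex (Xi R C n C X)).mp hX
  obtain ⟨S, hS⟩ := TensorProduct.exists_finset ω
  refine ⟨S, ?_⟩
  ext l m
  have h1 : X l m = ∑ a ∈ S, ((a.1 : Matrix (Fin n) (Fin n) C) l m) ⊗ₜ[R] a.2 := by
    rw [← ent_Xi R C n C X l m, ← hω, hS, map_sum, map_sum]
    rfl
  rw [AlgHom.mapMatrix_apply, Matrix.map_apply, h1, map_sum, Matrix.sum_apply]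
  refine Finset.sum_congr rfl fun a _ => ?_
  rw [Algebra.TensorProduct.lmul'_apply_tmul, Matrix.smul_apply, smul_eq_mul, mul_comm]

/-- **Hilbert 90 for `GL_n`, local form.** -/
theorem gl_alg [Module.FaithfullyFlat R C] (H : Matrix (Fin n) (Fin n) (C ⊗[R] C))
    (hdet : IsUnit H.det)
    (hcoc : (p23 R C).mapMatrix H * (p12 R C).mapMatrix H = (p13 R C).mapMatrix H)
    (𝔭 : Ideal R) (h𝔭 : 𝔭 ≠ ⊤) :
    ∃ r : R, r ∉ 𝔭 ∧ ∃ V W : Matrix (Fin n) (Fin n) C,
      (iR R C).mapMatrix V = H * (iL R C).mapMatrix V ∧ algebraMap R C r = W.det * V.det := by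
  have hHH' : H * H⁻¹ = 1 := Matrix.mul_nonsing_inv H hdet
  have hH'H : H⁻¹ * H = 1 := Matrix.nonsing_inv_mul H hdet
  -- the inverse cocycle condition
  have h23 : (p23 R C).mapMatrix H⁻¹ * (p23 R C).mapMatrix H = 1 := by
    rw [← map_mul, hH'H, map_one]
  have h13 : (p13 R C).mapMatrix H * (p13 R C).mapMatrix H⁻¹ = 1 := by
    rw [← map_mul, hHH', map_one]
  have hcoc' : (p23 R C).mapMatrix H⁻¹ =
      (p12 R C).mapMatrix H * (p13 R C).mapMatrix H⁻¹ := by
    calc (p23 R C).mapMatrix H⁻¹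
        = (p23 R C).mapMatrix H⁻¹ * ((p13 R C).mapMatrix H * (p13 R C).mapMatrix H⁻¹) := by
          rw [h13, mul_one]
      _ = (p23 R C).mapMatrix H⁻¹ * (((p23 R C).mapMatrix H * (p12 R C).mapMatrix H) *
          (p13 R C).mapMatrix H⁻¹) := by rw [hcoc]
      _ = ((p23 R C).mapMatrix H⁻¹ * (p23 R C).mapMatrix H) * ((p12 R C).mapMatrix H *
          (p13 R C).mapMatrix H⁻¹) := by simp only [mul_assoc]
      _ = (p12 R C).mapMatrix H * (p13 R C).mapMatrix H⁻¹ := by rw [h23, one_mul]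
  -- the two kernel conditions
  have hP : (PhiP R C n H).rTensor C (Xi R C n C H⁻¹) = 0 := by
    apply eq_zero_of_ent
    intro l m
    rw [ent_PhiP_rTensor, sub_eq_zero]
    simp only [ent_Xi]
    have := congrFun (congrFun hcoc' l) m
    rw [Matrix.mul_apply] at this
    exact this
  have hM : (PhiM R C n H).rTensor C (Xi R C n C H) = 0 := by
    apply eq_zero_of_ent
    intro l m
    rw [ent_PhiM_rTensor, sub_eq_zero]
    simp only [ent_Xi]
    have := congrFun (congrFun hcoc l) m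
    rw [Matrix.mul_apply] at this
    exact this
  obtain ⟨S, hS⟩ := exists_decomp (PhiP R C n H) H⁻¹ hP
  obtain ⟨S', hS'⟩ := exists_decomp (PhiM R C n H) H hM
  by_contra hcon
  push Not at hcon
  apply h𝔭
  have hone : (1 : C) ∈ 𝔭.map (algebraMap R C) := by
    have h1 : ((Algebra.TensorProduct.lmul' R (S := C)).mapMatrix H).det *
        ((Algebra.TensorProduct.lmul' R (S := C)).mapMatrix H⁻¹).det = 1 := by
      rw [← Matrix.det_mul, ← map_mul, hHH', map_one, Matrix.det_one]
    rw [hS, hS', det_sum_smul_row, det_sum_smul_col, Finset.sum_mul_sum] at h1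
    rw [← h1]
    refine Ideal.sum_mem _ fun τ _ => Ideal.sum_mem _ fun σ _ => ?_
    have hVσ : PhiP R C n H (mixC (fun a : LinearMap.ker (PhiP R C n H) × C =>
        (a.1 : Matrix (Fin n) (Fin n) C)) σ) = 0 :=
      PhiP_mixC H _ (fun a => a.1.2) σ
    have hWτ : PhiM R C n H (mixR (fun a : LinearMap.ker (PhiM R C n H) × C =>
        (a.1 : Matrix (Fin n) (Fin n) C)) τ) = 0 :=
      PhiM_mixR H _ (fun a => a.1.2) τ
    obtain ⟨r, hr⟩ := exists_det_mul_det H _ _ hVσ hWτ
    have hr𝔭 : r ∈ 𝔭 := by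
      by_contra hr𝔭
      exact hcon r hr𝔭 _ _ (sub_eq_zero.mp hVσ) hr
    have hmem : algebraMap R C r ∈ 𝔭.map (algebraMap R C) := Ideal.mem_map_of_mem _ hr𝔭
    rw [hr] at hmem
    have e : (∏ i, (τ i).2) * (mixR (fun a : LinearMap.ker (PhiM R C n H) × C =>
        (a.1 : Matrix (Fin n) (Fin n) C)) τ).det *
        ((∏ j, (σ j).2) * (mixC (fun a : LinearMap.ker (PhiP R C n H) × C =>
        (a.1 : Matrix (Fin n) (Fin n) C)) σ).det) =
        ((∏ i, (τ i).2) * (∏ j, (σ j).2)) *
        ((mixR (fun a : LinearMap.ker (PhiM R C n H) × C =>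
        (a.1 : Matrix (Fin n) (Fin n) C)) τ).det *
        (mixC (fun a : LinearMap.ker (PhiP R C n H) × C =>
        (a.1 : Matrix (Fin n) (Fin n) C)) σ).det) := by ring
    rw [e]
    exact Ideal.mul_mem_left _ _ hmem
  have htop : 𝔭.map (algebraMap R C) = ⊤ := (Ideal.eq_top_iff_one _).mpr hone
  have := Ideal.comap_map_eq_self_of_faithfullyFlat (B := C) 𝔭
  rw [htop, Ideal.comap_top] at this
  exact this.symm

end Main

end Groth.Agent.Lib.Helper28.GLAlg
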