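/-
Helper28 library: points of the general linear group scheme `FrB.GLn n S`: the matrix `glMat` of a
point, its multiplicativity, injectivity, existence of points with a given invertible matrix, and
flatness / affineness of `GL_n` over the base.
-/
import Groth.Prelude.Def_FrameBundle
import Groth.Agent.Lib.Helper13.GaGm

set_option autoImplicit false
set_option maxHeartbeats 1600000
universe u
open CategoryTheory CategoryTheory.Limits AlgebraicGeometry MonoidalCategory
  CartesianMonoidalCategory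
open scoped MonObj
open Red
open scoped TensorProduct

namespace Groth.Agent.Lib.Helper28.GLPts

open Groth.Agent.Lib.Helper13 CoordGrp

noncomputable section

/-! ### Flatness of the coordinate ring -/

section Flat

open MvPolynomial

/-- the generic determinant -/
abbrev gdet (k : Type u) [CommRing k] (n : ℕ) : MvPolynomial (Fin n × Fin n) k :=
  (Matrix.mvPolynomialX (Fin n) (Fin n) k).det

variable (k : Type u) [CommRing k] (n : ℕ)

/-- the generic matrix in the localization -/
def ML : Matrix (Fin n) (Fin n) (Localization.Away (gdet k n)) :=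
  fun i j => algebraMap (MvPolynomial (Fin n × Fin n) k) (Localization.Away (gdet k n)) (X (i, j))

theorem ML_det : (ML k n).det =
    algebraMap (MvPolynomial (Fin n × Fin n) k) (Localization.Away (gdet k n)) (gdet k n) := by
  unfold gdet
  rw [RingHom.map_det]
  refine congrArg Matrix.det (Matrix.ext fun i j => ?_)
  rw [RingHom.mapMatrix_apply, Matrix.map_apply, Matrix.mvPolynomialX_apply]
  rfl

def Phi : GLn n k →ₐ[k] Localization.Away (gdet k n) :=
  GLn.pt n k (ML k n) (IsLocalization.Away.invSelf (gdet k n)) (by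
    rw [ML_det]
    exact IsLocalization.Away.mul_invSelf _)

theorem Phi_X (i j : Fin n) : Phi k n (GLn.X i j) =
    algebraMap (MvPolynomial (Fin n × Fin n) k) (Localization.Away (gdet k n)) (X (i, j)) :=
  GLn.pt_X _ _ _ i j

theorem Phi_Dinv : Phi k n GLn.Dinv = IsLocalization.Away.invSelf (gdet k n) :=
  GLn.pt_Dinv _ _ _

def psi0 : MvPolynomial (Fin n × Fin n) k →ₐ[k] GLn n k :=
  MvPolynomial.aeval (fun p : Fin n × Fin n => (GLn.X p.1 p.2 : GLn n k))

theorem psi0_gdet : psi0 k n (gdet k n) = (GLn.det : GLn n k) := by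
  unfold gdet
  rw [AlgHom.map_det, GLn.det_eq]
  refine congrArg Matrix.det (Matrix.ext fun i j => ?_)
  rw [AlgHom.mapMatrix_apply, Matrix.map_apply, Matrix.mvPolynomialX_apply]
  simp [psi0, GLn.genMat]

def Psi : Localization.Away (gdet k n) →ₐ[k] GLn n k :=
  IsLocalization.liftAlgHom (M := Submonoid.powers (gdet k n)) (f := psi0 k n) (by
    rintro ⟨y, j, rfl⟩
    rw [map_pow, psi0_gdet]
    exact (IsUnit.of_mul_eq_one _ GLn.det_mul_Dinv).pow j)

theorem Psi_alg (r : MvPolynomial (Fin n × Fin n) k) :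
    Psi k n (algebraMap (MvPolynomial (Fin n × Fin n) k) (Localization.Away (gdet k n)) r) =
      psi0 k n r := by
  unfold Psi
  rw [IsLocalization.liftAlgHom_apply]
  exact IsLocalization.lift_eq _ r

theorem Psi_invSelf : Psi k n (IsLocalization.Away.invSelf (gdet k n)) = (GLn.Dinv : GLn n k) := by
  have h1 : Psi k n (algebraMap (MvPolynomial (Fin n × Fin n) k) (Localization.Away (gdet k n))
      (gdet k n)) * Psi k n (IsLocalization.Away.invSelf (gdet k n)) = 1 := by
    rw [← map_mul, IsLocalization.Away.mul_invSelf, map_one]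
  rw [Psi_alg, psi0_gdet] at h1
  calc Psi k n (IsLocalization.Away.invSelf (gdet k n))
      = ((GLn.Dinv : GLn n k) * GLn.det) * Psi k n (IsLocalization.Away.invSelf (gdet k n)) := by
        rw [GLn.Dinv_mul_det, one_mul]
    _ = (GLn.Dinv : GLn n k) * (GLn.det * Psi k n (IsLocalization.Away.invSelf (gdet k n))) :=
        mul_assoc _ _ _
    _ = GLn.Dinv := by rw [h1, mul_one]

theorem Psi_comp_Phi : (Psi k n).comp (Phi k n) = AlgHom.id k (GLn n k) := by
  apply GLn.algHom_ext
  · intro i j
    rw [AlgHom.comp_apply, AlgHom.id_apply, Phi_X, Psi_alg]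
    simp [psi0]
  · rw [AlgHom.comp_apply, AlgHom.id_apply, Phi_Dinv, Psi_invSelf]

theorem flat_GLn : Module.Flat k (GLn n k) := by
  have : Module.Flat (MvPolynomial (Fin n × Fin n) k) (Localization.Away (gdet k n)) :=
    IsLocalization.flat (Localization.Away (gdet k n)) (Submonoid.powers (gdet k n))
  have : Module.Flat k (Localization.Away (gdet k n)) :=
    Module.Flat.trans k (MvPolynomial (Fin n × Fin n) k) (Localization.Away (gdet k n))
  refine Module.Flat.of_retract (Phi k n).toLinearMap (Psi k n).toLinearMap ?_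
  ext a
  exact congr($(Psi_comp_Phi k n) a)

end Flat

/-! ### Points -/

section Pts

variable {S : Scheme.{u}} (n : ℕ)

/-- the matrix of a point of `GL_n` -/
def glMat {Z : Over S} (x : Z ⟶ FrB.GLn n S) : Matrix (Fin n) (Fin n) Γ(Z.left, ⊤) :=
  Matrix.of fun i j => ptFn (IsTerminal.from specULiftZIsTerminal S) x
    (GLn.X i j : GLn n (ULift.{u} ℤ))

theorem glMat_apply {Z : Over S} (x : Z ⟶ FrB.GLn n S) (i j : Fin n) :
    glMat n x i j = ptFn (IsTerminal.from specULiftZIsTerminal S) x
      (GLn.X i j : GLn n (ULift.{u} ℤ)) := rfl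

theorem glMat_comp {Z Z' : Over S} (s : Z' ⟶ Z) (x : Z ⟶ FrB.GLn n S) :
    glMat n (s ≫ x) = (glMat n x).map (s.left.appTop).hom := by
  ext i j
  exact ptFn_comp _ s x _

theorem glMat_mul {Z : Over S} (x y : Z ⟶ FrB.GLn n S) :
    glMat n (x * y) = glMat n x * glMat n y := by
  ext i j
  rw [Matrix.mul_apply]
  exact ptFn_mul _ x y (GLn.X i j : GLn n (ULift.{u} ℤ)) Finset.univ
    (fun l => GLn.X i l) (fun l => GLn.X l j) (GLn.comul_X i j)

theorem ptFn_det {Z : Over S} (x : Z ⟶ FrB.GLn n S) :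
    ptFn (IsTerminal.from specULiftZIsTerminal S) x (GLn.det : GLn n (ULift.{u} ℤ)) =
      (glMat n x).det := by
  rw [GLn.det_eq, ← ptRingHom_apply, RingHom.map_det]
  rfl

theorem det_mul_Dinv {Z : Over S} (x : Z ⟶ FrB.GLn n S) :
    (glMat n x).det * ptFn (IsTerminal.from specULiftZIsTerminal S) x
      (GLn.Dinv : GLn n (ULift.{u} ℤ)) = 1 := by
  rw [← ptFn_det, ← ptFn_mul_elt, GLn.det_mul_Dinv, ptFn_one_elt]

theorem isUnit_det {Z : Over S} (x : Z ⟶ FrB.GLn n S) : IsUnit (glMat n x).det :=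
  IsUnit.of_mul_eq_one _ (det_mul_Dinv n x)

theorem glMat_injective {Z : Over S} :
    Function.Injective (glMat n : (Z ⟶ FrB.GLn n S) → Matrix (Fin n) (Fin n) Γ(Z.left, ⊤)) := by
  intro x y h
  have hX : ∀ i j, ptFn (IsTerminal.from specULiftZIsTerminal S) x
      (GLn.X i j : GLn n (ULift.{u} ℤ)) =
      ptFn (IsTerminal.from specULiftZIsTerminal S) y (GLn.X i j : GLn n (ULift.{u} ℤ)) :=
    fun i j => congrFun (congrFun h i) j
  have hD : ptFn (IsTerminal.from specULiftZIsTerminal S) x (GLn.Dinv : GLn n (ULift.{u} ℤ)) =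
      ptFn (IsTerminal.from specULiftZIsTerminal S) y (GLn.Dinv : GLn n (ULift.{u} ℤ)) := by
    have hx := det_mul_Dinv n x
    have hy := det_mul_Dinv n y
    rw [h] at hx
    calc ptFn (IsTerminal.from specULiftZIsTerminal S) x (GLn.Dinv : GLn n (ULift.{u} ℤ))
        = ptFn (IsTerminal.from specULiftZIsTerminal S) x (GLn.Dinv : GLn n (ULift.{u} ℤ)) *
          ((glMat n y).det * ptFn (IsTerminal.from specULiftZIsTerminal S) y
            (GLn.Dinv : GLn n (ULift.{u} ℤ))) := by rw [hy, mul_one]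
      _ = ((glMat n y).det * ptFn (IsTerminal.from specULiftZIsTerminal S) x
            (GLn.Dinv : GLn n (ULift.{u} ℤ))) *
          ptFn (IsTerminal.from specULiftZIsTerminal S) y (GLn.Dinv : GLn n (ULift.{u} ℤ)) := by
          ring
      _ = ptFn (IsTerminal.from specULiftZIsTerminal S) y (GLn.Dinv : GLn n (ULift.{u} ℤ)) := by
          rw [hx, one_mul]
  let _ : Algebra (ULift.{u} ℤ) Γ(Z.left, ⊤) := ULift.algebra' ℤ _
  let φx : GLn n (ULift.{u} ℤ) →ₐ[ULift.{u} ℤ] Γ(Z.left, ⊤) :=
    { ptRingHom (IsTerminal.from specULiftZIsTerminal S) x with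
      commutes' := fun r => congr($(ringHom_uliftInt_ext
        ((ptRingHom (IsTerminal.from specULiftZIsTerminal S) x).comp (algebraMap _ _))
        (algebraMap _ _)) r) }
  let φy : GLn n (ULift.{u} ℤ) →ₐ[ULift.{u} ℤ] Γ(Z.left, ⊤) :=
    { ptRingHom (IsTerminal.from specULiftZIsTerminal S) y with
      commutes' := fun r => congr($(ringHom_uliftInt_ext
        ((ptRingHom (IsTerminal.from specULiftZIsTerminal S) y).comp (algebraMap _ _))
        (algebraMap _ _)) r) }
  have hφ : φx = φy := GLn.algHom_ext hX hD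
  apply pt_ext
  intro a
  exact congr($hφ a)

theorem exists_glMat_eq {Z : Over S} (M : Matrix (Fin n) (Fin n) Γ(Z.left, ⊤))
    (hM : IsUnit M.det) : ∃ x : Z ⟶ FrB.GLn n S, glMat n x = M := by
  let _ : Algebra (ULift.{u} ℤ) Γ(Z.left, ⊤) := ULift.algebra' ℤ _
  obtain ⟨d, hd⟩ := hM.exists_right_inv
  refine ⟨mkPt _ (GLn.pt n (ULift.{u} ℤ) M d hd).toRingHom
    (specULiftZIsTerminal.hom_ext _ _), ?_⟩
  ext i j
  rw [glMat_apply, ptFn_mkPt]
  exact GLn.pt_X M d hd i j

end Pts

/-! ### Affineness and flatness of the group scheme -/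

theorem isAffineHom_GLn (n : ℕ) (S : Scheme.{u}) : IsAffineHom (FrB.GLn n S).hom := by
  have h : IsAffineHom (FrB.GLZ.{u} n).hom := by
    show IsAffineHom (Spec (CommRingCat.of (GLn n (ULift.{u} ℤ))) ↘
      Spec (CommRingCat.of (ULift.{u} ℤ)))
    rw [specOverSpec_over]
    infer_instance
  exact MorphismProperty.pullback_snd (P := @IsAffineHom) _ _ h

theorem flat_GLn_hom (n : ℕ) (S : Scheme.{u}) : Flat (FrB.GLn n S).hom := by
  have h : Flat (FrB.GLZ.{u} n).hom := by
    show Flat (Spec (CommRingCat.of (GLn n (ULift.{u} ℤ))) ↘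
      Spec (CommRingCat.of (ULift.{u} ℤ)))
    rw [specOverSpec_over, HasRingHomProperty.Spec_iff (P := @Flat)]
    exact RingHom.flat_algebraMap_iff.mpr (flat_GLn (ULift.{u} ℤ) n)
  exact MorphismProperty.pullback_snd (P := @Flat) _ _ h

end

end Groth.Agent.Lib.Helper28.GLPts
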