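/-
Helper28 library: the algebraic core of the Zariski-local triviality of torsors under
`G^(λ) = Spec R[T, 1/(1+λT)]` for a faithfully flat algebra `R → C` on which `λ` is regular:
for a cocycle `τ ∈ C ⊗ C` (for the law `s + t + λst`), locally on `R` there are `a ∈ R` and `c ∈ C`
with `a + λc` invertible and `1 ⊗ c - c ⊗ 1 = τ * ((a + λc) ⊗ 1)`.
-/
import Groth.Agent.Lib.Helper28.GmTorsAlg

set_option autoImplicit false
universe u

open TensorProduct

namespace Groth.Agent.Lib.Helper28.SSAlg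

open Groth.Agent.Lib.Helper28.GaTors Groth.Agent.Lib.Helper28.GmTors

theorem ss_alg (R C : Type u) [CommRing R] [CommRing C] [Algebra R C] [Module.FaithfullyFlat R C]
    (lamR : R) (hreg : IsRegular lamR) (τ υ' : C ⊗[R] C)
    (hunit : (1 + algebraMap R (C ⊗[R] C) lamR * τ) * υ' = 1)
    (hcoc : p12 R C τ + p23 R C τ +
      algebraMap R ((C ⊗[R] C) ⊗[R] C) lamR * (p12 R C τ * p23 R C τ) = p13 R C τ)
    (𝔭 : Ideal R) (h𝔭 : 𝔭 ≠ ⊤) :
    ∃ r a : R, r ∉ 𝔭 ∧ a ∉ 𝔭 ∧ ∃ l m c : C, algebraMap R C r = l * m ∧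
      l = algebraMap R C a + algebraMap R C lamR * c ∧
      iR R C c - iL R C c = τ * iL R C l := by
  have hcoc' : p12 R C (1 + algebraMap R (C ⊗[R] C) lamR * τ) *
      p23 R C (1 + algebraMap R (C ⊗[R] C) lamR * τ) =
      p13 R C (1 + algebraMap R (C ⊗[R] C) lamR * τ) := by
    rw [map_add, map_add, map_add, map_one, map_one, map_one, map_mul, map_mul, map_mul,
      AlgHom.commutes, AlgHom.commutes, AlgHom.commutes, ← hcoc]
    ring
  obtain ⟨r, hr, l, m, hl, hlm⟩ :=
    exists_gen_not_mem R C (1 + algebraMap R (C ⊗[R] C) lamR * τ) υ' hunit hcoc' 𝔭 h𝔭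
  -- `d0 l = λ w`
  have h0 : d0 R C l = algebraMap R (C ⊗[R] C) lamR * (τ * iL R C l) := by
    show iR R C l - iL R C l = algebraMap R (C ⊗[R] C) lamR * (τ * iL R C l)
    rw [hl]
    ring
  have hsmul : ∀ x : C ⊗[R] C, lamR • x = algebraMap R (C ⊗[R] C) lamR * x :=
    fun x => Algebra.smul_def lamR x
  have hsm : IsSMulRegular ((C ⊗[R] C) ⊗[R] C) lamR :=
    Module.Flat.isSMulRegular_of_isRegular hreg
  have hd1 : d1 R C (τ * iL R C l) = 0 := by
    apply hsm
    show lamR • d1 R C (τ * iL R C l) = lamR • (0 : (C ⊗[R] C) ⊗[R] C)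
    rw [smul_zero, ← map_smul, hsmul, ← h0]
    exact congr($(d1_comp_d0 R C) l)
  obtain ⟨c, hc⟩ := (exact R C (τ * iL R C l)).mp hd1
  have hc' : iR R C c - iL R C c = τ * iL R C l := hc
  have hd0 : d0 R C (l - lamR • c) = 0 := by
    rw [map_sub, map_smul, h0, hc, hsmul, sub_self]
  have heq : iR R C (l - lamR • c) = iL R C (l - lamR • c) := sub_eq_zero.mp hd0
  have hz : Algebra.TensorProduct.includeLeftSubRight R C (l - lamR • c) = 0 := by
    rw [Algebra.TensorProduct.includeLeftSubRight_apply]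
    exact sub_eq_zero.mpr heq.symm
  obtain ⟨a₀, ha₀⟩ := (Algebra.IsEffective.of_faithfullyFlat R C (l - lamR • c)).mp hz
  have ha₀' : algebraMap R C a₀ = l - lamR • c := ha₀
  have hla : l = algebraMap R C a₀ + algebraMap R C lamR * c := by
    rw [ha₀', Algebra.smul_def]; ring
  by_cases ha : a₀ ∈ 𝔭
  · -- then `λ ∉ 𝔭`
    have hlam : lamR ∉ 𝔭 := by
      intro hlam
      apply hr
      have hmem : algebraMap R C r ∈ 𝔭.map (algebraMap R C) := by
        rw [hlm, hla]
        apply Ideal.mul_mem_right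
        apply Ideal.add_mem
        · exact Ideal.mem_map_of_mem _ ha
        · exact Ideal.mul_mem_right _ _ (Ideal.mem_map_of_mem _ hlam)
      have hcm := Ideal.comap_map_eq_self_of_faithfullyFlat (B := C) 𝔭
      rw [← hcm]
      exact hmem
    refine ⟨r, a₀ + lamR, hr, ?_, l, m, c - 1, hlm, ?_, ?_⟩
    · intro h
      apply hlam
      have := 𝔭.sub_mem h ha
      rwa [add_sub_cancel_left] at this
    · rw [hla, map_add]
      ring
    · rw [map_sub, map_sub, map_one, map_one, ← hc']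
      ring
  · exact ⟨r, a₀, hr, ha, l, m, c, hlm, hla, hc'⟩

end Groth.Agent.Lib.Helper28.SSAlg
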