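/-
Helper28 library: fpqc torsors under (a base change of) the group scheme
`G^(λ) = Spec R₀[T, 1/(1+λT)]` over a scheme flat over `Spec R₀`, with `λ` regular in `R₀`,
are Zariski locally trivial.
-/
import Groth.Agent.Lib.Helper28.SSPts
import Groth.Agent.Lib.Helper28.SSAlg
import Groth.Agent.Lib.Helper28.CompSeries

set_option autoImplicit false
set_option maxHeartbeats 1600000
universe u
open CategoryTheory CategoryTheory.Limits AlgebraicGeometry MonoidalCategory
  CartesianMonoidalCategory MonObj GrpObj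
open Red
open scoped TensorProduct

namespace Groth.Agent.Lib.Helper28.SSGeom

open Groth.Agent.Lib.Helper13 Groth.Agent.Lib.Helper22 Groth.Agent.Lib.Helper29.TorsorPush
open Groth.Agent.Lib.Helper28.GaTors Groth.Agent.Lib.Helper28.GmTors
open Groth.Agent.Lib.Helper28.GaTorsGeom Groth.Agent.Lib.Helper28.GmTorsGeom
open Groth.Agent.Lib.Helper28.SSPts Groth.Agent.Lib.Helper28.SSAlg
open Groth.Agent.Lib.Helper28.CompSeries

noncomputable section

variable {R₀ : Type u} [CommRing R₀] (lam : R₀) {S : Scheme.{u}}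
  (f : S ⟶ Spec (CommRingCat.of R₀))
variable {R : Type u} [CommRing R] (j : Spec (CommRingCat.of R) ⟶ S)

/-- the ring map `R₀ → R` underlying `Spec R → S → Spec R₀` -/
def base : R₀ →+* R := (Spec.preimage (j ≫ f)).hom

theorem base_spec : Spec.map (CommRingCat.ofHom (base f j)) = j ≫ f := by
  unfold base
  rw [CommRingCat.ofHom_hom]
  exact Spec.map_preimage _

theorem isRegular_base [Flat (j ≫ f)] (hlam : IsRegular lam) : IsRegular (base f j lam) := by
  have h1 : Flat (Spec.map (CommRingCat.ofHom (base f j))) := by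
    rw [base_spec]; infer_instance
  have h2 : (base f j).Flat := (HasRingHomProperty.Spec_iff (P := @Flat)).mp h1
  letI : Algebra R₀ R := (base f j).toAlgebra
  have h3 : Module.Flat R₀ R := h2
  have h4 : IsSMulRegular R (algebraMap R₀ R lam) :=
    IsSMulRegular.of_flat (S := R) hlam.left.isSMulRegular
  exact isLeftRegular_iff_isRegular.mp h4.isLeftRegular

section Ev

variable {R' : Type u} [CommRing R'] [Algebra R R']

theorem rho_T (r : R₀) : rho f (T j R') r =
    (Scheme.ΓSpecIso (CommRingCat.of R')).inv (algebraMap R R' (base f j r)) := by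
  have h1 : (T j R').hom ≫ f =
      Spec.map (CommRingCat.ofHom ((algebraMap R R').comp (base f j))) := by
    rw [CommRingCat.ofHom_comp, Spec.map_comp, base_spec]
    exact Category.assoc _ _ _
  rw [rho_apply, h1]
  exact specMap_appTop_ΓSpecIso_inv _ r

theorem hom_rho_T (r : R₀) : (Scheme.ΓSpecIso (CommRingCat.of R')).hom (rho f (T j R') r) =
    algebraMap R R' (base f j r) := by
  rw [rho_T]
  exact Iso.inv_hom_id_apply (Scheme.ΓSpecIso (CommRingCat.of R')) _

theorem rho_eq_evHom {Z : Over S} (z : Z ⟶ T j R') (r : R₀) :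
    rho f Z r = evHom j z (algebraMap R R' (base f j r)) := by
  rw [rho_comp f z, rho_T]
  rfl

/-- the coordinate of a point of `G^(λ)` with values in `Spec R'` -/
def gtVal (x : T j R' ⟶ bc f (SekSuwa.G R₀ lam)) : R' :=
  (Scheme.ΓSpecIso (CommRingCat.of R')).hom (gtFn lam f x)

/-- the inverse of `1 + λ t` at a point of `G^(λ)` with values in `Spec R'` -/
def ginvVal (x : T j R' ⟶ bc f (SekSuwa.G R₀ lam)) : R' :=
  (Scheme.ΓSpecIso (CommRingCat.of R')).hom
    (ptFn f x (SekSuwa.A.inv : SekSuwa.A R₀ lam))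

theorem inv_gtVal (x : T j R' ⟶ bc f (SekSuwa.G R₀ lam)) :
    (Scheme.ΓSpecIso (CommRingCat.of R')).inv (gtVal lam f j x) = gtFn lam f x :=
  Iso.hom_inv_id_apply (Scheme.ΓSpecIso (CommRingCat.of R')) (gtFn lam f x)

theorem gtFn_comp_eq {Z : Over S} (k : Z ⟶ T j R') (x : T j R' ⟶ bc f (SekSuwa.G R₀ lam)) :
    gtFn lam f (k ≫ x) = evHom j k (gtVal lam f j x) := by
  rw [gtFn_comp, evHom_apply, inv_gtVal]

theorem gtVal_mul (x y : T j R' ⟶ bc f (SekSuwa.G R₀ lam)) :
    gtVal lam f j (x * y) = gtVal lam f j x + gtVal lam f j y +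
      algebraMap R R' (base f j lam) * (gtVal lam f j x * gtVal lam f j y) := by
  unfold gtVal
  rw [gtFn_mul, map_add, map_add, map_mul, map_mul, hom_rho_T]

theorem gtVal_unit (x : T j R' ⟶ bc f (SekSuwa.G R₀ lam)) :
    (1 + algebraMap R R' (base f j lam) * gtVal lam f j x) * ginvVal lam f j x = 1 := by
  have h := congrArg (Scheme.ΓSpecIso (CommRingCat.of R')).hom (ptFn_u_mul_inv lam f x)
  rw [map_mul, map_add, map_one, map_mul, hom_rho_T] at h
  exact h

theorem gtVal_tf {R'' : Type u} [CommRing R''] [Algebra R R''] (φ : R' →ₐ[R] R'')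
    (x : T j R' ⟶ bc f (SekSuwa.G R₀ lam)) :
    gtVal lam f j (tf j φ ≫ x) = φ (gtVal lam f j x) := by
  have h1 : gtFn lam f (tf j φ ≫ x) =
      (Scheme.ΓSpecIso (CommRingCat.of R'')).inv (φ (gtVal lam f j x)) := by
    rw [gtFn_comp]
    have h2 : (tf j φ).left.appTop ((Scheme.ΓSpecIso (CommRingCat.of R')).inv
        (gtVal lam f j x)) = (Scheme.ΓSpecIso (CommRingCat.of R'')).inv (φ (gtVal lam f j x)) :=
      specMap_appTop_ΓSpecIso_inv φ.toRingHom (gtVal lam f j x)
    rw [← h2, inv_gtVal]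
  show (Scheme.ΓSpecIso (CommRingCat.of R'')).hom (gtFn lam f (tf j φ ≫ x)) =
    φ (gtVal lam f j x)
  rw [h1]
  exact Iso.inv_hom_id_apply (Scheme.ΓSpecIso (CommRingCat.of R'')) _

end Ev

section Cocycle

variable {C : Type u} [CommRing C] [Algebra R C]

/-- the pair of two `Z`-points of `Spec C` with the same image in `Spec R` -/
theorem pair_point {Z : Over S} (z₁ z₂ : Z ⟶ T j C)
    (hz : z₁.left ≫ Spec.map (CommRingCat.ofHom (algebraMap R C)) =
      z₂.left ≫ Spec.map (CommRingCat.ofHom (algebraMap R C))) :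
    ∃ k : Z ⟶ T j (C ⊗[R] C), k ≫ tf j (iL R C) = z₁ ∧ k ≫ tf j (iR R C) = z₂ := by
  have e1 : (pullback.lift z₁.left z₂.left hz ≫ (pullbackSpecIso R C C).hom) ≫
      Spec.map (CommRingCat.ofHom
        (Algebra.TensorProduct.includeLeftRingHom : C →+* C ⊗[R] C)) = z₁.left := by
    rw [Category.assoc, pullbackSpecIso_hom_fst, pullback.lift_fst]
  have e2 : (pullback.lift z₁.left z₂.left hz ≫ (pullbackSpecIso R C C).hom) ≫
      Spec.map (CommRingCat.ofHom (RingHomClass.toRingHom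
        (Algebra.TensorProduct.includeRight : C →ₐ[R] C ⊗[R] C))) = z₂.left := by
    rw [Category.assoc, pullbackSpecIso_hom_snd, pullback.lift_snd]
  have e1' : (pullback.lift z₁.left z₂.left hz ≫ (pullbackSpecIso R C C).hom) ≫
      (tf j (iL R C)).left = z₁.left := e1
  refine ⟨Over.homMk (pullback.lift z₁.left z₂.left hz ≫ (pullbackSpecIso R C C).hom) ?_,
    Over.OverMorphism.ext e1, Over.OverMorphism.ext e2⟩
  calc (pullback.lift z₁.left z₂.left hz ≫ (pullbackSpecIso R C C).hom) ≫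
        (T j (C ⊗[R] C)).hom
      = (pullback.lift z₁.left z₂.left hz ≫ (pullbackSpecIso R C C).hom) ≫
        ((tf j (iL R C)).left ≫ (T j C).hom) := by rw [Over.w]
    _ = ((pullback.lift z₁.left z₂.left hz ≫ (pullbackSpecIso R C C).hom) ≫
        (tf j (iL R C)).left) ≫ (T j C).hom := (Category.assoc _ _ _).symm
    _ = z₁.left ≫ (T j C).hom := congrArg (· ≫ (T j C).hom) e1'
    _ = Z.hom := Over.w z₁

/-- the element of `G (C ⊗ C)` carrying the first pull-back of `u` to the second -/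
def gDiff (X : Over S) (a : AlgGrp.Action (bc f (SekSuwa.G R₀ lam)) X)
    (hps : NonAbH1.IsPseudoTorsorSch a) (u : T j C ⟶ X) :
    T j (C ⊗[R] C) ⟶ bc f (SekSuwa.G R₀ lam) :=
  dv a hps (tf j (iR R C) ≫ u) (tf j (iL R C) ≫ u)

theorem cocycle (X : Over S) (a : AlgGrp.Action (bc f (SekSuwa.G R₀ lam)) X)
    (hps : NonAbH1.IsPseudoTorsorSch a) (u : T j C ⟶ X) :
    p12 R C (gtVal lam f j (gDiff lam f j X a hps u)) +
      p23 R C (gtVal lam f j (gDiff lam f j X a hps u)) +
      algebraMap R ((C ⊗[R] C) ⊗[R] C) (base f j lam) *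
        (p12 R C (gtVal lam f j (gDiff lam f j X a hps u)) *
          p23 R C (gtVal lam f j (gDiff lam f j X a hps u))) =
      p13 R C (gtVal lam f j (gDiff lam f j X a hps u)) := by
  have hmul : (tf j (p23 R C) ≫ gDiff lam f j X a hps u) *
      (tf j (p12 R C) ≫ gDiff lam f j X a hps u) = tf j (p13 R C) ≫ gDiff lam f j X a hps u :=
    isCoc_dv j a hps u
  have := congrArg (gtVal lam f j) hmul
  rw [gtVal_mul, gtVal_tf, gtVal_tf, gtVal_tf] at this
  linear_combination this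

/-- **Key computation**: if `c / a₀` is a "primitive" of the cocycle, the point `(c/a₀)(z)⁻¹ • u(z)`
of the torsor depends only on the image of `z` in `Spec R`. -/
theorem claim (X : Over S) (a : AlgGrp.Action (bc f (SekSuwa.G R₀ lam)) X)
    (hps : NonAbH1.IsPseudoTorsorSch a) (u : T j C ⟶ X) (a₀ : R) (l c : C)
    (hl : l = algebraMap R C a₀ + algebraMap R C (base f j lam) * c)
    (hE : iR R C c - iL R C c = gtVal lam f j (gDiff lam f j X a hps u) * iL R C l)
    {Z : Over S} (z₁ z₂ : Z ⟶ T j C)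
    (hz : z₁.left ≫ Spec.map (CommRingCat.ofHom (algebraMap R C)) =
      z₂.left ≫ Spec.map (CommRingCat.ofHom (algebraMap R C)))
    (b₁ b₂ : Z ⟶ bc f (SekSuwa.G R₀ lam))
    (hb₁ : gtFn lam f b₁ * evHom j z₁ (algebraMap R C a₀) = evHom j z₁ c)
    (hb₂ : gtFn lam f b₂ * evHom j z₂ (algebraMap R C a₀) = evHom j z₂ c)
    (hu : IsUnit (evHom j z₁ (algebraMap R C a₀))) :
    smul a b₁⁻¹ (z₁ ≫ u) = smul a b₂⁻¹ (z₂ ≫ u) := by
  subst hl
  obtain ⟨k, hk1, hk2⟩ := pair_point j z₁ z₂ hz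
  obtain ⟨g, hg⟩ : ∃ g, g = gDiff lam f j X a hps u := ⟨_, rfl⟩
  have hgs : smul a g (tf j (iL R C) ≫ u) = tf j (iR R C) ≫ u := by
    rw [hg]; exact dv_smul a hps _ _
  have h2 : z₂ ≫ u = smul a (k ≫ g) (z₁ ≫ u) := by
    rw [← hk2, ← hk1, Category.assoc, Category.assoc, ← hgs, comp_smul]
  rw [← hg] at hE
  have ha1 : evHom j z₁ (algebraMap R C a₀) = evHom j k (algebraMap R (C ⊗[R] C) a₀) := by
    rw [← hk1, evHom_tf, AlgHom.commutes]
  have ha2 : evHom j z₂ (algebraMap R C a₀) = evHom j k (algebraMap R (C ⊗[R] C) a₀) := by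
    rw [← hk2, evHom_tf, AlgHom.commutes]
  have hc1 : evHom j z₁ c = evHom j k (iL R C c) := by rw [← hk1, evHom_tf]
  have hc2 : evHom j z₂ c = evHom j k (iR R C c) := by rw [← hk2, evHom_tf]
  have hγ : gtFn lam f (k ≫ g) = evHom j k (gtVal lam f j g) := gtFn_comp_eq lam f j k g
  have hΛ : rho f Z lam = evHom j k (algebraMap R (C ⊗[R] C) (base f j lam)) :=
    rho_eq_evHom f j k lam
  have hEev : evHom j k (iR R C c) - evHom j k (iL R C c) =
      evHom j k (gtVal lam f j g) * (evHom j k (algebraMap R (C ⊗[R] C) a₀) +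
        evHom j k (algebraMap R (C ⊗[R] C) (base f j lam)) * evHom j k (iL R C c)) := by
    rw [← map_sub, hE]
    simp only [map_add, map_mul, AlgHom.commutes]
  have hb2eq : b₂ = (k ≫ g) * b₁ := by
    apply gtFn_injective lam f
    rw [gtFn_mul]
    apply hu.mul_left_cancel
    rw [hγ, hΛ]
    rw [ha1, hc1] at hb₁
    rw [ha2, hc2] at hb₂
    rw [ha1]
    linear_combination hb₂ + hEev -
      (1 + evHom j k (algebraMap R (C ⊗[R] C) (base f j lam)) *
        evHom j k (gtVal lam f j g)) * hb₁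
  rw [h2, ← pt_mul_smul]
  congr 1
  rw [hb2eq, _root_.mul_inv_rev, _root_.inv_mul_cancel_right]

end Cocycle

/-! ### Sections over a principal open -/

theorem section_of_unit (X : Over S) (a : AlgGrp.Action (bc f (SekSuwa.G R₀ lam)) X)
    (hps : NonAbH1.IsPseudoTorsorSch a)
    (C : Type u) [CommRing C] [Algebra R C] [Module.FaithfullyFlat R C] (u : T j C ⟶ X)
    (l m c : C) (r a₀ : R)
    (hlm : algebraMap R C r = l * m)
    (hl : l = algebraMap R C a₀ + algebraMap R C (base f j lam) * c)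
    (hE : iR R C c - iL R C c = gtVal lam f j (gDiff lam f j X a hps u) * iL R C l) :
    ∃ s : Spec (CommRingCat.of (Localization.Away (r * a₀))) ⟶ X.left,
      s ≫ X.hom =
        Spec.map (CommRingCat.ofHom (algebraMap R (Localization.Away (r * a₀)))) ≫ j := by
  -- notation
  obtain ⟨πB, hπB⟩ : ∃ πB : Spec (CommRingCat.of (Localization.Away (r * a₀) ⊗[R] C)) ⟶
      Spec (CommRingCat.of (Localization.Away (r * a₀))),
      πB = Spec.map (CommRingCat.ofHom
        (algebraMap (Localization.Away (r * a₀)) (Localization.Away (r * a₀) ⊗[R] C))) :=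
    ⟨_, rfl⟩
  obtain ⟨q, hq⟩ : ∃ q : Spec (CommRingCat.of (Localization.Away (r * a₀) ⊗[R] C)) ⟶
      Spec (CommRingCat.of C),
      q = Spec.map (CommRingCat.ofHom (Algebra.TensorProduct.includeRight :
        C →ₐ[R] Localization.Away (r * a₀) ⊗[R] C).toRingHom) := ⟨_, rfl⟩
  have hfs : Flat πB ∧ Surjective πB := by
    rw [hπB]
    exact (flat_and_surjective_SpecMap_iff (CommRingCat.ofHom
      (algebraMap (Localization.Away (r * a₀)) (Localization.Away (r * a₀) ⊗[R] C)))).mpr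
      (RingHom.faithfullyFlat_algebraMap_iff.mpr inferInstance)
  have := hfs.1
  have := hfs.2
  haveI : QuasiCompact πB := by rw [hπB]; infer_instance
  have hsq : q ≫ Spec.map (CommRingCat.ofHom (algebraMap R C)) =
      πB ≫ Spec.map (CommRingCat.ofHom (algebraMap R (Localization.Away (r * a₀)))) := by
    rw [hq, hπB, ← Spec.map_comp, ← Spec.map_comp, ← CommRingCat.ofHom_comp,
      ← CommRingCat.ofHom_comp]
    congr 2
    rw [AlgHom.toRingHom_eq_coe, AlgHom.comp_algebraMap]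
    exact IsScalarTower.algebraMap_eq R (Localization.Away (r * a₀))
      (Localization.Away (r * a₀) ⊗[R] C)
  -- the point of `Spec C` with values in `Spec (B ⊗ C)`
  let ZB : Over S := Over.mk (q ≫ (T j C).hom)
  let zq : ZB ⟶ T j C := Over.homMk q rfl
  have hru : IsUnit (algebraMap R (Localization.Away (r * a₀) ⊗[R] C) r) ∧
      IsUnit (algebraMap R (Localization.Away (r * a₀) ⊗[R] C) a₀) := by
    have h0 : IsUnit (algebraMap R (Localization.Away (r * a₀) ⊗[R] C) (r * a₀)) := by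
      rw [IsScalarTower.algebraMap_apply R (Localization.Away (r * a₀))
        (Localization.Away (r * a₀) ⊗[R] C)]
      exact (IsLocalization.Away.algebraMap_isUnit (r * a₀)).map _
    rw [map_mul] at h0
    exact ⟨isUnit_of_mul_isUnit_left h0, isUnit_of_mul_isUnit_right h0⟩
  have hunit : IsUnit ((Algebra.TensorProduct.includeRight :
      C →ₐ[R] Localization.Away (r * a₀) ⊗[R] C) l) := by
    apply isUnit_of_mul_isUnit_left (y := (Algebra.TensorProduct.includeRight :
      C →ₐ[R] Localization.Away (r * a₀) ⊗[R] C) m)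
    rw [← map_mul, ← hlm, AlgHom.commutes]
    exact hru.1
  have hev : ∀ x : C, evHom j zq x =
      (Scheme.ΓSpecIso (CommRingCat.of (Localization.Away (r * a₀) ⊗[R] C))).inv
      ((Algebra.TensorProduct.includeRight : C →ₐ[R] Localization.Away (r * a₀) ⊗[R] C) x) := by
    intro x
    show q.appTop ((Scheme.ΓSpecIso (CommRingCat.of C)).inv x) = _
    rw [hq]
    exact specMap_appTop_ΓSpecIso_inv _ x
  have hL : IsUnit (evHom j zq l) := by
    rw [hev]
    exact hunit.map
      (Scheme.ΓSpecIso (CommRingCat.of (Localization.Away (r * a₀) ⊗[R] C))).inv.hom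
  have hA : IsUnit (evHom j zq (algebraMap R C a₀)) := by
    rw [hev, AlgHom.commutes]
    exact hru.2.map
      (Scheme.ΓSpecIso (CommRingCat.of (Localization.Away (r * a₀) ⊗[R] C))).inv.hom
  have hΛ : rho f ZB lam = evHom j zq (algebraMap R C (base f j lam)) :=
    rho_eq_evHom f j zq lam
  have hLeq : evHom j zq l = evHom j zq (algebraMap R C a₀) +
      evHom j zq (algebraMap R C (base f j lam)) * evHom j zq c := by
    rw [hl, map_add, map_mul]
  obtain ⟨ai, hai⟩ := hA.exists_left_inv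
  have hbunit : IsUnit (1 + rho f ZB lam * (ai * evHom j zq c)) := by
    have h1 : 1 + rho f ZB lam * (ai * evHom j zq c) = ai * evHom j zq l := by
      rw [hΛ, hLeq]
      linear_combination (-1 : Γ(ZB.left, ⊤)) * hai
    rw [h1]
    exact (IsUnit.of_mul_eq_one _ hai).mul hL
  obtain ⟨β, hβ⟩ := exists_gtFn_eq lam f (Z := ZB) (ai * evHom j zq c) hbunit
  have hβ1 : gtFn lam f β * evHom j zq (algebraMap R C a₀) = evHom j zq c := by
    rw [hβ]
    linear_combination (evHom j zq c) * hai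
  have hcompat : ∀ {Z' : Scheme.{u}}
      (g₁ g₂ : Z' ⟶ Spec (CommRingCat.of (Localization.Away (r * a₀) ⊗[R] C))),
      g₁ ≫ πB = g₂ ≫ πB →
        g₁ ≫ (smul a β⁻¹ (zq ≫ u)).left = g₂ ≫ (smul a β⁻¹ (zq ≫ u)).left := by
    intro Z' g₁ g₂ hg
    have hqg : g₁ ≫ q ≫ Spec.map (CommRingCat.ofHom (algebraMap R C)) =
        g₂ ≫ q ≫ Spec.map (CommRingCat.ofHom (algebraMap R C)) := by
      rw [hsq, ← Category.assoc, ← Category.assoc, hg]
    let Z : Over S := Over.mk (g₁ ≫ ZB.hom)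
    let G₁ : Z ⟶ ZB := Over.homMk g₁ rfl
    let G₂ : Z ⟶ ZB := Over.homMk g₂ (by
      show g₂ ≫ q ≫ Spec.map (CommRingCat.ofHom (algebraMap R C)) ≫ j =
        g₁ ≫ q ≫ Spec.map (CommRingCat.ofHom (algebraMap R C)) ≫ j
      calc g₂ ≫ q ≫ Spec.map (CommRingCat.ofHom (algebraMap R C)) ≫ j
          = (g₂ ≫ q ≫ Spec.map (CommRingCat.ofHom (algebraMap R C))) ≫ j := by
            simp only [Category.assoc]
        _ = (g₁ ≫ q ≫ Spec.map (CommRingCat.ofHom (algebraMap R C))) ≫ j := by rw [hqg]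
        _ = g₁ ≫ q ≫ Spec.map (CommRingCat.ofHom (algebraMap R C)) ≫ j := by
            simp only [Category.assoc])
    have hc := claim lam f j X a hps u a₀ l c hl hE (G₁ ≫ zq) (G₂ ≫ zq) (by
        show (g₁ ≫ q) ≫ _ = (g₂ ≫ q) ≫ _
        rw [Category.assoc, Category.assoc]; exact hqg)
      (G₁ ≫ β) (G₂ ≫ β)
      (by rw [gtFn_comp, evHom_comp, evHom_comp, ← map_mul, hβ1])
      (by rw [gtFn_comp, evHom_comp, evHom_comp, ← map_mul, hβ1])
      (by rw [evHom_comp]; exact hA.map (G₁.left.appTop).hom)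
    have h1 : G₁ ≫ smul a β⁻¹ (zq ≫ u) = G₂ ≫ smul a β⁻¹ (zq ≫ u) := by
      rw [comp_smul, comp_smul, GrpObj.comp_inv, GrpObj.comp_inv, ← Category.assoc,
        ← Category.assoc]
      exact hc
    exact congrArg (fun k => k.left) h1
  have hx₀ : πB ≫ EffectiveEpi.desc πB (smul a β⁻¹ (zq ≫ u)).left hcompat =
      (smul a β⁻¹ (zq ≫ u)).left := EffectiveEpi.fac _ _ _
  refine ⟨EffectiveEpi.desc πB (smul a β⁻¹ (zq ≫ u)).left hcompat, ?_⟩
  rw [← cancel_epi πB, ← Category.assoc, hx₀, ← Category.assoc, ← hsq, Category.assoc]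
  exact Over.w (smul a β⁻¹ (zq ≫ u))

/-! ### Local sections -/

theorem local_ring (hreg : IsRegular (base f j lam)) (X : Over S)
    (a : AlgGrp.Action (bc f (SekSuwa.G R₀ lam)) X) (hps : NonAbH1.IsPseudoTorsorSch a)
    (C : CommRingCat.{u}) (ψ : CommRingCat.of R ⟶ C) [Flat (Spec.map ψ)] [Surjective (Spec.map ψ)]
    (p : Spec C ⟶ X.left) (hp : p ≫ X.hom = Spec.map ψ ≫ j) (𝔭 : Ideal R) (h𝔭 : 𝔭.IsPrime) :
    ∃ r : R, r ∉ 𝔭 ∧ ∃ s : Spec (CommRingCat.of (Localization.Away r)) ⟶ X.left,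
      s ≫ X.hom = Spec.map (CommRingCat.ofHom (algebraMap R (Localization.Away r))) ≫ j := by
  let _ : Algebra R C := ψ.hom.toAlgebra
  have hff : Module.FaithfullyFlat R C :=
    (flat_and_surjective_SpecMap_iff ψ).mp ⟨inferInstance, inferInstance⟩
  let u : T j C ⟶ X := Over.homMk p hp
  obtain ⟨r, a₀, hr, ha₀, l, m, c, hlm, hl, hE⟩ := ss_alg R C (base f j lam) hreg
    (gtVal lam f j (gDiff lam f j X a hps u)) (ginvVal lam f j (gDiff lam f j X a hps u))
    (gtVal_unit lam f j _) (cocycle lam f j X a hps u) 𝔭 h𝔭.ne_top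
  refine ⟨r * a₀, ?_, section_of_unit lam f j X a hps C u l m c r a₀ hlm hl hE⟩
  intro h
  exact (h𝔭.mem_or_mem h).elim hr ha₀

theorem local_section (hreg : IsRegular (base f j lam)) (X : Over S)
    (a : AlgGrp.Action (bc f (SekSuwa.G R₀ lam)) X)
    (h : NonAbH1.IsTorsorFor Scheme.fpqcPrecoverage a) (𝔭 : Ideal R) (h𝔭 : 𝔭.IsPrime) :
    ∃ r : R, r ∉ 𝔭 ∧ ∃ s : Spec (CommRingCat.of (Localization.Away r)) ⟶ X.left,
      s ≫ X.hom = Spec.map (CommRingCat.ofHom (algebraMap R (Localization.Away r))) ≫ j := by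
  obtain ⟨C, ψ, p, h1, h2, hp⟩ := exists_ff_point j a h (isAffineHom_G lam f) (flat_G lam f)
  exact local_ring lam f j hreg X a h.1 C ψ p hp 𝔭 h𝔭

/-- **fpqc torsors under `G^(λ)` over a flat `R₀`-scheme (`λ` regular) are Zariski locally
trivial.** -/
theorem main [Flat f] (hlam : IsRegular lam) (X : Over S)
    (a : AlgGrp.Action (bc f (SekSuwa.G R₀ lam)) X)
    (h : NonAbH1.IsTorsorFor Scheme.fpqcPrecoverage a) :
    NonAbH1.IsTorsorFor Scheme.zariskiPrecoverage a := by
  have key : ∀ s : S, ∃ (U : Scheme.{u}) (g : U ⟶ S), IsOpenImmersion g ∧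
      s ∈ Set.range g ∧ NonAbH1.HasSectionOver X g := by
    intro s
    obtain ⟨i, t, ht⟩ := S.affineCover.exists_eq s
    have hreg : IsRegular (base f ((S.affineCover.X i).isoSpec.inv ≫ S.affineCover.f i) lam) :=
      isRegular_base lam f _ hlam
    obtain ⟨r, hr, σ, hσ⟩ := local_section (R := ↑Γ(S.affineCover.X i, ⊤)) lam f
      ((S.affineCover.X i).isoSpec.inv ≫ S.affineCover.f i) hreg X a h
      (((S.affineCover.X i).isoSpec.hom t : PrimeSpectrum ↑Γ(S.affineCover.X i, ⊤)).asIdeal)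
      (PrimeSpectrum.isPrime _)
    refine ⟨_, Spec.map (CommRingCat.ofHom (algebraMap ↑Γ(S.affineCover.X i, ⊤)
      (Localization.Away r))) ≫ ((S.affineCover.X i).isoSpec.inv ≫ S.affineCover.f i),
      inferInstance, ?_, σ, hσ⟩
    have hmem : ((S.affineCover.X i).isoSpec.hom t : PrimeSpectrum ↑Γ(S.affineCover.X i, ⊤)) ∈
        Set.range (PrimeSpectrum.comap (algebraMap ↑Γ(S.affineCover.X i, ⊤)
          (Localization.Away r))) := by
      rw [PrimeSpectrum.localization_away_comap_range (Localization.Away r) r]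
      exact hr
    obtain ⟨𝔮, h𝔮⟩ := hmem
    refine ⟨𝔮, ?_⟩
    rw [Scheme.Hom.comp_apply]
    have h3 : (Spec.map (CommRingCat.ofHom (algebraMap ↑Γ(S.affineCover.X i, ⊤)
        (Localization.Away r)))) 𝔮 = (S.affineCover.X i).isoSpec.hom t := h𝔮
    rw [h3, ← Scheme.Hom.comp_apply, Iso.hom_inv_id_assoc]
    exact ht
  choose U g hg hs hsec using key
  refine ⟨h.1, Presieve.ofArrows U g, ?_, ?_⟩
  · rw [Scheme.ofArrows_mem_precoverage_iff]
    exact ⟨fun s => ⟨s, hs s⟩, hg⟩
  · rintro S' g' ⟨s⟩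
    exact hsec s

end

end Groth.Agent.Lib.Helper28.SSGeom
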