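/-
Helper28 library: torsors (in the "cartesian square" form `G × X ≅ X ×_Y X`) under the general linear
group which are locally trivial for the fpqc topology are locally trivial for the Zariski topology
(Hilbert's theorem 90 for `GL_n`, in Grothendieck's form: `GL_n` is special).
-/
import Groth.Agent.Lib.Helper28.GLPts
import Groth.Agent.Lib.Helper28.GLAlg
import Groth.Agent.Lib.Helper28.SSGeom

set_option autoImplicit false
set_option maxHeartbeats 1600000
universe u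
open CategoryTheory CategoryTheory.Limits AlgebraicGeometry MonoidalCategory
  CartesianMonoidalCategory MonObj GrpObj
open Red
open scoped TensorProduct

namespace Groth.Agent.Lib.Helper28.GLGeom

open Groth.Agent.Lib.Helper13 Groth.Agent.Lib.Helper22
open Groth.Agent.Lib.Helper28.GaTors Groth.Agent.Lib.Helper28.GmTors
open Groth.Agent.Lib.Helper28.GaTorsGeom Groth.Agent.Lib.Helper28.GmTorsGeom
open Groth.Agent.Lib.Helper28.GLPts Groth.Agent.Lib.Helper28.GLAlg
open Groth.Agent.Lib.Helper28.SSGeom (pair_point)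

noncomputable section

variable {S₀ : Scheme.{u}}

/-! ### Free actions with quotient, on points -/

section Free

variable {G X Y : Over S₀} [GrpObj G] (a : AlgGrp.Action G X) (φ : X ⟶ Y)

theorem smul_phi (hcart : IsPullback a.act (snd G X) φ φ) {T : Over S₀} (g : T ⟶ G)
    (x : T ⟶ X) : smul a g x ≫ φ = x ≫ φ := by
  rw [smul_def, Category.assoc, hcart.w, ← Category.assoc, lift_snd]

theorem smul_cancel (hcart : IsPullback a.act (snd G X) φ φ) {T : Over S₀} (g g' : T ⟶ G)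
    (x : T ⟶ X) (h : smul a g x = smul a g' x) : g = g' := by
  have h1 : lift g x = lift g' x := by
    apply hcart.hom_ext
    · exact h
    · rw [lift_snd, lift_snd]
  calc g = lift g x ≫ fst G X := (lift_fst _ _).symm
    _ = lift g' x ≫ fst G X := by rw [h1]
    _ = g' := lift_fst _ _

theorem exists_dv (hcart : IsPullback a.act (snd G X) φ φ) {T : Over S₀} (x₁ x₂ : T ⟶ X)
    (h : x₁ ≫ φ = x₂ ≫ φ) : ∃ g : T ⟶ G, smul a g x₂ = x₁ := by
  refine ⟨hcart.lift x₁ x₂ h ≫ fst G X, ?_⟩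
  have h1 : lift (hcart.lift x₁ x₂ h ≫ fst G X) x₂ = hcart.lift x₁ x₂ h := by
    apply CartesianMonoidalCategory.hom_ext
    · rw [lift_fst]
    · rw [lift_snd, hcart.lift_snd]
  rw [smul_def, h1, hcart.lift_fst]

/-- descent of properties to the quotient morphism -/
theorem phi_left_of_grp (hcart : IsPullback a.act (snd G X) φ φ)
    (hloc : NonAbH1.IsLocallyTrivialFor Scheme.fpqcPrecoverage (Over.mk φ.left : Over Y.left))
    (P : MorphismProperty Scheme.{u}) [P.IsStableUnderBaseChange] [IsZariskiLocalAtTarget P]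
    [P.DescendsAlong (@Surjective ⊓ @Flat ⊓ @QuasiCompact : MorphismProperty Scheme.{u})]
    (hG : P G.hom) : P φ.left := by
  have hc' : IsPullback a.act.left (snd G X).left φ.left φ.left := hcart.map (Over.forget S₀)
  have h1 : P (pullback.snd G.hom X.hom) := P.pullback_snd _ _ hG
  have h3 : (snd G X).left = pullback.snd G.hom X.hom := rfl
  have e : hc'.isoPullback.hom ≫ pullback.snd φ.left φ.left = (snd G X).left :=
    hc'.isoPullback_hom_snd
  have hself : P (pullback.snd φ.left φ.left) := by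
    rw [← P.cancel_left_of_respectsIso hc'.isoPullback.hom, e, h3]
    exact h1
  obtain ⟨Rv, hRv, hsec⟩ := hloc
  refine Groth.Agent.Lib.Helper29.TorsorDesc.of_fpqc P φ.left hRv (fun {U} g hg => ?_)
  obtain ⟨s, hs⟩ := hsec g hg
  have hs' : s ≫ φ.left = g := hs
  rw [← hs']
  exact Groth.Agent.Lib.Helper29.TorsorDesc.snd_comp P φ.left φ.left s hself

end Free

/-! ### The cocycle of a point -/

section Cocycle

variable {G X : Over S₀} [GrpObj G] (a : AlgGrp.Action G X)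
variable {R : Type u} [CommRing R] (j₀ : Spec (CommRingCat.of R) ⟶ S₀)
variable {C : Type u} [CommRing C] [Algebra R C]

theorem cocycle_pts {Y : Over S₀} (φ : X ⟶ Y) (hcart : IsPullback a.act (snd G X) φ φ)
    (u : T j₀ C ⟶ X) (g : T j₀ (C ⊗[R] C) ⟶ G)
    (hg : smul a g (tf j₀ (iL R C) ≫ u) = tf j₀ (iR R C) ≫ u) :
    (tf j₀ (p23 R C) ≫ g) * (tf j₀ (p12 R C) ≫ g) = tf j₀ (p13 R C) ≫ g := by
  have h12 : smul a (tf j₀ (p12 R C) ≫ g) (tf j₀ ((p12 R C).comp (iL R C)) ≫ u) =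
      tf j₀ ((p12 R C).comp (iR R C)) ≫ u := by
    rw [← tf_comp, ← tf_comp, Category.assoc, Category.assoc, ← comp_smul, hg]
  have h13 : smul a (tf j₀ (p13 R C) ≫ g) (tf j₀ ((p13 R C).comp (iL R C)) ≫ u) =
      tf j₀ ((p13 R C).comp (iR R C)) ≫ u := by
    rw [← tf_comp, ← tf_comp, Category.assoc, Category.assoc, ← comp_smul, hg]
  have h23 : smul a (tf j₀ (p23 R C) ≫ g) (tf j₀ ((p23 R C).comp (iL R C)) ≫ u) =
      tf j₀ ((p23 R C).comp (iR R C)) ≫ u := by
    rw [← tf_comp, ← tf_comp, Category.assoc, Category.assoc, ← comp_smul, hg]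
  rw [← e2] at h23
  rw [← e1, e3] at h13
  apply smul_cancel a φ hcart _ _ (tf j₀ ((p12 R C).comp (iL R C)) ≫ u)
  rw [pt_mul_smul, h12, h23, h13]

end Cocycle

/-! ### Matrices of points with values in algebras -/

section Ev

variable (n : ℕ) {R : Type u} [CommRing R] (j₀ : Spec (CommRingCat.of R) ⟶ S₀)
variable {R' : Type u} [CommRing R'] [Algebra R R']

/-- the matrix of a point of `GL_n` with values in `Spec R'` -/
def glVal (x : T j₀ R' ⟶ FrB.GLn n S₀) : Matrix (Fin n) (Fin n) R' :=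
  (glMat n x).map (Scheme.ΓSpecIso (CommRingCat.of R')).hom.hom

theorem glVal_apply (x : T j₀ R' ⟶ FrB.GLn n S₀) (i k : Fin n) :
    glVal n j₀ x i k = (Scheme.ΓSpecIso (CommRingCat.of R')).hom (glMat n x i k) := rfl

theorem glVal_mul (x y : T j₀ R' ⟶ FrB.GLn n S₀) :
    glVal n j₀ (x * y) = glVal n j₀ x * glVal n j₀ y := by
  unfold glVal
  rw [glMat_mul, Matrix.map_mul]

theorem isUnit_det_glVal (x : T j₀ R' ⟶ FrB.GLn n S₀) : IsUnit (glVal n j₀ x).det := by
  have h : (glVal n j₀ x).det =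
      (Scheme.ΓSpecIso (CommRingCat.of R')).hom.hom (glMat n x).det := by
    rw [RingHom.map_det]
    rfl
  rw [h]
  exact (isUnit_det n x).map _

theorem glMat_comp_eq {Z : Over S₀} (k : Z ⟶ T j₀ R') (x : T j₀ R' ⟶ FrB.GLn n S₀) :
    glMat n (k ≫ x) = (glVal n j₀ x).map (evHom j₀ k) := by
  ext i l
  rw [glMat_comp, Matrix.map_apply, Matrix.map_apply, glVal_apply, evHom_apply]
  congr 1
  exact (Iso.hom_inv_id_apply (Scheme.ΓSpecIso (CommRingCat.of R')) (glMat n x i l)).symm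

theorem hom_tf_appTop {R'' : Type u} [CommRing R''] [Algebra R R''] (ψ : R' →ₐ[R] R'')
    (y : Γ((T j₀ R').left, ⊤)) :
    (Scheme.ΓSpecIso (CommRingCat.of R'')).hom ((tf j₀ ψ).left.appTop y) =
      ψ ((Scheme.ΓSpecIso (CommRingCat.of R')).hom y) := by
  have h := specMap_appTop_ΓSpecIso_inv ψ.toRingHom
    ((Scheme.ΓSpecIso (CommRingCat.of R')).hom y)
  have h' : (Scheme.ΓSpecIso (CommRingCat.of R')).inv
      ((Scheme.ΓSpecIso (CommRingCat.of R')).hom y) = y :=
    Iso.hom_inv_id_apply (Scheme.ΓSpecIso (CommRingCat.of R')) y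
  rw [h'] at h
  have h2 : (tf j₀ ψ).left.appTop y = (Scheme.ΓSpecIso (CommRingCat.of R'')).inv
      (ψ ((Scheme.ΓSpecIso (CommRingCat.of R')).hom y)) := h
  rw [h2]
  exact Iso.inv_hom_id_apply (Scheme.ΓSpecIso (CommRingCat.of R'')) _

theorem glVal_tf {R'' : Type u} [CommRing R''] [Algebra R R''] (ψ : R' →ₐ[R] R'')
    (x : T j₀ R' ⟶ FrB.GLn n S₀) : glVal n j₀ (tf j₀ ψ ≫ x) = ψ.mapMatrix (glVal n j₀ x) := by
  ext i l
  rw [glVal_apply, glMat_comp, Matrix.map_apply, AlgHom.mapMatrix_apply, Matrix.map_apply,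
    glVal_apply]
  exact hom_tf_appTop j₀ ψ _

end Ev

/-! ### The key computation -/

section Claim

variable (n : ℕ) {X : Over S₀} (a : AlgGrp.Action (FrB.GLn n S₀) X)
variable {R : Type u} [CommRing R] (j₀ : Spec (CommRingCat.of R) ⟶ S₀)
variable {C : Type u} [CommRing C] [Algebra R C]

theorem claim (u : T j₀ C ⟶ X) (g : T j₀ (C ⊗[R] C) ⟶ FrB.GLn n S₀)
    (hg : smul a g (tf j₀ (iL R C) ≫ u) = tf j₀ (iR R C) ≫ u)
    (V : Matrix (Fin n) (Fin n) C)
    (hV : (iR R C).mapMatrix V = glVal n j₀ g * (iL R C).mapMatrix V)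
    {Z : Over S₀} (z₁ z₂ : Z ⟶ T j₀ C)
    (hz : z₁.left ≫ Spec.map (CommRingCat.ofHom (algebraMap R C)) =
      z₂.left ≫ Spec.map (CommRingCat.ofHom (algebraMap R C)))
    (b₁ b₂ : Z ⟶ FrB.GLn n S₀)
    (hb₁ : glMat n b₁ = V.map (evHom j₀ z₁)) (hb₂ : glMat n b₂ = V.map (evHom j₀ z₂)) :
    smul a b₁⁻¹ (z₁ ≫ u) = smul a b₂⁻¹ (z₂ ≫ u) := by
  obtain ⟨k, hk1, hk2⟩ := pair_point j₀ z₁ z₂ hz
  have h2 : z₂ ≫ u = smul a (k ≫ g) (z₁ ≫ u) := by
    rw [← hk2, ← hk1, Category.assoc, Category.assoc, ← hg, comp_smul]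
  have hm1 : V.map (evHom j₀ z₁) = ((iL R C).mapMatrix V).map (evHom j₀ k) := by
    ext i l
    rw [Matrix.map_apply, Matrix.map_apply, AlgHom.mapMatrix_apply, Matrix.map_apply, ← hk1,
      evHom_tf]
  have hm2 : V.map (evHom j₀ z₂) = ((iR R C).mapMatrix V).map (evHom j₀ k) := by
    ext i l
    rw [Matrix.map_apply, Matrix.map_apply, AlgHom.mapMatrix_apply, Matrix.map_apply, ← hk2,
      evHom_tf]
  have hb2eq : b₂ = (k ≫ g) * b₁ := by
    apply glMat_injective n
    rw [glMat_mul, hb₂, hb₁, glMat_comp_eq, hm1, hm2, hV, Matrix.map_mul]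
  rw [h2, ← pt_mul_smul]
  congr 1
  rw [hb2eq, _root_.mul_inv_rev, _root_.inv_mul_cancel_right]

end Claim

/-! ### Sections over a principal open -/

section Sections

variable (n : ℕ) {X Y : Over S₀} (a : AlgGrp.Action (FrB.GLn n S₀) X) (φ : X ⟶ Y)
variable {R : Type u} [CommRing R] (j₀ : Spec (CommRingCat.of R) ⟶ S₀)
  (jY : Spec (CommRingCat.of R) ⟶ Y.left) (hj : jY ≫ Y.hom = j₀)

/-- the tautological point of `Y` with values in `Spec R'` -/
def yT (R' : Type u) [CommRing R'] [Algebra R R'] : T j₀ R' ⟶ Y :=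
  Over.homMk (Spec.map (CommRingCat.ofHom (algebraMap R R')) ≫ jY) (by
    show (Spec.map (CommRingCat.ofHom (algebraMap R R')) ≫ jY) ≫ Y.hom =
      Spec.map (CommRingCat.ofHom (algebraMap R R')) ≫ j₀
    rw [Category.assoc, hj])

theorem tf_yT {R' R'' : Type u} [CommRing R'] [Algebra R R'] [CommRing R''] [Algebra R R'']
    (ψ : R' →ₐ[R] R'') : tf j₀ ψ ≫ yT j₀ jY hj R' = yT j₀ jY hj R'' := by
  apply Over.OverMorphism.ext
  show Spec.map (CommRingCat.ofHom ψ.toRingHom) ≫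
    Spec.map (CommRingCat.ofHom (algebraMap R R')) ≫ jY =
    Spec.map (CommRingCat.ofHom (algebraMap R R'')) ≫ jY
  rw [← Category.assoc, ← Spec.map_comp, ← CommRingCat.ofHom_comp]
  congr 3
  exact ψ.comp_algebraMap

theorem section_of_unit (hcart : IsPullback a.act (snd (FrB.GLn n S₀) X) φ φ)
    (C : Type u) [CommRing C] [Algebra R C] [Module.FaithfullyFlat R C] (u : T j₀ C ⟶ X)
    (hu : u ≫ φ = yT j₀ jY hj C)
    (g : T j₀ (C ⊗[R] C) ⟶ FrB.GLn n S₀)
    (hg : smul a g (tf j₀ (iL R C) ≫ u) = tf j₀ (iR R C) ≫ u)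
    (V W : Matrix (Fin n) (Fin n) C) (r : R)
    (hV : (iR R C).mapMatrix V = glVal n j₀ g * (iL R C).mapMatrix V)
    (hr : algebraMap R C r = W.det * V.det) :
    ∃ s : Spec (CommRingCat.of (Localization.Away r)) ⟶ X.left,
      s ≫ φ.left = Spec.map (CommRingCat.ofHom (algebraMap R (Localization.Away r))) ≫ jY := by
  obtain ⟨πB, hπB⟩ : ∃ πB : Spec (CommRingCat.of (Localization.Away r ⊗[R] C)) ⟶
      Spec (CommRingCat.of (Localization.Away r)),
      πB = Spec.map (CommRingCat.ofHom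
        (algebraMap (Localization.Away r) (Localization.Away r ⊗[R] C))) := ⟨_, rfl⟩
  obtain ⟨q, hq⟩ : ∃ q : Spec (CommRingCat.of (Localization.Away r ⊗[R] C)) ⟶
      Spec (CommRingCat.of C),
      q = Spec.map (CommRingCat.ofHom (Algebra.TensorProduct.includeRight :
        C →ₐ[R] Localization.Away r ⊗[R] C).toRingHom) := ⟨_, rfl⟩
  have hfs : Flat πB ∧ Surjective πB := by
    rw [hπB]
    exact (flat_and_surjective_SpecMap_iff (CommRingCat.ofHom
      (algebraMap (Localization.Away r) (Localization.Away r ⊗[R] C)))).mpr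
      (RingHom.faithfullyFlat_algebraMap_iff.mpr inferInstance)
  have := hfs.1
  have := hfs.2
  haveI : QuasiCompact πB := by rw [hπB]; infer_instance
  have hsq : q ≫ Spec.map (CommRingCat.ofHom (algebraMap R C)) =
      πB ≫ Spec.map (CommRingCat.ofHom (algebraMap R (Localization.Away r))) := by
    rw [hq, hπB, ← Spec.map_comp, ← Spec.map_comp, ← CommRingCat.ofHom_comp,
      ← CommRingCat.ofHom_comp]
    congr 2
    rw [AlgHom.toRingHom_eq_coe, AlgHom.comp_algebraMap]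
    exact IsScalarTower.algebraMap_eq R (Localization.Away r) (Localization.Away r ⊗[R] C)
  let ZB : Over S₀ := Over.mk (q ≫ (T j₀ C).hom)
  let zq : ZB ⟶ T j₀ C := Over.homMk q rfl
  have hru : IsUnit (algebraMap R (Localization.Away r ⊗[R] C) r) := by
    rw [IsScalarTower.algebraMap_apply R (Localization.Away r) (Localization.Away r ⊗[R] C)]
    exact (IsLocalization.Away.algebraMap_isUnit r).map _
  have hev : ∀ x : C, evHom j₀ zq x =
      (Scheme.ΓSpecIso (CommRingCat.of (Localization.Away r ⊗[R] C))).inv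
      ((Algebra.TensorProduct.includeRight : C →ₐ[R] Localization.Away r ⊗[R] C) x) := by
    intro x
    show q.appTop ((Scheme.ΓSpecIso (CommRingCat.of C)).inv x) = _
    rw [hq]
    exact specMap_appTop_ΓSpecIso_inv _ x
  have hdetV : IsUnit (V.map (evHom j₀ zq)).det := by
    have h1 : (V.map (evHom j₀ zq)).det = evHom j₀ zq V.det := by
      rw [RingHom.map_det]
      rfl
    rw [h1]
    apply isUnit_of_mul_isUnit_right (x := evHom j₀ zq W.det)
    rw [← map_mul, ← hr, hev, AlgHom.commutes]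
    exact hru.map
      (Scheme.ΓSpecIso (CommRingCat.of (Localization.Away r ⊗[R] C))).inv.hom
  obtain ⟨β, hβ⟩ := exists_glMat_eq n (Z := ZB) (V.map (evHom j₀ zq)) hdetV
  have hcompat : ∀ {Z' : Scheme.{u}}
      (g₁ g₂ : Z' ⟶ Spec (CommRingCat.of (Localization.Away r ⊗[R] C))),
      g₁ ≫ πB = g₂ ≫ πB →
        g₁ ≫ (smul a β⁻¹ (zq ≫ u)).left = g₂ ≫ (smul a β⁻¹ (zq ≫ u)).left := by
    intro Z' g₁ g₂ hgg
    have hqg : g₁ ≫ q ≫ Spec.map (CommRingCat.ofHom (algebraMap R C)) =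
        g₂ ≫ q ≫ Spec.map (CommRingCat.ofHom (algebraMap R C)) := by
      rw [hsq, ← Category.assoc, ← Category.assoc, hgg]
    let Z : Over S₀ := Over.mk (g₁ ≫ ZB.hom)
    let G₁ : Z ⟶ ZB := Over.homMk g₁ rfl
    let G₂ : Z ⟶ ZB := Over.homMk g₂ (by
      show g₂ ≫ q ≫ Spec.map (CommRingCat.ofHom (algebraMap R C)) ≫ j₀ =
        g₁ ≫ q ≫ Spec.map (CommRingCat.ofHom (algebraMap R C)) ≫ j₀
      calc g₂ ≫ q ≫ Spec.map (CommRingCat.ofHom (algebraMap R C)) ≫ j₀
          = (g₂ ≫ q ≫ Spec.map (CommRingCat.ofHom (algebraMap R C))) ≫ j₀ := by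
            simp only [Category.assoc]
        _ = (g₁ ≫ q ≫ Spec.map (CommRingCat.ofHom (algebraMap R C))) ≫ j₀ := by rw [hqg]
        _ = g₁ ≫ q ≫ Spec.map (CommRingCat.ofHom (algebraMap R C)) ≫ j₀ := by
            simp only [Category.assoc])
    have hmap : ∀ (Gi : Z ⟶ ZB), glMat n (Gi ≫ β) = V.map (evHom j₀ (Gi ≫ zq)) := by
      intro Gi
      rw [glMat_comp, hβ]
      ext i l
      rw [Matrix.map_apply, Matrix.map_apply, Matrix.map_apply, evHom_comp]
    have hc := claim n a j₀ u g hg V hV (G₁ ≫ zq) (G₂ ≫ zq) (by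
        show (g₁ ≫ q) ≫ _ = (g₂ ≫ q) ≫ _
        rw [Category.assoc, Category.assoc]; exact hqg)
      (G₁ ≫ β) (G₂ ≫ β) (hmap G₁) (hmap G₂)
    have h1 : G₁ ≫ smul a β⁻¹ (zq ≫ u) = G₂ ≫ smul a β⁻¹ (zq ≫ u) := by
      rw [comp_smul, comp_smul, GrpObj.comp_inv, GrpObj.comp_inv, ← Category.assoc,
        ← Category.assoc]
      exact hc
    exact congrArg (fun k => k.left) h1
  have hx₀ : πB ≫ EffectiveEpi.desc πB (smul a β⁻¹ (zq ≫ u)).left hcompat =
      (smul a β⁻¹ (zq ≫ u)).left := EffectiveEpi.fac _ _ _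
  refine ⟨EffectiveEpi.desc πB (smul a β⁻¹ (zq ≫ u)).left hcompat, ?_⟩
  rw [← cancel_epi πB, ← Category.assoc, hx₀, ← Category.assoc, ← hsq, Category.assoc]
  have h3 : smul a β⁻¹ (zq ≫ u) ≫ φ = zq ≫ yT j₀ jY hj C := by
    rw [smul_phi a φ hcart, Category.assoc, hu]
  exact congrArg (fun k => k.left) h3

end Sections

/-! ### Local sections -/

section Local

variable (n : ℕ) {X Y : Over S₀} (a : AlgGrp.Action (FrB.GLn n S₀) X) (φ : X ⟶ Y)
variable {R : Type u} [CommRing R] (jY : Spec (CommRingCat.of R) ⟶ Y.left)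

theorem local_ring (hcart : IsPullback a.act (snd (FrB.GLn n S₀) X) φ φ)
    (C : CommRingCat.{u}) (ψ : CommRingCat.of R ⟶ C) [Flat (Spec.map ψ)] [Surjective (Spec.map ψ)]
    (p : Spec C ⟶ X.left) (hp : p ≫ φ.left = Spec.map ψ ≫ jY) (𝔭 : Ideal R) (h𝔭 : 𝔭 ≠ ⊤) :
    ∃ r : R, r ∉ 𝔭 ∧ ∃ s : Spec (CommRingCat.of (Localization.Away r)) ⟶ X.left,
      s ≫ φ.left = Spec.map (CommRingCat.ofHom (algebraMap R (Localization.Away r))) ≫ jY := by
  obtain ⟨j₀, hj⟩ : ∃ j₀ : Spec (CommRingCat.of R) ⟶ S₀, jY ≫ Y.hom = j₀ := ⟨_, rfl⟩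
  let _ : Algebra R C := ψ.hom.toAlgebra
  have hff : Module.FaithfullyFlat R C :=
    (flat_and_surjective_SpecMap_iff ψ).mp ⟨inferInstance, inferInstance⟩
  have hpX : p ≫ X.hom = Spec.map (CommRingCat.ofHom (algebraMap R C)) ≫ j₀ := by
    have hw : φ.left ≫ Y.hom = X.hom := Over.w φ
    rw [← hw, ← Category.assoc, hp, Category.assoc, hj]
    rfl
  let u : T j₀ C ⟶ X := Over.homMk p hpX
  have hu : u ≫ φ = yT j₀ jY hj C := by
    apply Over.OverMorphism.ext
    exact hp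
  have hdiff : (tf j₀ (iR R C) ≫ u) ≫ φ = (tf j₀ (iL R C) ≫ u) ≫ φ := by
    rw [Category.assoc, Category.assoc, hu, tf_yT, tf_yT]
  obtain ⟨g, hg⟩ := exists_dv a φ hcart (tf j₀ (iR R C) ≫ u) (tf j₀ (iL R C) ≫ u) hdiff
  have hcoc : (p23 R C).mapMatrix (glVal n j₀ g) * (p12 R C).mapMatrix (glVal n j₀ g) =
      (p13 R C).mapMatrix (glVal n j₀ g) := by
    have := congrArg (glVal n j₀) (cocycle_pts a j₀ φ hcart u g hg)
    rw [glVal_mul, glVal_tf, glVal_tf, glVal_tf] at this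
    exact this
  obtain ⟨r, hr, V, W, hV, hrVW⟩ := gl_alg (glVal n j₀ g) (isUnit_det_glVal n j₀ g) hcoc 𝔭 h𝔭
  exact ⟨r, hr, section_of_unit n a φ j₀ jY hj hcart C u hu g hg V W r hV hrVW⟩

theorem exists_ff_point {G : Over S₀} [GrpObj G] (a : AlgGrp.Action G X)
    (hcart : IsPullback a.act (snd G X) φ φ)
    (hloc : NonAbH1.IsLocallyTrivialFor Scheme.fpqcPrecoverage (Over.mk φ.left : Over Y.left))
    (hGaff : IsAffineHom G.hom) (hGflat : Flat G.hom) :
    ∃ (C : CommRingCat.{u}) (ψ : CommRingCat.of R ⟶ C) (p : Spec C ⟶ X.left),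
      Flat (Spec.map ψ) ∧ Surjective (Spec.map ψ) ∧ p ≫ φ.left = Spec.map ψ ≫ jY := by
  haveI : MorphismProperty.DescendsAlong @IsAffineHom
      (@Surjective ⊓ @Flat ⊓ @QuasiCompact : MorphismProperty Scheme.{u}) :=
    Groth.Agent.S0082.result
  have hXaff : IsAffineHom φ.left := phi_left_of_grp a φ hcart hloc @IsAffineHom hGaff
  have hXflat : Flat φ.left := phi_left_of_grp a φ hcart hloc @Flat hGflat
  have hXsurj : Surjective φ.left := phi_left_of_grp a φ hcart hloc @Surjective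
    (Groth.Agent.Lib.Helper29.TorsorDesc.surjective_of_grp _)
  haveI : IsAffineHom (pullback.snd φ.left jY) :=
    MorphismProperty.pullback_snd (P := @IsAffineHom) _ _ hXaff
  haveI : Flat (pullback.snd φ.left jY) := MorphismProperty.pullback_snd (P := @Flat) _ _ hXflat
  haveI : Surjective (pullback.snd φ.left jY) :=
    MorphismProperty.pullback_snd (P := @Surjective) _ _ hXsurj
  haveI : IsAffine (pullback φ.left jY) := isAffine_of_isAffineHom (pullback.snd φ.left jY)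
  have hψ : Spec.map (Spec.preimage ((pullback φ.left jY).isoSpec.inv ≫ pullback.snd φ.left jY)) =
      (pullback φ.left jY).isoSpec.inv ≫ pullback.snd φ.left jY := Spec.map_preimage _
  refine ⟨Γ(pullback φ.left jY, ⊤),
    Spec.preimage ((pullback φ.left jY).isoSpec.inv ≫ pullback.snd φ.left jY),
    (pullback φ.left jY).isoSpec.inv ≫ pullback.fst φ.left jY, ?_, ?_, ?_⟩
  · rw [hψ]; infer_instance
  · rw [hψ]; infer_instance
  · rw [hψ, Category.assoc, Category.assoc, pullback.condition]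

theorem local_section (hcart : IsPullback a.act (snd (FrB.GLn n S₀) X) φ φ)
    (hloc : NonAbH1.IsLocallyTrivialFor Scheme.fpqcPrecoverage (Over.mk φ.left : Over Y.left))
    (𝔭 : Ideal R) (h𝔭 : 𝔭 ≠ ⊤) :
    ∃ r : R, r ∉ 𝔭 ∧ ∃ s : Spec (CommRingCat.of (Localization.Away r)) ⟶ X.left,
      s ≫ φ.left = Spec.map (CommRingCat.ofHom (algebraMap R (Localization.Away r))) ≫ jY := by
  obtain ⟨C, ψ, p, h1, h2, hp⟩ := exists_ff_point φ jY a hcart hloc (isAffineHom_GLn n S₀)
    (flat_GLn_hom n S₀)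
  exact local_ring n a φ jY hcart C ψ p hp 𝔭 h𝔭

end Local

/-- **`GL_n` is special**: fpqc-locally trivial `GL_n`-torsors are Zariski-locally trivial. -/
theorem main (n : ℕ) {X Y : Over S₀} (a : AlgGrp.Action (FrB.GLn n S₀) X) (φ : X ⟶ Y)
    (hcart : IsPullback a.act (snd (FrB.GLn n S₀) X) φ φ)
    (hloc : NonAbH1.IsLocallyTrivialFor Scheme.fpqcPrecoverage (Over.mk φ.left : Over Y.left)) :
    NonAbH1.IsLocallyTrivialFor Scheme.zariskiPrecoverage (Over.mk φ.left : Over Y.left) := by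
  have key : ∀ s : Y.left, ∃ (U : Scheme.{u}) (g : U ⟶ Y.left), IsOpenImmersion g ∧
      s ∈ Set.range g ∧ NonAbH1.HasSectionOver (Over.mk φ.left : Over Y.left) g := by
    intro s
    obtain ⟨i, t, ht⟩ := Y.left.affineCover.exists_eq s
    obtain ⟨r, hr, σ, hσ⟩ := local_section (R := ↑Γ(Y.left.affineCover.X i, ⊤)) n a φ
      ((Y.left.affineCover.X i).isoSpec.inv ≫ Y.left.affineCover.f i) hcart hloc
      (((Y.left.affineCover.X i).isoSpec.hom t :
        PrimeSpectrum ↑Γ(Y.left.affineCover.X i, ⊤)).asIdeal)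
      (PrimeSpectrum.isPrime _).ne_top
    refine ⟨_, Spec.map (CommRingCat.ofHom (algebraMap ↑Γ(Y.left.affineCover.X i, ⊤)
      (Localization.Away r))) ≫ ((Y.left.affineCover.X i).isoSpec.inv ≫ Y.left.affineCover.f i),
      inferInstance, ?_, σ, hσ⟩
    have hmem : ((Y.left.affineCover.X i).isoSpec.hom t :
        PrimeSpectrum ↑Γ(Y.left.affineCover.X i, ⊤)) ∈
        Set.range (PrimeSpectrum.comap (algebraMap ↑Γ(Y.left.affineCover.X i, ⊤)
          (Localization.Away r))) := by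
      rw [PrimeSpectrum.localization_away_comap_range (Localization.Away r) r]
      exact hr
    obtain ⟨𝔮, h𝔮⟩ := hmem
    refine ⟨𝔮, ?_⟩
    rw [Scheme.Hom.comp_apply]
    have h3 : (Spec.map (CommRingCat.ofHom (algebraMap ↑Γ(Y.left.affineCover.X i, ⊤)
        (Localization.Away r)))) 𝔮 = (Y.left.affineCover.X i).isoSpec.hom t := h𝔮
    rw [h3, ← Scheme.Hom.comp_apply, Iso.hom_inv_id_assoc]
    exact ht
  choose U g hg hs hsec using key
  refine ⟨Presieve.ofArrows U g, ?_, ?_⟩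
  · rw [Scheme.ofArrows_mem_precoverage_iff]
    exact ⟨fun s => ⟨s, hs s⟩, hg⟩
  · rintro S' g' ⟨s⟩
    exact hsec s

end

end Groth.Agent.Lib.Helper28.GLGeom
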