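import Groth.Prelude.Def_W4c5flasquetoriphsGLat
import Mathlib

/-!
# Permutation lattices: basic facts (helper28)

* `permRep G X` : the permutation representation of `G` on `X →₀ ℤ` for a `G`-set `X`.
* `isPermutation_permRep`.
* `permRep_h1` : `H¹(H, ℤ[X]) = 0` for a finite subgroup, in the elementary cocycle form of `GLat.IsCoflasque`.
-/

set_option autoImplicit false

namespace Groth.Agent.Lib.Helper28

open Finsupp

section perm

variable (G : Type) [Group G] (X : Type) [MulAction G X]

/-- the permutation representation on `X →₀ ℤ` -/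
noncomputable def permRep : Representation ℤ G (X →₀ ℤ) where
  toFun g := Finsupp.lmapDomain ℤ ℤ (g • ·)
  map_one' := by
    refine LinearMap.ext fun p => ?_
    simp only [lmapDomain_apply, one_smul]
    exact Finsupp.mapDomain_id
  map_mul' g h := by
    refine LinearMap.ext fun p => ?_
    simp only [lmapDomain_apply, Module.End.mul_apply]
    rw [← Finsupp.mapDomain_comp]
    congr 1
    funext x
    exact mul_smul g h x

variable {G X}

@[simp] theorem permRep_single (g : G) (x : X) (r : ℤ) :
    permRep G X g (single x r) = single (g • x) r := by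
  simp [permRep, lmapDomain_apply, mapDomain_single]

theorem permRep_apply (g : G) (p : X →₀ ℤ) (x : X) :
    permRep G X g p x = p (g⁻¹ • x) := by
  have : permRep G X g p = Finsupp.mapDomain (MulAction.toPerm g) p := rfl
  rw [this, Finsupp.mapDomain_equiv_apply]
  rfl

theorem isPermutation_permRep : GLat.IsPermutation (permRep G X) :=
  ⟨X, Finsupp.basisSingleOne, fun g x => ⟨g • x, by simp [Finsupp.basisSingleOne]⟩⟩

/-- `H¹(H, ℤ[X]) = 0`: every 1-cocycle of a finite subgroup with values in a permutation module is a
coboundary. -/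
theorem permRep_h1 (H : Subgroup G) [Finite H] (F : H → (X →₀ ℤ))
    (hF : ∀ a b : H, F (a * b) = F a + permRep G X (a : G) (F b)) :
    ∃ p : X →₀ ℤ, ∀ a : H, F a = permRep G X (a : G) p - p := by
  classical
  have : Fintype H := Fintype.ofFinite H
  set n : ℤ := (Fintype.card H : ℤ) with hn
  have hn0 : n ≠ 0 := by
    rw [hn]
    exact_mod_cast Fintype.card_ne_zero
  set s : X →₀ ℤ := ∑ h : H, F h with hs
  -- key identity
  have key : ∀ a : H, permRep G X (a : G) s = s - n • F a := by
    intro a
    have h1 : ∀ h : H, permRep G X (a : G) (F h) = F (a * h) - F a := by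
      intro h; rw [hF a h]; abel
    rw [hs, map_sum]
    simp only [h1, Finset.sum_sub_distrib, Finset.sum_const, Finset.card_univ]
    rw [Fintype.sum_equiv (Equiv.mulLeft a) (fun x => F (a * x)) F (fun h => rfl), hn,
      Nat.cast_smul_eq_nsmul]
  refine ⟨Finsupp.mapRange (fun z : ℤ => -(z / n)) (by simp) s, fun a => ?_⟩
  ext x
  have hk := DFunLike.congr_fun (key a) x
  rw [permRep_apply] at hk
  simp only [Finsupp.coe_sub, Pi.sub_apply, Finsupp.coe_smul, Pi.smul_apply, smul_eq_mul] at hk
  simp only [Finsupp.coe_sub, Pi.sub_apply, permRep_apply, Finsupp.mapRange_apply]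
  rw [hk]
  have : (s x - n * (F a) x) / n = s x / n - (F a) x := by
    rw [sub_eq_add_neg, ← mul_neg, Int.add_mul_ediv_left _ _ hn0]
    ring
  rw [this]
  ring

theorem isCoflasque_permRep [Finite G] : GLat.IsCoflasque (permRep G X) := by
  intro H f hf
  exact permRep_h1 H f hf

end perm

section ext

variable {G : Type} [Group G] {M' M M'' : Type} [AddCommGroup M'] [AddCommGroup M] [AddCommGroup M'']
  {σ' : Representation ℤ G M'} {σ : Representation ℤ G M} {σ'' : Representation ℤ G M''}

/-- An extension of a coflasque module by a coflasque module is coflasque. -/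
theorem isCoflasque_of_exact (i : M' →ₗ[ℤ] M) (p : M →ₗ[ℤ] M'')
    (hi : GLat.IsEquivariant σ' σ i) (hp : GLat.IsEquivariant σ σ'' p)
    (hinj : Function.Injective i) (hsurj : Function.Surjective p)
    (hex : LinearMap.range i = LinearMap.ker p)
    (h' : GLat.IsCoflasque σ') (h'' : GLat.IsCoflasque σ'') : GLat.IsCoflasque σ := by
  intro H f hf
  -- push the cocycle to `M''`
  obtain ⟨m'', hm''⟩ := h'' H (fun a => p (f a)) (fun a b => by
    simp only [hf a b, map_add, hp (a : G) (f b)])
  obtain ⟨m0, rfl⟩ := hsurj m''
  -- the corrected cocycle takes values in the image of `i`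
  have hker : ∀ a : H, f a - (σ (a : G) m0 - m0) ∈ LinearMap.range i := by
    intro a
    rw [hex, LinearMap.mem_ker, map_sub, map_sub, hm'' a, hp (a : G) m0, sub_self]
  choose c hc using hker
  have hcoc : ∀ a b : H, c (a * b) = c a + σ' (a : G) (c b) := by
    intro a b
    apply hinj
    rw [map_add, hi (a : G) (c b), hc, hc, hc, hf a b, map_sub, map_sub, Subgroup.coe_mul, map_mul,
      Module.End.mul_apply]
    abel
  obtain ⟨m', hm'⟩ := h' H c hcoc
  refine ⟨m0 + i m', fun a => ?_⟩
  have := hc a
  rw [hm' a, map_sub, hi (a : G) m'] at this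
  rw [map_add]
  rw [sub_eq_iff_eq_add] at this
  rw [this]
  abel

end ext

end Groth.Agent.Lib.Helper28
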