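import Groth.Agent.Lib.Helper28.GLat

/-!
# Flasque lattices: norms, augmentation submodules, `Ĥ⁻¹` of permutation modules (helper28)
-/

set_option autoImplicit false

namespace Groth.Agent.Lib.Helper28

open Finsupp

section aug

variable {G : Type} [Group G] {M : Type} [AddCommGroup M] (ρ : Representation ℤ G M)

/-- the augmentation submodule `I_H M`, spanned by the `h • y - y` -/
def augSub (H : Subgroup G) : Submodule ℤ M :=
  Submodule.span ℤ {x : M | ∃ (h : H) (y : M), x = ρ (h : G) y - y}

theorem sub_mem_augSub (H : Subgroup G) (h : H) (y : M) : ρ (h : G) y - y ∈ augSub ρ H :=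
  Submodule.subset_span ⟨h, y, rfl⟩

variable (H : Subgroup G) [Fintype H]

/-- the norm map of a finite subgroup -/
noncomputable def normL : M →ₗ[ℤ] M := ∑ h : H, ρ (h : G)

theorem normL_apply (m : M) : normL ρ H m = ∑ h : H, ρ (h : G) m := by
  simp [normL, LinearMap.sum_apply]

theorem smul_normL (a : H) (m : M) : ρ (a : G) (normL ρ H m) = normL ρ H m := by
  rw [normL_apply, map_sum]
  exact Fintype.sum_equiv (Equiv.mulLeft a) _ _ (fun h => by simp [map_mul])

theorem normL_smul (a : H) (m : M) : normL ρ H (ρ (a : G) m) = normL ρ H m := by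
  rw [normL_apply, normL_apply]
  exact Fintype.sum_equiv (Equiv.mulRight a) _ _ (fun h => by simp [map_mul])

theorem normL_augSub {x : M} (hx : x ∈ augSub ρ H) : normL ρ H x = 0 := by
  induction hx using Submodule.span_induction with
  | mem x hx =>
    obtain ⟨h, y, rfl⟩ := hx
    rw [map_sub, normL_smul, sub_self]
  | zero => simp
  | add x y _ _ hx hy => rw [map_add, hx, hy, add_zero]
  | smul k x _ hx => rw [map_smul, hx, smul_zero]

theorem normL_of_fixed (m : M) (hm : ∀ h : H, ρ (h : G) m = m) :
    normL ρ H m = (Fintype.card H : ℤ) • m := by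
  rw [normL_apply]
  simp only [hm, Finset.sum_const, Finset.card_univ, Nat.cast_smul_eq_nsmul]

variable {N : Type} [AddCommGroup N] (σ : Representation ℤ G N) (f : M →ₗ[ℤ] N)
  (hf : GLat.IsEquivariant ρ σ f)

include hf in
theorem map_normL (m : M) : f (normL ρ H m) = normL σ H (f m) := by
  rw [normL_apply, normL_apply, map_sum]
  exact Finset.sum_congr rfl (fun h _ => hf h m)

omit [Fintype H] in
include hf in
theorem map_augSub {x : M} (hx : x ∈ augSub ρ H) : f x ∈ augSub σ H := by
  induction hx using Submodule.span_induction with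
  | mem x hx =>
    obtain ⟨h, y, rfl⟩ := hx
    rw [map_sub, hf]
    exact sub_mem_augSub σ H h (f y)
  | zero => simp
  | add x y _ _ hx hy => rw [map_add]; exact add_mem hx hy
  | smul k x _ hx => rw [map_smul]; exact Submodule.smul_mem _ _ hx

end aug

section flasque

variable {G : Type} [Group G] [Finite G] {M : Type} [AddCommGroup M] (ρ : Representation ℤ G M)

theorem isFlasque_of
    (h : ∀ (H : Subgroup G) [Fintype H] (m : M), normL ρ H m = 0 → m ∈ augSub ρ H) :
    GLat.IsFlasque ρ := by
  intro H m hm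
  have : Fintype H := Fintype.ofFinite H
  rw [finsum_eq_sum_of_fintype, ← normL_apply] at hm
  exact h H m hm

variable {ρ}

theorem mem_augSub_of_isFlasque (hρ : GLat.IsFlasque ρ) (H : Subgroup G) [Fintype H] (m : M)
    (hm : normL ρ H m = 0) : m ∈ augSub ρ H := by
  apply hρ H m
  rw [finsum_eq_sum_of_fintype, ← normL_apply]
  exact hm

variable {M' M'' : Type} [AddCommGroup M'] [AddCommGroup M'']
  {σ' : Representation ℤ G M'} {σ'' : Representation ℤ G M''}

/-- An extension of a flasque module by a flasque module is flasque. -/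
theorem isFlasque_of_exact (i : M' →ₗ[ℤ] M) (p : M →ₗ[ℤ] M'')
    (hi : GLat.IsEquivariant σ' ρ i) (hp : GLat.IsEquivariant ρ σ'' p)
    (hinj : Function.Injective i) (hsurj : Function.Surjective p)
    (hex : LinearMap.range i = LinearMap.ker p)
    (h' : GLat.IsFlasque σ') (h'' : GLat.IsFlasque σ'') : GLat.IsFlasque ρ := by
  refine isFlasque_of ρ (fun H _ m hm => ?_)
  -- the image in `M''` lies in the augmentation submodule
  have h1 : p m ∈ augSub σ'' H := by
    apply mem_augSub_of_isFlasque h''
    rw [← map_normL ρ H σ'' p hp, hm, map_zero]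
  -- lift it
  have lift : ∀ z ∈ augSub σ'' H, ∃ w ∈ augSub ρ H, p w = z := by
    intro z hz
    induction hz using Submodule.span_induction with
    | mem z hz =>
      obtain ⟨h, y, rfl⟩ := hz
      obtain ⟨y0, rfl⟩ := hsurj y
      exact ⟨ρ (h : G) y0 - y0, sub_mem_augSub ρ H h y0, by rw [map_sub, hp]⟩
    | zero => exact ⟨0, zero_mem _, map_zero _⟩
    | add x y _ _ hx hy =>
      obtain ⟨w1, hw1, rfl⟩ := hx
      obtain ⟨w2, hw2, rfl⟩ := hy
      exact ⟨w1 + w2, add_mem hw1 hw2, map_add _ _ _⟩
    | smul k x _ hx =>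
      obtain ⟨w1, hw1, rfl⟩ := hx
      exact ⟨k • w1, Submodule.smul_mem _ _ hw1, map_smul _ _ _⟩
  obtain ⟨w, hw, hpw⟩ := lift _ h1
  have h2 : m - w ∈ LinearMap.range i := by
    rw [hex, LinearMap.mem_ker, map_sub, hpw, sub_self]
  obtain ⟨m', hm'⟩ := h2
  have h3 : normL σ' H m' = 0 := by
    apply hinj
    rw [map_normL σ' H ρ i hi, hm', map_sub, hm, normL_augSub ρ H hw, sub_self, map_zero]
  have h4 : i m' ∈ augSub ρ H := map_augSub σ' H ρ i hi (mem_augSub_of_isFlasque h' H m' h3)
  have : m = w + i m' := by rw [hm']; abel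
  rw [this]
  exact add_mem hw h4

end flasque

section perm

variable {G X : Type} [Group G] [Finite G] [MulAction G X]

/-- `Ĥ⁻¹(H, ℤ[X]) = 0` : permutation modules are flasque. -/
theorem isFlasque_permRep : GLat.IsFlasque (permRep G X) := by
  refine isFlasque_of _ (fun H _ φ hφ => ?_)
  classical
  let s : Setoid X := MulAction.orbitRel H X
  let mk : X → Quotient s := Quotient.mk s
  let q : (X →₀ ℤ) →ₗ[ℤ] (Quotient s →₀ ℤ) := Finsupp.lmapDomain ℤ ℤ mk
  have hq : ∀ (h : H) (ψ : X →₀ ℤ), q (permRep G X (h : G) ψ) = q ψ := by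
    intro h ψ
    change Finsupp.mapDomain mk (Finsupp.mapDomain ((h : G) • ·) ψ) = Finsupp.mapDomain mk ψ
    rw [← Finsupp.mapDomain_comp]
    congr 1
    funext x
    exact Quotient.sound (show (h : G) • x ∈ MulAction.orbit H x from ⟨h, rfl⟩)
  have hq0 : q φ = 0 := by
    have : q (normL (permRep G X) H φ) = Fintype.card H • q φ := by
      rw [normL_apply, map_sum]
      simp only [hq, Finset.sum_const, Finset.card_univ]
    rw [hφ, map_zero] at this
    exact (smul_eq_zero.mp this.symm).resolve_left Fintype.card_ne_zero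
  let r : X → X := fun x => (mk x).out
  have hr : ∀ x, ∃ h : H, r x = (h : G) • x := by
    intro x
    have : r x ∈ MulAction.orbit H x := (MulAction.orbitRel_apply).mp (Quotient.mk_out x)
    obtain ⟨h, hh⟩ := this
    exact ⟨h, hh.symm⟩
  have key : ∀ ψ : X →₀ ℤ, Finsupp.mapDomain r ψ - ψ ∈ augSub (permRep G X) H := by
    intro ψ
    induction ψ using Finsupp.induction_linear with
    | zero => simp
    | add ψ ψ' h1 h2 =>
      rw [Finsupp.mapDomain_add, add_sub_add_comm]
      exact add_mem h1 h2
    | single x c =>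
      obtain ⟨h, hh⟩ := hr x
      rw [Finsupp.mapDomain_single, hh, ← permRep_single]
      exact sub_mem_augSub _ H h _
  have h0 : Finsupp.mapDomain r φ = 0 := by
    have : Finsupp.mapDomain r φ = Finsupp.mapDomain Quotient.out (q φ) := by
      change _ = Finsupp.mapDomain Quotient.out (Finsupp.mapDomain mk φ)
      rw [← Finsupp.mapDomain_comp]
      rfl
    rw [this, hq0, Finsupp.mapDomain_zero]
  have := key φ
  rw [h0, zero_sub] at this
  exact neg_mem_iff.mp this

end perm

section lattice

/-- In a finite free `ℤ`-module, an element all of whose coordinates (values of functionals) are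
divisible by `k` is divisible by `k`. -/
theorem exists_smul_eq_of_forall_dual_dvd {M : Type} [AddCommGroup M] [Module.Finite ℤ M]
    [Module.Free ℤ M] (x : M) (k : ℤ) (h : ∀ μ : Module.Dual ℤ M, k ∣ μ x) : ∃ y : M, x = k • y := by
  let b := Module.Free.chooseBasis ℤ M
  refine ⟨b.equivFun.symm (fun j => b.coord j x / k), ?_⟩
  apply b.equivFun.injective
  rw [map_smul, LinearEquiv.apply_symm_apply]
  funext j
  have := h (b.coord j)
  simp only [Pi.smul_apply, smul_eq_mul, Module.Basis.equivFun_apply]
  rw [Int.mul_ediv_cancel' this]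
  rfl

variable {G : Type} [Group G] {A : Type} [AddCommGroup A] [Module.Finite ℤ A] [Module.Free ℤ A]
  (ρ : Representation ℤ G A) (H : Subgroup G) [Fintype H]

/-- An `H`-invariant element on which every `H`-invariant functional takes a value divisible by
`|H|` is a norm. -/
theorem exists_normL_eq (a : A) (ha : ∀ h : H, ρ (h : G) a = a)
    (hdvd : ∀ l : Module.Dual ℤ A, (∀ h : H, ρ.dual (h : G) l = l) → (Fintype.card H : ℤ) ∣ l a) :
    ∃ b : A, a = normL ρ H b := by
  classical
  have hn0 : (Fintype.card H : ℤ) ≠ 0 := by exact_mod_cast Fintype.card_ne_zero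
  -- the saturation of the augmentation submodule
  let T : Submodule ℤ A :=
    { carrier := {x | ∃ k : ℤ, k ≠ 0 ∧ k • x ∈ augSub ρ H}
      zero_mem' := ⟨1, one_ne_zero, by simp⟩
      add_mem' := by
        rintro x y ⟨k, hk, hx⟩ ⟨l, hl, hy⟩
        refine ⟨k * l, mul_ne_zero hk hl, ?_⟩
        have e : (k * l) • (x + y) = l • (k • x) + k • (l • y) := by
          rw [smul_add, mul_smul, mul_smul, smul_comm k l x]
        rw [e]
        exact add_mem (Submodule.smul_mem _ _ hx) (Submodule.smul_mem _ _ hy)
      smul_mem' := by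
        rintro c x ⟨k, hk, hx⟩
        exact ⟨k, hk, by rw [smul_comm]; exact Submodule.smul_mem _ _ hx⟩ }
  have hIT : augSub ρ H ≤ T := fun x hx => ⟨1, one_ne_zero, by simpa using hx⟩
  have tfL : Module.IsTorsionFree ℤ (A ⧸ T) := by
    refine Module.IsTorsionFree.of_smul_eq_zero fun k m hkm => ?_
    by_cases hk : k = 0
    · exact Or.inl hk
    · right
      obtain ⟨x, rfl⟩ := Submodule.mkQ_surjective T m
      rw [← map_smul, Submodule.mkQ_apply, Submodule.Quotient.mk_eq_zero] at hkm
      obtain ⟨l, hl, hx⟩ := hkm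
      rw [Submodule.mkQ_apply, Submodule.Quotient.mk_eq_zero]
      exact ⟨l * k, mul_ne_zero hl hk, by rw [mul_smul]; exact hx⟩
  have freeL : Module.Free ℤ (A ⧸ T) := Module.free_of_finite_type_torsion_free'
  -- every functional on the quotient gives an invariant functional
  have hdvd' : ∀ μ : Module.Dual ℤ (A ⧸ T), (Fintype.card H : ℤ) ∣ μ (T.mkQ a) := by
    intro μ
    refine hdvd (μ ∘ₗ T.mkQ) (fun h => ?_)
    refine LinearMap.ext fun x => ?_
    rw [Representation.dual_apply, Module.Dual.transpose_apply, LinearMap.comp_apply,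
      LinearMap.comp_apply, LinearMap.comp_apply]
    congr 1
    rw [Submodule.mkQ_apply, Submodule.mkQ_apply, Submodule.Quotient.eq]
    apply hIT
    have := sub_mem_augSub ρ H h⁻¹ x
    simpa using this
  obtain ⟨bb, hbb⟩ := exists_smul_eq_of_forall_dual_dvd (T.mkQ a) _ hdvd'
  obtain ⟨b, rfl⟩ := Submodule.mkQ_surjective T bb
  refine ⟨b, ?_⟩
  rw [← map_smul, Submodule.mkQ_apply, Submodule.mkQ_apply, Submodule.Quotient.eq] at hbb
  obtain ⟨k, hk, hx⟩ := hbb
  have h1 := normL_augSub ρ H hx
  rw [map_smul, map_sub, map_smul, normL_of_fixed ρ H a ha, ← smul_sub] at h1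
  have h2 := (smul_eq_zero.mp h1).resolve_left hk
  have h3 := (smul_eq_zero.mp h2).resolve_left hn0
  exact sub_eq_zero.mp h3

end lattice

end Groth.Agent.Lib.Helper28
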