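import Groth.Prelude.Def_W4c6eohyperellchar2Gc
import Mathlib.FieldTheory.Perfect
import Mathlib.Algebra.CharP.Two
import Mathlib.LinearAlgebra.Pi

/-!
# Basic computations in the explicit module `GcMod c k` with its operators `F`, `V`
-/

set_option autoImplicit false
set_option linter.unusedSectionVars false
universe u

namespace Groth.Agent.Lib.Helper28.GcMod

open W4c6eohyperellchar2

variable (c : ℕ) (k : Type u) [Field k] [CharP k 2] [PerfectRing k 2]

theorem coefX_X (n m : ℕ) :
    coefX (X c k n) m = if 1 ≤ m ∧ m ≤ c ∧ m = n then 1 else 0 := by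
  unfold coefX X
  by_cases h : 1 ≤ m ∧ m ≤ c
  · rw [dif_pos h]
    simp only
    by_cases h2 : m = n
    · rw [if_pos (by omega), if_pos ⟨h.1, h.2, h2⟩]
    · rw [if_neg (by omega), if_neg (by tauto)]
  · rw [dif_neg h, if_neg (by tauto)]

theorem coefY_X (n m : ℕ) : coefY (X c k n) m = 0 := by
  unfold coefY X
  split_ifs <;> rfl

theorem coefX_Y (n m : ℕ) : coefX (Y c k n) m = 0 := by
  unfold coefX Y
  split_ifs <;> rfl

theorem coefY_Y (n m : ℕ) :
    coefY (Y c k n) m = if 1 ≤ m ∧ m ≤ c ∧ m = n then 1 else 0 := by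
  unfold coefY Y
  by_cases h : 1 ≤ m ∧ m ≤ c
  · rw [dif_pos h]
    simp only
    by_cases h2 : m = n
    · rw [if_pos (by omega), if_pos ⟨h.1, h.2, h2⟩]
    · rw [if_neg (by omega), if_neg (by tauto)]
  · rw [dif_neg h, if_neg (by tauto)]

theorem F_X_even (m : ℕ) (h : 2 * m ≤ c) : F c k (X c k (2 * m)) = X c k m := by
  unfold F
  refine Prod.ext ?_ ?_
  · funext i
    simp only [coefX_X]
    unfold X
    simp only
    by_cases h2 : i.val + 1 = m
    · rw [if_pos (by omega), if_pos h2, one_pow]
    · rw [if_neg (by omega), if_neg h2]; simp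
  · funext i
    simp only [coefX_X]
    unfold X
    simp only
    rw [if_neg (by omega)]; simp

theorem F_X_odd (m : ℕ) (h : 2 * m + 1 ≤ c) : F c k (X c k (2 * m + 1)) = Y c k (c - m) := by
  unfold F
  refine Prod.ext ?_ ?_
  · funext i
    simp only [coefX_X]
    unfold Y
    simp only
    rw [if_neg (by omega)]; simp
  · funext i
    have hi := i.isLt
    simp only [coefX_X]
    unfold Y
    simp only
    by_cases h2 : i.val + 1 = c - m
    · rw [if_pos (by omega), if_pos h2, one_pow]
    · rw [if_neg (by omega), if_neg h2]; simp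

theorem F_Y (n : ℕ) : F c k (Y c k n) = 0 := by
  unfold F
  refine Prod.ext ?_ ?_
  · funext i
    simp [coefX_Y]
  · funext i
    simp [coefX_Y]

theorem V_X (n : ℕ) (h1 : 1 ≤ n) (h : n ≤ c) : V c k (X c k n) = Y c k (2 * c - 2 * n + 1) := by
  unfold V
  refine Prod.ext ?_ ?_
  · rfl
  · funext i
    have hi := i.isLt
    simp only [coefX_X, coefY_X]
    unfold Y
    simp only
    by_cases hpar : (i.val + 1) % 2 = 0
    · rw [if_pos hpar, if_neg (by omega), map_zero]
    · rw [if_neg hpar]
      by_cases h2 : i.val + 1 = 2 * c - 2 * n + 1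
      · rw [if_pos (by omega), if_pos h2, map_one]
      · rw [if_neg (by omega), if_neg h2, map_zero]

theorem V_Y (n : ℕ) : V c k (Y c k n) = Y c k (2 * n) := by
  unfold V
  refine Prod.ext ?_ ?_
  · rfl
  · funext i
    have hi := i.isLt
    simp only [coefX_Y, coefY_Y]
    unfold Y
    simp only
    by_cases hpar : (i.val + 1) % 2 = 0
    · rw [if_pos hpar]
      by_cases h2 : i.val + 1 = 2 * n
      · rw [if_pos (by omega), if_pos h2, map_one]
      · rw [if_neg (by omega), if_neg h2, map_zero]
    · rw [if_neg hpar, if_neg (by omega), map_zero]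

theorem F_iterate_X (e l : ℕ) (h : 2 ^ e * l ≤ c) :
    (F c k)^[e] (X c k (2 ^ e * l)) = X c k l := by
  induction e with
  | zero => simp
  | succ e ih =>
    rw [Function.iterate_succ_apply]
    have h1 : 2 ^ (e + 1) * l = 2 * (2 ^ e * l) := by ring
    rw [h1, F_X_even c k _ (by omega)]
    exact ih (by omega)

theorem V_iterate_Y (n m : ℕ) : (V c k)^[n] (Y c k m) = Y c k (2 ^ n * m) := by
  induction n generalizing m with
  | zero => simp
  | succ n ih =>
    rw [Function.iterate_succ_apply, V_Y, ih]
    congr 1; ring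

theorem add_self (v : GcMod c k) : v + v = 0 := by
  refine Prod.ext ?_ ?_ <;> funext i <;> exact CharTwo.add_self_eq_zero _

/-- Every vector is the sum of its coordinates times the basis vectors. -/
theorem eq_sum (v : GcMod c k) :
    v = (Finset.univ.sum fun i : Fin c => v.1 i • X c k (i.val + 1)) +
      (Finset.univ.sum fun i : Fin c => v.2 i • Y c k (i.val + 1)) := by
  refine Prod.ext ?_ ?_
  · funext i
    simp only [Prod.fst_add, Prod.fst_sum, Prod.smul_fst, Pi.add_apply, Finset.sum_apply,
      Pi.smul_apply, smul_eq_mul]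
    unfold X Y
    simp only [Pi.zero_apply, mul_zero, Finset.sum_const_zero, add_zero]
    rw [Finset.sum_eq_single i]
    · simp
    · intro b _ hb
      rw [if_neg, mul_zero]
      intro h
      exact hb (Fin.ext (by omega))
    · intro h; exact absurd (Finset.mem_univ i) h
  · funext i
    simp only [Prod.snd_add, Prod.snd_sum, Prod.smul_snd, Pi.add_apply, Finset.sum_apply,
      Pi.smul_apply, smul_eq_mul]
    unfold X Y
    simp only [Pi.zero_apply, mul_zero, Finset.sum_const_zero, zero_add]
    rw [Finset.sum_eq_single i]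
    · simp
    · intro b _ hb
      rw [if_neg, mul_zero]
      intro h
      exact hb (Fin.ext (by omega))
    · intro h; exact absurd (Finset.mem_univ i) h

/-- A subspace containing all `X_n`, `Y_n` (`1 ≤ n ≤ c`) is everything. -/
theorem eq_top_of_mem (N : Submodule k (GcMod c k))
    (hX : ∀ n, 1 ≤ n → n ≤ c → X c k n ∈ N) (hY : ∀ n, 1 ≤ n → n ≤ c → Y c k n ∈ N) : N = ⊤ := by
  rw [Submodule.eq_top_iff']
  intro v
  rw [eq_sum c k v]
  refine N.add_mem (N.sum_mem fun i _ => N.smul_mem _ (hX _ (by omega) (by have := i.isLt; omega)))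
    (N.sum_mem fun i _ => N.smul_mem _ (hY _ (by omega) (by have := i.isLt; omega)))

/-- `Y_m` lies in the range of `V` for `1 ≤ m ≤ c`. -/
theorem Y_mem_range_V (m : ℕ) (h1 : 1 ≤ m) (h : m ≤ c) : Y c k m ∈ Set.range (V c k) := by
  rcases Nat.even_or_odd' m with ⟨t, rfl | rfl⟩
  · exact ⟨Y c k t, V_Y c k t⟩
  · refine ⟨X c k (c - t), ?_⟩
    rw [V_X c k _ (by omega) (by omega)]
    congr 1; omega

/-- The statement of S19042: a subspace stable under `F`, `V` containing the `X_j`, `c < 2j ≤ 2c`,
is everything. -/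
theorem eq_top_of_stable (N : Submodule k (GcMod c k))
    (hF : ∀ v ∈ N, F c k v ∈ N) (hV : ∀ v ∈ N, V c k v ∈ N)
    (hX : ∀ j : ℕ, c < 2 * j → j ≤ c → X c k j ∈ N) : N = ⊤ := by
  have hXall : ∀ d n, c - n = d → 1 ≤ n → n ≤ c → X c k n ∈ N := by
    intro d
    induction d using Nat.strong_induction_on with
    | _ d ih =>
      intro n hd h1 hn
      by_cases h2 : c < 2 * n
      · exact hX n h2 hn
      · have := ih (c - 2 * n) (by omega) (2 * n) rfl (by omega) (by omega)
        have h3 := hF _ this
        rwa [F_X_even c k n (by omega)] at h3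
  have hYall : ∀ m, 1 ≤ m → m ≤ c → Y c k m ∈ N := by
    intro m
    induction m using Nat.strong_induction_on with
    | _ m ih =>
      intro h1 hm
      rcases Nat.even_or_odd' m with ⟨t, rfl | rfl⟩
      · have := hV _ (ih t (by omega) (by omega) (by omega))
        rwa [V_Y] at this
      · have := hV _ (hXall _ (c - t) rfl (by omega) (by omega))
        rw [V_X c k _ (by omega) (by omega)] at this
        have h4 : 2 * c - 2 * (c - t) + 1 = 2 * t + 1 := by omega
        rwa [h4] at this
  exact eq_top_of_mem c k N (fun n h1 h => hXall _ n rfl h1 h) hYall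

end Groth.Agent.Lib.Helper28.GcMod
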