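import Mathlib
import Groth.Agent.Lib.Helper28.GenFibreRed
import Groth.Agent.Lib.Helper28.GenFibreTop
import Groth.Agent.Lib.Helper28.FibreChart

/-!
# Non-reducedness of the generic fibre spreads out: schemes (helper28)
-/

set_option autoImplicit false
set_option linter.style.haveILetI false
universe u
open AlgebraicGeometry CategoryTheory Limits TensorProduct

namespace Groth.Agent.Lib.Helper28.GenFibreRedSch

open Groth.Agent.Lib.Helper28.GenFibre Groth.Agent.Lib.Helper28.GenFibreTop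
  Groth.Agent.Lib.Helper28.FibreChart Groth.Agent.Lib.Helper3

theorem not_isReduced_fibre_near_generic_point {X Y : Scheme.{u}} (f : X ⟶ Y)
    [IrreducibleSpace ↑Y] [LocallyOfFiniteType f]
    (h : ¬ IsReduced (f.fiber (genericPoint ↑Y))) :
    ∃ V : Y.Opens, (V : Set ↑Y).Nonempty ∧ ∀ y ∈ V, ¬ IsReduced (f.fiber y) := by
  classical
  set η := genericPoint ↑Y with hη
  obtain ⟨_, ⟨W, hW, rfl⟩, hηW, -⟩ :=
    Y.isBasis_affineOpens.exists_subset_of_mem_open (Set.mem_univ η) isOpen_univ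
  -- a chart with non-reduced generic fibre
  obtain ⟨U, hU, hUW, hnr⟩ : ∃ (U : X.Opens) (_ : IsAffineOpen U) (hUW : U ≤ f ⁻¹ᵁ W),
      ¬ (letI := (f.appLE W U hUW).hom.toAlgebra
         letI := (Y.evaluation W η hηW).hom.toAlgebra
         _root_.IsReduced (Y.residueField η ⊗[Γ(Y, W)] Γ(X, U))) := by
    by_contra hcon
    push_neg at hcon
    exact h (isReduced_fiber_of_charts f η W hW hηW hcon)
  letI algRB : Algebra Γ(Y, W) Γ(X, U) := (f.appLE W U hUW).hom.toAlgebra
  haveI : Algebra.FiniteType Γ(Y, W) Γ(X, U) := f.finiteType_appLE hW hU hUW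
  letI algRK : Algebra Γ(Y, W) (Y.residueField η) := (Y.evaluation W η hηW).hom.toAlgebra
  have hp₀ := primeIdealOf_genericPoint_le_nilradical hW hηW
  obtain ⟨g, hg, hgL⟩ := not_isReduced_spread' (R := Γ(Y, W)) (B := Γ(X, U))
    (hW.primeIdealOf ⟨η, hηW⟩).asIdeal hp₀ (Y.residueField η)
    (ker_evaluation W hW η hηW) (evaluation_frac W hW η hηW) hnr
  refine ⟨Y.basicOpen g, ⟨η, (mem_basicOpen_iff_notMem_primeIdealOf hW η hηW g).2 hg⟩, ?_⟩
  intro y hy hred
  have hyW : y ∈ W := Y.basicOpen_le g hy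
  letI algRL : Algebra Γ(Y, W) (Y.residueField y) := (Y.evaluation W y hyW).hom.toAlgebra
  have hne : algebraMap Γ(Y, W) (Y.residueField y) g ≠ 0 :=
    (Y.evaluation_ne_zero_iff_mem_basicOpen y hyW g).2 hy
  exact hgL (Y.residueField y) hne (isReduced_chart_of_isReduced_fiber f y W hW hyW U hU hUW)

end Groth.Agent.Lib.Helper28.GenFibreRedSch
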