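import Mathlib

/-!
# Generically finite morphisms: algebra

`R ⊆ S` domains, `S` of finite type over `R`, `K = Frac R`, `L = Frac S`.
-/

set_option autoImplicit false
universe u

namespace Groth.Agent.Lib.Helper28.GenFin

open scoped nonZeroDivisors

section Alg

variable {R S K L : Type u} [CommRing R] [IsDomain R] [CommRing S] [IsDomain S] [Field K] [Field L]
  [Algebra R S] [Algebra R K] [Algebra S L] [Algebra K L] [Algebra R L] [IsScalarTower R S L]
  [IsScalarTower R K L] [IsFractionRing R K] [IsFractionRing S L]

include K L in
omit [IsDomain S] in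
theorem faithfulSMul : FaithfulSMul R S := by
  rw [faithfulSMul_iff_algebraMap_injective]
  have h1 : Function.Injective (algebraMap R L) := by
    rw [IsScalarTower.algebraMap_eq R K L]
    exact (algebraMap K L).injective.comp (IsFractionRing.injective R K)
  rw [IsScalarTower.algebraMap_eq R S L] at h1
  exact Function.Injective.of_comp h1

theorem isAlgebraic_of_finite [Module.Finite K L] : Algebra.IsAlgebraic R S := by
  constructor
  intro s
  have h1 : IsAlgebraic K (algebraMap S L s) := Algebra.IsAlgebraic.isAlgebraic _
  have h2 : IsAlgebraic R (algebraMap S L s) := (IsFractionRing.isAlgebraic_iff R K L).mpr h1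
  exact (isAlgebraic_algebraMap_iff (IsFractionRing.injective S L)).mp h2

theorem finite_of_isAlgebraic [FaithfulSMul R S] [Algebra.FiniteType R S]
    [Algebra.IsAlgebraic R S] : Module.Finite K L := by
  have hloc : IsLocalization (Algebra.algebraMapSubmonoid S R⁰) L := inferInstance
  have hloc' : IsLocalization (R⁰.map (algebraMap R S)) L := hloc
  have h1 : (algebraMap R S).FiniteType := RingHom.finiteType_algebraMap.mpr inferInstance
  have h2 := RingHom.finiteType_localizationPreserves (algebraMap R S) R⁰ K L h1
  have h3 : (IsLocalization.map L (algebraMap R S) (Submonoid.le_comap_map R⁰) : K →+* L) =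
      algebraMap K L := by
    apply IsLocalization.ringHom_ext R⁰
    rw [IsLocalization.map_comp, ← IsScalarTower.algebraMap_eq, ← IsScalarTower.algebraMap_eq]
  rw [h3, RingHom.finiteType_algebraMap] at h2
  have h0 : FaithfulSMul R L := by
    rw [faithfulSMul_iff_algebraMap_injective, IsScalarTower.algebraMap_eq R K L]
    exact (algebraMap K L).injective.comp (IsFractionRing.injective R K)
  have h4 : Algebra.IsAlgebraic R L := (IsFractionRing.isAlgebraic_iff' R S L).mp inferInstance
  have h5 : Algebra.IsAlgebraic K L := IsFractionRing.comap_isAlgebraic_iff.mp h4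
  have h6 : Algebra.IsIntegral K L := Algebra.IsAlgebraic.isIntegral
  exact Algebra.IsIntegral.finite

theorem eq_bot_of_comap_eq_bot [FaithfulSMul R S] [Algebra.IsAlgebraic R S] (q : Ideal S)
    [q.IsPrime] (h : q.comap (algebraMap R S) = ⊥) : q = ⊥ := by
  rw [eq_bot_iff]
  intro s hs
  by_contra hs0
  obtain ⟨r, hr0, hdvd⟩ := (Algebra.IsAlgebraic.isAlgebraic (R := R) s).exists_nonzero_dvd
    (mem_nonZeroDivisors_of_ne_zero hs0)
  have : r ∈ q.comap (algebraMap R S) := by
    rw [Ideal.mem_comap]
    exact Ideal.mem_of_dvd _ hdvd hs
  rw [h] at this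
  exact hr0 this

omit [IsDomain S] in
theorem exists_finite_away [Algebra.FiniteType R S] [Algebra.IsAlgebraic R S] :
    ∃ r : R, r ≠ 0 ∧ ∀ (R' S' : Type u) [CommRing R'] [CommRing S'] [Algebra R R'] [Algebra S S']
      [IsLocalization.Away r R'] [IsLocalization.Away (algebraMap R S r) S'] (ψ : R' →+* S'),
      ψ.comp (algebraMap R R') = (algebraMap S S').comp (algebraMap R S) → ψ.Finite := by
  obtain ⟨t, ht⟩ := (Algebra.FiniteType.out : (⊤ : Subalgebra R S).FG)
  obtain ⟨r, hr0, hr⟩ := Algebra.IsAlgebraic.exists_integral_multiples R t
  refine ⟨r, hr0, ?_⟩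
  intro R' S' _ _ _ _ _ _ ψ hψ
  have h1 : (algebraMap R S).FiniteType := RingHom.finiteType_algebraMap.mpr inferInstance
  have hψ' : ψ = IsLocalization.Away.map R' S' (algebraMap R S) r := by
    apply IsLocalization.ringHom_ext (Submonoid.powers r)
    rw [hψ, IsLocalization.Away.map, IsLocalization.map_comp]
  have hft : ψ.FiniteType := by
    rw [hψ']
    exact RingHom.localization_away_map_finiteType R S R' S' (algebraMap R S) r h1
  refine RingHom.IsIntegral.to_finite ?_ hft
  let _ := ψ.toAlgebra
  have halg : algebraMap R' S' = ψ := rfl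
  -- the inverse of r
  obtain ⟨u, hu⟩ : ∃ u : R', u * algebraMap R R' r = 1 := by
    have := IsLocalization.Away.algebraMap_isUnit (S := R') r
    obtain ⟨v, hv⟩ := this
    exact ⟨↑v⁻¹, by rw [← hv]; simp⟩
  have claim1 : ∀ s : S, algebraMap S S' s ∈ integralClosure R' S' := by
    intro s
    have hs : s ∈ Algebra.adjoin R (t : Set S) := by rw [ht]; trivial
    induction hs using Algebra.adjoin_induction with
    | mem z hz =>
      have h2 : IsIntegral R' (algebraMap S S' (r • z)) :=
        IsIntegral.map_of_comp_eq (algebraMap R R') (algebraMap S S') hψ (hr z hz)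
      have h3 : algebraMap S S' z = algebraMap R' S' u * algebraMap S S' (r • z) := by
        rw [Algebra.smul_def, map_mul, ← mul_assoc, halg]
        have : (algebraMap S S') ((algebraMap R S) r) = ψ (algebraMap R R' r) := by
          have := RingHom.congr_fun hψ r
          simpa using this.symm
        rw [this, ← map_mul, hu, map_one, one_mul]
      rw [h3]
      exact Subalgebra.mul_mem _ (Subalgebra.algebraMap_mem _ u) h2
    | algebraMap a =>
      have : (algebraMap S S') ((algebraMap R S) a) = algebraMap R' S' (algebraMap R R' a) := by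
        have := RingHom.congr_fun hψ a
        rw [halg]
        simpa using this.symm
      rw [this]
      exact Subalgebra.algebraMap_mem _ _
    | add x y _ _ hx hy => rw [map_add]; exact Subalgebra.add_mem _ hx hy
    | mul x y _ _ hx hy => rw [map_mul]; exact Subalgebra.mul_mem _ hx hy
  intro x
  change IsIntegral R' x
  obtain ⟨s, ⟨_, n, rfl⟩, rfl⟩ := IsLocalization.exists_mk'_eq
    (Submonoid.powers (algebraMap R S r)) x
  have h4 : IsLocalization.mk' S' s (⟨(algebraMap R S r) ^ n, n, rfl⟩ :
      Submonoid.powers (algebraMap R S r)) = algebraMap S S' s * algebraMap R' S' (u ^ n) := by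
    rw [IsLocalization.mk'_eq_iff_eq_mul]
    rw [mul_assoc]
    have : (algebraMap R' S') (u ^ n) * (algebraMap S S') ((algebraMap R S r) ^ n) = 1 := by
      have h5 : (algebraMap S S') ((algebraMap R S) r) = ψ (algebraMap R R' r) := by
        have := RingHom.congr_fun hψ r
        simpa using this.symm
      rw [map_pow, map_pow, h5, halg, ← mul_pow, ← map_mul, hu, map_one, one_pow]
    rw [this, mul_one]
  rw [h4]
  exact Subalgebra.mul_mem _ (claim1 s) (Subalgebra.algebraMap_mem _ _)

omit K L in
theorem isAlgebraic_of_forall_prime [FaithfulSMul R S] [Algebra.FiniteType R S]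
    (h : ∀ q : Ideal S, q.IsPrime → q.comap (algebraMap R S) = ⊥ → q = ⊥) :
    Algebra.IsAlgebraic R S := by
  let N := Algebra.algebraMapSubmonoid S R⁰
  have hN : N ≤ S⁰ :=
    map_le_nonZeroDivisors_of_injective _ (FaithfulSMul.algebraMap_injective R S) le_rfl
  have hdom : IsDomain (Localization N) := IsLocalization.isDomain_localization hN
  have hT : ∀ P : Ideal (Localization N), P.IsPrime → P = ⊥ := by
    intro P hP
    have hq := h (P.comap (algebraMap S (Localization N))) inferInstance ?_
    · rw [← IsLocalization.map_comap N (Localization N) P]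
      change Ideal.map _ (Ideal.comap (algebraMap S (Localization N)) P) = ⊥
      rw [hq, Ideal.map_bot]
    · rw [eq_bot_iff]
      intro r hr
      by_contra hr0
      have hu : IsUnit (algebraMap S (Localization N) (algebraMap R S r)) :=
        IsLocalization.map_units (Localization N)
          (⟨algebraMap R S r, r, mem_nonZeroDivisors_of_ne_zero hr0, rfl⟩ : N)
      exact hP.ne_top (Ideal.eq_top_of_isUnit_mem _ hr hu)
  have hfield : IsField (Localization N) := by
    by_contra hnf
    obtain ⟨p, hp0, hp⟩ := Ring.not_isField_iff_exists_prime.mp hnf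
    exact hp0 (hT p hp)
  let _ : Field (Localization N) := hfield.toField
  have h1 : (algebraMap R S).FiniteType := RingHom.finiteType_algebraMap.mpr inferInstance
  have hloc' : IsLocalization (R⁰.map (algebraMap R S)) (Localization N) :=
    inferInstanceAs (IsLocalization N (Localization N))
  have h2 := RingHom.finiteType_localizationPreserves (algebraMap R S) R⁰ (Localization R⁰)
    (Localization N) h1
  have hft : Algebra.FiniteType (Localization R⁰) (Localization N) :=
    RingHom.finiteType_algebraMap.mp h2
  have hjac : IsJacobsonRing (Localization R⁰) :=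
    inferInstanceAs (IsJacobsonRing (FractionRing R))
  have hfin : Module.Finite (Localization R⁰) (Localization N) :=
    finite_of_finite_type_of_isJacobsonRing _ _
  have halg : Algebra.IsIntegral (Localization R⁰) (Localization N) := inferInstance
  constructor
  intro s
  have h3 : IsIntegral (Localization R⁰) (algebraMap S (Localization N) s) :=
    Algebra.IsIntegral.isIntegral _
  have h4 : IsAlgebraic R (algebraMap S (Localization N) s) :=
    (IsFractionRing.isAlgebraic_iff R (Localization R⁰) (Localization N)).mpr h3.isAlgebraic
  exact (isAlgebraic_algebraMap_iff (IsLocalization.injective (Localization N) hN)).mp h4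

end Alg

open AlgebraicGeometry CategoryTheory

section Bridge

variable {X Y : Scheme.{u}} [IsIntegral X] [IsIntegral Y]

lemma genericPoint_mem (U : X.Opens) [h : Nonempty U] : genericPoint X ∈ U :=
  ((genericPoint_spec X).mem_open_set_iff U.isOpen).mpr (by simpa using h)

omit [IsIntegral Y] in
lemma residue_genericPoint_bijective :
    Function.Bijective (X.residue (genericPoint X)).hom := by
  refine ⟨?_, X.residue_surjective _⟩
  have : Function.Injective ((X.residue (genericPoint X)).hom :
      X.functionField →+* X.residueField (genericPoint X)) := RingHom.injective _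
  exact this

omit [IsIntegral Y] in
lemma isFractionRing_residueField (U : X.Opens) (hU : IsAffineOpen U) [Nonempty U] (x : X)
    (hx : x ∈ U) (hgen : x = genericPoint X) :
    letI := (X.evaluation U x hx).hom.toAlgebra
    IsFractionRing Γ(X, U) (X.residueField x) := by
  subst hgen
  letI := (X.evaluation U _ hx).hom.toAlgebra
  have h1 := functionField_isFractionRing_of_isAffineOpen X U hU
  let e : X.functionField ≃+* X.residueField (genericPoint X) :=
    RingEquiv.ofBijective _ residue_genericPoint_bijective
  let e' : X.functionField ≃ₐ[Γ(X, U)] X.residueField (genericPoint X) :=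
    { e with commutes' := fun r => rfl }
  exact IsLocalization.isLocalization_of_algEquiv _ e'

lemma map_genericPoint (f : X ⟶ Y) [IsDominant f] : f (genericPoint X) = genericPoint Y := by
  have h1 := (genericPoint_spec X).image f.continuous
  rw [Set.image_univ, f.denseRange.closure_range] at h1
  exact ((genericPoint_spec Y).eq h1).symm

/-- The main bridge: finiteness of the function field extension is equivalent to algebraicity
of `Γ(X, U)` over `Γ(Y, V)` for any nonempty affine opens `U ≤ f⁻¹ V`. -/
theorem finite_residueField_iff_isAlgebraic (f : X ⟶ Y) [IsDominant f] [LocallyOfFiniteType f]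
    {U : X.Opens} {V : Y.Opens} (hU : IsAffineOpen U) (hV : IsAffineOpen V) [Nonempty U]
    (hUV : U ≤ f ⁻¹ᵁ V) :
    (@Module.Finite (Y.residueField (f (genericPoint X))) (X.residueField (genericPoint X)) _ _
      (f.residueFieldMap (genericPoint X)).hom.toAlgebra.toModule) ↔
    (@Algebra.IsAlgebraic Γ(Y, V) Γ(X, U) _ _ (f.appLE V U hUV).hom.toAlgebra) := by
  have hξU : genericPoint X ∈ U := genericPoint_mem U
  have hfξV : f (genericPoint X) ∈ V := hUV hξU
  have : Nonempty V := ⟨⟨f (genericPoint X), hfξV⟩⟩
  letI algRS := (f.appLE V U hUV).hom.toAlgebra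
  letI algRK := (Y.evaluation V (f (genericPoint X)) hfξV).hom.toAlgebra
  letI algSL := (X.evaluation U (genericPoint X) hξU).hom.toAlgebra
  letI algKL := (f.residueFieldMap (genericPoint X)).hom.toAlgebra
  letI algRL := ((algebraMap Γ(X, U) (X.residueField (genericPoint X))).comp
    (algebraMap Γ(Y, V) Γ(X, U))).toAlgebra
  have tw1 : IsScalarTower Γ(Y, V) Γ(X, U) (X.residueField (genericPoint X)) :=
    .of_algebraMap_eq' rfl
  have tw2 : IsScalarTower Γ(Y, V) (Y.residueField (f (genericPoint X)))
      (X.residueField (genericPoint X)) := by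
    refine .of_algebraMap_eq' ?_
    change (X.evaluation U (genericPoint X) hξU).hom.comp (f.appLE V U hUV).hom =
      (f.residueFieldMap (genericPoint X)).hom.comp
        (Y.evaluation V (f (genericPoint X)) hfξV).hom
    rw [← CommRingCat.hom_comp, ← CommRingCat.hom_comp, Scheme.evaluation_naturality]
    congr 1
    rw [Scheme.Hom.appLE, Category.assoc]
    congr 1
    rw [Scheme.evaluation, Scheme.evaluation, ← Category.assoc, X.presheaf.germ_res]
  have fr1 : IsFractionRing Γ(Y, V) (Y.residueField (f (genericPoint X))) :=
    isFractionRing_residueField V hV _ hfξV (map_genericPoint f)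
  have fr2 : IsFractionRing Γ(X, U) (X.residueField (genericPoint X)) :=
    isFractionRing_residueField U hU _ hξU rfl
  have ft : Algebra.FiniteType Γ(Y, V) Γ(X, U) :=
    RingHom.finiteType_algebraMap.mp
      (HasRingHomProperty.appLE (P := @LocallyOfFiniteType) f inferInstance ⟨V, hV⟩ ⟨U, hU⟩ hUV)
  have hfaith : FaithfulSMul Γ(Y, V) Γ(X, U) :=
    faithfulSMul (K := Y.residueField (f (genericPoint X)))
      (L := X.residueField (genericPoint X))
  constructor
  · intro h
    exact isAlgebraic_of_finite (K := Y.residueField (f (genericPoint X)))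
      (L := X.residueField (genericPoint X))
  · intro h
    exact finite_of_isAlgebraic (R := Γ(Y, V)) (S := Γ(X, U))

theorem appLE_injective (f : X ⟶ Y) [IsDominant f]
    {U : X.Opens} {V : Y.Opens} (hU : IsAffineOpen U) (hV : IsAffineOpen V) [Nonempty U]
    (hUV : U ≤ f ⁻¹ᵁ V) : Function.Injective (f.appLE V U hUV).hom := by
  have hξU : genericPoint X ∈ U := genericPoint_mem U
  have hfξV : f (genericPoint X) ∈ V := hUV hξU
  have : Nonempty V := ⟨⟨f (genericPoint X), hfξV⟩⟩
  letI algRK := (Y.evaluation V (f (genericPoint X)) hfξV).hom.toAlgebra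
  have fr1 : IsFractionRing Γ(Y, V) (Y.residueField (f (genericPoint X))) :=
    isFractionRing_residueField V hV _ hfξV (map_genericPoint f)
  have h1 : Function.Injective ((f.residueFieldMap (genericPoint X)).hom.comp
      (Y.evaluation V (f (genericPoint X)) hfξV).hom) :=
    (f.residueFieldMap (genericPoint X)).hom.injective.comp
      (IsFractionRing.injective Γ(Y, V) (Y.residueField (f (genericPoint X))))
  have h2 : (X.evaluation U (genericPoint X) hξU).hom.comp (f.appLE V U hUV).hom =
      (f.residueFieldMap (genericPoint X)).hom.comp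
        (Y.evaluation V (f (genericPoint X)) hfξV).hom := by
    rw [← CommRingCat.hom_comp, ← CommRingCat.hom_comp, Scheme.evaluation_naturality]
    congr 1
    rw [Scheme.Hom.appLE, Category.assoc]
    congr 1
    rw [Scheme.evaluation, Scheme.evaluation, ← Category.assoc, X.presheaf.germ_res]
  rw [← h2, RingHom.coe_comp] at h1
  exact Function.Injective.of_comp h1

end Bridge

end Groth.Agent.Lib.Helper28.GenFin
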