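import Groth.Agent.Lib.Helper28.GenFin

/-!
# Generically finite morphisms: scheme-level statements
-/

set_option autoImplicit false
universe u

namespace Groth.Agent.Lib.Helper28.GenFin

open AlgebraicGeometry CategoryTheory

variable {X Y : Scheme.{u}}

lemma isFinite_resLE_iff (f : X ⟶ Y) {U : X.Opens} {V : Y.Opens} (hU : IsAffineOpen U)
    (hV : IsAffineOpen V) (e : U ≤ f ⁻¹ᵁ V) :
    IsFinite (f.resLE V U e) ↔ (f.appLE V U e).hom.Finite := by
  have : IsAffine V.toScheme := hV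
  have : IsAffine U.toScheme := hU
  rw [HasAffineProperty.iff_of_isAffine (P := @IsFinite), and_iff_right ‹IsAffine U.toScheme›]
  rw [Scheme.Hom.appTop, Scheme.Hom.resLE_app_top]
  rw [CommRingCat.hom_comp, RingHom.finite_respectsIso.cancel_left_isIso,
    CommRingCat.hom_comp, RingHom.finite_respectsIso.cancel_right_isIso]

lemma exists_affine_pair (f : X ⟶ Y) (x : X) :
    ∃ (U : X.Opens) (V : Y.Opens), IsAffineOpen U ∧ IsAffineOpen V ∧ x ∈ U ∧ U ≤ f ⁻¹ᵁ V := by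
  obtain ⟨_, ⟨V, hV, rfl⟩, hxV, -⟩ :=
    Y.isBasis_affineOpens.exists_subset_of_mem_open (Set.mem_univ (f x)) isOpen_univ
  obtain ⟨_, ⟨U, hU, rfl⟩, hxU, hUV⟩ :=
    X.isBasis_affineOpens.exists_subset_of_mem_open (show x ∈ (f ⁻¹ᵁ V : Set X) from hxV)
      (f ⁻¹ᵁ V).isOpen
  exact ⟨U, V, hU, hV, hxU, hUV⟩

section Main

variable [IsIntegral X] [IsIntegral Y] (f : X ⟶ Y) [IsDominant f] [LocallyOfFiniteType f]

/-- Statement A: the function field extension is finite. -/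
def PropA : Prop :=
  @Module.Finite (Y.residueField (f (genericPoint X))) (X.residueField (genericPoint X)) _ _
    (f.residueFieldMap (genericPoint X)).hom.toAlgebra.toModule

theorem A_imp_B (hA : PropA f) :
    ∃ (U : X.Opens) (V : Y.Opens) (hUV : U ≤ f ⁻¹ᵁ V), IsAffineOpen U ∧ IsAffineOpen V ∧
      Nonempty ↥U ∧ IsFinite (f.resLE V U hUV) := by
  obtain ⟨U, V, hU, hV, hξU, hUV⟩ := exists_affine_pair f (genericPoint X)
  have : Nonempty U := ⟨⟨_, hξU⟩⟩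
  have halg := (finite_residueField_iff_isAlgebraic f hU hV hUV).mp hA
  have hinj := appLE_injective f hU hV hUV
  have : Nonempty V := ⟨⟨f (genericPoint X), hUV hξU⟩⟩
  letI := (f.appLE V U hUV).hom.toAlgebra
  have ft : Algebra.FiniteType Γ(Y, V) Γ(X, U) :=
    RingHom.finiteType_algebraMap.mp
      (HasRingHomProperty.appLE (P := @LocallyOfFiniteType) f inferInstance ⟨V, hV⟩ ⟨U, hU⟩ hUV)
  obtain ⟨r, hr0, hr⟩ := exists_finite_away (R := Γ(Y, V)) (S := Γ(X, U))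
  have hle : X.basicOpen (f.appLE V U hUV r) ≤ f ⁻¹ᵁ Y.basicOpen r := by
    simp [Scheme.Hom.appLE]
  refine ⟨X.basicOpen (f.appLE V U hUV r), Y.basicOpen r, hle, hU.basicOpen _, hV.basicOpen _,
    ?_, ?_⟩
  · have hne : X.basicOpen (f.appLE V U hUV r) ≠ ⊥ := by
      rw [Ne, basicOpen_eq_bot_iff]
      intro h0
      exact hr0 (hinj (by rw [h0, map_zero]))
    by_contra hemp
    apply hne
    ext x
    simp only [TopologicalSpace.Opens.coe_bot, Set.mem_empty_iff_false, iff_false]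
    intro hx
    exact hemp ⟨⟨x, hx⟩⟩
  · rw [isFinite_resLE_iff f (hU.basicOpen _) (hV.basicOpen _) hle]
    have l1 := hV.isLocalization_basicOpen r
    have l2 := hU.isLocalization_basicOpen (f.appLE V U hUV r)
    refine hr Γ(Y, Y.basicOpen r) Γ(X, X.basicOpen (f.appLE V U hUV r)) _ ?_
    rw [RingHom.algebraMap_toAlgebra, RingHom.algebraMap_toAlgebra, RingHom.algebraMap_toAlgebra,
      ← CommRingCat.hom_comp, ← CommRingCat.hom_comp, Scheme.Hom.appLE_map, Scheme.Hom.map_appLE]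

theorem B_imp_A {U : X.Opens} {V : Y.Opens} (hUV : U ≤ f ⁻¹ᵁ V) (hU : IsAffineOpen U)
    (hV : IsAffineOpen V) [Nonempty U] (hfin : IsFinite (f.resLE V U hUV)) : PropA f := by
  rw [isFinite_resLE_iff f hU hV hUV] at hfin
  refine (finite_residueField_iff_isAlgebraic f hU hV hUV).mpr ?_
  have hinj := appLE_injective f hU hV hUV
  have : Nonempty V := ⟨⟨f (genericPoint X), hUV (genericPoint_mem U)⟩⟩
  letI := (f.appLE V U hUV).hom.toAlgebra
  have : Module.Finite Γ(Y, V) Γ(X, U) := hfin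
  have : Algebra.IsIntegral Γ(Y, V) Γ(X, U) := inferInstance
  exact Algebra.IsIntegral.isAlgebraic

omit [IsIntegral Y] in
lemma primeIdealOf_genericPoint_eq_bot {U : X.Opens} (hU : IsAffineOpen U) [Nonempty U]
    (h : genericPoint X ∈ U) :
    hU.primeIdealOf ⟨genericPoint X, h⟩ = (⊥ : PrimeSpectrum Γ(X, U)) := by
  rw [hU.primeIdealOf_genericPoint, genericPoint_eq_bot_of_affine]

theorem A_imp_C (hA : PropA f) (x : X) (hx : f x = genericPoint Y) : x = genericPoint X := by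
  obtain ⟨U, V, hU, hV, hxU, hUV⟩ := exists_affine_pair f x
  have : Nonempty U := ⟨⟨_, hxU⟩⟩
  have : Nonempty V := ⟨⟨f x, hUV hxU⟩⟩
  have halg := (finite_residueField_iff_isAlgebraic f hU hV hUV).mp hA
  have hinj := appLE_injective f hU hV hUV
  letI := (f.appLE V U hUV).hom.toAlgebra
  have hfaith : FaithfulSMul Γ(Y, V) Γ(X, U) :=
    (faithfulSMul_iff_algebraMap_injective _ _).mpr hinj
  have h1 := IsAffineOpen.comap_primeIdealOf_appLE V hV U hU hUV hxU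
  have h2 : hV.primeIdealOf ⟨f x, hUV hxU⟩ = (⊥ : PrimeSpectrum Γ(Y, V)) := by
    have hη : genericPoint Y ∈ V := hx ▸ hUV hxU
    rw [← primeIdealOf_genericPoint_eq_bot hV hη]
    congr 1
    exact Subtype.ext hx
  rw [h2] at h1
  have h3 : (hU.primeIdealOf ⟨x, hxU⟩).asIdeal = ⊥ := by
    apply eq_bot_of_comap_eq_bot (R := Γ(Y, V)) (S := Γ(X, U))
    exact congr_arg PrimeSpectrum.asIdeal h1
  have h4 : hU.primeIdealOf ⟨x, hxU⟩ = hU.primeIdealOf ⟨genericPoint X, genericPoint_mem U⟩ := by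
    rw [primeIdealOf_genericPoint_eq_bot hU]
    exact PrimeSpectrum.ext h3
  have h5 := congr_arg hU.fromSpec h4
  rwa [hU.fromSpec_primeIdealOf, hU.fromSpec_primeIdealOf] at h5

theorem C_imp_A (hC : ∀ x : X, f x = genericPoint Y → x = genericPoint X) : PropA f := by
  obtain ⟨U, V, hU, hV, hξU, hUV⟩ := exists_affine_pair f (genericPoint X)
  have : Nonempty U := ⟨⟨_, hξU⟩⟩
  have : Nonempty V := ⟨⟨f (genericPoint X), hUV hξU⟩⟩
  refine (finite_residueField_iff_isAlgebraic f hU hV hUV).mpr ?_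
  have hinj := appLE_injective f hU hV hUV
  letI := (f.appLE V U hUV).hom.toAlgebra
  have hfaith : FaithfulSMul Γ(Y, V) Γ(X, U) :=
    (faithfulSMul_iff_algebraMap_injective _ _).mpr hinj
  have ft : Algebra.FiniteType Γ(Y, V) Γ(X, U) :=
    RingHom.finiteType_algebraMap.mp
      (HasRingHomProperty.appLE (P := @LocallyOfFiniteType) f inferInstance ⟨V, hV⟩ ⟨U, hU⟩ hUV)
  apply isAlgebraic_of_forall_prime
  intro q hq hq0
  let p : PrimeSpectrum Γ(X, U) := ⟨q, hq⟩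
  have hη : genericPoint Y ∈ V := by
    rw [← map_genericPoint f]; exact hUV hξU
  have h1 : f (hU.fromSpec p) = genericPoint Y := by
    have h2 := congr_arg (fun g : Spec Γ(X, U) ⟶ Y => g p)
      (IsAffineOpen.SpecMap_appLE_fromSpec f hV hU hUV)
    simp only [Scheme.Hom.comp_apply] at h2
    rw [← h2]
    have h3 : Spec.map (f.appLE V U hUV) p = (⊥ : PrimeSpectrum Γ(Y, V)) :=
      PrimeSpectrum.ext hq0
    rw [h3, ← primeIdealOf_genericPoint_eq_bot hV hη, hV.fromSpec_primeIdealOf]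
  have h4 := hC _ h1
  have h5 : hU.fromSpec p = hU.fromSpec (hU.primeIdealOf ⟨genericPoint X, hξU⟩) := by
    rw [hU.fromSpec_primeIdealOf]; exact h4
  have h6 := hU.fromSpec.isOpenEmbedding.injective h5
  rw [primeIdealOf_genericPoint_eq_bot hU] at h6
  exact congr_arg PrimeSpectrum.asIdeal h6

omit [IsIntegral X] [IsIntegral Y] [IsDominant f] [LocallyOfFiniteType f] in
lemma isFinite_morphismRestrict_basicOpen {U : X.Opens} {V : Y.Opens} (hU : IsAffineOpen U)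
    (hV : IsAffineOpen V) (hUV : U ≤ f ⁻¹ᵁ V) (hfin : IsFinite (f.resLE V U hUV)) (r : Γ(Y, V))
    (hr : f ⁻¹ᵁ (Y.basicOpen r) ≤ U) : IsFinite (f ∣_ Y.basicOpen r) := by
  have e1 : f ⁻¹ᵁ (Y.basicOpen r) = X.basicOpen (f.appLE V U hUV r) := by
    rw [Scheme.basicOpen_appLE]; exact (inf_eq_right.mpr hr).symm
  rw [← Scheme.Hom.resLE_eq_morphismRestrict, Scheme.Hom.resLE_congr f _ rfl e1 @IsFinite,
    isFinite_resLE_iff f (hU.basicOpen _) (hV.basicOpen _)]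
  have l1 := hV.isLocalization_basicOpen r
  have l2 := hU.isLocalization_basicOpen (f.appLE V U hUV r)
  have h2 := IsAffineOpen.appLE_eq_away_map f hV hU hUV r
  rw [h2]
  exact RingHom.finite_localizationPreserves.away _ r _ _
    ((isFinite_resLE_iff f hU hV hUV).mp hfin)

theorem D_imp_A {V : Y.Opens} (hV : IsAffineOpen V) [Nonempty V] (hfin : IsFinite (f ∣_ V)) :
    PropA f := by
  have : IsAffine V.toScheme := hV
  have hU : IsAffineOpen (f ⁻¹ᵁ V) := isAffine_of_isAffineHom (f ∣_ V)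
  have hη : f (genericPoint X) ∈ V := by
    rw [map_genericPoint f]; exact genericPoint_mem V
  have : Nonempty (f ⁻¹ᵁ V) := ⟨⟨genericPoint X, hη⟩⟩
  refine B_imp_A f (le_refl _) hU hV ?_
  rw [Scheme.Hom.resLE_eq_morphismRestrict]
  exact hfin

theorem A_imp_D_of_isSeparated [IsSeparated f] (hA : PropA f) :
    ∃ V : Y.Opens, IsAffineOpen V ∧ Nonempty V ∧ IsFinite (f ∣_ V) := by
  obtain ⟨U, V, hUV, hU, hV, hne, hfin⟩ := A_imp_B f hA
  obtain ⟨⟨x, hxU⟩⟩ := hne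
  have h1 : f.resLE V U hUV = X.homOfLE hUV ≫ f ∣_ V := rfl
  have : IsFinite (X.homOfLE hUV ≫ f ∣_ V) := h1 ▸ hfin
  have : IsFinite (X.homOfLE hUV) := IsFinite.of_comp _ (f ∣_ V)
  have hcl : IsClosed (Set.range (X.homOfLE hUV)) :=
    (X.homOfLE hUV).isClosedMap.isClosed_range
  have hop : IsOpen (Set.range (X.homOfLE hUV)) :=
    (X.homOfLE hUV).isOpenEmbedding.isOpen_range
  have : Nonempty (f ⁻¹ᵁ V) := ⟨⟨x, hUV hxU⟩⟩
  have huniv : Set.range (X.homOfLE hUV) = Set.univ :=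
    IsClopen.eq_univ ⟨hcl, hop⟩ ⟨_, ⟨⟨x, hxU⟩, rfl⟩⟩
  have hle : f ⁻¹ᵁ V ≤ U := by
    intro z hz
    have hmem : (⟨z, hz⟩ : (f ⁻¹ᵁ V)) ∈ Set.range (X.homOfLE hUV) := huniv ▸ Set.mem_univ _
    obtain ⟨⟨w, hw⟩, hwz⟩ := hmem
    have h2 := congr_arg Subtype.val hwz
    rw [Scheme.homOfLE_apply] at h2
    have h3 : w = z := h2
    exact h3 ▸ hw
  have hUeq : U = f ⁻¹ᵁ V := le_antisymm hUV hle
  subst hUeq
  refine ⟨V, hV, ⟨⟨f x, hxU⟩⟩, ?_⟩
  rwa [Scheme.Hom.resLE_eq_morphismRestrict] at hfin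

open scoped nonZeroDivisors in
omit [LocallyOfFiniteType f] in
lemma exists_ne_zero_basicOpen_le (hC : ∀ x : X, f x = genericPoint Y → x = genericPoint X)
    {U U₁ : X.Opens} {V : Y.Opens} (hV : IsAffineOpen V) (hU₁ : IsAffineOpen U₁)
    (hU₁V : U₁ ≤ f ⁻¹ᵁ V) (hξU : genericPoint X ∈ U) [Nonempty V] :
    ∃ r : Γ(Y, V), r ≠ 0 ∧ U₁ ⊓ f ⁻¹ᵁ (Y.basicOpen r) ≤ U := by
  by_contra hcon
  push Not at hcon
  let I : Ideal Γ(X, U₁) :=
    { carrier := {s | X.basicOpen s ≤ U}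
      add_mem' := fun {a b} ha hb =>
        (Scheme.basicOpen_add_le (f := a) (g := b)).trans (sup_le ha hb)
      zero_mem' := by simp
      smul_mem' := fun c a ha => by
        change X.basicOpen (c * a) ≤ U
        rw [Scheme.basicOpen_mul]; exact inf_le_right.trans ha }
  let M : Submonoid Γ(X, U₁) := (Γ(Y, V)⁰).map (f.appLE V U₁ hU₁V).hom
  have hdisj : Disjoint (I : Set Γ(X, U₁)) M := by
    rw [Set.disjoint_left]
    rintro _ hsI ⟨r, hr, rfl⟩
    have hsI' : X.basicOpen (f.appLE V U₁ hU₁V r) ≤ U := hsI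
    rw [Scheme.basicOpen_appLE] at hsI'
    exact hcon r (nonZeroDivisors.ne_zero hr) hsI'
  obtain ⟨q, hq, hIq, hqM⟩ := Ideal.exists_le_prime_disjoint I M hdisj
  let p : PrimeSpectrum Γ(X, U₁) := ⟨q, hq⟩
  have hη : genericPoint Y ∈ V := genericPoint_mem V
  have h3 : Spec.map (f.appLE V U₁ hU₁V) p = (⊥ : PrimeSpectrum Γ(Y, V)) := by
    apply PrimeSpectrum.ext
    change q.comap (f.appLE V U₁ hU₁V).hom = ⊥
    rw [eq_bot_iff]
    intro r hr
    by_contra hr0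
    exact Set.disjoint_left.mp hqM hr ⟨r, mem_nonZeroDivisors_of_ne_zero hr0, rfl⟩
  have h1 : f (hU₁.fromSpec p) = genericPoint Y := by
    have h2 := congr_arg (fun g : Spec Γ(X, U₁) ⟶ Y => g p)
      (IsAffineOpen.SpecMap_appLE_fromSpec f hV hU₁ hU₁V)
    simp only [Scheme.Hom.comp_apply] at h2
    rw [← h2, h3, ← primeIdealOf_genericPoint_eq_bot hV hη, hV.fromSpec_primeIdealOf]
  have h4 := hC _ h1
  have hzU₁ : hU₁.fromSpec p ∈ U₁ := by
    rw [← SetLike.mem_coe, ← hU₁.range_fromSpec]; exact ⟨p, rfl⟩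
  have hzU : hU₁.fromSpec p ∈ U ⊓ U₁ := ⟨h4 ▸ hξU, hzU₁⟩
  obtain ⟨s, hs1, hs2⟩ := hU₁.exists_basicOpen_le (V := U ⊓ U₁) ⟨_, hzU⟩ hzU₁
  have hsq : s ∈ q := hIq (show X.basicOpen s ≤ U from hs1.trans inf_le_left)
  have h5 : p ∈ hU₁.fromSpec ⁻¹ᵁ X.basicOpen s := hs2
  rw [hU₁.fromSpec_preimage_basicOpen] at h5
  exact h5 hsq

theorem A_imp_D_of_quasiCompact [QuasiCompact f] (hA : PropA f) :
    ∃ V : Y.Opens, IsAffineOpen V ∧ Nonempty V ∧ IsFinite (f ∣_ V) := by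
  classical
  obtain ⟨U, V, hUV, hU, hV, hne, hfin⟩ := A_imp_B f hA
  obtain ⟨⟨x, hxU⟩⟩ := hne
  have hC := A_imp_C f hA
  have : Nonempty U := ⟨⟨x, hxU⟩⟩
  have hξU : genericPoint X ∈ U := genericPoint_mem U
  have : Nonempty V := ⟨⟨f x, hUV hxU⟩⟩
  have hWc : IsCompact ((f ⁻¹ᵁ V : X.Opens) : Set X) := f.isCompact_preimage hV.isCompact
  have hKc : IsCompact (((f ⁻¹ᵁ V : X.Opens) : Set X) \ (U : Set X)) := hWc.diff U.isOpen
  have key : ∀ z : X, z ∈ ((f ⁻¹ᵁ V : X.Opens) : Set X) → ∃ (U₁ : X.Opens) (r : Γ(Y, V)),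
      z ∈ U₁ ∧ r ≠ 0 ∧ U₁ ⊓ f ⁻¹ᵁ (Y.basicOpen r) ≤ U := by
    intro z hz
    obtain ⟨_, ⟨U₁, hU₁, rfl⟩, hzU₁, hU₁V⟩ :=
      X.isBasis_affineOpens.exists_subset_of_mem_open hz (f ⁻¹ᵁ V).isOpen
    obtain ⟨r, hr0, hr⟩ := exists_ne_zero_basicOpen_le f hC hV hU₁ hU₁V hξU
    exact ⟨U₁, r, hzU₁, hr0, hr⟩
  choose! U₁ r hzU₁ hr0 hr using key
  obtain ⟨t, htK, htfin, hcover⟩ := hKc.elim_finite_subcover_image
    (b := ((f ⁻¹ᵁ V : X.Opens) : Set X) \ (U : Set X)) (c := fun z => (U₁ z : Set X))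
    (fun z _ => (U₁ z).isOpen) (fun z hz => Set.mem_biUnion hz (hzU₁ z hz.1))
  let R : Γ(Y, V) := ∏ z ∈ htfin.toFinset, r z
  have hR0 : R ≠ 0 := by
    rw [Finset.prod_ne_zero_iff]
    intro z hz
    exact hr0 z (htK (htfin.mem_toFinset.mp hz)).1
  have hRle : ∀ z ∈ t, Y.basicOpen R ≤ Y.basicOpen (r z) := by
    intro z hz
    obtain ⟨c, hc⟩ := Finset.dvd_prod_of_mem r (htfin.mem_toFinset.mpr hz)
    change Y.basicOpen (∏ z ∈ htfin.toFinset, r z) ≤ _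
    rw [hc, Scheme.basicOpen_mul]
    exact inf_le_left
  have hle : f ⁻¹ᵁ (Y.basicOpen R) ≤ U := by
    intro w hw
    by_contra hwU
    have hwV : w ∈ ((f ⁻¹ᵁ V : X.Opens) : Set X) := Y.basicOpen_le R hw
    obtain ⟨z, hzt, hwz⟩ := Set.mem_iUnion₂.mp (hcover ⟨hwV, hwU⟩)
    exact hwU (hr z (htK hzt).1 ⟨hwz, hRle z hzt hw⟩)
  refine ⟨Y.basicOpen R, hV.basicOpen R, ?_,
    isFinite_morphismRestrict_basicOpen f hU hV hUV hfin R hle⟩
  have hne : Y.basicOpen R ≠ ⊥ := by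
    rw [Ne, basicOpen_eq_bot_iff]; exact hR0
  by_contra hemp
  apply hne
  ext y
  simp only [TopologicalSpace.Opens.coe_bot, Set.mem_empty_iff_false, iff_false]
  intro hy
  exact hemp ⟨⟨y, hy⟩⟩

end Main

end Groth.Agent.Lib.Helper28.GenFin
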