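import Mathlib

/-! # Gluing morphisms defined on a family of open subschemes (helper28) -/

set_option autoImplicit false
universe u
open CategoryTheory CategoryTheory.Limits AlgebraicGeometry TopologicalSpace

namespace Groth.Agent.Lib.Helper28.GlueOpens

variable {X : Scheme.{u}} {ι : Type u} (U : ι → X.Opens)

/-- The open cover of the union of a family of opens by its members. -/
noncomputable def iSupCover : Scheme.OpenCover.{u} (↑(⨆ i, U i) : Scheme.{u}) where
  I₀ := ι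
  X i := ↑(U i)
  f i := X.homOfLE (le_iSup U i)
  mem₀ := by
    rw [Scheme.presieve₀_mem_precoverage_iff]
    refine ⟨fun p => ?_, fun i => inferInstance⟩
    obtain ⟨i, hi⟩ := Opens.mem_iSup.mp p.2
    refine ⟨i, ⟨⟨p.1, hi⟩, ?_⟩⟩
    exact (Scheme.homOfLE_apply' (le_iSup U i) p.1 hi).trans (Subtype.ext rfl)

variable {U}

theorem hom_ext {Z : Scheme.{u}} (a b : (↑(⨆ i, U i) : Scheme.{u}) ⟶ Z)
    (h : ∀ i, X.homOfLE (le_iSup U i) ≫ a = X.homOfLE (le_iSup U i) ≫ b) : a = b :=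
  (iSupCover U).hom_ext a b h

theorem pullback_fst_ι_eq (i j : ι) :
    pullback.fst (X.homOfLE (le_iSup U i)) (X.homOfLE (le_iSup U j)) ≫ (U i).ι =
      pullback.snd (X.homOfLE (le_iSup U i)) (X.homOfLE (le_iSup U j)) ≫ (U j).ι := by
  have h := pullback.condition (f := X.homOfLE (le_iSup U i)) (g := X.homOfLE (le_iSup U j))
  have h' := congrArg (fun t => t ≫ (⨆ i, U i).ι) h
  simpa only [Category.assoc, Scheme.homOfLE_ι] using h'

theorem exists_glue {Y : Scheme.{u}} (f : ∀ i, (↑(U i) : Scheme.{u}) ⟶ Y)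
    (h : ∀ i j, X.homOfLE (inf_le_left : U i ⊓ U j ≤ U i) ≫ f i =
      X.homOfLE (inf_le_right : U i ⊓ U j ≤ U j) ≫ f j) :
    ∃ g : (↑(⨆ i, U i) : Scheme.{u}) ⟶ Y, ∀ i, X.homOfLE (le_iSup U i) ≫ g = f i := by
  have compat : ∀ i j, pullback.fst ((iSupCover U).f i) ((iSupCover U).f j) ≫ f i =
      pullback.snd ((iSupCover U).f i) ((iSupCover U).f j) ≫ f j := by
    intro (i : ι) (j : ι)
    change pullback.fst (X.homOfLE (le_iSup U i)) (X.homOfLE (le_iSup U j)) ≫ f i =
      pullback.snd (X.homOfLE (le_iSup U i)) (X.homOfLE (le_iSup U j)) ≫ f j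
    have hr : Set.range (pullback.fst (X.homOfLE (le_iSup U i)) (X.homOfLE (le_iSup U j)) ≫
        (U i).ι) ⊆ Set.range (U i ⊓ U j).ι := by
      rintro _ ⟨y, rfl⟩
      rw [Scheme.Opens.range_ι]
      refine ⟨?_, ?_⟩
      · rw [Scheme.Hom.comp_apply]
        exact (pullback.fst (X.homOfLE (le_iSup U i)) (X.homOfLE (le_iSup U j)) y).2
      · rw [pullback_fst_ι_eq, Scheme.Hom.comp_apply]
        exact (pullback.snd (X.homOfLE (le_iSup U i)) (X.homOfLE (le_iSup U j)) y).2
    let k := IsOpenImmersion.lift (U i ⊓ U j).ι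
      (pullback.fst (X.homOfLE (le_iSup U i)) (X.homOfLE (le_iSup U j)) ≫ (U i).ι) hr
    have hk : k ≫ (U i ⊓ U j).ι =
        pullback.fst (X.homOfLE (le_iSup U i)) (X.homOfLE (le_iSup U j)) ≫ (U i).ι :=
      IsOpenImmersion.lift_fac _ _ _
    have h1 : k ≫ X.homOfLE (inf_le_left : U i ⊓ U j ≤ U i) =
        pullback.fst (X.homOfLE (le_iSup U i)) (X.homOfLE (le_iSup U j)) := by
      rw [← cancel_mono (U i).ι, Category.assoc, Scheme.homOfLE_ι, hk]
    have h2 : k ≫ X.homOfLE (inf_le_right : U i ⊓ U j ≤ U j) =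
        pullback.snd (X.homOfLE (le_iSup U i)) (X.homOfLE (le_iSup U j)) := by
      rw [← cancel_mono (U j).ι, Category.assoc, Scheme.homOfLE_ι, hk, pullback_fst_ι_eq]
    rw [← h1, ← h2, Category.assoc, Category.assoc, h i j]
  refine ⟨(iSupCover U).glueMorphisms f compat, fun i => ?_⟩
  exact (iSupCover U).ι_glueMorphisms f compat i

end Groth.Agent.Lib.Helper28.GlueOpens
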