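import Mathlib

/-!
# Hilbert's finiteness argument for graded rings with a Reynolds operator (helper28)

`exists_finset_le`: `B` a noetherian commutative ring graded by `ℕ`, `C` a subring and `E : B →+ B` a
degree-preserving `C`-linear retraction onto `C`.  Then there is a finite set `s ⊆ C` such that every subring
containing `C ∩ B₀` and `s` contains `C`.
-/

namespace Groth.Agent.Lib.Helper28.GradedHilbert

open DirectSum

variable {B : Type*} [CommRing B] {σ : Type*} [SetLike σ B] [AddSubgroupClass σ B]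
  (𝒜 : ℕ → σ) [GradedRing 𝒜]

theorem exists_finset_le [IsNoetherianRing B] (C : Subring B) (E : B →+ B)
    (hE_mem : ∀ b, E b ∈ C) (hE_id : ∀ c ∈ C, E c = c)
    (hE_mul : ∀ c ∈ C, ∀ b, E (c * b) = c * E b)
    (hE_deg : ∀ d, ∀ b ∈ 𝒜 d, E b ∈ 𝒜 d) :
    ∃ s : Finset B, (∀ g ∈ s, g ∈ C) ∧
      ∀ D : Subring B, (∀ c ∈ C, c ∈ 𝒜 0 → c ∈ D) → (∀ g ∈ s, g ∈ D) → C ≤ D := by
  classical
  set G : Set B := {g | g ∈ C ∧ ∃ d, 0 < d ∧ g ∈ 𝒜 d} with hG
  have hJ : (Ideal.span G).FG := (isNoetherianRing_iff_ideal_fg B).mp inferInstance _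
  obtain ⟨s, hsG, hs⟩ := (Submodule.fg_span_iff_fg_span_finset_subset G).mp hJ
  refine ⟨s, fun g hg => (hsG hg).1, ?_⟩
  intro D hD0 hDs
  have key : ∀ d, ∀ c ∈ C, c ∈ 𝒜 d → c ∈ D := by
    intro d
    induction d using Nat.strong_induction_on with
    | _ d ih =>
      intro c hcC hcd
      rcases Nat.eq_zero_or_pos d with h0 | hpos
      · subst h0; exact hD0 c hcC hcd
      · have hcJ : c ∈ Submodule.span B (s : Set B) := by
          rw [← hs]; exact Submodule.subset_span ⟨hcC, d, hpos, hcd⟩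
        obtain ⟨f, -, hf⟩ := Submodule.mem_span_finset.mp hcJ
        have h1 : c = E (GradedRing.proj 𝒜 d c) := by
          rw [GradedRing.proj_apply, DirectSum.decompose_of_mem_same 𝒜 hcd, hE_id c hcC]
        rw [h1, ← hf, map_sum, map_sum]
        refine Subring.sum_mem _ (fun g hg => ?_)
        obtain ⟨hgC, e, hepos, hge⟩ := hsG hg
        rw [smul_eq_mul, GradedRing.proj_apply]
        by_cases hle : e ≤ d
        · rw [DirectSum.coe_decompose_mul_of_right_mem_of_le 𝒜 hge hle, mul_comm, hE_mul g hgC]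
          refine Subring.mul_mem _ (hDs g hg) ?_
          refine ih (d - e) (by omega) _ (hE_mem _) (hE_deg _ _ ?_)
          exact SetLike.coe_mem _
        · rw [DirectSum.coe_decompose_mul_of_right_mem_of_not_le 𝒜 hge hle, map_zero]
          exact Subring.zero_mem _
  intro c hcC
  have h2 : c = ∑ i ∈ (DirectSum.decompose 𝒜 c).support, E ((DirectSum.decompose 𝒜 c i : B)) := by
    rw [← map_sum, DirectSum.sum_support_decompose 𝒜 c, hE_id c hcC]
  rw [h2]
  refine Subring.sum_mem _ (fun i _ => ?_)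
  exact key i _ (hE_mem _) (hE_deg _ _ (SetLike.coe_mem _))

end Groth.Agent.Lib.Helper28.GradedHilbert
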