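import Mathlib
import Groth.Agent.Lib.Helper9.HilbD12Defs
import Groth.Agent.Lib.Helper28.HilbD12Q2

/-!
# Helper library (helper28): Q1 for helper9 / helper18 (S12265)
-/

set_option autoImplicit false
universe u
open CategoryTheory CategoryTheory.Limits AlgebraicGeometry
open Groth.Agent.Lib.Helper9.HilbD12Defs

namespace Groth.Agent.Lib.Helper28.HilbD12Q1

variable {k : Type u} [Field k] {Hs : Scheme.{u}} (ϖ : Hs ⟶ Spec (CommRingCat.of k))
  (h₀ : Spec (CommRingCat.of k) ⟶ Hs)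

/-- Q1 -/
theorem algRing_resRing (hϖ : h₀ ≫ ϖ = 𝟙 _) : algRing ϖ h₀ ≫ resRing h₀ = 𝟙 _ := by
  apply Spec.map_injective
  rw [Spec.map_comp, ← HilbD12Q2.fromSpecStalk_comp, ← Category.assoc, Spec.map_id]
  unfold resRing
  rw [Scheme.Spec_stalkClosedPointTo_fromSpecStalk, hϖ]

end Groth.Agent.Lib.Helper28.HilbD12Q1
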