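import Groth.Agent.Lib.Helper28.PolyComod
import Groth.Agent.Lib.Helper28.GenIdeal
import Groth.Agent.Lib.Helper19.LinearGrp

/-!
# Hilbert's finiteness theorem for linearly reductive groups (helper28)

* `exists_corep`: a finite subset of a comodule over a field lies in the span of a tuple `e` transforming by a matrix
  corepresentation `M`: `ρ(e_j) = Σ e_l ⊗ M_lj`.
* `exists_finset_adjoin_rel`: relative Hilbert finiteness: `K` a noetherian comodule algebra, `R'` a `K`-algebra of finite
  type with compatible coaction; then `R'^G` is generated by the image of `K^G` and finitely many invariants.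
* `exists_finset_adjoin`: absolute version.
-/

set_option autoImplicit false
set_option linter.unusedSectionVars false
set_option linter.style.haveILetI false
universe u v w w'

open TensorProduct MvPolynomial
open Groth.Agent.Lib.Helper28.HopfIntegral
open Groth.Agent.Lib.Helper28.TameAct
open Groth.Agent.Lib.Helper19.Reynolds
open Groth.Agent.Lib.Helper19.LinearGrp

namespace Groth.Agent.Lib.Helper28.HilbertFin

section corep

variable {k : Type u} [Field k] {H : Type v} [CommRing H] [HopfAlgebra k H]
variable {V : Type w} [AddCommGroup V] [Module k V] [cV : HopfRep.Comod k H V]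

theorem exists_corep (F : Finset V) :
    ∃ (n : ℕ) (M : Matrix (Fin n) (Fin n) H) (e : Fin n → V),
      (∀ i j, Coalgebra.comul (R := k) (M i j) = ∑ l, M i l ⊗ₜ[k] M l j) ∧
      (∀ i j, Coalgebra.counit (R := k) (M i j) = if i = j then (1 : k) else 0) ∧
      (∀ j, HopfRep.Comod.coact (k := k) (A := H) (e j) = ∑ l, e l ⊗ₜ[k] M l j) ∧
      ∀ v ∈ F, v ∈ Submodule.span k (Set.range e) := by
  classical
  let U : Submodule k V := ⨆ a : (F : Set V), gen (K := k) (C := H) (a : V)
  have hUsub : HopfRep.IsSubcomod (k := k) (A := H) U :=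
    GenIdeal.isSubcomod_iSup _ (fun a => isSubcomod_gen _)
  haveI : ∀ a : (F : Set V), FiniteDimensional k (gen (K := k) (C := H) (a : V)) :=
    fun a => finiteDimensional_gen _
  haveI : FiniteDimensional k U := Submodule.finiteDimensional_iSup _
  have hFU : ∀ a ∈ F, a ∈ U := fun a ha =>
    Submodule.mem_iSup_of_mem (⟨a, ha⟩ : (F : Set V)) (mem_gen a)
  letI cU : HopfRep.Comod k H U := ComodSub.Comod.restr cV U hUsub
  let b : Module.Basis (Fin (Module.finrank k U)) k U := Module.finBasis k U
  refine ⟨Module.finrank k U, fun i j => mc (C := H) b i j, fun j => ((b j : U) : V),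
    fun i j => comul_mc b i j, fun i j => counit_mc b i j, ?_, ?_⟩
  · intro j
    have h1 := ComodSub.restr_coact_coe cV U hUsub (b j)
    have h1' : U.subtype.rTensor H (HopfRep.Comod.coact (k := k) (A := H) (b j)) =
        HopfRep.Comod.coact (k := k) (A := H) ((b j : U) : V) := h1
    rw [coact_basis b j, map_sum] at h1'
    simp only [LinearMap.rTensor_tmul, Submodule.subtype_apply] at h1'
    exact h1'.symm
  · intro v hv
    have h2 : (⟨v, hFU v hv⟩ : U) ∈ Submodule.span k (Set.range b) := by
      rw [b.span_eq]; exact Submodule.mem_top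
    have h3 := Submodule.mem_map_of_mem (f := U.subtype) h2
    rw [Submodule.map_span, ← Set.range_comp] at h3
    exact h3

end corep

section main

variable {k : Type u} [Field k] {H : Type v} [CommRing H] [HopfAlgebra k H]
variable {K : Type w} [CommRing K] [Algebra k K] [HopfRep.Comod k H K] [GLin.IsCoactAlg k H K]
variable {R' : Type w'} [CommRing R'] [Algebra k R'] [Algebra K R'] [IsScalarTower k K R']
variable [HopfRep.Comod k H R'] [GLin.IsCoactAlg k H R']

/-- relative Hilbert finiteness -/
theorem exists_finset_adjoin_rel [IsNoetherianRing K] [Algebra.FiniteType K R']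
    (I : H →ₗ[k] k) (hI : IsIntegral I)
    (hK : Hoch.IsComodHom H (IsScalarTower.toAlgHom k K R').toLinearMap) :
    ∃ s : Finset R', (∀ g ∈ s, g ∈ GLin.invariants k H R') ∧
      ∀ f ∈ GLin.invariants k H R',
        f ∈ Algebra.adjoin k (⇑(algebraMap K R') '' ↑(GLin.invariants k H K) ∪ ↑s) := by
  classical
  obtain ⟨F, hF⟩ := (Algebra.FiniteType.out : (⊤ : Subalgebra K R').FG)
  obtain ⟨n, M, e, hΔ, hε, he, hspan⟩ := exists_corep (k := k) (H := H) F
  letI cP : HopfRep.Comod k H (MvPolynomial (Fin n) K) := PolyComod.polyComod (K := K) M hΔ hε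
  haveI hP : GLin.IsCoactAlg k H (MvPolynomial (Fin n) K) :=
    PolyComod.polyComod_isCoactAlg (K := K) M hΔ hε
  let π : MvPolynomial (Fin n) K →ₐ[K] R' := MvPolynomial.aeval e
  have hπ : Hoch.IsComodHom H (π.restrictScalars k).toLinearMap :=
    PolyComod.isComodHom_aeval M hΔ hε hK e he
  have hsurj : Function.Surjective π := by
    have hrange : ∀ v ∈ Submodule.span k (Set.range e), v ∈ π.range := by
      intro v hv
      induction hv using Submodule.span_induction with
      | mem x hx => obtain ⟨j, rfl⟩ := hx; exact ⟨X j, aeval_X e j⟩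
      | zero => exact Subalgebra.zero_mem _
      | add x y _ _ h₁ h₂ => exact Subalgebra.add_mem _ h₁ h₂
      | smul c x _ h₁ =>
        rw [← algebraMap_smul K c x]
        exact Subalgebra.smul_mem _ h₁ _
    have hle : Algebra.adjoin K (F : Set R') ≤ π.range :=
      Algebra.adjoin_le (fun x hx => hrange x (hspan x hx))
    rw [hF] at hle
    intro a
    obtain ⟨x, hx⟩ := hle (Algebra.mem_top : a ∈ (⊤ : Subalgebra K R'))
    exact ⟨x, hx⟩
  obtain ⟨s', hs', hgen⟩ := PolyGraded.exists_finset_invariants (k := k) (H := H) (K := K)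
    (ι := Fin n) (PolyComod.polyComod_hC M hΔ hε) (PolyComod.polyComod_hX M hΔ hε) I hI
  have hinv : ∀ p ∈ GLin.invariants k H (MvPolynomial (Fin n) K), π p ∈ GLin.invariants k H R' := by
    intro p hp
    have hp' : HopfRep.Comod.coact (k := k) (A := H) p = p ⊗ₜ[k] (1 : H) := hp
    have h1 := LinearMap.congr_fun hπ p
    simp only [LinearMap.comp_apply, AlgHom.toLinearMap_apply, AlgHom.restrictScalars_apply] at h1
    rw [hp', LinearMap.rTensor_tmul] at h1
    exact h1
  refine ⟨s'.image π, ?_, ?_⟩
  · intro g hg
    obtain ⟨g', hg', rfl⟩ := Finset.mem_image.mp hg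
    exact hinv g' (hs' g' hg')
  · intro f hf
    obtain ⟨p, rfl⟩ := hsurj f
    have hq : reyV I p ∈ GLin.invariants k H (MvPolynomial (Fin n) K) := reyV_mem I hI p
    have hπq : π (reyV I p) = π p := by
      have h1 := reyV_map I (π.restrictScalars k).toLinearMap hπ p
      have h2 : reyV I (π p) = π p := reyV_of_mem I hI _ hf
      rw [← h2]
      exact h1
    rw [← hπq]
    let D : Subring (MvPolynomial (Fin n) K) :=
      ((Algebra.adjoin k (⇑(algebraMap K R') '' ↑(GLin.invariants k H K) ∪
        ↑(s'.image π))).comap (π.restrictScalars k)).toSubring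
    have hD := hgen D ?_ ?_ (reyV I p) hq
    · exact hD
    · intro c hc hc0
      have hcC : c = C (coeff 0 c) :=
        (totalDegree_eq_zero_iff_eq_C).mp ((totalDegree_zero_iff_isHomogeneous (Fin n)).mpr hc0)
      have ha : coeff 0 c ∈ GLin.invariants k H K := by
        apply PolyComod.mem_invariants_of_C_mem M hΔ hε
        rw [← hcC]
        exact hc
      change π c ∈ Algebra.adjoin k _
      rw [hcC, aeval_C]
      exact Algebra.subset_adjoin (Or.inl ⟨_, ha, rfl⟩)
    · intro g hg
      exact Algebra.subset_adjoin (Or.inr (Finset.mem_coe.mpr (Finset.mem_image_of_mem _ hg)))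

end main

section absolute

variable {k : Type u} [Field k] {H : Type v} [CommRing H] [HopfAlgebra k H]
variable {R' : Type w'} [CommRing R'] [Algebra k R'] [HopfRep.Comod k H R'] [GLin.IsCoactAlg k H R']

/-- Hilbert finiteness: invariants of a finitely generated comodule algebra under a Hopf algebra with an integral -/
theorem exists_finset_adjoin [Algebra.FiniteType k R'] (I : H →ₗ[k] k) (hI : IsIntegral I) :
    ∃ s : Finset R', (∀ g ∈ s, g ∈ GLin.invariants k H R') ∧
      ∀ f ∈ GLin.invariants k H R', f ∈ Algebra.adjoin k (s : Set R') := by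
  letI : HopfRep.Comod k H k := trivComod (k := k) (A := H)
  haveI : GLin.IsCoactAlg k H k := isCoactAlg_trivial
  have hK : Hoch.IsComodHom H (IsScalarTower.toAlgHom k k R').toLinearMap := by
    apply LinearMap.ext
    intro c
    simp only [LinearMap.comp_apply, AlgHom.toLinearMap_apply, IsScalarTower.coe_toAlgHom']
    rw [coact_trivial, LinearMap.rTensor_tmul, AlgHom.toLinearMap_apply, IsScalarTower.coe_toAlgHom',
      Algebra.algebraMap_eq_smul_one, map_smul, GLin.IsCoactAlg.coact_one (k := k),
      Algebra.TensorProduct.one_def, TensorProduct.smul_tmul']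
  obtain ⟨s, hs, h⟩ := exists_finset_adjoin_rel (k := k) (H := H) (K := k) (R' := R') I hI hK
  refine ⟨s, hs, fun f hf => ?_⟩
  have h1 : Algebra.adjoin k (⇑(algebraMap k R') '' ↑(GLin.invariants k H k) ∪ ↑s) ≤
      Algebra.adjoin k (s : Set R') := by
    apply Algebra.adjoin_le
    rintro x (⟨c, -, rfl⟩ | hx)
    · exact Subalgebra.algebraMap_mem _ c
    · exact Algebra.subset_adjoin hx
  exact h1 (h f hf)

/-- Hilbert finiteness for a linear coaction on a polynomial ring -/
theorem exists_finset_adjoin_poly {ι : Type*} [Finite ι]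
    [HopfRep.Comod k H (MvPolynomial ι k)] [GLin.IsCoactAlg k H (MvPolynomial ι k)]
    (hlin : ∀ i : ι, HopfRep.Comod.coact (k := k) (A := H) (X i : MvPolynomial ι k) ∈
      LinearMap.range (TensorProduct.mapIncl
        (Submodule.span k (Set.range (X : ι → MvPolynomial ι k))) (⊤ : Submodule k H)))
    (I : H →ₗ[k] k) (hI : IsIntegral I) :
    ∃ s : Finset (MvPolynomial ι k), (∀ g ∈ s, g ∈ GLin.invariants k H (MvPolynomial ι k)) ∧
      ∀ f ∈ GLin.invariants k H (MvPolynomial ι k), f ∈ Algebra.adjoin k (s : Set (MvPolynomial ι k)) := by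
  have hC : ∀ a : k, HopfRep.Comod.coact (k := k) (A := H) (C a : MvPolynomial ι k) ∈
      PolyGraded.T k H k ι 0 := by
    intro a
    have h1 : (C a : MvPolynomial ι k) = a • 1 := by
      rw [MvPolynomial.smul_eq_C_mul, mul_one]
    rw [h1, map_smul, GLin.IsCoactAlg.coact_one (k := k)]
    exact Submodule.smul_mem _ _ PolyGraded.one_mem_T
  have hX : ∀ i : ι, HopfRep.Comod.coact (k := k) (A := H) (X i : MvPolynomial ι k) ∈
      PolyGraded.T k H k ι 1 := by
    intro i
    obtain ⟨t, ht⟩ := hlin i
    rw [← ht]
    clear ht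
    induction t using TensorProduct.induction_on with
    | zero => rw [map_zero]; exact Submodule.zero_mem _
    | tmul x h =>
      rw [TensorProduct.mapIncl, TensorProduct.map_tmul]
      refine PolyGraded.tmul_mem_T ?_ _
      have hx : (x : MvPolynomial ι k) ∈ homogeneousSubmodule ι k 1 := by
        rw [homogeneousSubmodule_one_eq_span_X]; exact x.2
      exact hx
    | add u₁ u₂ h₁ h₂ => rw [map_add]; exact Submodule.add_mem _ h₁ h₂
  obtain ⟨s, hs, h⟩ := PolyGraded.exists_finset_invariants (k := k) (H := H) (K := k) (ι := ι) hC hX I hI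
  refine ⟨s, hs, fun f hf => ?_⟩
  refine h (Algebra.adjoin k (s : Set (MvPolynomial ι k))).toSubring ?_ ?_ f hf
  · intro c _ hc0
    have hcC : c = C (coeff 0 c) :=
      (totalDegree_eq_zero_iff_eq_C).mp ((totalDegree_zero_iff_isHomogeneous ι).mpr hc0)
    rw [hcC]
    exact Subalgebra.algebraMap_mem _ _
  · intro g hg
    exact Algebra.subset_adjoin hg

end absolute

end Groth.Agent.Lib.Helper28.HilbertFin
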