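import Mathlib
import Groth.Prelude.Def_ProCons

/-!
# Closed points in ind-constructible subsets of Jacobson spaces
-/

set_option autoImplicit false

namespace Groth.Agent.Lib.Helper28.IndConsPt

open Topology TopologicalSpace Set

variable {X : Type*} [TopologicalSpace X]

/-- finite unions of locally closed sets -/
inductive FLC : Set X → Prop
  | lc (L : Set X) : IsLocallyClosed L → FLC L
  | union (a b : Set X) : FLC a → FLC b → FLC (a ∪ b)

theorem FLC.inter {a b : Set X} (ha : FLC a) (hb : FLC b) : FLC (a ∩ b) := by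
  induction ha with
  | lc L hL =>
    induction hb with
    | lc L' hL' => exact .lc _ (hL.inter hL')
    | union c d _ _ ihc ihd => rw [Set.inter_union_distrib_left]; exact .union _ _ ihc ihd
  | union c d _ _ ihc ihd => rw [Set.union_inter_distrib_right]; exact .union _ _ ihc ihd

theorem FLC.exists_mem {s : Set X} (hs : FLC s) {x : X} (hx : x ∈ s) :
    ∃ L, IsLocallyClosed L ∧ x ∈ L ∧ L ⊆ s := by
  induction hs with
  | lc L hL => exact ⟨L, hL, hx, subset_rfl⟩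
  | union a b _ _ iha ihb =>
    rcases hx with hx | hx
    · obtain ⟨L, h1, h2, h3⟩ := iha hx; exact ⟨L, h1, h2, h3.trans subset_union_left⟩
    · obtain ⟨L, h1, h2, h3⟩ := ihb hx; exact ⟨L, h1, h2, h3.trans subset_union_right⟩

theorem flc_of_isConstructible {s : Set X} (hs : IsConstructible s) : FLC s ∧ FLC sᶜ := by
  induction hs using IsConstructible.empty_union_induction with
  | open_retrocompact U hU _ =>
    exact ⟨.lc _ hU.isLocallyClosed, .lc _ hU.isClosed_compl.isLocallyClosed⟩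
  | union s _ t _ hs ht =>
    exact ⟨.union _ _ hs.1 ht.1, by rw [Set.compl_union]; exact hs.2.inter ht.2⟩
  | compl s _ hs => exact ⟨hs.2, by rw [compl_compl]; exact hs.1⟩

theorem isLocallyClosed_image_val {U : Set X} (hU : IsOpen U) {L : Set U}
    (hL : IsLocallyClosed L) : IsLocallyClosed (Subtype.val '' L) :=
  hL.image hU.isOpenEmbedding_subtypeVal.isInducing
    (by rw [Subtype.range_coe]; exact hU.isLocallyClosed)

theorem exists_locallyClosed_of_isLocallyConstructible {s : Set X}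
    (hs : IsLocallyConstructible s) {x : X} (hx : x ∈ s) :
    ∃ L, IsLocallyClosed L ∧ x ∈ L ∧ L ⊆ s := by
  obtain ⟨U, hUx, hUo, hc⟩ := hs x
  have hxU : x ∈ U := mem_of_mem_nhds hUx
  obtain ⟨L, hL, hxL, hLs⟩ := (flc_of_isConstructible hc).1.exists_mem (x := ⟨x, hxU⟩) hx
  refine ⟨Subtype.val '' L, isLocallyClosed_image_val hUo hL, ⟨_, hxL, rfl⟩, ?_⟩
  rintro _ ⟨y, hy, rfl⟩
  exact hLs hy

theorem exists_locallyClosed_of_isIndConstructible {E : Set X}
    (hE : ProCons.IsIndConstructible E) {x : X} (hx : x ∈ E) :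
    ∃ L, IsLocallyClosed L ∧ x ∈ L ∧ L ⊆ E := by
  obtain ⟨U, hUo, hxU, S, hS, hES⟩ := hE x
  have h1 : (⟨x, hxU⟩ : U) ∈ (Subtype.val ⁻¹' E : Set U) := hx
  rw [hES] at h1
  obtain ⟨T, hT, hxT⟩ := h1
  obtain ⟨L, hL, hxL, hLT⟩ := exists_locallyClosed_of_isLocallyConstructible (hS T hT) hxT
  refine ⟨Subtype.val '' L, isLocallyClosed_image_val hUo hL, ⟨_, hxL, rfl⟩, ?_⟩
  rintro _ ⟨y, hy, rfl⟩
  have h2 : y ∈ ⋃₀ S := ⟨T, hT, hLT hy⟩
  rw [← hES] at h2
  exact h2

/-- In a Jacobson space, a point of `E₁ ∩ E₂ ∩ F` (ind-constructible, ind-constructible, closed)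
can be replaced by a closed point. -/
theorem exists_closedPoint [JacobsonSpace X] {E₁ E₂ F : Set X}
    (hE₁ : ProCons.IsIndConstructible E₁) (hE₂ : ProCons.IsIndConstructible E₂)
    (hF : IsClosed F) {x : X} (hx₁ : x ∈ E₁) (hx₂ : x ∈ E₂) (hxF : x ∈ F) :
    ∃ w, IsClosed ({w} : Set X) ∧ w ∈ E₁ ∧ w ∈ E₂ ∧ w ∈ F := by
  obtain ⟨L₁, hL₁, hxL₁, hLE₁⟩ := exists_locallyClosed_of_isIndConstructible hE₁ hx₁
  obtain ⟨L₂, hL₂, hxL₂, hLE₂⟩ := exists_locallyClosed_of_isIndConstructible hE₂ hx₂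
  obtain ⟨w, ⟨⟨hw1, hw2⟩, hwF⟩, hw⟩ := nonempty_inter_closedPoints (Z := (L₁ ∩ L₂) ∩ F)
    ⟨x, ⟨hxL₁, hxL₂⟩, hxF⟩ ((hL₁.inter hL₂).inter hF.isLocallyClosed)
  exact ⟨w, hw, hLE₁ hw1, hLE₂ hw2, hwF⟩

end Groth.Agent.Lib.Helper28.IndConsPt
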