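import Mathlib

/-!
# Invariants of a finitely presented algebra under a finite group of invertible order (helper28)
-/

set_option autoImplicit false
universe u v w

open TensorProduct

namespace Groth.Agent.Lib.Helper28.InvFP

section Rey

variable {R : Type u} [CommRing R] {P : Type v} [CommRing P] [Algebra R P]
  {G : Type w} [Group G] [Fintype G] [MulSemiringAction G P] [SMulCommClass G R P]

variable (G) in
/-- the Reynolds operator (for `c = 1/|G|`) -/
noncomputable def rey (c : R) (x : P) : P := c • ∑ g : G, g • x

lemma smul_rey (c : R) (x : P) (h : G) : h • rey G c x = rey G c x := by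
  unfold rey
  rw [smul_comm, Finset.smul_sum]
  congr 1
  simp only [← mul_smul]
  exact Fintype.sum_equiv (Equiv.mulLeft h) _ _ (fun g => rfl)

lemma rey_add (c : R) (x y : P) : rey G c (x + y) = rey G c x + rey G c y := by
  unfold rey
  simp only [smul_add, Finset.sum_add_distrib]

lemma rey_zero (c : R) : rey G c (0 : P) = 0 := by
  unfold rey
  simp only [smul_zero, Finset.sum_const_zero]

lemma rey_of_fixed (c : R) (hc : (Fintype.card G : R) * c = 1) (x : P) (hx : ∀ g : G, g • x = x) :
    rey G c x = x := by
  unfold rey
  simp only [hx, Finset.sum_const, Finset.card_univ]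
  rw [← Nat.cast_smul_eq_nsmul R, ← mul_smul, mul_comm, hc, one_smul]

lemma rey_mul_fixed (c : R) (b x : P) (hb : ∀ g : G, g • b = b) :
    rey G c (b * x) = b * rey G c x := by
  unfold rey
  simp only [smul_mul', hb]
  rw [← Finset.mul_sum, mul_smul_comm]

lemma rey_mem (c : R) (x : P) : rey G c x ∈ FixedPoints.subalgebra R P G :=
  fun h => smul_rey c x h

lemma rey_map {A : Type*} [CommRing A] [Algebra R A] [MulSemiringAction G A]
    (π : P →ₐ[R] A) (hπ : ∀ (g : G) (p : P), π (g • p) = g • π p) (c : R) (x : P) :
    π (rey G c x) = rey G c (π x) := by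
  unfold rey
  rw [map_smul, map_sum]
  simp only [hπ]

end Rey

section LemmaA

variable {R : Type u} [CommRing R] {P : Type v} [CommRing P] [Algebra R P]
  {G : Type w} [Group G] [Fintype G] [MulSemiringAction G P] [SMulCommClass G R P]

/-- If `S ≤ P^G` with `S` finitely presented over `R`, `P` finitely presented over `R` and finite
over `S`, and `|G|` is invertible, then `P^G` is finitely presented over `R`. -/
theorem fixedPoints_fp (c : R) (hc : (Fintype.card G : R) * c = 1)
    (S : Subalgebra R P) (hS : S ≤ FixedPoints.subalgebra R P G)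
    [Algebra.FinitePresentation R S] [Algebra.FinitePresentation R P] [Module.Finite S P] :
    Algebra.FinitePresentation R (FixedPoints.subalgebra R P G) := by
  letI : Algebra S (FixedPoints.subalgebra R P G) := (Subalgebra.inclusion hS).toRingHom.toAlgebra
  haveI : IsScalarTower R S (FixedPoints.subalgebra R P G) :=
    IsScalarTower.of_algebraMap_eq (fun r => rfl)
  haveI : IsScalarTower S (FixedPoints.subalgebra R P G) P :=
    IsScalarTower.of_algebraMap_eq (fun s => rfl)
  haveI : Algebra.FinitePresentation S P :=
    Algebra.FinitePresentation.of_restrict_scalars_finitePresentation R S P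
  haveI : Module.FinitePresentation S P :=
    Module.FinitePresentation.of_finite_of_finitePresentation S P
  let ρ : P →ₗ[S] FixedPoints.subalgebra R P G :=
    { toFun := fun x => ⟨rey G c x, rey_mem c x⟩
      map_add' := fun x y => Subtype.ext (rey_add c x y)
      map_smul' := fun s x => by
        apply Subtype.ext
        show rey G c (s • x) = (s : P) * rey G c x
        rw [Algebra.smul_def]
        exact rey_mul_fixed c _ x (hS s.2) }
  have hρ : ∀ b : FixedPoints.subalgebra R P G, ρ (b : P) = b :=
    fun b => Subtype.ext (rey_of_fixed c hc _ b.2)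
  have hsurj : Function.Surjective ρ := fun b => ⟨b, hρ b⟩
  let ι : FixedPoints.subalgebra R P G →ₗ[S] P := IsScalarTower.toAlgHom S _ P |>.toLinearMap
  have hker : (LinearMap.ker ρ).FG := by
    have : LinearMap.ker ρ = LinearMap.range (LinearMap.id - ι ∘ₗ ρ) := by
      ext x
      constructor
      · intro hx
        refine ⟨x, ?_⟩
        rw [LinearMap.mem_ker] at hx
        show x - ι (ρ x) = x
        rw [hx, map_zero, sub_zero]
      · rintro ⟨y, rfl⟩
        rw [LinearMap.mem_ker]
        show ρ (y - ι (ρ y)) = 0
        rw [map_sub]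
        have : ρ (ι (ρ y)) = ρ y := hρ (ρ y)
        rw [this, sub_self]
    rw [this, LinearMap.range_eq_map]
    exact Submodule.FG.map _ Module.Finite.fg_top
  haveI : Module.FinitePresentation S (FixedPoints.subalgebra R P G) :=
    Module.finitePresentation_of_surjective ρ hsurj hker
  haveI : Algebra.FinitePresentation S (FixedPoints.subalgebra R P G) := inferInstance
  exact Algebra.FinitePresentation.trans R S _

end LemmaA

section LemmaB

variable {R : Type u} [CommRing R] {P : Type v} [CommRing P] [Algebra R P]
  {A : Type*} [CommRing A] [Algebra R A]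
  {G : Type w} [Group G] [Fintype G] [MulSemiringAction G P] [SMulCommClass G R P]
  [MulSemiringAction G A] [SMulCommClass G R A]

/-- the Reynolds operator as a `P^G`-linear map `P → P^G` -/
noncomputable def reyB (c : R) : P →ₗ[FixedPoints.subalgebra R P G] FixedPoints.subalgebra R P G where
  toFun x := ⟨rey G c x, rey_mem c x⟩
  map_add' x y := Subtype.ext (rey_add c x y)
  map_smul' b x := by
    apply Subtype.ext
    show rey G c (b • x) = (b : P) * rey G c x
    rw [Algebra.smul_def]
    exact rey_mul_fixed c _ x b.2

lemma reyB_coe (c : R) (x : P) : ((reyB (G := G) c x : FixedPoints.subalgebra R P G) : P) =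
    rey G c x := rfl

theorem fixedPoints_fp_of_surjective (c : R) (hc : (Fintype.card G : R) * c = 1)
    (π : P →ₐ[R] A) (hπ : ∀ (g : G) (p : P), π (g • p) = g • π p) (hsurj : Function.Surjective π)
    (hker : (RingHom.ker π.toRingHom).FG)
    [Module.Finite (FixedPoints.subalgebra R P G) P]
    [Algebra.FinitePresentation R (FixedPoints.subalgebra R P G)] :
    Algebra.FinitePresentation R (FixedPoints.subalgebra R A G) := by
  let f : FixedPoints.subalgebra R P G →ₐ[R] FixedPoints.subalgebra R A G :=
    (π.comp (FixedPoints.subalgebra R P G).val).codRestrict _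
      (fun b g => by
        show g • π (b : P) = π (b : P)
        rw [← hπ, b.2 g])
  have hfcoe : ∀ b : FixedPoints.subalgebra R P G, ((f b : FixedPoints.subalgebra R A G) : A) =
      π (b : P) := fun b => rfl
  have hf : Function.Surjective f := by
    intro a
    obtain ⟨p, hp⟩ := hsurj a
    refine ⟨reyB c p, Subtype.ext ?_⟩
    rw [hfcoe, reyB_coe, rey_map π hπ, hp, rey_of_fixed c hc _ a.2]
  refine Algebra.FinitePresentation.of_surjective hf ?_
  obtain ⟨F, hF⟩ := hker
  obtain ⟨Y, hY⟩ := (Module.Finite.fg_top : (⊤ : Submodule (FixedPoints.subalgebra R P G) P).FG)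
  classical
  set K : Ideal (FixedPoints.subalgebra R P G) :=
    Ideal.span (((Y ×ˢ F).image (fun yf => reyB (G := G) c (yf.1 * yf.2)) : Finset _) : Set _) with hK
  refine ⟨(Y ×ˢ F).image (fun yf => reyB (G := G) c (yf.1 * yf.2)), ?_⟩
  rw [← hK]
  have hFker : ∀ f0 ∈ F, π f0 = 0 := by
    intro f0 hf0
    have : f0 ∈ RingHom.ker π.toRingHom := by
      rw [← hF]
      exact Ideal.subset_span hf0
    exact this
  apply le_antisymm
  · rw [hK, Ideal.span_le]
    intro z hz
    rw [Finset.mem_coe, Finset.mem_image] at hz
    obtain ⟨⟨y, f0⟩, hyf, rfl⟩ := hz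
    rw [Finset.mem_product] at hyf
    show f (reyB c (y * f0)) = 0
    apply Subtype.ext
    rw [hfcoe, reyB_coe, rey_map π hπ, map_mul, hFker f0 hyf.2, mul_zero, rey_zero]
    rfl
  · intro x hx
    -- inner claim
    have inner : ∀ f0 ∈ F, ∀ p : P, reyB (G := G) c (p * f0) ∈ K := by
      intro f0 hf0
      have hle : (⊤ : Submodule (FixedPoints.subalgebra R P G) P) ≤
          Submodule.comap ((reyB (G := G) c) ∘ₗ
            (LinearMap.mulRight (FixedPoints.subalgebra R P G) f0)) K := by
        rw [← hY, Submodule.span_le]
        intro y hy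
        show reyB (G := G) c (y * f0) ∈ K
        apply Ideal.subset_span
        rw [Finset.mem_coe, Finset.mem_image]
        exact ⟨(y, f0), Finset.mem_product.2 ⟨hy, hf0⟩, rfl⟩
      intro p
      exact hle (Submodule.mem_top : p ∈ ⊤)
    have outer : ∀ z ∈ Ideal.span (F : Set P), ∀ p : P, reyB (G := G) c (p * z) ∈ K := by
      intro z hz
      induction hz using Submodule.span_induction with
      | mem z hz => exact inner z hz
      | zero => intro p; rw [mul_zero, map_zero]; exact K.zero_mem
      | add z w _ _ hz hw => intro p; rw [mul_add, map_add]; exact K.add_mem (hz p) (hw p)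
      | smul a z _ hz =>
        intro p
        rw [smul_eq_mul, ← mul_assoc]
        exact hz (p * a)
    have hxker : (x : P) ∈ Ideal.span (F : Set P) := by
      rw [hF]
      have h1 : f x = 0 := hx
      have h2 := congrArg Subtype.val h1
      rw [hfcoe] at h2
      exact h2
    have h3 := outer _ hxker 1
    rw [one_mul] at h3
    have h4 : reyB (G := G) c (x : P) = x := Subtype.ext (rey_of_fixed c hc _ x.2)
    rwa [h4] at h3

end LemmaB

section Perm

variable (R : Type u) [CommRing R] (σ : Type w)

/-- the permutation action on the polynomial ring -/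
noncomputable def permAction : MulSemiringAction (Equiv.Perm σ) (MvPolynomial σ R) where
  smul e p := MvPolynomial.rename e p
  one_smul p := MvPolynomial.rename_id_apply p
  mul_smul e e' p := (MvPolynomial.rename_rename e' e p).symm
  smul_zero e := map_zero _
  smul_add e p q := map_add _ p q
  smul_one e := map_one _
  smul_mul e p q := map_mul _ p q

end Perm

section Main

/-- **Invariants of a finitely presented algebra under a finite group of invertible order are
finitely presented.** -/
theorem main {R : Type u} {A : Type v} [CommRing R] [CommRing A] [Algebra R A]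
    [Algebra.FinitePresentation R A]
    {G : Type w} [Group G] [Finite G] [MulSemiringAction G A] [SMulCommClass G R A]
    (hG : IsUnit ((Nat.card G : ℕ) : R)) :
    Algebra.FinitePresentation R (FixedPoints.subalgebra R A G) := by
  classical
  cases nonempty_fintype G
  obtain ⟨m, f0, hf0⟩ := Algebra.FiniteType.iff_quotient_mvPolynomial''.1
    (inferInstance : Algebra.FiniteType R A)
  let φ : G →* Equiv.Perm (G × Fin m) :=
    { toFun := fun g => (Equiv.mulLeft g).prodCongr (Equiv.refl _)
      map_one' := by
        ext x <;> simp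
      map_mul' := fun g h => by
        ext x <;> simp [mul_assoc] }
  letI iP : MulSemiringAction (Equiv.Perm (G × Fin m)) (MvPolynomial (G × Fin m) R) :=
    permAction R (G × Fin m)
  letI iG : MulSemiringAction G (MvPolynomial (G × Fin m) R) := MulSemiringAction.compHom _ φ
  have hsmul : ∀ (g : G) (p : MvPolynomial (G × Fin m) R),
      g • p = MvPolynomial.rename (φ g) p := fun g p => rfl
  haveI : SMulCommClass G R (MvPolynomial (G × Fin m) R) :=
    ⟨fun g r p => by rw [hsmul, hsmul, map_smul]⟩
  let π : MvPolynomial (G × Fin m) R →ₐ[R] A :=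
    MvPolynomial.aeval (fun x : G × Fin m => x.1 • f0 (MvPolynomial.X x.2))
  have hπ : ∀ (g : G) (p : MvPolynomial (G × Fin m) R), π (g • p) = g • π p := by
    intro g p
    have : π.comp (MvPolynomial.rename (φ g)) = (MulSemiringAction.toAlgHom R A g).comp π := by
      apply MvPolynomial.algHom_ext
      intro x
      show π (MvPolynomial.rename (φ g) (MvPolynomial.X x)) = g • π (MvPolynomial.X x)
      rw [MvPolynomial.rename_X, MvPolynomial.aeval_X, MvPolynomial.aeval_X, ← mul_smul]
      rfl
    exact AlgHom.congr_fun this p
  have hsurj : Function.Surjective π := by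
    intro a
    obtain ⟨p, rfl⟩ := hf0 a
    refine ⟨MvPolynomial.rename (fun i => ((1 : G), i)) p, ?_⟩
    have : π.comp (MvPolynomial.rename (fun i => ((1 : G), i))) = f0 := by
      apply MvPolynomial.algHom_ext
      intro i
      show π (MvPolynomial.rename (fun i => ((1 : G), i)) (MvPolynomial.X i)) = _
      rw [MvPolynomial.rename_X, MvPolynomial.aeval_X, one_smul]
    exact AlgHom.congr_fun this p
  have hc : (Fintype.card G : R) * ((hG.unit⁻¹ : Rˣ) : R) = 1 := by
    rw [← Nat.card_eq_fintype_card]
    exact hG.mul_val_inv
  -- the symmetric subalgebra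
  have hS : MvPolynomial.symmetricSubalgebra (G × Fin m) R ≤
      FixedPoints.subalgebra R (MvPolynomial (G × Fin m) R) G := by
    intro s hs g
    exact hs (φ g)
  haveI : Algebra.FinitePresentation R (MvPolynomial.symmetricSubalgebra (G × Fin m) R) :=
    Algebra.FinitePresentation.equiv (MvPolynomial.esymmAlgEquiv (G × Fin m) R rfl)
  haveI : Algebra.IsInvariant (MvPolynomial.symmetricSubalgebra (G × Fin m) R)
      (MvPolynomial (G × Fin m) R) (Equiv.Perm (G × Fin m)) :=
    ⟨fun b hb => ⟨⟨b, hb⟩, rfl⟩⟩
  haveI : Algebra.IsIntegral (MvPolynomial.symmetricSubalgebra (G × Fin m) R)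
      (MvPolynomial (G × Fin m) R) :=
    Algebra.IsInvariant.isIntegral _ _ (Equiv.Perm (G × Fin m))
  haveI : Algebra.FiniteType (MvPolynomial.symmetricSubalgebra (G × Fin m) R)
      (MvPolynomial (G × Fin m) R) := .of_restrictScalars_finiteType R _ _
  haveI : Module.Finite (MvPolynomial.symmetricSubalgebra (G × Fin m) R)
      (MvPolynomial (G × Fin m) R) := Algebra.IsIntegral.finite
  haveI fpB : Algebra.FinitePresentation R
      (FixedPoints.subalgebra R (MvPolynomial (G × Fin m) R) G) :=
    fixedPoints_fp _ hc _ hS
  haveI : Algebra.IsInvariant (FixedPoints.subalgebra R (MvPolynomial (G × Fin m) R) G)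
      (MvPolynomial (G × Fin m) R) G :=
    ⟨fun b hb => ⟨⟨b, hb⟩, rfl⟩⟩
  haveI : Algebra.IsIntegral (FixedPoints.subalgebra R (MvPolynomial (G × Fin m) R) G)
      (MvPolynomial (G × Fin m) R) :=
    Algebra.IsInvariant.isIntegral _ _ G
  haveI : Algebra.FiniteType (FixedPoints.subalgebra R (MvPolynomial (G × Fin m) R) G)
      (MvPolynomial (G × Fin m) R) := .of_restrictScalars_finiteType R _ _
  haveI : Module.Finite (FixedPoints.subalgebra R (MvPolynomial (G × Fin m) R) G)
      (MvPolynomial (G × Fin m) R) := Algebra.IsIntegral.finite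
  exact fixedPoints_fp_of_surjective _ hc π hπ hsurj
    (Algebra.FinitePresentation.ker_fG_of_surjective π hsurj)

end Main

end Groth.Agent.Lib.Helper28.InvFP
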