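import Mathlib

/-!
# Jouanolou's trick for quasi-affine schemes (helper28)

For `X` quasi-affine with `A = Γ(X, ⊤)`, pick `f₁, …, fₙ ∈ A` whose basic opens cover the image of
`X ⟶ Spec A`.  `T = Spec A[s, x₁, …, xₙ] / (∑ fᵢ xᵢ - 1)` maps to `X` and becomes a trivial
`𝔸ⁿ`-bundle over every affine scheme over `X`.
-/

open CategoryTheory AlgebraicGeometry Limits

namespace Groth.Agent.Lib.Helper28.Jouanolou

universe u

section Ring

variable {A : Type u} [CommRing A] {ι : Type u} [Fintype ι] (f : ι → A)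

/-- the relation `∑ fᵢ xᵢ - 1`. -/
noncomputable def rel : MvPolynomial (Option ι) A :=
  ∑ i, MvPolynomial.C (f i) * MvPolynomial.X (some i) - 1

/-- the Jouanolou ring. -/
abbrev Q : Type u := MvPolynomial (Option ι) A ⧸ Ideal.span {rel f}

/-- structure map. -/
noncomputable def psi : A →+* Q f := (Ideal.Quotient.mk _).comp MvPolynomial.C

/-- the variables. -/
noncomputable def xv (o : Option ι) : Q f := Ideal.Quotient.mk _ (MvPolynomial.X o)

lemma sum_psi_mul_xv : ∑ i, psi f (f i) * xv f (some i) = 1 := by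
  have : Ideal.Quotient.mk (Ideal.span {rel f}) (rel f) = 0 :=
    Ideal.Quotient.eq_zero_iff_mem.mpr (Ideal.subset_span rfl)
  have h2 : Ideal.Quotient.mk (Ideal.span {rel f})
      (∑ i, MvPolynomial.C (f i) * MvPolynomial.X (some i) - 1) = 0 := this
  rw [map_sub, map_sum, map_one, sub_eq_zero] at h2
  rw [← h2]
  apply Finset.sum_congr rfl
  intro i _
  rw [map_mul]
  rfl

/-- lifting out of `Q`. -/
noncomputable def liftQ {R : Type u} [CommRing R] (ρ : A →+* R) (vals : Option ι → R)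
    (h : ∑ i, ρ (f i) * vals (some i) = 1) : Q f →+* R :=
  Ideal.Quotient.lift _ (MvPolynomial.eval₂Hom ρ vals) (by
    intro a ha
    obtain ⟨c, rfl⟩ := Ideal.mem_span_singleton'.mp ha
    simp [rel, h])

lemma liftQ_psi {R : Type u} [CommRing R] (ρ : A →+* R) (vals : Option ι → R)
    (h : ∑ i, ρ (f i) * vals (some i) = 1) (a : A) : liftQ f ρ vals h (psi f a) = ρ a := by
  simp [liftQ, psi]

lemma liftQ_xv {R : Type u} [CommRing R] (ρ : A →+* R) (vals : Option ι → R)
    (h : ∑ i, ρ (f i) * vals (some i) = 1) (o : Option ι) :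
    liftQ f ρ vals h (xv f o) = vals o := by
  simp [liftQ, xv]

lemma Q_hom_ext {R : Type u} [CommRing R] (a b : Q f →+* R)
    (h1 : ∀ x, a (psi f x) = b (psi f x)) (h2 : ∀ o, a (xv f o) = b (xv f o)) : a = b := by
  apply Ideal.Quotient.ringHom_ext
  apply MvPolynomial.ringHom_ext
  · intro x; exact h1 x
  · intro o; exact h2 o

end Ring

section Scheme

/-- pullback on global sections as a ring hom. -/
abbrev pb {Y Z : Scheme.{u}} (h : Y ⟶ Z) : Γ(Z, ⊤) →+* Γ(Y, ⊤) := h.appTop.hom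

lemma pb_comp {W Y Z : Scheme.{u}} (h : W ⟶ Y) (k : Y ⟶ Z) :
    pb (h ≫ k) = (pb h).comp (pb k) := rfl

lemma pb_comp_apply {W Y Z : Scheme.{u}} (h : W ⟶ Y) (k : Y ⟶ Z) (x : Γ(Z, ⊤)) :
    pb (h ≫ k) x = pb h (pb k x) := rfl

/-- maps into `Spec R` are determined by the induced map `R → Γ`. -/
lemma hom_Spec_ext {Y : Scheme.{u}} {R : CommRingCat.{u}} (a b : Y ⟶ Spec R)
    (h : (Scheme.ΓSpecIso R).inv ≫ a.appTop = (Scheme.ΓSpecIso R).inv ≫ b.appTop) : a = b :=
  ext_of_isAffine ((cancel_epi _).mp h)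

lemma toSpecΓ_SpecMap_appTop {Y : Scheme.{u}} {R : CommRingCat.{u}} (θ : R ⟶ Γ(Y, ⊤)) :
    (Scheme.ΓSpecIso R).inv ≫ (Y.toSpecΓ ≫ Spec.map θ).appTop = θ := by
  simp only [Scheme.Hom.comp_appTop, Scheme.toSpecΓ_appTop, Scheme.ΓSpecIso_naturality,
    Iso.inv_hom_id_assoc]

variable (X : Scheme.{u}) [X.IsQuasiAffine]

lemma exists_gens : ∃ (n : ℕ) (f : ULift.{u} (Fin n) → Γ(X, ⊤)),
    (PrimeSpectrum.zeroLocus (Set.range f))ᶜ = Set.range X.toSpecΓ := by
  have h1 : IsCompact (Set.range X.toSpecΓ) := isCompact_range X.toSpecΓ.continuous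
  have h2 : IsOpen (Set.range X.toSpecΓ) := X.toSpecΓ.isOpenEmbedding.isOpen_range
  obtain ⟨t, ht⟩ := PrimeSpectrum.isCompact_isOpen_iff.mp ⟨h1, h2⟩
  refine ⟨t.card, fun i => ((t.equivFin.symm i.down : t) : Γ(X, ⊤)), ?_⟩
  rw [← ht]
  congr 2
  ext a
  simp only [Set.mem_range, Finset.mem_coe]
  constructor
  · rintro ⟨i, rfl⟩
    exact (t.equivFin.symm i.down).2
  · intro ha
    exact ⟨⟨t.equivFin ⟨a, ha⟩⟩, by simp⟩

variable {X} {ι : Type u} [Fintype ι] (f : ι → Γ(X, ⊤))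
  (hf : (PrimeSpectrum.zeroLocus (Set.range f))ᶜ = Set.range X.toSpecΓ)

/-- The Jouanolou scheme. -/
noncomputable abbrev T : Scheme.{u} := Spec (CommRingCat.of (Q f))

/-- `psi` as a morphism in `CommRingCat`. -/
noncomputable def psiC : Γ(X, ⊤) ⟶ CommRingCat.of (Q f) := CommRingCat.ofHom (psi f)

/-- the map to `Spec A`. -/
noncomputable def g₀ : T f ⟶ Spec Γ(X, ⊤) := Spec.map (psiC f)

include hf in
lemma range_g₀ : Set.range (g₀ f) ⊆ Set.range X.toSpecΓ := by
  rw [← hf]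
  rintro _ ⟨q, rfl⟩
  intro hq
  have h : ∀ i, psi f (f i) ∈ q.asIdeal := fun i => hq ⟨i, rfl⟩
  have : (1 : Q f) ∈ q.asIdeal := by
    rw [← sum_psi_mul_xv f]
    exact Ideal.sum_mem _ (fun i _ => Ideal.mul_mem_right _ _ (h i))
  exact q.isPrime.ne_top ((Ideal.eq_top_iff_one _).mpr this)

/-- the Jouanolou map. -/
noncomputable def p : T f ⟶ X := IsOpenImmersion.lift X.toSpecΓ (g₀ f) (range_g₀ f hf)

lemma p_fac : p f hf ≫ X.toSpecΓ = g₀ f := IsOpenImmersion.lift_fac _ _ _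

lemma p_appTop : (p f hf).appTop = psiC f ≫ (Scheme.ΓSpecIso (.of (Q f))).inv := by
  have h := congr(($(p_fac f hf)).appTop)
  rw [Scheme.Hom.comp_appTop, Scheme.toSpecΓ_appTop] at h
  rw [Iso.eq_comp_inv, ← cancel_epi (Scheme.ΓSpecIso Γ(X, ⊤)).hom, ← Category.assoc, h]
  exact Scheme.ΓSpecIso_naturality _

variable {X' : Scheme.{u}} [IsAffine X'] (g : X' ⟶ X)

include hf in
lemma span_eq_top : Ideal.span (Set.range fun i => pb g (f i)) = ⊤ := by
  by_contra hne
  obtain ⟨M, hM, hle⟩ := Ideal.exists_le_maximal _ hne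
  let P : Spec Γ(X', ⊤) := ⟨M, hM.isPrime⟩
  obtain ⟨x', hx'⟩ := X'.toSpecΓ.surjective P
  have h1 : (Spec.map g.appTop) P ∈ Set.range X.toSpecΓ := by
    refine ⟨g x', ?_⟩
    rw [← hx']
    have := congr($(Scheme.toSpecΓ_naturality g) x')
    simpa using this
  rw [← hf] at h1
  apply h1
  rintro _ ⟨i, rfl⟩
  exact hle (Ideal.subset_span ⟨i, rfl⟩)

include hf in
lemma exists_b : ∃ b : ι → Γ(X', ⊤), ∑ i, pb g (f i) * b i = 1 := by
  have h1 : (1 : Γ(X', ⊤)) ∈ Ideal.span (Set.range fun i => pb g (f i)) := by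
    rw [span_eq_top f hf g]; trivial
  obtain ⟨c, hc⟩ := (Ideal.mem_span_range_iff_exists_fun).mp h1
  exact ⟨c, by simpa [mul_comm] using hc⟩

variable (b : ι → Γ(X', ⊤)) (hb : ∑ i, pb g (f i) * b i = 1)

/-- `σ = ∑ fⱼ cⱼ`. -/
noncomputable def sigma : Γ(𝔸(ι; X'), ⊤) :=
  ∑ j, pb ((𝔸(ι; X') ↘ X') ≫ g) (f j) * AffineSpace.coord X' j

/-- the values of the variables. -/
noncomputable def vals : Option ι → Γ(𝔸(ι; X'), ⊤)
  | none => sigma f g
  | some i => pb (𝔸(ι; X') ↘ X') (b i) + AffineSpace.coord X' i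
      - sigma f g * pb (𝔸(ι; X') ↘ X') (b i)

include hb in
lemma sum_pb_b {Y : Scheme.{u}} (h : Y ⟶ X') : ∑ i, pb (h ≫ g) (f i) * pb h (b i) = 1 := by
  have := congr(pb h $hb)
  simpa [map_sum, map_mul, pb_comp_apply] using this

include hb in
lemma vals_rel : ∑ i, pb ((𝔸(ι; X') ↘ X') ≫ g) (f i) * vals f g b (some i) = 1 := by
  have key := sum_pb_b f g b hb (𝔸(ι; X') ↘ X')
  calc ∑ i, pb ((𝔸(ι; X') ↘ X') ≫ g) (f i) * vals f g b (some i)
      = ∑ i, pb ((𝔸(ι; X') ↘ X') ≫ g) (f i) * pb (𝔸(ι; X') ↘ X') (b i) + sigma f g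
        - sigma f g * ∑ i, pb ((𝔸(ι; X') ↘ X') ≫ g) (f i) * pb (𝔸(ι; X') ↘ X') (b i) := by
        rw [Finset.mul_sum, sigma, ← Finset.sum_add_distrib, ← Finset.sum_sub_distrib]
        apply Finset.sum_congr rfl
        intro i _
        simp only [vals, sigma]
        ring
    _ = 1 := by rw [key]; ring

/-- the ring map `Q → Γ(𝔸)`. -/
noncomputable def theta : Q f →+* Γ(𝔸(ι; X'), ⊤) :=
  liftQ f (pb ((𝔸(ι; X') ↘ X') ≫ g)) (vals f g b) (vals_rel f g b hb)

/-- `theta` as a morphism in `CommRingCat`. -/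
noncomputable def thetaC : CommRingCat.of (Q f) ⟶ Γ(𝔸(ι; X'), ⊤) :=
  CommRingCat.ofHom (theta f g b hb)

/-- the map `𝔸 ⟶ T`. -/
noncomputable def tau : 𝔸(ι; X') ⟶ T f := 𝔸(ι; X').toSpecΓ ≫ Spec.map (thetaC f g b hb)

lemma tau_appTop : (Scheme.ΓSpecIso (.of (Q f))).inv ≫ (tau f g b hb).appTop = thetaC f g b hb :=
  toSpecΓ_SpecMap_appTop _

lemma psiC_thetaC : psiC f ≫ thetaC f g b hb = ((𝔸(ι; X') ↘ X') ≫ g).appTop := by
  ext a
  exact liftQ_psi f _ _ (vals_rel f g b hb) a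

lemma tau_p : tau f g b hb ≫ p f hf = (𝔸(ι; X') ↘ X') ≫ g := by
  rw [← cancel_mono X.toSpecΓ, Category.assoc, p_fac, Scheme.toSpecΓ_naturality, tau, g₀,
    Category.assoc, ← Spec.map_comp, psiC_thetaC]

/-- the inverse of the trivialisation. -/
noncomputable def inv : 𝔸(ι; X') ⟶ pullback g (p f hf) :=
  pullback.lift (𝔸(ι; X') ↘ X') (tau f g b hb) (tau_p f hf g b hb).symm

/-- the ring map `Q → Γ(pullback)`. -/
noncomputable def kappa : Q f →+* Γ(pullback g (p f hf), ⊤) :=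
  (pb (pullback.snd g (p f hf))).comp (Scheme.ΓSpecIso (.of (Q f))).inv.hom

lemma kappa_psi (a : Γ(X, ⊤)) :
    kappa f hf g (psi f a) = pb (pullback.fst g (p f hf) ≫ g) a := by
  rw [pullback.condition]
  have h : pb (pullback.snd g (p f hf) ≫ p f hf) a
      = pb (pullback.snd g (p f hf)) ((p f hf).appTop.hom a) := rfl
  rw [h, p_appTop]
  rfl

/-- the coordinate functions of the trivialisation. -/
noncomputable def uu (i : ι) : Γ(pullback g (p f hf), ⊤) :=
  kappa f hf g (xv f (some i)) - pb (pullback.fst g (p f hf)) (b i)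
    + kappa f hf g (xv f none) * pb (pullback.fst g (p f hf)) (b i)

/-- the trivialisation. -/
noncomputable def hom : pullback g (p f hf) ⟶ 𝔸(ι; X') :=
  AffineSpace.homOfVector (pullback.fst g (p f hf)) (uu f hf g b)

lemma hom_over : hom f hf g b ≫ (𝔸(ι; X') ↘ X') = pullback.fst g (p f hf) :=
  AffineSpace.homOfVector_over _ _

lemma pb_hom_coord (i : ι) : pb (hom f hf g b) (AffineSpace.coord X' i) = uu f hf g b i :=
  AffineSpace.homOfVector_appTop_coord _ _ i

include hb in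
lemma sum_uu : ∑ j, pb (pullback.fst g (p f hf) ≫ g) (f j) * uu f hf g b j
    = kappa f hf g (xv f none) := by
  have h1 : ∑ j, pb (pullback.fst g (p f hf) ≫ g) (f j) * kappa f hf g (xv f (some j)) = 1 := by
    have := congr(kappa f hf g $(sum_psi_mul_xv f))
    simpa [map_sum, map_mul, kappa_psi] using this
  have h2 := sum_pb_b f g b hb (pullback.fst g (p f hf))
  calc ∑ j, pb (pullback.fst g (p f hf) ≫ g) (f j) * uu f hf g b j
      = ∑ j, pb (pullback.fst g (p f hf) ≫ g) (f j) * kappa f hf g (xv f (some j))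
        - ∑ j, pb (pullback.fst g (p f hf) ≫ g) (f j) * pb (pullback.fst g (p f hf)) (b j)
        + kappa f hf g (xv f none)
          * ∑ j, pb (pullback.fst g (p f hf) ≫ g) (f j) * pb (pullback.fst g (p f hf)) (b j) := by
        rw [Finset.mul_sum, ← Finset.sum_sub_distrib, ← Finset.sum_add_distrib]
        apply Finset.sum_congr rfl
        intro j _
        simp only [uu]
        ring
    _ = kappa f hf g (xv f none) := by rw [h1, h2]; ring

lemma pb_hom_sigma :
    pb (hom f hf g b) (sigma f g) = ∑ j, pb (pullback.fst g (p f hf) ≫ g) (f j) * uu f hf g b j := by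
  rw [sigma, map_sum]
  apply Finset.sum_congr rfl
  intro j _
  rw [map_mul, pb_hom_coord, ← pb_comp_apply, ← Category.assoc, hom_over]

include hb in
lemma pb_hom_theta : (pb (hom f hf g b)).comp (theta f g b hb) = kappa f hf g := by
  apply Q_hom_ext
  · intro a
    rw [RingHom.comp_apply, theta, liftQ_psi, kappa_psi, ← pb_comp_apply, ← Category.assoc, hom_over]
  · intro o
    rw [RingHom.comp_apply, theta, liftQ_xv]
    cases o with
    | none =>
      simp only [vals]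
      rw [pb_hom_sigma, sum_uu f hf g b hb]
    | some i =>
      simp only [vals]
      rw [map_sub, map_add, map_mul, pb_hom_sigma, sum_uu f hf g b hb, pb_hom_coord,
        ← pb_comp_apply, hom_over, uu]
      ring

include hb in
lemma hom_tau : hom f hf g b ≫ tau f g b hb = pullback.snd g (p f hf) := by
  apply hom_Spec_ext
  rw [Scheme.Hom.comp_appTop, ← Category.assoc, tau_appTop]
  apply CommRingCat.hom_ext
  exact pb_hom_theta f hf g b hb

lemma hom_inv : hom f hf g b ≫ inv f hf g b hb = 𝟙 _ := by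
  apply pullback.hom_ext
  · rw [Category.assoc, inv, pullback.lift_fst, hom_over, Category.id_comp]
  · rw [Category.assoc, inv, pullback.lift_snd, hom_tau, Category.id_comp]

lemma pb_inv_kappa (q : Q f) : pb (inv f hf g b hb) (kappa f hf g q) = theta f g b hb q := by
  have h1 : pb (inv f hf g b hb) (kappa f hf g q)
      = pb (inv f hf g b hb ≫ pullback.snd g (p f hf))
        ((Scheme.ΓSpecIso (.of (Q f))).inv.hom q) := rfl
  rw [h1, inv, pullback.lift_snd]
  exact DFunLike.congr_fun (congr(($(tau_appTop f g b hb)).hom)) q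

lemma pb_inv_fst (x : Γ(X', ⊤)) : pb (inv f hf g b hb) (pb (pullback.fst g (p f hf)) x)
    = pb (𝔸(ι; X') ↘ X') x := by
  rw [← pb_comp_apply, inv, pullback.lift_fst]

lemma inv_hom : inv f hf g b hb ≫ hom f hf g b = 𝟙 _ := by
  apply AffineSpace.hom_ext
  · rw [Category.assoc, hom_over, inv, pullback.lift_fst, Category.id_comp]
  · intro i
    change pb (inv f hf g b hb ≫ hom f hf g b) (AffineSpace.coord X' i)
      = pb (𝟙 _) (AffineSpace.coord X' i)
    rw [pb_comp_apply, pb_hom_coord, uu, map_add, map_sub, map_mul, pb_inv_kappa, pb_inv_kappa,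
      pb_inv_fst, theta, liftQ_xv, liftQ_xv]
    simp only [vals]
    change _ = AffineSpace.coord X' i
    ring

/-- the trivialisation as an isomorphism. -/
noncomputable def triv : pullback g (p f hf) ≅ 𝔸(ι; X') where
  hom := hom f hf g b
  inv := inv f hf g b hb
  hom_inv_id := hom_inv f hf g b hb
  inv_hom_id := inv_hom f hf g b hb

end Scheme

theorem main (X : Scheme.{u}) [X.IsQuasiAffine] :
    ∃ (n : ℕ) (T : Scheme.{u}) (_ : IsAffine T) (p : T ⟶ X),
      ∀ (X' : Scheme.{u}) [IsAffine X'] (g : X' ⟶ X),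
        ∃ e : Limits.pullback g p ≅ 𝔸(ULift.{u} (Fin n); X'),
          e.hom ≫ (𝔸(ULift.{u} (Fin n); X') ↘ X') = Limits.pullback.fst g p := by
  obtain ⟨n, f, hf⟩ := exists_gens X
  refine ⟨n, T f, inferInstance, p f hf, ?_⟩
  intro X' _ g
  obtain ⟨b, hb⟩ := exists_b f hf g
  exact ⟨triv f hf g b hb, hom_over f hf g b⟩


end Groth.Agent.Lib.Helper28.Jouanolou
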