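import Groth.Agent.Lib.Helper28.ShearRing
import Groth.Agent.Lib.Helper11.TensorDomain

/-!
# Krull intersection for connected algebraic groups (helper28)

For a finitely generated connected commutative Hopf algebra over an algebraically closed field the
powers of the augmentation ideal have zero intersection.
-/

set_option autoImplicit false
universe u
open TensorProduct WithConv

namespace Groth.Agent.Lib.Helper28.KrullConn

open Groth.Agent.Lib.Helper28.ShearRing

section Translation

variable {k : Type u} [CommRing k] {A : Type u} [CommRing A] [HopfAlgebra k A]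

/-- left translation by a `k`-point: `a ↦ Σ g(a₁) a₂` -/
noncomputable def tau (g : A →ₐ[k] k) : A →ₐ[k] A :=
  (toConv ((Algebra.ofId k A).comp g) * toConv (AlgHom.id k A)).ofConv

lemma comp_tau (g h : A →ₐ[k] k) : h.comp (tau g) = (toConv g * toConv h).ofConv := by
  unfold tau
  rw [AlgHom.comp_convMul_distrib, ofConv_toConv, ofConv_toConv, AlgHom.comp_id]
  congr 3
  ext a
  simp [Algebra.ofId_apply]

lemma tau_one : tau ((1 : WithConv (A →ₐ[k] k)).ofConv) = AlgHom.id k A := by
  unfold tau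
  have h1 : (Algebra.ofId k A).comp (1 : WithConv (A →ₐ[k] k)).ofConv =
      (1 : WithConv (A →ₐ[k] A)).ofConv := by
    ext a
    simp [Algebra.ofId_apply]
  rw [h1, toConv_ofConv, one_mul, ofConv_toConv]

lemma tau_tau (g g' : A →ₐ[k] k) :
    (tau g).comp (tau g') = tau ((toConv g' * toConv g).ofConv) := by
  have h1 : (tau g).comp ((Algebra.ofId k A).comp g') = (Algebra.ofId k A).comp g' := by
    ext a
    simp [Algebra.ofId_apply]
  have h2 : (Algebra.ofId k A).comp (toConv g' * toConv g).ofConv =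
      (toConv ((Algebra.ofId k A).comp g') * toConv ((Algebra.ofId k A).comp g)).ofConv := by
    rw [AlgHom.comp_convMul_distrib]
  have h3 : (tau g).comp (tau g') = (toConv ((Algebra.ofId k A).comp g') *
      toConv (tau g)).ofConv := by
    show (tau g).comp (toConv ((Algebra.ofId k A).comp g') * toConv (AlgHom.id k A)).ofConv = _
    rw [AlgHom.comp_convMul_distrib, ofConv_toConv, ofConv_toConv, h1, AlgHom.comp_id]
  rw [h3]
  show _ = (toConv ((Algebra.ofId k A).comp (toConv g' * toConv g).ofConv) *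
    toConv (AlgHom.id k A)).ofConv
  rw [h2, toConv_ofConv, mul_assoc]
  rfl

/-- translation as an automorphism -/
noncomputable def tauEquiv (g : A →ₐ[k] k) : A ≃ₐ[k] A :=
  AlgEquiv.ofAlgHom (tau g) (tau (g.comp (HopfAlgebra.antipodeAlgHom k A)))
    (by rw [tau_tau, convInv_mul, tau_one])
    (by rw [tau_tau, conv_mul_inv, tau_one])

lemma tauEquiv_apply (g : A →ₐ[k] k) (a : A) : tauEquiv g a = tau g a := rfl

end Translation

section Ass

variable {A : Type u} [CommRing A] [IsNoetherianRing A]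

/-- associated primes are permuted by ring automorphisms -/
theorem comap_mem_associatedPrimes (σ : A ≃+* A) {P : Ideal A}
    (hP : P ∈ associatedPrimes A A) : P.comap (σ : A →+* A) ∈ associatedPrimes A A := by
  rw [AssociatedPrimes.mem_iff, isAssociatedPrime_iff] at hP ⊢
  obtain ⟨hprime, x, hx⟩ := hP
  haveI := hprime
  refine ⟨Ideal.comap_isPrime _ _, σ.symm x, ?_⟩
  ext a
  rw [Ideal.mem_comap, hx, Submodule.mem_colon_singleton, Submodule.mem_colon_singleton,
    Submodule.mem_bot, Submodule.mem_bot, smul_eq_mul, smul_eq_mul, RingHom.coe_coe]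
  constructor
  · intro h
    apply σ.injective
    rw [map_mul, RingEquiv.apply_symm_apply, h, map_zero]
  · intro h
    have := congrArg σ h
    rwa [map_mul, RingEquiv.apply_symm_apply, map_zero] at this

end Ass

section Main

variable (k : Type u) [Field k] (A : Type u) [CommRing A] [HopfAlgebra k A]

/-- the associated primes through a closed point -/
def S (h : A →ₐ[k] k) : Set (Ideal A) :=
  {P | P ∈ associatedPrimes A A ∧ P ≤ RingHom.ker h}

variable {k A}

lemma S_finite [IsNoetherianRing A] (h : A →ₐ[k] k) : (S k A h).Finite :=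
  (associatedPrimes.finite A A).subset (fun _ hP => hP.1)

lemma ncard_S_le [IsNoetherianRing A] (g h : A →ₐ[k] k) :
    (S k A h).ncard ≤ (S k A ((toConv g * toConv h).ofConv)).ncard := by
  refine Set.ncard_le_ncard_of_injOn
    (fun P => P.comap ((tauEquiv g).toRingEquiv : A →+* A)) ?_ ?_ (S_finite _)
  · rintro P ⟨hP1, hP2⟩
    refine ⟨comap_mem_associatedPrimes _ hP1, ?_⟩
    intro a ha
    rw [Ideal.mem_comap] at ha
    have h1 := hP2 ha
    rw [RingHom.mem_ker] at h1 ⊢
    have h2 := AlgHom.congr_fun (comp_tau g h) a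
    rw [AlgHom.comp_apply] at h2
    rw [← h2]
    exact h1
  · intro P _ Q _ hPQ
    exact Ideal.comap_injective_of_surjective _ (tauEquiv g).toRingEquiv.surjective hPQ

lemma ncard_S_eq [IsNoetherianRing A] (h h₀ : A →ₐ[k] k) :
    (S k A h).ncard ≤ (S k A h₀).ncard := by
  have h1 := ncard_S_le (toConv h₀ * toConv (h.comp (HopfAlgebra.antipodeAlgHom k A))).ofConv h
  rwa [toConv_ofConv, mul_assoc, convInv_mul, mul_one, ofConv_toConv] at h1

end Main

section Conn

variable {k : Type u} [Field k] [IsAlgClosed k] {A : Type u} [CommRing A] [HopfAlgebra k A]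
  [Algebra.FiniteType k A]

open Groth.Agent.Lib.Helper11.TensorDomain

/-- some closed point lies on exactly one associated prime -/
lemma exists_S_eq_singleton [IsNoetherianRing A] :
    ∃ (h₀ : A →ₐ[k] k) (P₀ : Ideal A), S k A h₀ = {P₀} := by
  haveI : Nontrivial A := (Bialgebra.counitAlgHom k A).toRingHom.domain_nontrivial
  have hfin := associatedPrimes.finite A A
  have hne : (associatedPrimes A A).Nonempty := associatedPrimes.nonempty A A
  obtain ⟨P₀, hP₀, hmin⟩ := hfin.exists_minimal hne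
  haveI hP₀prime : P₀.IsPrime := hP₀.isPrime
  -- an element of all associated primes not below `P₀`, outside `P₀`
  classical
  let T : Finset (Ideal A) := hfin.toFinset.filter (fun P => ¬ P ≤ P₀)
  have hT : ¬ T.inf id ≤ P₀ := by
    intro hle
    obtain ⟨P, hP, hPle⟩ := (Ideal.IsPrime.inf_le' hP₀prime).1 hle
    rw [Finset.mem_filter] at hP
    exact hP.2 hPle
  obtain ⟨f, hfT, hfP₀⟩ := SetLike.not_le_iff_exists.1 hT
  -- Jacobson
  haveI : IsJacobsonRing A := isJacobsonRing_of_finiteType (A := k)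
  have hjac : P₀.jacobson = P₀ := IsJacobsonRing.out' P₀ hP₀prime.isRadical
  have hf' : f ∉ P₀.jacobson := by rwa [hjac]
  rw [Ideal.jacobson, Ideal.mem_sInf] at hf'
  push_neg at hf'
  obtain ⟨𝔪, ⟨hle, hmax⟩, hf𝔪⟩ := hf'
  haveI := hmax
  obtain ⟨h₀, hh₀⟩ := exists_algHom_ker_eq (k := k) 𝔪
  refine ⟨h₀, P₀, ?_⟩
  ext P
  rw [Set.mem_singleton_iff]
  constructor
  · rintro ⟨hP1, hP2⟩
    have hP2' : P ≤ 𝔪 := by
      rw [← hh₀]
      exact hP2
    by_cases hPP₀ : P ≤ P₀
    · exact le_antisymm hPP₀ (hmin hP1 hPP₀)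
    · exfalso
      have hPT : P ∈ T := by
        rw [Finset.mem_filter, Set.Finite.mem_toFinset]
        exact ⟨hP1, hPP₀⟩
      have : f ∈ P := (Finset.inf_le hPT : T.inf id ≤ id P) hfT
      exact hf𝔪 (hP2' this)
  · rintro rfl
    refine ⟨hP₀, ?_⟩
    intro a ha
    have : a ∈ 𝔪 := hle ha
    rw [← hh₀] at this
    exact this

lemma S_ncard_eq_one [IsNoetherianRing A] (h : A →ₐ[k] k) : (S k A h).ncard = 1 := by
  obtain ⟨h₀, P₀, hS⟩ := exists_S_eq_singleton (k := k) (A := A)
  have h1 : (S k A h₀).ncard = 1 := by rw [hS, Set.ncard_singleton]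
  exact le_antisymm (h1 ▸ ncard_S_eq h h₀) (h1 ▸ ncard_S_eq h₀ h)

variable (k) in
include k in
/-- distinct associated primes are comaximal -/
lemma sup_eq_top_of_ne [IsNoetherianRing A] {P Q : Ideal A} (hP : P ∈ associatedPrimes A A)
    (hQ : Q ∈ associatedPrimes A A) (hne : P ≠ Q) : P ⊔ Q = ⊤ := by
  by_contra htop
  obtain ⟨𝔪, hmax, hle⟩ := Ideal.exists_le_maximal _ htop
  haveI := hmax
  obtain ⟨h, hh⟩ := exists_algHom_ker_eq (k := k) 𝔪
  obtain ⟨X, hX⟩ := Set.ncard_eq_one.1 (S_ncard_eq_one (k := k) h)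
  have hPm : P ∈ S k A h := ⟨hP, fun a ha => by
    have : a ∈ 𝔪 := hle (Ideal.mem_sup_left ha)
    rw [← hh] at this
    exact this⟩
  have hQm : Q ∈ S k A h := ⟨hQ, fun a ha => by
    have : a ∈ 𝔪 := hle (Ideal.mem_sup_right ha)
    rw [← hh] at this
    exact this⟩
  rw [hX, Set.mem_singleton_iff] at hPm hQm
  exact hne (hPm.trans hQm.symm)

variable (k) in
include k in
/-- a connected algebraic group has a single associated prime -/
theorem associatedPrimes_eq_singleton [IsNoetherianRing A]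
    (hconn : ∀ e : A, IsIdempotentElem e → e = 0 ∨ e = 1) :
    ∃ P₀ : Ideal A, associatedPrimes A A = {P₀} := by
  haveI : Nontrivial A := (Bialgebra.counitAlgHom k A).toRingHom.domain_nontrivial
  have hfin := associatedPrimes.finite A A
  obtain ⟨P₀, hP₀⟩ : (associatedPrimes A A).Nonempty := associatedPrimes.nonempty A A
  haveI hP₀prime : P₀.IsPrime := hP₀.isPrime
  refine ⟨P₀, ?_⟩
  ext P₁
  rw [Set.mem_singleton_iff]
  refine ⟨fun hP₁ => ?_, fun h => h ▸ hP₀⟩
  by_contra hne
  haveI hP₁prime : P₁.IsPrime := hP₁.isPrime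
  classical
  let T : Finset (Ideal A) := hfin.toFinset.erase P₀
  have hsup : P₀ ⊔ ⨅ P ∈ T, P = ⊤ := by
    apply Ideal.sup_iInf_eq_top
    intro P hP
    rw [Finset.mem_erase, Set.Finite.mem_toFinset] at hP
    exact sup_eq_top_of_ne k hP₀ hP.2 (Ne.symm hP.1)
  have h1 : (1 : A) ∈ P₀ ⊔ ⨅ P ∈ T, P := by rw [hsup]; exact Submodule.mem_top
  obtain ⟨p, hp, q, hq, hpq⟩ := Submodule.mem_sup.1 h1
  have hP₁T : P₁ ∈ T := by
    rw [Finset.mem_erase, Set.Finite.mem_toFinset]
    exact ⟨hne, hP₁⟩
  have hqmem : ∀ P ∈ T, q ∈ P := by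
    intro P hP
    have := Ideal.mem_iInf.1 hq P
    exact Ideal.mem_iInf.1 this hP
  -- `p * q` is nilpotent
  have hnil : p * q ∈ nilradical A := by
    rw [nilradical, ← Ideal.sInf_minimalPrimes, Ideal.mem_sInf]
    intro M hM
    have hMass : M ∈ associatedPrimes A A := by
      apply Module.associatedPrimes.minimalPrimes_annihilator_subset_associatedPrimes A A
      rw [Module.annihilator_eq_bot.2 inferInstance]
      exact hM
    by_cases hMP : M = P₀
    · rw [hMP]
      exact Ideal.mul_mem_right _ _ hp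
    · have hMT : M ∈ T := by
        rw [Finset.mem_erase, Set.Finite.mem_toFinset]
        exact ⟨hMP, hMass⟩
      exact Ideal.mul_mem_left _ _ (hqmem M hMT)
  obtain ⟨n, hn⟩ := mem_nilradical.1 hnil
  have hcop : IsCoprime p q := ⟨1, 1, by rw [one_mul, one_mul, hpq]⟩
  obtain ⟨a, b, hab⟩ := (hcop.pow (m := n + 1) (n := n + 1))
  have hzero : (a * p ^ (n + 1)) * (b * q ^ (n + 1)) = 0 := by
    have : (a * p ^ (n + 1)) * (b * q ^ (n + 1)) = a * b * ((p * q) ^ n * (p * q)) := by ring
    rw [this, hn, zero_mul, mul_zero]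
  have hidem : IsIdempotentElem (a * p ^ (n + 1)) := by
    have h2 : b * q ^ (n + 1) = 1 - a * p ^ (n + 1) := by rw [← hab]; ring
    rw [h2, mul_sub, mul_one, sub_eq_zero] at hzero
    exact hzero.symm
  rcases hconn _ hidem with h0 | h1'
  · rw [h0, zero_add] at hab
    have hq1 : (1 : A) ∈ P₁ := by
      rw [← hab]
      exact Ideal.mul_mem_left _ _ (Ideal.pow_mem_of_mem _ (hqmem P₁ hP₁T) _ (Nat.succ_pos n))
    exact hP₁prime.ne_top ((Ideal.eq_top_iff_one _).2 hq1)
  · have hp1 : (1 : A) ∈ P₀ := by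
      rw [← h1']
      exact Ideal.mul_mem_left _ _ (Ideal.pow_mem_of_mem _ hp _ (Nat.succ_pos n))
    exact hP₀prime.ne_top ((Ideal.eq_top_iff_one _).2 hp1)

/-- **Krull intersection for connected algebraic groups over an algebraically closed field** -/
theorem iInf_pow_ker_counit_eq_bot (hconn : ∀ e : A, IsIdempotentElem e → e = 0 ∨ e = 1) :
    (⨅ n : ℕ, RingHom.ker (Bialgebra.counitAlgHom k A) ^ n) = ⊥ := by
  haveI : IsNoetherianRing A := Algebra.FiniteType.isNoetherianRing k A
  obtain ⟨P₀, hP₀⟩ := associatedPrimes_eq_singleton k hconn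
  set 𝔪 := RingHom.ker (Bialgebra.counitAlgHom k A) with h𝔪
  -- `P₀ ≤ 𝔪`
  have hP₀𝔪 : P₀ ≤ 𝔪 := by
    obtain ⟨X, hX⟩ := Set.ncard_eq_one.1 (S_ncard_eq_one (k := k) (Bialgebra.counitAlgHom k A))
    have hXS : X ∈ S k A (Bialgebra.counitAlgHom k A) := by rw [hX]; rfl
    have hXP : X = P₀ := by
      have := hXS.1
      rw [hP₀, Set.mem_singleton_iff] at this
      exact this
    rw [← hXP]
    exact hXS.2
  -- elements outside `𝔪` are regular
  have hreg : ∀ s : A, s ∉ 𝔪 → ∀ x : A, s * x = 0 → x = 0 := by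
    intro s hs x hsx
    have hsP : s ∉ P₀ := fun h => hs (hP₀𝔪 h)
    have hunion := biUnion_associatedPrimes_eq_compl_nonZeroDivisors A
    have hs' : s ∈ nonZeroDivisors A := by
      by_contra hcon
      have : s ∈ ⋃ p ∈ associatedPrimes A A, (p : Set A) := by
        rw [hunion]
        exact hcon
      rw [hP₀] at this
      simp only [Set.mem_singleton_iff, Set.iUnion_iUnion_eq_left, SetLike.mem_coe] at this
      exact hsP this
    exact (mul_left_mem_nonZeroDivisors_eq_zero_iff hs').1 hsx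
  rw [eq_bot_iff]
  intro x hx
  have hconv : (⨅ i : ℕ, 𝔪 ^ i • ⊤ : Submodule A A) = ⨅ i : ℕ, 𝔪 ^ i := by
    congr 1
    ext i : 1
    rw [smul_eq_mul, ← Ideal.one_eq_top, mul_one]
  have hx' : x ∈ (⨅ i : ℕ, 𝔪 ^ i • ⊤ : Submodule A A) := by rw [hconv]; exact hx
  obtain ⟨r, hr⟩ := (Ideal.mem_iInf_smul_pow_eq_bot_iff 𝔪 x).1 hx'
  have h1r : (1 - (r : A)) ∉ 𝔪 := by
    intro h
    have : (1 : A) ∈ 𝔪 := by
      have := Ideal.add_mem _ h r.2
      rwa [sub_add_cancel] at this
    exact (RingHom.ker_ne_top _) ((Ideal.eq_top_iff_one _).2 this)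
  have hzero : (1 - (r : A)) * x = 0 := by
    rw [sub_mul, one_mul, ← smul_eq_mul, hr, sub_self]
  exact hreg _ h1r x hzero

end Conn

end Groth.Agent.Lib.Helper28.KrullConn
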