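import Mathlib
import Groth.Agent.Lib.Helper28.ExtComod

/-!
# Linear algebra in the exterior algebra: a subspace and its top exterior power (helper28)

`k` a field, `b` a basis of `W`, `emb : Fin d → I` injective, `m l = b (emb l)`,
`M = span (range m)`, `vtop = m 0 ∧ … ∧ m (d-1)`.  For a commutative `k`-algebra `R`:

* `exists_dual_vtop`: a linear form with value `1` on `vtop`;
* `ι_mul_vtop_of_mem`: `ι w * vtop = 0` for `w ∈ M`;
* `mem_of_mul_vtop_eq_zero`: `x ∈ W ⊗ R` with `(ι ⊗ id) x * (vtop ⊗ 1) = 0` lies in `M ⊗ R`;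
* `prod_mem`: a product of `d` elements of `(ι ⊗ id)(M ⊗ R)` is `vtop ⊗ c`.
-/

set_option autoImplicit false
set_option linter.unusedSectionVars false
universe u v w w'

open TensorProduct

namespace Groth.Agent.Lib.Helper28.LineStab

open Groth.Agent.Lib.Helper28.ExtComod

section Det

variable {k : Type u} [Field k] {W : Type w} [AddCommGroup W] [Module k W]

/-- A linear form on the exterior algebra computing a determinant on `n`-fold products. -/
lemma exists_detFunctional (n : ℕ) (f : Fin n → Module.Dual k W) :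
    ∃ Φ : ExteriorAlgebra k W →ₗ[k] k, ∀ w : Fin n → W,
      Φ (ExteriorAlgebra.ιMulti k n w) = Matrix.det (Matrix.of fun i j => f j (w i)) := by
  obtain ⟨Φ, hΦ⟩ := LinearMap.exists_extend
    (exteriorPower.pairingDual k W n (exteriorPower.ιMulti k n f))
  refine ⟨Φ, fun w => ?_⟩
  have h1 : Φ ((exteriorPower.ιMulti k n w : ⋀[k]^n W) : ExteriorAlgebra k W) =
      exteriorPower.pairingDual k W n (exteriorPower.ιMulti k n f) (exteriorPower.ιMulti k n w) := by
    rw [← hΦ]; rfl
  rw [exteriorPower.ιMulti_apply_coe] at h1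
  rw [h1, exteriorPower.pairingDual_ιMulti_ιMulti]

end Det

section Main

variable {k : Type u} [Field k] {W : Type w} [AddCommGroup W] [Module k W]
  {I : Type v} (b : Module.Basis I k W) {d : ℕ} (emb : Fin d → I)

/-- the vectors spanning the subspace -/
noncomputable def mvec : Fin d → W := fun l => b (emb l)

/-- the top exterior product -/
noncomputable def vtop : ExteriorAlgebra k W := ExteriorAlgebra.ιMulti k d (mvec b emb)

/-- the subspace -/
noncomputable def Msub : Submodule k W := Submodule.span k (Set.range (mvec b emb))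

variable {b emb}

lemma coord_mvec (hemb : Function.Injective emb) (l l' : Fin d) :
    b.coord (emb l') (mvec b emb l) = if l = l' then 1 else 0 := by
  classical
  simp only [mvec, Module.Basis.coord_apply, Module.Basis.repr_self]
  rw [Finsupp.single_apply]
  by_cases h : l = l'
  · subst h; simp
  · rw [if_neg (fun h' => h (hemb h')), if_neg h]

lemma coord_mvec_of_notMem {i : I} (hi : i ∉ Set.range emb) (l : Fin d) :
    b.coord i (mvec b emb l) = 0 := by
  classical
  simp only [mvec, Module.Basis.coord_apply, Module.Basis.repr_self]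
  rw [Finsupp.single_apply, if_neg]
  intro h
  exact hi ⟨l, h⟩

lemma exists_dual_vtop (hemb : Function.Injective emb) :
    ∃ Φ : ExteriorAlgebra k W →ₗ[k] k, Φ (vtop b emb) = 1 := by
  obtain ⟨Φ, hΦ⟩ := exists_detFunctional d (fun l => b.coord (emb l))
  refine ⟨Φ, ?_⟩
  rw [vtop, hΦ]
  have : (Matrix.of fun i j => b.coord (emb j) (mvec b emb i)) = (1 : Matrix (Fin d) (Fin d) k) := by
    ext i j
    rw [Matrix.of_apply, coord_mvec hemb, Matrix.one_apply]
  rw [this, Matrix.det_one]

lemma ι_mul_vtop_of_mem {w : W} (hw : w ∈ Msub b emb) :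
    ExteriorAlgebra.ι k w * vtop b emb = 0 := by
  induction hw using Submodule.span_induction with
  | mem x hx =>
    obtain ⟨l, rfl⟩ := hx
    rw [vtop, ExteriorAlgebra.ιMulti_apply]
    exact ExteriorAlgebra.ι_mul_prod_list (mvec b emb) l
  | zero => simp
  | add x y _ _ hx hy => rw [map_add, add_mul, hx, hy, add_zero]
  | smul a x _ hx => rw [map_smul, smul_mul_assoc, hx, smul_zero]

/-- a linear form detecting the `i`-th coordinate of `w` in `ι w * vtop`, for `i` outside `emb`. -/
lemma exists_dual_coord (hemb : Function.Injective emb) {i : I} (hi : i ∉ Set.range emb) :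
    ∃ Φ : ExteriorAlgebra k W →ₗ[k] k, ∀ w : W,
      Φ (ExteriorAlgebra.ι k w * vtop b emb) = b.coord i w := by
  obtain ⟨Φ, hΦ⟩ := exists_detFunctional (d + 1)
    (Matrix.vecCons (b.coord i) (fun l => b.coord (emb l)))
  refine ⟨Φ, fun w => ?_⟩
  have h1 : ExteriorAlgebra.ι k w * vtop b emb =
      ExteriorAlgebra.ιMulti k (d + 1) (Matrix.vecCons w (mvec b emb)) := by
    rw [ExteriorAlgebra.ιMulti_succ_apply, Matrix.cons_val_zero, Matrix.tail_cons, vtop]
  rw [h1, hΦ]
  rw [Matrix.det_of_isUpperTriangular]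
  · rw [Fin.prod_univ_succ]
    simp only [Matrix.of_apply, Matrix.cons_val_zero, Matrix.cons_val_succ]
    rw [Finset.prod_eq_one, mul_one]
    intro l _
    rw [coord_mvec hemb, if_pos rfl]
  · intro r c hrc
    simp only [id] at hrc
    induction r using Fin.cases with
    | zero => exact absurd hrc (Fin.not_lt_zero _)
    | succ r =>
      induction c using Fin.cases with
      | zero =>
        simp only [Matrix.of_apply, Matrix.cons_val_zero, Matrix.cons_val_succ]
        exact coord_mvec_of_notMem hi r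
      | succ c =>
        simp only [Matrix.of_apply, Matrix.cons_val_succ]
        rw [coord_mvec hemb, if_neg]
        intro h
        rw [h] at hrc
        exact lt_irrefl _ hrc

end Main

section Tensor

variable {k : Type u} [Field k] {W : Type w} [AddCommGroup W] [Module k W]
  {I : Type v} {b : Module.Basis I k W} {d : ℕ} {emb : Fin d → I}
  {R : Type w'} [CommRing R] [Algebra k R]

lemma tmul_mem_range {w : W} (hw : w ∈ Msub b emb) (r : R) :
    w ⊗ₜ[k] r ∈ LinearMap.range ((Msub b emb).subtype.rTensor R) :=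
  ⟨(⟨w, hw⟩ : Msub b emb) ⊗ₜ[k] r, rfl⟩

lemma mvec_mem (l : Fin d) : mvec b emb l ∈ Msub b emb :=
  Submodule.subset_span ⟨l, rfl⟩

/-- `x ∈ W ⊗ R` with `(ι ⊗ id) x * (vtop ⊗ 1) = 0` lies in `M ⊗ R`. -/
theorem mem_of_mul_vtop_eq_zero (hemb : Function.Injective emb) (x : W ⊗[k] R)
    (hx : jmap k W R x * (vtop b emb ⊗ₜ[k] (1 : R)) = 0) :
    x ∈ LinearMap.range ((Msub b emb).subtype.rTensor R) := by
  classical
  -- coordinates outside `emb` vanish
  have hcoord : ∀ i : I, i ∉ Set.range emb → (b.coord i).rTensor R x = 0 := by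
    intro i hi
    obtain ⟨Φ, hΦ⟩ := exists_dual_coord (b := b) hemb hi
    have key : ∀ y : W ⊗[k] R,
        Φ.rTensor R (jmap k W R y * (vtop b emb ⊗ₜ[k] (1 : R))) = (b.coord i).rTensor R y := by
      intro y
      induction y using TensorProduct.induction_on with
      | zero => simp
      | add y₁ y₂ h₁ h₂ => simp only [map_add, add_mul, h₁, h₂]
      | tmul w r =>
        rw [jmap_tmul, Algebra.TensorProduct.tmul_mul_tmul, mul_one, LinearMap.rTensor_tmul,
          LinearMap.rTensor_tmul, hΦ]
    rw [← key, hx, map_zero]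
  set c := TensorProduct.equivFinsuppOfBasisLeft b x with hc
  have hx' : x = c.sum fun i n => b i ⊗ₜ[k] n := by
    rw [← TensorProduct.equivFinsuppOfBasisLeft_symm_apply, hc, LinearEquiv.symm_apply_apply]
  rw [hx', Finsupp.sum]
  refine Submodule.sum_mem _ fun i hi => ?_
  by_cases hmem : i ∈ Set.range emb
  · obtain ⟨l, rfl⟩ := hmem
    exact tmul_mem_range (mvec_mem l) _
  · exfalso
    rw [Finsupp.mem_support_iff] at hi
    apply hi
    rw [hc, TensorProduct.equivFinsuppOfBasisLeft_apply, hcoord i hmem, map_zero]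

/-- every element of `M ⊗ R` is `∑ m_l ⊗ t_l`. -/
lemma exists_repr_of_mem_range (y : W ⊗[k] R)
    (hy : y ∈ LinearMap.range ((Msub b emb).subtype.rTensor R)) :
    ∃ t : Fin d → R, y = ∑ l, mvec b emb l ⊗ₜ[k] t l := by
  classical
  -- the set of such elements is a submodule
  let T : Submodule k (W ⊗[k] R) :=
    LinearMap.range (∑ l, (TensorProduct.mk k W R (mvec b emb l)) ∘ₗ (LinearMap.proj l :
      (Fin d → R) →ₗ[k] R))
  have hT : ∀ z, z ∈ T ↔ ∃ t : Fin d → R, z = ∑ l, mvec b emb l ⊗ₜ[k] t l := by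
    intro z
    constructor
    · rintro ⟨t, rfl⟩
      exact ⟨t, by simp [LinearMap.sum_apply]⟩
    · rintro ⟨t, rfl⟩
      exact ⟨t, by simp [LinearMap.sum_apply]⟩
  rw [← hT]
  obtain ⟨z, rfl⟩ := hy
  induction z using TensorProduct.induction_on with
  | zero => simp
  | add z₁ z₂ h₁ h₂ => rw [map_add]; exact T.add_mem h₁ h₂
  | tmul w r =>
    have key : ∀ w' : W, w' ∈ Submodule.span k (Set.range (mvec b emb)) → w' ⊗ₜ[k] r ∈ T := by
      intro w' hw'
      induction hw' using Submodule.span_induction with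
      | mem x hx =>
        obtain ⟨l, rfl⟩ := hx
        rw [hT]
        refine ⟨Pi.single l r, ?_⟩
        rw [Finset.sum_eq_single l]
        · simp
        · intro l' _ hl'
          rw [Pi.single_eq_of_ne hl', TensorProduct.tmul_zero]
        · intro h; exact absurd (Finset.mem_univ l) h
      | zero => rw [TensorProduct.zero_tmul]; exact T.zero_mem
      | add x y _ _ hx hy => rw [TensorProduct.add_tmul]; exact T.add_mem hx hy
      | smul a x _ hx => rw [← TensorProduct.smul_tmul']; exact T.smul_mem a hx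
    rw [LinearMap.rTensor_tmul, Submodule.subtype_apply]
    exact key _ w.2

lemma ofFn_tmul_prod {B : Type*} [Ring B] [Algebra k B] :
    ∀ (n : ℕ) (a : Fin n → B) (r : Fin n → R),
      (List.ofFn fun j => a j ⊗ₜ[k] r j).prod =
        (List.ofFn a).prod ⊗ₜ[k] (List.ofFn r).prod := by
  intro n
  induction n with
  | zero => intro a r; simp [Algebra.TensorProduct.one_def]
  | succ n ih =>
    intro a r
    rw [List.ofFn_succ, List.prod_cons, List.ofFn_succ (f := a), List.prod_cons,
      List.ofFn_succ (f := r), List.prod_cons, ih, Algebra.TensorProduct.tmul_mul_tmul]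

lemma ιMulti_comp_mem (r : Fin d → Fin d) :
    ∃ ε : k, ExteriorAlgebra.ιMulti k d (fun j => mvec b emb (r j)) = ε • vtop b emb := by
  by_cases hr : Function.Injective r
  · let σ : Equiv.Perm (Fin d) := Equiv.ofBijective r (Finite.injective_iff_bijective.mp hr)
    refine ⟨((Equiv.Perm.sign σ : ℤ) : k), ?_⟩
    have h := AlternatingMap.map_perm (ExteriorAlgebra.ιMulti k d (M := W)) (mvec b emb) σ
    have h2 : (fun j => mvec b emb (r j)) = mvec b emb ∘ σ := rfl
    rw [h2, h, vtop]
    rw [Units.smul_def, ← Int.cast_smul_eq_zsmul k]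
  · refine ⟨0, ?_⟩
    rw [zero_smul]
    by_cases hd : Function.Injective (fun j => mvec b emb (r j))
    · exact absurd (Function.Injective.of_comp (f := mvec b emb) hd) hr
    · exact ExteriorAlgebra.ιMulti_eq_zero_of_not_inj hd

/-- a product of `d` elements of `(ι ⊗ id)(M ⊗ R)` is a multiple of `vtop`. -/
theorem prod_mem (y : Fin d → W ⊗[k] R)
    (hy : ∀ l, y l ∈ LinearMap.range ((Msub b emb).subtype.rTensor R)) :
    ∃ c : R, (List.ofFn fun l => jmap k W R (y l)).prod = vtop b emb ⊗ₜ[k] c := by
  classical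
  choose t ht using fun l => exists_repr_of_mem_range (y l) (hy l)
  let μ : MultilinearMap k (fun _ : Fin d => W ⊗[k] R) (ExteriorAlgebra k W ⊗[k] R) :=
    (MultilinearMap.mkPiAlgebraFin k d (ExteriorAlgebra k W ⊗[k] R)).compLinearMap
      (fun _ => jmap k W R)
  have hμ : ∀ z : Fin d → W ⊗[k] R, μ z = (List.ofFn fun l => jmap k W R (z l)).prod := by
    intro z
    simp only [μ, MultilinearMap.compLinearMap_apply, MultilinearMap.mkPiAlgebraFin_apply]
  choose ε hε using fun r : Fin d → Fin d => ιMulti_comp_mem (b := b) (emb := emb) r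
  refine ⟨∑ r : Fin d → Fin d, ε r • (List.ofFn fun j => t j (r j)).prod, ?_⟩
  rw [← hμ]
  have hy' : y = fun j => ∑ l, mvec b emb l ⊗ₜ[k] t j l := funext ht
  rw [hy', MultilinearMap.map_sum, TensorProduct.tmul_sum]
  refine Finset.sum_congr rfl fun r _ => ?_
  rw [hμ]
  simp only [jmap_tmul]
  rw [ofFn_tmul_prod, ← ExteriorAlgebra.ιMulti_apply, hε, TensorProduct.smul_tmul]

end Tensor

end Groth.Agent.Lib.Helper28.LineStab
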