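import Groth.Agent.Lib.Helper28.MeroBasic

/-!
# Triviality / non-triviality of the divisor group `Mero.Divisor X` on "local" schemes
-/

set_option autoImplicit false
universe u

open CategoryTheory AlgebraicGeometry TopologicalSpace Opposite

namespace Groth.Agent.Lib.Helper28.MeroDivTriv

open Mero Groth.Agent.Lib.Helper28.MeroBasic

variable {X : Scheme.{u}}

theorem algebraMap_eq_mk {x : X} (r : X.presheaf.stalk x) :
    algebraMap (X.presheaf.stalk x) (KStalk X x) r = LocalizedModule.mk r 1 := rfl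

theorem mk_eq_algebraMap_of_mul_eq_one {x : X} (a : X.presheaf.stalk x) (b : regStalk X x)
    (v : X.presheaf.stalk x) (hv : (b : X.presheaf.stalk x) * v = 1) :
    (LocalizedModule.mk a b : KStalk X x) = algebraMap _ _ (a * v) := by
  rw [algebraMap_eq_mk, LocalizedModule.mk_eq]
  refine ⟨1, ?_⟩
  simp only [one_smul, Submonoid.smul_def, smul_eq_mul]
  rw [mul_comm a v, ← mul_assoc, hv, one_mul]

/-- If the only open neighbourhood of `x₀` is the whole space and the non-zero-divisors of the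
local ring at `x₀` are units, every divisor on `X` is trivial. -/
theorem divisor_eq_one (x₀ : X) (hx₀ : ∀ U : X.Opens, x₀ ∈ U → U = ⊤)
    (hunit : ∀ a ∈ nonZeroDivisors (X.presheaf.stalk x₀), IsUnit a) (D : Divisor X) : D = 1 := by
  apply Subtype.ext
  funext y
  obtain ⟨U, hxU, f, hf⟩ := D.2 x₀
  obtain rfl := hx₀ U hxU
  obtain ⟨W, hxW, hWU, a, b, hab⟩ := kmod_local (f : Γ(kmod X, ⊤)) ⟨x₀, hxU⟩
  obtain rfl := hx₀ W hxW
  obtain ⟨W', hxW', hWU', a', b', hab'⟩ := kmod_local ((f⁻¹ : (Γ(kmod X, ⊤))ˣ) : Γ(kmod X, ⊤)) ⟨x₀, hxU⟩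
  obtain rfl := hx₀ W' hxW'
  have hbunit : ∀ (c : regSub X ⊤) (z : X), IsUnit (X.presheaf.germ ⊤ z trivial c.1) := by
    intro c z
    have h1 : IsUnit (X.presheaf.germ ⊤ x₀ trivial c.1) := hunit _ (c.2 ⟨x₀, trivial⟩)
    have h2 : x₀ ∈ X.basicOpen c.1 := (X.mem_basicOpen_top c.1 x₀).mpr h1
    have h3 := hx₀ _ h2
    have h4 : z ∈ X.basicOpen c.1 := by rw [h3]; trivial
    exact (X.mem_basicOpen_top c.1 z).mp h4
  -- values at `y`
  set yt : (⊤ : X.Opens) := ⟨y, Opens.mem_top y⟩ with hyt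
  have hfy := hab yt
  have hfy' := hab' yt
  have hprod : (f : Γ(kmod X, ⊤)).1 yt * ((f⁻¹ : (Γ(kmod X, ⊤))ˣ) : Γ(kmod X, ⊤)).1 yt = 1 := by
    rw [← kmod_mul_apply, Units.mul_inv, kmod_one_apply]
  set ga := X.presheaf.germ ⊤ y trivial a with hga
  set ga' := X.presheaf.germ ⊤ y trivial a' with hga'
  have hgb : IsUnit (X.presheaf.germ ⊤ y trivial b.1) := hbunit b y
  have hgb' : IsUnit (X.presheaf.germ ⊤ y trivial b'.1) := hbunit b' y
  have hgaunit : IsUnit ga := by
    have h5 : (LocalizedModule.mk (ga * ga') (regGerm yt b * regGerm yt b') : KStalk X y) =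
        LocalizedModule.mk 1 1 := by
      have h6 : (LocalizedModule.mk ga (regGerm yt b) : KStalk X y) *
          LocalizedModule.mk ga' (regGerm yt b') = 1 := by
        have h7 : (f : Γ(kmod X, ⊤)).1 yt = LocalizedModule.mk ga (regGerm yt b) := hfy
        have h8 : ((f⁻¹ : (Γ(kmod X, ⊤))ˣ) : Γ(kmod X, ⊤)).1 yt =
            LocalizedModule.mk ga' (regGerm yt b') := hfy'
        rw [← h7, ← h8]
        exact hprod
      exact (LocalizedModule.mk_mul_mk.symm.trans h6).trans (mk_self_eq_one (1 : regStalk X y)).symm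
    rw [LocalizedModule.mk_eq] at h5
    obtain ⟨u, hu⟩ := h5
    simp only [one_smul, Submonoid.smul_def, smul_eq_mul, mul_one, Submonoid.coe_mul] at hu
    have h9 : ga * ga' = X.presheaf.germ ⊤ y trivial b.1 * X.presheaf.germ ⊤ y trivial b'.1 :=
      (mul_left_mem_nonZeroDivisors_eq_zero_iff (regStalk_le_nonZeroDivisors y u.2)).mp
        (by rw [mul_sub, hu, sub_self]) |> sub_eq_zero.mp
    have h10 : IsUnit (ga * ga') := by rw [h9]; exact hgb.mul hgb'
    exact isUnit_of_mul_isUnit_left h10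
  -- conclude
  rw [hf yt]
  change (QuotientGroup.mk (Units.map (evalK X ⊤ yt).toMonoidHom f) : Germ X y) = 1
  rw [QuotientGroup.eq_one_iff]
  obtain ⟨v, hv⟩ := hgb.exists_right_inv
  have hvunit : IsUnit v := IsUnit.of_mul_eq_one _ (by rw [mul_comm]; exact hv)
  refine ⟨(hgaunit.mul hvunit).unit, ?_⟩
  apply Units.ext
  rw [Units.coe_map, IsUnit.unit_spec, Units.coe_map]
  change algebraMap _ (KStalk X y) (ga * v) = (f : Γ(kmod X, ⊤)).1 yt
  rw [hfy]
  exact (mk_eq_algebraMap_of_mul_eq_one ga (regGerm yt b) v hv).symm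

/-- A global regular function which is not a unit at some point gives a non-trivial divisor. -/
theorem exists_divisor_ne_one (t : Γ(X, ⊤)) (ht : t ∈ regSub X ⊤) (x₀ : X)
    (hnu : ¬ IsUnit (X.presheaf.germ ⊤ x₀ trivial t)) : ∃ D : Divisor X, D ≠ 1 := by
  let g : Γ(kmod X, ⊤) := ⟨fun y => LocalizedModule.mk 1 (regGerm y ⟨t, ht⟩),
    fun y => ⟨⊤, trivial, 𝟙 _, 1, ⟨t, ht⟩, fun z => mk_congr (map_one _).symm rfl⟩⟩
  have hfg : toK X ⊤ t * g = 1 := by
    apply kmod_ext
    intro y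
    rw [kmod_mul_apply, kmod_one_apply, toK_apply]
    change (LocalizedModule.mk (X.presheaf.germ ⊤ y.1 y.2 t) 1 : KStalk X y.1) *
      LocalizedModule.mk 1 (regGerm y ⟨t, ht⟩) = 1
    exact LocalizedModule.mk_mul_mk.trans
      ((mk_congr (mul_one _) (by rw [one_mul])).trans (mk_self_eq_one (regGerm y ⟨t, ht⟩)))
  let f : (Γ(kmod X, ⊤))ˣ := ⟨toK X ⊤ t, g, hfg, by rw [mul_comm]; exact hfg⟩
  refine ⟨div f, fun hD => hnu ?_⟩
  have h1 : (div f).1 x₀ = 1 := by rw [hD]; rfl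
  change (QuotientGroup.mk (Units.map (evalK X ⊤ ⟨x₀, trivial⟩).toMonoidHom f) : Germ X x₀) = 1 at h1
  rw [QuotientGroup.eq_one_iff] at h1
  obtain ⟨u, hu⟩ := h1
  have h2 := congrArg (fun v : (KStalk X x₀)ˣ => (v : KStalk X x₀)) hu
  simp only [Units.coe_map] at h2
  have h3 : algebraMap (X.presheaf.stalk x₀) (KStalk X x₀) (u : X.presheaf.stalk x₀) =
      algebraMap (X.presheaf.stalk x₀) (KStalk X x₀) (X.presheaf.germ ⊤ x₀ trivial t) := h2
  have h4 := algebraMap_KStalk_injective x₀ h3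
  rw [← h4]
  exact u.isUnit

end Groth.Agent.Lib.Helper28.MeroDivTriv
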