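import Groth.Agent.Lib.Helper28.MeroBasic

/-!
# Morphisms between sheaves of modules of the form `Mero.modOf`
-/

set_option autoImplicit false
universe u

open CategoryTheory AlgebraicGeometry TopologicalSpace Opposite

namespace Groth.Agent.Lib.Helper28.MeroHom

open Mero

variable {X : Scheme.{u}}
variable {T T' T'' : X → Type u} [∀ x, AddCommGroup (T x)] [∀ x, Module (X.presheaf.stalk x) (T x)]
  [∀ x, AddCommGroup (T' x)] [∀ x, Module (X.presheaf.stalk x) (T' x)]
  [∀ x, AddCommGroup (T'' x)] [∀ x, Module (X.presheaf.stalk x) (T'' x)]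

/-- A pointwise linear map preserving the predicates induces a morphism of `O_X`-modules. -/
noncomputable def modOfHom (P : TopCat.LocalPredicate T) [IsModPred P] (Q : TopCat.LocalPredicate T')
    [IsModPred Q] (φ : ∀ x, T x →ₗ[X.presheaf.stalk x] T' x)
    (hφ : ∀ (U : X.Opens) (f : ∀ x : U, T x.1), P.pred f → Q.pred (fun x => φ x.1 (f x))) :
    modOf P ⟶ modOf Q :=
  ⟨PresheafOfModules.homMk (M₁ := (modOf P).val) (M₂ := (modOf Q).val)
    { app := fun U => AddCommGrpCat.ofHom
        { toFun := fun (s : Γ(modOf P, U.unop)) =>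
            (⟨fun x => φ x.1 (s.1 x), hφ _ s.1 s.2⟩ : Γ(modOf Q, U.unop))
          map_zero' := Subtype.ext <| funext fun x => (φ x.1).map_zero
          map_add' := fun s t => Subtype.ext <| funext fun x => (φ x.1).map_add _ _ }
      naturality := by intros; rfl }
    (fun U r m => Subtype.ext <| funext fun x => (φ x.1).map_smul _ _)⟩

theorem modOfHom_apply (P : TopCat.LocalPredicate T) [IsModPred P] (Q : TopCat.LocalPredicate T')
    [IsModPred Q] (φ : ∀ x, T x →ₗ[X.presheaf.stalk x] T' x)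
    (hφ : ∀ (U : X.Opens) (f : ∀ x : U, T x.1), P.pred f → Q.pred (fun x => φ x.1 (f x)))
    (U : X.Opens) (s : Γ(modOf P, U)) (x : U) :
    ((modOfHom P Q φ hφ).val.app (op U) s).1 x = φ x.1 (s.1 x) := rfl

/-- extensionality for morphisms into a `modOf` -/
theorem hom_ext_modOf {M : X.Modules} (Q : TopCat.LocalPredicate T') [IsModPred Q]
    (α β : M ⟶ modOf Q)
    (h : ∀ (U : X.Opens) (s : Γ(M, U)) (x : U), (α.val.app (op U) s).1 x = (β.val.app (op U) s).1 x) :
    α = β := by
  apply SheafOfModules.hom_ext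
  apply PresheafOfModules.hom_ext
  intro U
  ext s
  exact Subtype.ext (funext fun x => h U.unop s x)

/-- pointwise inverse linear maps give an isomorphism -/
noncomputable def modOfIso (P : TopCat.LocalPredicate T) [IsModPred P] (Q : TopCat.LocalPredicate T')
    [IsModPred Q] (φ : ∀ x, T x →ₗ[X.presheaf.stalk x] T' x) (ψ : ∀ x, T' x →ₗ[X.presheaf.stalk x] T x)
    (hφ : ∀ (U : X.Opens) (f : ∀ x : U, T x.1), P.pred f → Q.pred (fun x => φ x.1 (f x)))
    (hψ : ∀ (U : X.Opens) (f : ∀ x : U, T' x.1), Q.pred f → P.pred (fun x => ψ x.1 (f x)))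
    (h1 : ∀ x t, ψ x (φ x t) = t) (h2 : ∀ x t, φ x (ψ x t) = t) : modOf P ≅ modOf Q where
  hom := modOfHom P Q φ hφ
  inv := modOfHom Q P ψ hψ
  hom_inv_id := by
    apply hom_ext_modOf
    intro U s x
    exact h1 x.1 (s.1 x)
  inv_hom_id := by
    apply hom_ext_modOf
    intro U s x
    exact h2 x.1 (s.1 x)

end Groth.Agent.Lib.Helper28.MeroHom
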