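import Mathlib

/-!
# Finite ring maps and nowhere dense closed subsets (helper28)

`isNowhereDense_comap_image`: for a finite ring map `A → B`, the image in `Spec A` of a closed
nowhere dense subset of `Spec B` is closed and nowhere dense.  No Noetherian hypotheses: the proof
picks a minimal prime of `A` at which the fibre rank of `B ⧸ J` is minimal, near which `B ⧸ J` is
"free modulo nilpotents".
-/

set_option autoImplicit false
set_option linter.style.haveILetI false
universe u v
open TensorProduct

namespace Groth.Agent.Lib.Helper28.QFDense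

variable {A : Type u} [CommRing A] {C : Type v} [AddCommGroup C] [Module A C]

/-- If the `1 ⊗ b i` span the fibre at `p` of a finite module `C`, then the `b i` generate `C`
up to a multiplier outside `p`. -/
theorem exists_smul_mem_span_of_span_fibre [Module.Finite A C] (p : Ideal A) [p.IsPrime]
    {ι : Type*} (b : ι → C)
    (hb : Submodule.span p.ResidueField
      (Set.range fun i => ((1 : p.ResidueField) ⊗ₜ[A] b i : p.ResidueField ⊗[A] C)) = ⊤) :
    ∃ s ∉ p, ∀ c : C, s • c ∈ Submodule.span A (Set.range b) := by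
  classical
  set N : Submodule A C := Submodule.span A (Set.range b) with hN
  -- the quotient has trivial fibre
  have hsub : Subsingleton (p.ResidueField ⊗[A] (C ⧸ N)) := by
    have hsurj : Function.Surjective (LinearMap.baseChange p.ResidueField N.mkQ) := by
      rw [LinearMap.baseChange_eq_ltensor]
      exact LinearMap.lTensor_surjective _ N.mkQ_surjective
    have hzero : LinearMap.baseChange p.ResidueField N.mkQ = 0 := by
      apply LinearMap.ext_on hb
      rintro _ ⟨i, rfl⟩
      simp only [LinearMap.baseChange_tmul, LinearMap.zero_apply]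
      have : N.mkQ (b i) = 0 := by
        rw [Submodule.mkQ_apply, Submodule.Quotient.mk_eq_zero]
        exact Submodule.subset_span ⟨i, rfl⟩
      rw [this, TensorProduct.tmul_zero]
    refine ⟨fun x y => ?_⟩
    obtain ⟨x', rfl⟩ := hsurj x
    obtain ⟨y', rfl⟩ := hsurj y
    rw [hzero]; rfl
  have hsupp : (⟨p, inferInstance⟩ : PrimeSpectrum A) ∉ Module.support A (C ⧸ N) := by
    rw [Module.mem_support_iff_nontrivial_residueField_tensorProduct]
    exact not_nontrivial _
  rw [Module.notMem_support_iff'] at hsupp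
  obtain ⟨n, g, hg⟩ := Module.Finite.exists_fin (R := A) (M := C)
  choose r hr hrg using fun k => hsupp (N.mkQ (g k))
  refine ⟨∏ k, r k, ?_, fun c => ?_⟩
  · intro h
    obtain ⟨k, -, hk⟩ := (Ideal.IsPrime.prod_mem_iff).1 h
    exact hr k hk
  · have hc : c ∈ Submodule.span A (Set.range g) := by rw [hg]; trivial
    induction hc using Submodule.span_induction with
    | mem x hx =>
      obtain ⟨k, rfl⟩ := hx
      have h1 : (∏ k, r k) = (∏ j ∈ Finset.univ.erase k, r j) * r k := by
        rw [mul_comm]; exact (Finset.mul_prod_erase Finset.univ r (Finset.mem_univ k)).symm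
      rw [h1, mul_smul]
      refine N.smul_mem _ ?_
      have := hrg k
      rw [← map_smul, Submodule.mkQ_apply, Submodule.Quotient.mk_eq_zero] at this
      exact this
    | zero => rw [smul_zero]; exact N.zero_mem
    | add x y _ _ hx hy => rw [smul_add]; exact N.add_mem hx hy
    | smul a x _ hx => rw [smul_comm]; exact N.smul_mem _ hx

/-- The fibre of `C` at `p` is spanned by the `1 ⊗ b i` as soon as the `b i` generate `C` up to a
multiplier outside `p`. -/
theorem span_fibre_eq_top_of_smul_mem (p : Ideal A) [p.IsPrime] {ι : Type*} (b : ι → C)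
    (s : A) (hs : s ∉ p) (hsb : ∀ c : C, s • c ∈ Submodule.span A (Set.range b)) :
    Submodule.span p.ResidueField
      (Set.range fun i => ((1 : p.ResidueField) ⊗ₜ[A] b i : p.ResidueField ⊗[A] C)) = ⊤ := by
  rw [eq_top_iff]
  rintro z -
  induction z using TensorProduct.induction_on with
  | zero => exact Submodule.zero_mem _
  | add x y hx hy => exact Submodule.add_mem _ hx hy
  | tmul k c => ?_
  have hs' : algebraMap A p.ResidueField s ≠ 0 := by
    rw [Ne, Ideal.algebraMap_residueField_eq_zero]; exact hs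
  -- `1 ⊗ s c` is in the span
  have h1 : ∀ x ∈ Submodule.span A (Set.range b), ((1 : p.ResidueField) ⊗ₜ[A] x :
      p.ResidueField ⊗[A] C) ∈ Submodule.span p.ResidueField
      (Set.range fun i => ((1 : p.ResidueField) ⊗ₜ[A] b i : p.ResidueField ⊗[A] C)) := by
    intro x hx
    induction hx using Submodule.span_induction with
    | mem x hx =>
      obtain ⟨i, rfl⟩ := hx
      exact Submodule.subset_span ⟨i, rfl⟩
    | zero => rw [TensorProduct.tmul_zero]; exact Submodule.zero_mem _
    | add x y _ _ hx hy => rw [TensorProduct.tmul_add]; exact Submodule.add_mem _ hx hy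
    | smul a x _ hx =>
      rw [TensorProduct.tmul_smul, ← algebraMap_smul p.ResidueField a]
      exact Submodule.smul_mem _ _ hx
  have h2 := h1 _ (hsb c)
  have h3 : (k ⊗ₜ[A] c : p.ResidueField ⊗[A] C) =
      (k * (algebraMap A p.ResidueField s)⁻¹) • ((1 : p.ResidueField) ⊗ₜ[A] (s • c)) := by
    rw [TensorProduct.tmul_smul, ← algebraMap_smul p.ResidueField s, smul_smul,
      mul_assoc, inv_mul_cancel₀ hs', mul_one, TensorProduct.smul_tmul', smul_eq_mul, mul_one]
  rw [h3]
  exact Submodule.smul_mem _ _ h2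

/-- Fibre rank of a module at a point of the spectrum. -/
noncomputable def fibreRank (A : Type u) [CommRing A] (C : Type v) [AddCommGroup C] [Module A C]
    (x : PrimeSpectrum A) : ℕ :=
  Module.finrank x.asIdeal.ResidueField (x.asIdeal.ResidueField ⊗[A] C)

/-- Near a minimal prime of minimal fibre rank (among those avoiding `a`), a finite module is
"free modulo nilpotents". -/
theorem exists_minimal_generic_basis [Module.Finite A C] (a : A) (ha : ¬ IsNilpotent a) :
    ∃ p : Ideal A, p ∈ minimalPrimes A ∧ a ∉ p ∧ ∃ s ∉ p, ∃ (n : ℕ)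
      (b : Fin n → C), (∀ c : C, s • c ∈ Submodule.span A (Set.range b)) ∧
        ∀ r : Fin n → A, ∑ i, r i • b i = 0 → ∀ i, IsNilpotent (a * s * r i) := by
  classical
  -- the set of admissible minimal primes
  set M : Set (PrimeSpectrum A) := {x | x.asIdeal ∈ minimalPrimes A ∧ a ∉ x.asIdeal} with hM
  have hMne : M.Nonempty := by
    obtain ⟨P, hP, haP⟩ : ∃ P : Ideal A, P.IsPrime ∧ a ∉ P := by
      by_contra hcon
      push Not at hcon
      exact ha (nilpotent_iff_mem_prime.mpr hcon)
    obtain ⟨q, hq, hqP⟩ := Ideal.exists_minimalPrimes_le (bot_le : (⊥ : Ideal A) ≤ P)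
    exact ⟨⟨q, hq.1.1⟩, hq, fun h => haP (hqP h)⟩
  set x₀ := Function.argminOn (fibreRank A C) M hMne with hx₀
  have hx₀M : x₀ ∈ M := Function.argminOn_mem _ _ hMne
  have hx₀min : ∀ x ∈ M, fibreRank A C x₀ ≤ fibreRank A C x := fun x hx =>
    Function.argminOn_le _ _ hx
  set p := x₀.asIdeal with hp
  have hpprime : p.IsPrime := x₀.isPrime
  -- a basis of the fibre consisting of pure tensors
  have hspan : Submodule.span p.ResidueField
      (Set.range fun c : C => ((1 : p.ResidueField) ⊗ₜ[A] c : p.ResidueField ⊗[A] C)) = ⊤ :=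
    span_fibre_eq_top_of_smul_mem p (fun c : C => c) 1 (fun h => (Ideal.ne_top_iff_one p).mp
      (Ideal.IsPrime.ne_top ‹_›) h) (fun c => by
        rw [one_smul]; exact Submodule.subset_span ⟨c, rfl⟩)
  let B := Module.Basis.ofSpan hspan.ge
  letI : Fintype ↥((linearIndepOn_empty p.ResidueField id).extend (Set.empty_subset
      (Set.range fun c : C => ((1 : p.ResidueField) ⊗ₜ[A] c : p.ResidueField ⊗[A] C)))) :=
    FiniteDimensional.fintypeBasisIndex B
  let e := Fintype.equivFin ↥((linearIndepOn_empty p.ResidueField id).extend (Set.empty_subset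
      (Set.range fun c : C => ((1 : p.ResidueField) ⊗ₜ[A] c : p.ResidueField ⊗[A] C))))
  have hBmem : ∀ i, ∃ c : C, ((1 : p.ResidueField) ⊗ₜ[A] c : p.ResidueField ⊗[A] C) = B i :=
    fun i => Module.Basis.ofSpan_subset hspan.ge ⟨i, rfl⟩
  choose c hc using hBmem
  set n := Fintype.card ↥((linearIndepOn_empty p.ResidueField id).extend (Set.empty_subset
      (Set.range fun c : C => ((1 : p.ResidueField) ⊗ₜ[A] c : p.ResidueField ⊗[A] C)))) with hn
  let b : Fin n → C := fun k => c (e.symm k)
  have hbB : (fun k => ((1 : p.ResidueField) ⊗ₜ[A] b k : p.ResidueField ⊗[A] C)) =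
      B.reindex e := by
    funext k
    rw [Module.Basis.reindex_apply]
    exact hc _
  have hbspan : Submodule.span p.ResidueField
      (Set.range fun k => ((1 : p.ResidueField) ⊗ₜ[A] b k : p.ResidueField ⊗[A] C)) = ⊤ := by
    rw [hbB]; exact (B.reindex e).span_eq
  have hrank : fibreRank A C x₀ = n := by
    unfold fibreRank
    rw [Module.finrank_eq_card_basis B]
  obtain ⟨s, hs, hsb⟩ := exists_smul_mem_span_of_span_fibre p b hbspan
  refine ⟨p, hx₀M.1, hx₀M.2, s, hs, n, b, hsb, fun r hr k => ?_⟩
  rw [nilpotent_iff_mem_prime]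
  intro P hP
  obtain ⟨q, hq, hqP⟩ := Ideal.exists_minimalPrimes_le (bot_le : (⊥ : Ideal A) ≤ P)
  apply hqP
  haveI hqprime : q.IsPrime := hq.1.1
  by_cases haq : a ∈ q
  · exact q.mul_mem_right _ (q.mul_mem_right _ haq)
  by_cases hsq : s ∈ q
  · exact q.mul_mem_right _ (q.mul_mem_left _ hsq)
  have hxM : (⟨q, hqprime⟩ : PrimeSpectrum A) ∈ M := ⟨hq, haq⟩
  have hle := hx₀min _ hxM
  have hqspan := span_fibre_eq_top_of_smul_mem q b s hsq hsb
  have hfin : fibreRank A C ⟨q, hqprime⟩ ≤ n := by
    unfold fibreRank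
    have h1 := finrank_range_le_card (R := q.ResidueField)
      (fun k => ((1 : q.ResidueField) ⊗ₜ[A] b k : q.ResidueField ⊗[A] C))
    rw [Set.finrank, hqspan, finrank_top, Fintype.card_fin] at h1
    exact h1
  have heq : Fintype.card (Fin n) = Module.finrank q.ResidueField (q.ResidueField ⊗[A] C) := by
    rw [Fintype.card_fin]
    have : fibreRank A C ⟨q, hqprime⟩ = Module.finrank q.ResidueField (q.ResidueField ⊗[A] C) :=
      rfl
    omega
  have hli : LinearIndependent q.ResidueField
      (fun k => ((1 : q.ResidueField) ⊗ₜ[A] b k : q.ResidueField ⊗[A] C)) :=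
    linearIndependent_of_top_le_span_of_card_eq_finrank hqspan.ge heq
  have hsum : ∑ k, (algebraMap A q.ResidueField (r k)) •
      ((1 : q.ResidueField) ⊗ₜ[A] b k : q.ResidueField ⊗[A] C) = 0 := by
    have h1 : ((1 : q.ResidueField) ⊗ₜ[A] (∑ k, r k • b k) : q.ResidueField ⊗[A] C) = 0 := by
      rw [hr, TensorProduct.tmul_zero]
    rw [TensorProduct.tmul_sum] at h1
    rw [← h1]
    refine Finset.sum_congr rfl fun k _ => ?_
    rw [TensorProduct.tmul_smul, algebraMap_smul]
  have h0 := Fintype.linearIndependent_iff.mp hli _ hsum k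
  rw [Ideal.algebraMap_residueField_eq_zero] at h0
  exact q.mul_mem_left _ h0

theorem exists_mul_pow_eq_zero_of_mem_minimalPrimes {B : Type*} [CommRing B] (q : Ideal B)
    (hq : q ∈ minimalPrimes B) (y : B) (hy : y ∈ q) : ∃ t ∉ q, ∃ k : ℕ, t * y ^ k = 0 := by
  haveI := hq.1.1
  have : Subsingleton (PrimeSpectrum (Localization.AtPrime q)) :=
    IsLocalization.subsingleton_primeSpectrum_of_mem_minimalPrimes q hq _
  have hnil : IsNilpotent (algebraMap B (Localization.AtPrime q) y) := by
    rw [nilpotent_iff_mem_prime]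
    intro J hJ
    have : (⟨J, hJ⟩ : PrimeSpectrum (Localization.AtPrime q)) =
        ⟨IsLocalRing.maximalIdeal _, inferInstance⟩ := Subsingleton.elim _ _
    rw [show J = IsLocalRing.maximalIdeal (Localization.AtPrime q) from
      congrArg PrimeSpectrum.asIdeal this]
    exact (IsLocalization.AtPrime.to_map_mem_maximal_iff _ q y).mpr hy
  obtain ⟨k, hk⟩ := hnil
  rw [← map_pow, IsLocalization.map_eq_zero_iff q.primeCompl] at hk
  obtain ⟨⟨t, ht⟩, h⟩ := hk
  exact ⟨t, ht, k, h⟩

/-- Core algebraic statement: a finite ring map sends "nowhere dense" closed sets to sets with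
empty interior. -/
theorem isNilpotent_of_subset_image {B : Type v} [CommRing B] [Algebra A B] [Module.Finite A B]
    (J : Ideal B)
    (hND : ∀ c : B, (∀ q : Ideal B, q.IsPrime → c ∉ q → J ≤ q) → IsNilpotent c)
    (a : A) (hsurj : ∀ p : Ideal A, p.IsPrime → a ∉ p →
      ∃ q : Ideal B, q.IsPrime ∧ J ≤ q ∧ q.comap (algebraMap A B) = p) : IsNilpotent a := by
  classical
  by_contra ha
  obtain ⟨p, hpmin, hap, s, hs, n, b, hsb, hrel⟩ :=
    exists_minimal_generic_basis (C := B ⧸ J) a ha
  haveI : p.IsPrime := hpmin.1.1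
  let π : B →ₐ[A] B ⧸ J := Ideal.Quotient.mkₐ A J
  have hπ : ∀ y, π y = 0 ↔ y ∈ J := fun y => Ideal.Quotient.eq_zero_iff_mem
  obtain ⟨m, β, hβ⟩ := Module.Finite.exists_fin (R := A) (M := B)
  have h1 : ∀ l, ∃ coef : Fin n → A, ∑ i, coef i • b i = s • π (β l) := fun l =>
    (Submodule.mem_span_range_iff_exists_fun A).mp (hsb (π (β l)))
  choose coef hcoef using h1
  have h2 : ∀ i, ∃ y : B, π y = b i := fun i => Ideal.Quotient.mk_surjective (b i)
  choose bt hbt using h2
  set x : Fin m → B := fun l => s • β l - ∑ i, coef l i • bt i with hx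
  have hxJ : ∀ l, x l ∈ J := by
    intro l
    rw [← hπ, hx]
    simp only [map_sub, map_smul, map_sum, hbt, hcoef, sub_self]
  -- (ii') on `D(a s)`, `V(J)` is cut out by the `x l`
  have hcut : ∀ q : Ideal B, q.IsPrime → algebraMap A B (a * s) ∉ q → (∀ l, x l ∈ q) → J ≤ q := by
    intro q hq hasq hxq j hj
    obtain ⟨c, hc⟩ := (Submodule.mem_span_range_iff_exists_fun A).mp
      (show j ∈ Submodule.span A (Set.range β) by rw [hβ]; trivial)
    set r : Fin n → A := fun i => ∑ l, c l * coef l i with hr
    have hid : s • j = ∑ l, c l • x l + ∑ i, r i • bt i := by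
      rw [← hc, Finset.smul_sum]
      simp only [hx, hr, smul_sub, Finset.smul_sum, Finset.sum_sub_distrib, Finset.sum_smul,
        mul_smul]
      rw [Finset.sum_comm (s := Finset.univ) (t := Finset.univ)
        (f := fun l i => c l • coef l i • bt i)]
      rw [sub_add_cancel]
      refine Finset.sum_congr rfl fun l _ => ?_
      rw [smul_comm]
    have hrel0 : ∑ i, r i • b i = 0 := by
      have := congrArg π hid
      rw [map_smul, (hπ j).mpr hj, smul_zero, map_add, map_sum, map_sum] at this
      have h3 : ∑ l, π (c l • x l) = 0 := by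
        refine Finset.sum_eq_zero fun l _ => ?_
        rw [map_smul, (hπ _).mpr (hxJ l), smul_zero]
      rw [h3, zero_add] at this
      rw [this]
      refine Finset.sum_congr rfl fun i _ => ?_
      rw [map_smul, hbt]
    have hnil := hrel r hrel0
    have hmem : (a * s) • (s • j) ∈ q := by
      rw [hid, smul_add, Finset.smul_sum, Finset.smul_sum]
      refine q.add_mem (q.sum_mem fun l _ => ?_) (q.sum_mem fun i _ => ?_)
      · rw [smul_smul, Algebra.smul_def]
        exact q.mul_mem_left _ (hxq l)
      · rw [smul_smul, Algebra.smul_def]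
        refine q.mul_mem_right _ ?_
        obtain ⟨N, hN⟩ := (hnil i).map (algebraMap A B)
        exact hq.mem_of_pow_mem N (by rw [hN]; exact q.zero_mem)
    rw [Algebra.smul_def, Algebra.smul_def] at hmem
    have hsq : algebraMap A B s ∉ q := by
      intro h
      apply hasq
      rw [map_mul]
      exact q.mul_mem_left _ h
    exact (hq.mem_or_mem ((hq.mem_or_mem hmem).resolve_left hasq)).resolve_left hsq
  -- a prime over `p` containing `J`; it is a minimal prime of `B`
  obtain ⟨q₀, hq₀, hJq₀, hq₀p⟩ := hsurj p inferInstance hap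
  haveI : Algebra.IsIntegral A B := inferInstance
  have hq₀min : q₀ ∈ minimalPrimes B := by
    refine ⟨⟨hq₀, bot_le⟩, ?_⟩
    rintro q' ⟨hq', -⟩ hle
    by_contra hnle
    have hlt : q' < q₀ := lt_of_le_of_ne hle (fun h => hnle (h ▸ le_rfl))
    haveI := hq'
    have hlt' := Ideal.IsIntegral.comap_lt_comap (R := A) hlt
    rw [hq₀p] at hlt'
    have hmin := hpmin.2 (y := q'.comap (algebraMap A B)) ⟨Ideal.comap_isPrime _ _, bot_le⟩ hlt'.le
    exact absurd hlt' (not_lt_of_ge hmin)
  have h3 : ∀ l, ∃ t ∉ q₀, ∃ k : ℕ, t * x l ^ k = 0 := fun l =>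
    exists_mul_pow_eq_zero_of_mem_minimalPrimes q₀ hq₀min (x l) (hJq₀ (hxJ l))
  choose t ht k htk using h3
  have hasq₀ : algebraMap A B (a * s) ∉ q₀ := by
    intro h
    have : a * s ∈ q₀.comap (algebraMap A B) := h
    rw [hq₀p] at this
    exact (‹p.IsPrime›.mem_or_mem this).elim hap hs
  set c₀ : B := algebraMap A B (a * s) * ∏ l, t l with hc₀
  have hc₀nil : IsNilpotent c₀ := by
    apply hND
    intro q hq hcq
    have h4 : algebraMap A B (a * s) ∉ q := fun h => hcq (q.mul_mem_right _ h)
    refine hcut q hq h4 fun l => ?_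
    have h5 : t l ∉ q := by
      intro h
      apply hcq
      refine q.mul_mem_left _ ?_
      rw [← Finset.mul_prod_erase Finset.univ t (Finset.mem_univ l)]
      exact q.mul_mem_right _ h
    have h6 : t l * x l ^ k l ∈ q := by rw [htk]; exact q.zero_mem
    exact hq.mem_of_pow_mem _ ((hq.mem_or_mem h6).resolve_left h5)
  have hc₀q₀ : c₀ ∈ q₀ := by
    obtain ⟨N, hN⟩ := hc₀nil
    exact hq₀.mem_of_pow_mem N (by rw [hN]; exact q₀.zero_mem)
  rcases hq₀.mem_or_mem hc₀q₀ with h | h
  · exact hasq₀ h
  · obtain ⟨l, -, hl⟩ := (hq₀.prod_mem_iff).1 h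
    exact ht l hl

/-- A finite ring map sends closed nowhere dense subsets of the spectrum to nowhere dense subsets. -/
theorem isNowhereDense_comap_image {B : Type v} [CommRing B] (φ : A →+* B) (hφ : φ.Finite)
    (T : Set (PrimeSpectrum B)) (hT : IsClosed T) (hT' : IsNowhereDense T) :
    IsClosed (PrimeSpectrum.comap φ '' T) ∧ IsNowhereDense (PrimeSpectrum.comap φ '' T) := by
  letI := φ.toAlgebra
  haveI : Module.Finite A B := hφ
  have hclosed : IsClosed (PrimeSpectrum.comap φ '' T) :=
    PrimeSpectrum.isClosedMap_comap_of_isIntegral φ hφ.to_isIntegral T hT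
  refine ⟨hclosed, ?_⟩
  rw [IsNowhereDense, hclosed.closure_eq, Set.eq_empty_iff_forall_notMem]
  intro x hx
  obtain ⟨_, ⟨_, ⟨a, rfl⟩, rfl⟩, hxa, hsub⟩ :=
    PrimeSpectrum.isBasis_basic_opens.exists_subset_of_mem_open hx isOpen_interior
  have hsub' : (PrimeSpectrum.basicOpen a : Set (PrimeSpectrum A)) ⊆ PrimeSpectrum.comap φ '' T :=
    hsub.trans interior_subset
  have hTint : interior T = ∅ := by
    have := hT'
    rwa [IsNowhereDense, hT.closure_eq] at this
  have hnil : IsNilpotent a := by
    refine isNilpotent_of_subset_image (B := B) (PrimeSpectrum.vanishingIdeal T) ?_ a ?_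
    · intro c hc
      rw [← PrimeSpectrum.basicOpen_eq_bot_iff]
      have h1 : (PrimeSpectrum.basicOpen c : Set (PrimeSpectrum B)) ⊆ T := by
        intro q hq
        rw [← hT.closure_eq, ← PrimeSpectrum.zeroLocus_vanishingIdeal_eq_closure]
        exact hc q.asIdeal q.isPrime hq
      have h2 : (PrimeSpectrum.basicOpen c : Set (PrimeSpectrum B)) ⊆ interior T :=
        interior_maximal h1 (PrimeSpectrum.basicOpen c).2
      rw [hTint] at h2
      ext q
      simp only [TopologicalSpace.Opens.coe_bot, Set.mem_empty_iff_false, iff_false]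
      exact fun hq => h2 hq
    · intro p hp hap
      obtain ⟨q, hqT, hq⟩ := hsub' (show (⟨p, hp⟩ : PrimeSpectrum A) ∈
        (PrimeSpectrum.basicOpen a : Set (PrimeSpectrum A)) from hap)
      refine ⟨q.asIdeal, q.isPrime, ?_, congrArg PrimeSpectrum.asIdeal hq⟩
      have : q ∈ PrimeSpectrum.zeroLocus (PrimeSpectrum.vanishingIdeal T : Set B) :=
        PrimeSpectrum.subset_zeroLocus_vanishingIdeal T hqT
      exact this
  exact hxa (nilpotent_iff_mem_prime.mp hnil _ x.isPrime)

end Groth.Agent.Lib.Helper28.QFDense
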