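import Mathlib
import Groth.Agent.Lib.Helper28.GenFibreND
import Groth.Agent.Lib.Helper28.QFDenseAlg

/-!
# Closed points in the image of a nowhere dense closed subset of `X_K` (helper28)

Algebraic core for S16363: `A` a finite type `k`-algebra, `K/k` a field extension,
`T ⊆ Spec (K ⊗ A)` closed nowhere dense.  Then the closed points of `Spec A` in the image of `T`
lie in a closed nowhere dense subset of `Spec A`.
-/

set_option autoImplicit false
set_option linter.style.haveILetI false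
set_option linter.unusedSectionVars false
universe u
open TensorProduct

namespace Groth.Agent.Lib.Helper28.MovLem

open Groth.Agent.Lib.Helper28.GenFibre Groth.Agent.Lib.Helper28.QFDense

section top

variable {B : Type*} [CommRing B]

theorem nd_alg_of_isNowhereDense (T : Set (PrimeSpectrum B)) (hT : IsClosed T)
    (hT' : IsNowhereDense T) (c : B)
    (hc : ∀ x ∈ PrimeSpectrum.vanishingIdeal T, IsNilpotent (c * x)) : IsNilpotent c := by
  by_contra hnil
  rw [hT.isNowhereDense_iff] at hT'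
  obtain ⟨P, hP, hcP⟩ : ∃ P : Ideal B, P.IsPrime ∧ c ∉ P := by
    by_contra h
    push Not at h
    exact hnil (nilpotent_iff_mem_prime.2 h)
  have h1 : ¬ ((PrimeSpectrum.basicOpen c : Set (PrimeSpectrum B)) ⊆ T) := by
    intro hsub
    have : (⟨P, hP⟩ : PrimeSpectrum B) ∈ interior T :=
      interior_maximal hsub (PrimeSpectrum.basicOpen c).2 hcP
    rw [hT'] at this
    exact this
  obtain ⟨Q, hQc, hQT⟩ := Set.not_subset.1 h1
  rw [← hT.closure_eq, ← PrimeSpectrum.zeroLocus_vanishingIdeal_eq_closure,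
    PrimeSpectrum.mem_zeroLocus] at hQT
  obtain ⟨x, hx, hxQ⟩ := Set.not_subset.1 hQT
  have h2 : c * x ∈ Q.asIdeal := nilpotent_iff_mem_prime.1 (hc x hx) Q.asIdeal Q.isPrime
  rcases Q.isPrime.mem_or_mem h2 with h3 | h3
  · exact hQc h3
  · exact hxQ h3

theorem isNowhereDense_zeroLocus_of_nd_alg (J : Ideal B)
    (h : ∀ c : B, (∀ x ∈ J, IsNilpotent (c * x)) → IsNilpotent c) :
    IsNowhereDense (PrimeSpectrum.zeroLocus (J : Set B)) := by
  rw [(PrimeSpectrum.isClosed_zeroLocus _).isNowhereDense_iff, Set.eq_empty_iff_forall_notMem]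
  intro P hP
  obtain ⟨_, ⟨_, ⟨c, rfl⟩, rfl⟩, hPc, hsub⟩ :=
    PrimeSpectrum.isBasis_basic_opens.exists_subset_of_mem_open hP isOpen_interior
  have hsub' : (PrimeSpectrum.basicOpen c : Set (PrimeSpectrum B)) ⊆
      PrimeSpectrum.zeroLocus (J : Set B) := hsub.trans interior_subset
  have hnil : IsNilpotent c := by
    apply h
    intro x hx
    rw [nilpotent_iff_mem_prime]
    intro Q hQ
    by_cases hcQ : c ∈ Q
    · exact Ideal.mul_mem_right _ _ hcQ
    · have : (⟨Q, hQ⟩ : PrimeSpectrum B) ∈ PrimeSpectrum.zeroLocus (J : Set B) := hsub' hcQ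
      exact Ideal.mul_mem_left _ _ (this hx)
  exact hPc (nilpotent_iff_mem_prime.1 hnil P.asIdeal P.isPrime)

end top

section descend

variable {k : Type u} [Field k] {A : Type u} [CommRing A] [Algebra k A]
  {K : Type u} [Field K] [Algebra k K]

/-- The comparison map `R ⊗ A → K ⊗ A` for a `k`-algebra map `R → K`. -/
noncomputable def psi {R : Type u} [CommRing R] [Algebra k R] (ι : R →ₐ[k] K) :
    R ⊗[k] A →ₐ[k] K ⊗[k] A :=
  Algebra.TensorProduct.map ι (AlgHom.id k A)

@[simp] theorem psi_tmul {R : Type u} [CommRing R] [Algebra k R] (ι : R →ₐ[k] K) (r : R) (a : A) :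
    psi ι (r ⊗ₜ[k] a) = ι r ⊗ₜ[k] a := by
  simp [psi]

theorem psi_injective {R : Type u} [CommRing R] [Algebra k R] (ι : R →ₐ[k] K)
    (hι : Function.Injective ι) : Function.Injective (psi (A := A) ι) := by
  have h := Module.Flat.rTensor_preserves_injective_linearMap (M := A) ι.toLinearMap hι
  have e : ⇑(psi (A := A) ι) = ⇑(LinearMap.rTensor A ι.toLinearMap) := by
    ext x
    induction x using TensorProduct.induction_on with
    | zero => simp
    | tmul r a => simp
    | add x y hx hy => rw [map_add, map_add, hx, hy]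
  rw [e]
  exact h

theorem exists_finset_mem_range (x : K ⊗[k] A) :
    ∃ s : Finset K, ∀ R : Subalgebra k K, (s : Set K) ⊆ R → x ∈ (psi (A := A) R.val).range := by
  classical
  induction x using TensorProduct.induction_on with
  | zero => exact ⟨∅, fun R _ => zero_mem _⟩
  | tmul l a =>
    refine ⟨{l}, fun R hR => ⟨(⟨l, hR (by simp)⟩ : R) ⊗ₜ[k] a, ?_⟩⟩
    simp
  | add x y hx hy =>
    obtain ⟨s, hs⟩ := hx
    obtain ⟨t, ht⟩ := hy
    refine ⟨s ∪ t, fun R hR => add_mem (hs R ?_) (ht R ?_)⟩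
    · exact (Finset.coe_subset.2 Finset.subset_union_left).trans hR
    · exact (Finset.coe_subset.2 Finset.subset_union_right).trans hR

theorem exists_fg_subalgebra (I : Ideal (K ⊗[k] A)) (hI : I.FG) :
    ∃ R : Subalgebra k K, R.FG ∧
      (I.comap (psi (A := A) R.val)).map (psi (A := A) R.val) = I := by
  classical
  obtain ⟨G, hG⟩ := hI
  choose s hs using fun x : K ⊗[k] A => exists_finset_mem_range (k := k) x
  refine ⟨Algebra.adjoin k ((G.biUnion s : Finset K) : Set K), Subalgebra.fg_adjoin_finset _, ?_⟩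
  set R := Algebra.adjoin k ((G.biUnion s : Finset K) : Set K) with hR
  apply le_antisymm Ideal.map_comap_le
  rw [← hG, Ideal.span_le]
  intro g hg
  have hsub : (s g : Set K) ⊆ R := by
    refine subset_trans ?_ Algebra.subset_adjoin
    exact Finset.coe_subset.2 (Finset.subset_biUnion_of_mem s hg)
  obtain ⟨y, hy⟩ := hs g R hsub
  have hy' : psi R.val y = g := hy
  rw [hG, ← hy']
  refine Ideal.mem_map_of_mem _ ?_
  rw [Ideal.mem_comap, hy', ← hG]
  exact Ideal.subset_span hg

end descend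

section spread

variable {k : Type u} [Field k] {A : Type u} [CommRing A] [Algebra k A]
  {K : Type u} [Field K] [Algebra k K]
  {R : Type u} [CommRing R] [IsDomain R] [Algebra k R] (ι : R →ₐ[k] K)

theorem psi_algebraMap (r : R) :
    psi (A := A) ι (algebraMap R (R ⊗[k] A) r) = algebraMap K (K ⊗[k] A) (ι r) := by
  rw [Algebra.TensorProduct.algebraMap_apply, Algebra.TensorProduct.algebraMap_apply, psi_tmul]
  rfl

theorem comap_psi_comap_algebraMap (hι : Function.Injective ι) (P : Ideal (K ⊗[k] A))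
    [P.IsPrime] : (P.comap (psi (A := A) ι)).comap (algebraMap R (R ⊗[k] A)) = ⊥ := by
  rw [eq_bot_iff]
  intro r hr
  rw [Ideal.mem_comap, Ideal.mem_comap, psi_algebraMap] at hr
  rw [Ideal.mem_bot]
  by_contra hr0
  have hr1 : ι r ≠ 0 := fun h => hr0 (hι (by rw [h, map_zero]))
  have hu : IsUnit (algebraMap K (K ⊗[k] A) (ι r)) := (IsUnit.mk0 _ hr1).map _
  exact (Ideal.IsPrime.ne_top inferInstance) (Ideal.eq_top_of_isUnit_mem _ hr hu)

theorem ndprimes_bot (hι : Function.Injective ι) (I : Ideal (K ⊗[k] A))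
    (hI : ∀ c, (∀ x ∈ I, IsNilpotent (c * x)) → IsNilpotent c)
    (hIR : (I.comap (psi (A := A) ι)).map (psi (A := A) ι) = I) :
    NDprimes (⊥ : Ideal R) (I.comap (psi (A := A) ι)) := by
  rintro b ⟨q, hq, hqR, hbq⟩
  have hb : ¬ IsNilpotent (psi ι b) := by
    rintro ⟨n, hn⟩
    rw [← map_pow] at hn
    have h0 : b ^ n = 0 := psi_injective ι hι (by rw [hn, map_zero])
    exact hbq (hq.mem_of_pow_mem n (by rw [h0]; exact zero_mem _))
  have hex : ∃ x ∈ I, ¬ IsNilpotent (psi ι b * x) := by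
    by_contra h
    push Not at h
    exact hb (hI _ h)
  obtain ⟨x, hxI, hx⟩ := hex
  rw [nilpotent_iff_mem_prime] at hx
  push Not at hx
  obtain ⟨P', hP', hxP'⟩ := hx
  haveI := hP'
  refine ⟨P'.comap (psi ι), Ideal.comap_isPrime _ _, comap_psi_comap_algebraMap ι hι P', ?_, ?_⟩
  · intro hb'
    exact hxP' (Ideal.mul_mem_right _ _ hb')
  · intro hle
    apply hxP'
    apply Ideal.mul_mem_left
    have h1 : I ≤ P' := by
      rw [← hIR]
      exact Ideal.map_le_iff_le_comap.2 hle
    exact h1 hxI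

theorem exists_maximal_notMem {R : Type*} [CommRing R] [IsDomain R] [Algebra k R]
    [Algebra.FiniteType k R] (g : R) (hg : g ≠ 0) : ∃ n : Ideal R, n.IsMaximal ∧ g ∉ n := by
  haveI : IsJacobsonRing R := isJacobsonRing_of_finiteType (A := k)
  have h1 : (⊥ : Ideal R).jacobson = ⊥ := IsJacobsonRing.out inferInstance Ideal.isRadical_bot
  by_contra h
  push Not at h
  apply hg
  have h2 : g ∈ (⊥ : Ideal R).jacobson := by
    rw [Ideal.jacobson, Ideal.mem_sInf]
    rintro J ⟨-, hJ⟩
    exact h J hJ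
  rwa [h1, Ideal.mem_bot] at h2

end spread

section core

variable {k : Type u} [Field k] {A : Type u} [CommRing A] [Algebra k A]
  {K : Type u} [Field K] [Algebra k K]
  {R : Type u} [CommRing R] [IsDomain R] [Algebra k R] (ι : R →ₐ[k] K)

/-- The map from `A` to the fibre ring over a maximal ideal `n` of `R`. -/
noncomputable def fibreMap (n : Ideal R) [n.IsMaximal] :
    A →+* n.ResidueField ⊗[R] (R ⊗[k] A) :=
  (Algebra.TensorProduct.includeRight :
      (R ⊗[k] A) →ₐ[R] n.ResidueField ⊗[R] (R ⊗[k] A)).toRingHom.comp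
    (Algebra.TensorProduct.includeRight : A →ₐ[k] R ⊗[k] A).toRingHom

theorem fibreMap_apply (n : Ideal R) [n.IsMaximal] (a : A) :
    fibreMap n a = (1 : n.ResidueField) ⊗ₜ[R] ((1 : R) ⊗ₜ[k] a) := rfl

theorem fibreMap_finite [Algebra.FiniteType k R] (n : Ideal R) [n.IsMaximal] :
    @RingHom.Finite A (n.ResidueField ⊗[R] (R ⊗[k] A)) _ _ (fibreMap (k := k) (A := A) n) := by
  haveI : Algebra.FiniteType k n.ResidueField :=
    Algebra.FiniteType.of_surjective (IsScalarTower.toAlgHom k R n.ResidueField)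
      n.algebraMap_residueField_surjective
  haveI : Module.Finite k n.ResidueField := finite_of_finite_type_of_isJacobsonRing k _
  let e := Algebra.TensorProduct.cancelBaseChange k R n.ResidueField n.ResidueField A
  let c := Algebra.TensorProduct.comm k A n.ResidueField
  have h1 : (algebraMap A (A ⊗[k] n.ResidueField)).Finite :=
    RingHom.finite_algebraMap.2 inferInstance
  have h2 : fibreMap (k := k) (A := A) n =
      ((e.symm : n.ResidueField ⊗[k] A →+* n.ResidueField ⊗[R] (R ⊗[k] A)).comp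
        (c : A ⊗[k] n.ResidueField →+* n.ResidueField ⊗[k] A)).comp
      (algebraMap A (A ⊗[k] n.ResidueField)) := by
    ext a
    simp only [RingHom.comp_apply, fibreMap_apply, Algebra.TensorProduct.algebraMap_apply,
      Algebra.algebraMap_self, RingHom.id_apply]
    have h3 : (c : A ⊗[k] n.ResidueField →+* n.ResidueField ⊗[k] A) (a ⊗ₜ[k] 1) =
        (1 : n.ResidueField) ⊗ₜ[k] a := rfl
    rw [h3]
    symm
    show e.symm ((1 : n.ResidueField) ⊗ₜ[k] a) = _
    rw [AlgEquiv.symm_apply_eq, Algebra.TensorProduct.cancelBaseChange_tmul, one_smul]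
  rw [h2]
  refine RingHom.Finite.comp (RingHom.Finite.of_surjective _ ?_) h1
  exact (e.symm.surjective).comp c.surjective

theorem exists_prime_over [Algebra.FiniteType k A] (hι : Function.Injective ι) (n : Ideal R)
    [n.IsMaximal] (P : Ideal (K ⊗[k] A)) [P.IsPrime]
    (hm : (P.comap (Algebra.TensorProduct.includeRight : A →ₐ[k] K ⊗[k] A)).IsMaximal) :
    ∃ Q : Ideal (R ⊗[k] A), Q.IsPrime ∧ P.comap (psi (A := A) ι) ≤ Q ∧
      Q.comap (algebraMap R (R ⊗[k] A)) = n ∧
      Q.comap (Algebra.TensorProduct.includeRight : A →ₐ[k] R ⊗[k] A) =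
        P.comap (Algebra.TensorProduct.includeRight : A →ₐ[k] K ⊗[k] A) := by
  set m := P.comap (Algebra.TensorProduct.includeRight : A →ₐ[k] K ⊗[k] A) with hm_def
  letI : Field (A ⧸ m) := Ideal.Quotient.field m
  haveI : Algebra.FiniteType k (A ⧸ m) :=
    Algebra.FiniteType.of_surjective (Ideal.Quotient.mkₐ k m) (Ideal.Quotient.mkₐ_surjective k m)
  haveI : Module.Finite k (A ⧸ m) := finite_of_finite_type_of_isJacobsonRing k _
  obtain ⟨PR, hPR⟩ : ∃ PR : Ideal (R ⊗[k] A), PR = P.comap (psi (A := A) ι) := ⟨_, rfl⟩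
  haveI : PR.IsPrime := by rw [hPR]; exact Ideal.comap_isPrime _ _
  have hcomp : PR.comap (Algebra.TensorProduct.includeRight : A →ₐ[k] R ⊗[k] A) = m := by
    ext a
    simp only [hPR, hm_def, Ideal.mem_comap, Algebra.TensorProduct.includeRight_apply, psi_tmul,
      map_one]
  have hle : m.map (Algebra.TensorProduct.includeRight : A →ₐ[k] R ⊗[k] A) ≤ PR := by
    rw [Ideal.map_le_iff_le_comap, hcomp]
  -- finiteness
  let e := Algebra.TensorProduct.tensorQuotientEquiv (R := k) R A R m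
  haveI : Module.Finite R ((R ⊗[k] A) ⧸
      m.map (Algebra.TensorProduct.includeRight : A →ₐ[k] R ⊗[k] A)) :=
    Module.Finite.equiv e.toLinearEquiv
  haveI : Module.Finite R ((R ⊗[k] A) ⧸ PR) :=
    Module.Finite.of_surjective (Ideal.Quotient.factorₐ R hle).toLinearMap
      (Ideal.Quotient.factor_surjective hle)
  haveI : Algebra.IsIntegral R ((R ⊗[k] A) ⧸ PR) := Algebra.IsIntegral.of_finite _ _
  have hker : RingHom.ker (algebraMap R ((R ⊗[k] A) ⧸ PR)) ≤ n := by
    intro r hr
    rw [RingHom.mem_ker, ← Ideal.Quotient.mk_algebraMap,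
      Ideal.Quotient.eq_zero_iff_mem] at hr
    have h0 : r ∈ PR.comap (algebraMap R (R ⊗[k] A)) := hr
    rw [hPR, comap_psi_comap_algebraMap ι hι, Ideal.mem_bot] at h0
    rw [h0]
    exact zero_mem _
  obtain ⟨Qb, hQb, hQbn⟩ := Ideal.exists_ideal_over_maximal_of_isIntegral n hker
  refine ⟨Qb.comap (Ideal.Quotient.mk PR), Ideal.comap_isPrime _ _, ?_, ?_, ?_⟩
  · rw [← hPR]
    intro x hx
    rw [Ideal.mem_comap, Ideal.Quotient.eq_zero_iff_mem.2 hx]
    exact zero_mem _
  · rw [Ideal.comap_comap, Ideal.Quotient.mk_comp_algebraMap, hQbn]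
  · have h1 : m ≤ (Qb.comap (Ideal.Quotient.mk PR)).comap
        (Algebra.TensorProduct.includeRight : A →ₐ[k] R ⊗[k] A) := by
      rw [← hcomp]
      apply Ideal.comap_mono
      intro x hx
      rw [Ideal.mem_comap, Ideal.Quotient.eq_zero_iff_mem.2 hx]
      exact zero_mem _
    have h2 : (Qb.comap (Ideal.Quotient.mk PR)).comap
        (Algebra.TensorProduct.includeRight : A →ₐ[k] R ⊗[k] A) ≠ ⊤ := by
      haveI : (Qb.comap (Ideal.Quotient.mk PR)).IsPrime := Ideal.comap_isPrime _ _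
      exact Ideal.IsPrime.ne_top (Ideal.comap_isPrime _ _)
    exact (hm.eq_of_le h2 h1).symm

/-- Core, for a given finitely generated domain `R ⊆ K` over which the ideal is defined. -/
theorem core_aux [Algebra.FiniteType k A] [Algebra.FiniteType k R] (hι : Function.Injective ι)
    (T : Set (PrimeSpectrum (K ⊗[k] A)))
    (hI : ∀ c, (∀ x ∈ PrimeSpectrum.vanishingIdeal T, IsNilpotent (c * x)) → IsNilpotent c)
    (hIR : ((PrimeSpectrum.vanishingIdeal T).comap (psi (A := A) ι)).map (psi (A := A) ι) =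
      PrimeSpectrum.vanishingIdeal T) :
    ∃ C : Set (PrimeSpectrum A), IsClosed C ∧ IsNowhereDense C ∧
      ∀ P ∈ T, (P.asIdeal.comap
          (Algebra.TensorProduct.includeRight : A →ₐ[k] K ⊗[k] A)).IsMaximal →
        (⟨P.asIdeal.comap (Algebra.TensorProduct.includeRight : A →ₐ[k] K ⊗[k] A),
          Ideal.comap_isPrime _ _⟩ : PrimeSpectrum A) ∈ C := by
  obtain ⟨I, hI_def⟩ : ∃ I, I = PrimeSpectrum.vanishingIdeal T := ⟨_, rfl⟩
  rw [← hI_def] at hI hIR
  have hnd := ndprimes_bot ι hι I hI hIR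
  obtain ⟨g, hg, hspread⟩ := ndprimes_spread (⊥ : Ideal R) bot_le _ hnd
  obtain ⟨n, hn, hgn⟩ := exists_maximal_notMem (k := k) g
    (fun h => hg (by rw [h]; exact zero_mem _))
  haveI := hn
  have hndi := ndi_of_ndprimes n _ (hspread n hgn)
  obtain ⟨IR, hIR_def⟩ : ∃ IR, IR = I.comap (psi (A := A) ι) := ⟨_, rfl⟩
  rw [← hIR_def] at hndi
  obtain ⟨J, hJ⟩ : ∃ J, J = IR.map (Algebra.TensorProduct.includeRight :
    (R ⊗[k] A) →ₐ[R] n.ResidueField ⊗[R] (R ⊗[k] A)) := ⟨_, rfl⟩
  have hJnd : IsNowhereDense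
      (PrimeSpectrum.zeroLocus (J : Set (n.ResidueField ⊗[R] (R ⊗[k] A)))) :=
    isNowhereDense_zeroLocus_of_nd_alg J fun c hc =>
      hndi c fun x hx => hc _ (by rw [hJ]; exact Ideal.mem_map_of_mem _ hx)
  obtain ⟨hC1, hC2⟩ := isNowhereDense_comap_image (fibreMap (k := k) (A := A) n)
    (fibreMap_finite n) _ (PrimeSpectrum.isClosed_zeroLocus _) hJnd
  refine ⟨_, hC1, hC2, fun P hPT hm => ?_⟩
  haveI := P.isPrime
  obtain ⟨Q, hQ, hPQ, hQn, hQm⟩ := exists_prime_over ι hι n P.asIdeal hm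
  haveI := hQ
  obtain ⟨Q', hQ', hQ'Q⟩ := exists_fiber_prime n Q hQn
  refine ⟨⟨Q', hQ'⟩, ?_, ?_⟩
  · rw [PrimeSpectrum.mem_zeroLocus]
    show (J : Set (n.ResidueField ⊗[R] (R ⊗[k] A))) ⊆ (Q' : Set (n.ResidueField ⊗[R] (R ⊗[k] A)))
    rw [SetLike.coe_subset_coe, hJ, Ideal.map_le_iff_le_comap, hQ'Q, hIR_def]
    refine le_trans ?_ hPQ
    apply Ideal.comap_mono
    intro x hx
    rw [hI_def] at hx
    exact (PrimeSpectrum.mem_vanishingIdeal _ _).1 hx P hPT
  · apply PrimeSpectrum.ext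
    show Q'.comap (fibreMap (k := k) (A := A) n) =
      P.asIdeal.comap (Algebra.TensorProduct.includeRight : A →ₐ[k] K ⊗[k] A)
    rw [← hQm, ← hQ'Q]
    rfl

/-- **Algebraic core**: closed points of `Spec A` in the image of a closed nowhere dense subset of
`Spec (K ⊗ A)` lie in a closed nowhere dense subset of `Spec A`. -/
theorem core [Algebra.FiniteType k A] (T : Set (PrimeSpectrum (K ⊗[k] A))) (hT : IsClosed T)
    (hT' : IsNowhereDense T) :
    ∃ C : Set (PrimeSpectrum A), IsClosed C ∧ IsNowhereDense C ∧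
      ∀ P ∈ T, (P.asIdeal.comap
          (Algebra.TensorProduct.includeRight : A →ₐ[k] K ⊗[k] A)).IsMaximal →
        (⟨P.asIdeal.comap (Algebra.TensorProduct.includeRight : A →ₐ[k] K ⊗[k] A),
          Ideal.comap_isPrime _ _⟩ : PrimeSpectrum A) ∈ C := by
  have hI := nd_alg_of_isNowhereDense T hT hT'
  haveI : IsNoetherianRing (K ⊗[k] A) := Algebra.FiniteType.isNoetherianRing K (K ⊗[k] A)
  have hfg : (PrimeSpectrum.vanishingIdeal T).FG := IsNoetherian.noetherian _
  obtain ⟨R, hRfg, hIR⟩ := exists_fg_subalgebra (k := k) (A := A) _ hfg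
  haveI : Algebra.FiniteType k R := R.fg_iff_finiteType.1 hRfg
  exact core_aux R.val Subtype.val_injective T hI hIR

end core

end Groth.Agent.Lib.Helper28.MovLem
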