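import Mathlib
import Groth.Agent.Lib.Helper28.QFDenseAlg
import Groth.Agent.Lib.Helper28.GenFinSch

/-!
# Quasi-finite morphisms: finite over a dense open; images of nowhere dense sets (helper28)
-/

set_option autoImplicit false
set_option linter.style.haveILetI false
universe u
open AlgebraicGeometry CategoryTheory Limits TopologicalSpace

namespace Groth.Agent.Lib.Helper28.QFDenseSch

open Groth.Agent.Lib.Helper28.GenFibreTop Groth.Agent.Lib.Helper28.GenFibreNDSch
  Groth.Agent.Lib.Helper3 Groth.Agent.Lib.Helper28.GenFin Groth.Agent.Lib.Helper28.GenFinSch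
  Groth.Agent.Lib.Helper28.QFDense

section topology

variable {α β : Type*} [TopologicalSpace α] [TopologicalSpace β]

theorem isNowhereDense_preimage_of_isOpenMap {g : α → β} (hg : Continuous g) (hopen : IsOpenMap g)
    {T : Set β} (hT : IsClosed T) (hT' : IsNowhereDense T) : IsNowhereDense (g ⁻¹' T) := by
  rw [(hT.preimage hg).isNowhereDense_iff]
  rw [hT.isNowhereDense_iff] at hT'
  have h1 : g '' interior (g ⁻¹' T) ⊆ interior T :=
    interior_maximal (by rintro _ ⟨x, hx, rfl⟩; exact (interior_subset hx : x ∈ g ⁻¹' T))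
      (hopen _ isOpen_interior)
  rw [hT'] at h1
  exact Set.image_eq_empty.mp (Set.subset_empty_iff.mp h1)

theorem isClosed_isNowhereDense_biUnion {ι : Type*} (t : Finset ι) {s : ι → Set α}
    (hc : ∀ i ∈ t, IsClosed (s i)) (h : ∀ i ∈ t, IsNowhereDense (s i)) :
    IsClosed (⋃ i ∈ t, s i) ∧ IsNowhereDense (⋃ i ∈ t, s i) := by
  classical
  induction t using Finset.induction_on with
  | empty => simp
  | insert a t ha ih =>
    obtain ⟨ih1, ih2⟩ := ih (fun i hi => hc i (Finset.mem_insert_of_mem hi))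
      (fun i hi => h i (Finset.mem_insert_of_mem hi))
    have hca := hc a (Finset.mem_insert_self a t)
    have hna := h a (Finset.mem_insert_self a t)
    rw [Finset.set_biUnion_insert]
    refine ⟨hca.union ih1, ?_⟩
    rw [(hca.union ih1).isNowhereDense_iff,
      interior_union_isClosed_of_interior_empty hca (ih1.isNowhereDense_iff.mp ih2)]
    exact hca.isNowhereDense_iff.mp hna

theorem isNowhereDense_frontier_of_isOpen {O : Set α} (hO : IsOpen O) :
    IsClosed (frontier O) ∧ IsNowhereDense (frontier O) := by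
  refine ⟨isClosed_frontier, ?_⟩
  rw [isClosed_frontier.isNowhereDense_iff, ← frontier_compl]
  exact interior_frontier hO.isClosed_compl

end topology

variable {X Y : Scheme.{u}} (f : X ⟶ Y)

/-- Finite chart version: the image of a closed nowhere dense set, seen in the spectrum of the
base chart, is contained in a closed nowhere dense set. -/
theorem chart_image_nowhereDense {W : Y.Opens} (hW : IsAffineOpen W) {U : X.Opens}
    (hU : IsAffineOpen U) (e : U ≤ f ⁻¹ᵁ W) (hfin : (f.appLE W U e).hom.Finite) (T : Set X)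
    (hT : IsClosed T) (hT' : IsNowhereDense T) :
    ∃ S : Set (PrimeSpectrum Γ(Y, W)), IsClosed S ∧ IsNowhereDense S ∧
      ∀ (x : X) (hxU : x ∈ U), x ∈ T → hW.primeIdealOf ⟨f x, e hxU⟩ ∈ S := by
  have hcont : Continuous hU.fromSpec := hU.fromSpec.continuous
  have hTB : IsClosed (hU.fromSpec ⁻¹' T) := hT.preimage hcont
  have hTB' : IsNowhereDense (hU.fromSpec ⁻¹' T) :=
    isNowhereDense_preimage_of_isOpenMap hcont hU.fromSpec.isOpenEmbedding.isOpenMap hT hT'
  obtain ⟨h1, h2⟩ := isNowhereDense_comap_image (f.appLE W U e).hom hfin _ hTB hTB'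
  refine ⟨_, h1, h2, fun x hxU hxT => ?_⟩
  refine ⟨hU.primeIdealOf ⟨x, hxU⟩, ?_, ?_⟩
  · show hU.fromSpec (hU.primeIdealOf ⟨x, hxU⟩) ∈ T
    rw [hU.fromSpec_primeIdealOf]; exact hxT
  · exact PrimeSpectrum.ext (primeIdealOf_comap f hW hU e x hxU).symm

set_option backward.isDefEq.respectTransparency.types false in
theorem finite_appLE_of_isFinite_resLE {W : Y.Opens} (hW : IsAffineOpen W) {U : X.Opens}
    (e : U ≤ f ⁻¹ᵁ W) (h : IsFinite (f.resLE W U e)) : (f.appLE W U e).hom.Finite := by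
  haveI : IsAffine ↑W := hW
  rw [HasAffineProperty.iff_of_isAffine (P := @IsFinite)] at h
  rw [← RingHom.finite_respectsIso.arrow_mk_iso_iff (arrowResLEAppIso f _ _ e)]
  exact h.2

/-- A piece closed in a finite piece is finite. -/
theorem FinOn.of_isClosed {V : Y.Opens} {P Q : X.Opens} (hQ : FinOn f V Q) (hPQ : P ≤ Q)
    (hcl : IsClosed (Q.ι ⁻¹' (P : Set X))) : FinOn f V P := by
  obtain ⟨hQ', hQf⟩ := hQ
  refine ⟨hPQ.trans hQ', ?_⟩
  haveI : IsClosedImmersion (X.homOfLE hPQ) := by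
    apply IsClosedImmersion.of_isPreimmersion
    have : Set.range (X.homOfLE hPQ) = Q.ι ⁻¹' (P : Set X) := by
      have := congrArg (fun O : (↑Q : Scheme).Opens => (O : Set ↑Q)) (Scheme.opensRange_homOfLE hPQ)
      exact this
    rw [this]; exact hcl
  rw [← Scheme.Hom.map_resLE f hQ' hPQ]
  infer_instance

/-- A nonempty affine open contains a maximal point of the ambient scheme. -/
theorem exists_maxPt_mem {W : Y.Opens} (hW : IsAffineOpen W) (hne : (W : Set Y).Nonempty) :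
    ∃ η : Y, η ∈ W ∧ ∀ y : Y, y ⤳ η → y = η := by
  obtain ⟨y₀, hy₀⟩ := hne
  obtain ⟨p₀, hp₀, -⟩ := Ideal.exists_minimalPrimes_le
    (bot_le : (⊥ : Ideal Γ(Y, W)) ≤ (hW.primeIdealOf ⟨y₀, hy₀⟩).asIdeal)
  have hp₀' : p₀.IsPrime := hp₀.1.1
  set η : Y := hW.fromSpec ⟨p₀, hp₀'⟩ with hη
  have hηW : η ∈ W := by
    have : η ∈ Set.range hW.fromSpec := ⟨_, rfl⟩
    rwa [hW.range_fromSpec] at this
  have h1 : hW.primeIdealOf ⟨η, hηW⟩ = ⟨p₀, hp₀'⟩ :=
    hW.fromSpec.isOpenEmbedding.injective (hW.fromSpec_primeIdealOf ⟨η, hηW⟩)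
  refine ⟨η, hηW, fun y hy => ?_⟩
  have hyW : y ∈ W := hy.mem_open W.2 hηW
  have h2 : (hW.primeIdealOf ⟨y, hyW⟩).asIdeal ≤ (hW.primeIdealOf ⟨η, hηW⟩).asIdeal :=
    (primeIdealOf_le_iff_specializes hW y η hyW hηW).mpr hy
  rw [h1] at h2
  have h3 : (hW.primeIdealOf ⟨y, hyW⟩).asIdeal = p₀ :=
    le_antisymm h2 (hp₀.2 ⟨(hW.primeIdealOf ⟨y, hyW⟩).isPrime, bot_le⟩ h2)
  have h4 : hW.primeIdealOf ⟨y, hyW⟩ = hW.primeIdealOf ⟨η, hηW⟩ := by
    rw [h1]; exact PrimeSpectrum.ext h3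
  have := congrArg hW.fromSpec h4
  rwa [hW.fromSpec_primeIdealOf, hW.fromSpec_primeIdealOf] at this

/-- Disjointification: finitely many finite pieces covering `f⁻¹ V`, whose pairwise intersections
are relatively closed, glue to a finite morphism. -/
theorem isFinite_of_pieces {V : Y.Opens} {n : ℕ} (Q : Fin n → X.Opens)
    (hQ : ∀ k, FinOn f V (Q k)) (hcov : f ⁻¹ᵁ V ≤ ⨆ k, Q k)
    (hC : ∀ k j, ∀ x ∈ Q k, x ∈ closure ((Q k ⊓ Q j : X.Opens) : Set X) → x ∈ Q j) :
    IsFinite (f ∣_ V) := by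
  classical
  -- the disjointified pieces
  have hclosed : ∀ k : Fin n, IsClosed (⋃ j ∈ (Finset.univ.filter (· < k) : Finset (Fin n)),
      closure ((Q k ⊓ Q j : X.Opens) : Set X)) := fun k =>
    Set.Finite.isClosed_biUnion (Finset.finite_toSet _) fun j _ => isClosed_closure
  let P : Fin n → X.Opens := fun k => Q k ⊓ ⟨_, (hclosed k).isOpen_compl⟩
  have hPmem : ∀ k x, x ∈ P k ↔ x ∈ Q k ∧ ∀ j, j < k → x ∉ Q j := by
    intro k x
    constructor
    · rintro ⟨hxQ, hx⟩
      refine ⟨hxQ, fun j hj hxj => hx ?_⟩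
      refine Set.mem_iUnion₂.mpr ⟨j, by simpa using hj, subset_closure ⟨hxQ, hxj⟩⟩
    · rintro ⟨hxQ, hx⟩
      refine ⟨hxQ, fun hmem => ?_⟩
      obtain ⟨j, hj, hxj⟩ := Set.mem_iUnion₂.mp hmem
      exact hx j (by simpa using hj) (hC k j x hxQ hxj)
  have hPle : ∀ k, P k ≤ Q k := fun k => inf_le_left
  have hPfin : ∀ k ∈ (Finset.univ : Finset (Fin n)), FinOn f V (P k) := by
    intro k _
    refine FinOn.of_isClosed f (hQ k) (hPle k) ?_
    have : (Q k).ι ⁻¹' (P k : Set X) = ((Q k).ι ⁻¹' (⋃ j ∈ (Finset.univ.filter (· < k) :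
        Finset (Fin n)), (Q j : Set X)))ᶜ := by
      ext x
      simp only [Set.mem_preimage, SetLike.mem_coe, Set.mem_compl_iff, Set.mem_iUnion,
        Finset.mem_filter, Finset.mem_univ, true_and, not_exists]
      rw [hPmem]
      constructor
      · rintro ⟨-, h⟩ j hj; exact h j hj
      · intro h; exact ⟨x.2, fun j hj => h j hj⟩
    rw [this]
    refine IsOpen.isClosed_compl ?_
    refine IsOpen.preimage (Q k).ι.continuous ?_
    exact isOpen_biUnion fun j _ => (Q j).2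
  have hPdisj : ∀ k ∈ (Finset.univ : Finset (Fin n)), ∀ l ∈ (Finset.univ : Finset (Fin n)),
      k ≠ l → Disjoint (P k) (P l) := by
    intro k _ l _ hkl
    rw [disjoint_iff]
    ext x
    simp only [Opens.coe_inf, Set.mem_inter_iff, SetLike.mem_coe, Opens.coe_bot,
      Set.mem_empty_iff_false, iff_false, not_and]
    intro hk hl
    rw [hPmem] at hk hl
    rcases lt_or_gt_of_ne hkl with h | h
    · exact hl.2 k h hk.1
    · exact hk.2 l h hl.1
  have hPcov : (⨆ k ∈ (Finset.univ : Finset (Fin n)), P k) = f ⁻¹ᵁ V := by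
    apply le_antisymm
    · refine iSup₂_le fun k _ => ?_
      exact (hPle k).trans (hQ k).1
    · intro x hx
      have hx' := hcov hx
      rw [Opens.mem_iSup] at hx'
      -- least index
      have hne : {k : Fin n | x ∈ Q k}.Nonempty := hx'
      obtain ⟨k, hk, hmin⟩ := WellFounded.has_min (wellFounded_lt (α := Fin n)) _ hne
      have : x ∈ P k := (hPmem k x).mpr ⟨hk, fun j hj hxj => hmin j hxj hj⟩
      exact (le_iSup₂ (f := fun k (_ : k ∈ (Finset.univ : Finset (Fin n))) => P k) k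
        (Finset.mem_univ k)) this
  have := FinOn.biSup (f := f) Finset.univ P hPfin hPdisj
  rw [hPcov] at this
  exact this.isFinite

/-- Key step: over every nonempty affine open there is a nonempty basic open over which a
quasi-finite morphism is finite. -/
theorem exists_nonempty_isFinite [LocallyQuasiFinite f] [LocallyOfFiniteType f] [QuasiCompact f]
    {W : Y.Opens} (hW : IsAffineOpen W) (hne : (W : Set Y).Nonempty) :
    ∃ g : Γ(Y, W), (Y.basicOpen g : Set Y).Nonempty ∧ IsFinite (f ∣_ Y.basicOpen g) := by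
  classical
  obtain ⟨η, hηW, hmax⟩ := exists_maxPt_mem hW hne
  have hfinη : (f ⁻¹' {η}).Finite := f.finite_preimage_singleton η
  have hc : IsCompact ((f ⁻¹ᵁ W : X.Opens) : Set X) := f.isCompact_preimage hW.isCompact
  obtain ⟨κ, hκ, Xc₀, hXa₀, hXW₀, hXcov₀⟩ := QCSec.exists_finite_affine_cover (f ⁻¹ᵁ W) hc
  haveI := Fintype.ofFinite κ
  -- reindex by `Fin n`
  let eκ := Fintype.equivFin κ
  set n := Fintype.card κ with hn
  let Xc : Fin n → X.Opens := fun k => Xc₀ (eκ.symm k)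
  have hXa : ∀ k, IsAffineOpen (Xc k) := fun k => hXa₀ _
  have hXW : ∀ k, Xc k ≤ f ⁻¹ᵁ W := fun k => hXW₀ _
  have hXcov : f ⁻¹ᵁ W ≤ ⨆ k, Xc k := by
    refine hXcov₀.trans (iSup_le fun i => ?_)
    have : Xc₀ i = Xc (eκ i) := by simp [Xc]
    rw [this]; exact le_iSup Xc (eκ i)
  -- step 1: each chart is finite over a basic open
  have key : ∀ k, ∃ g : Γ(Y, W), η ∈ Y.basicOpen g ∧ ∀ g' : Γ(Y, W), g ∣ g' →
      ∃ h : X.basicOpen (f.appLE W (Xc k) (hXW k) g') ≤ f ⁻¹ᵁ Y.basicOpen g',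
        IsFinite (f.resLE (Y.basicOpen g') (X.basicOpen (f.appLE W (Xc k) (hXW k) g')) h) :=
    fun k => exists_finite_chart f hW (hXa k) (hXW k) η hηW hmax
      (hfinη.subset fun x hx => hx.2)
  choose g hηg hg using key
  set G : Γ(Y, W) := ∏ k, g k with hG
  have hηG : η ∈ Y.basicOpen G := by
    rw [mem_basicOpen_iff_notMem_primeIdealOf hW η hηW]
    intro h
    obtain ⟨k, -, hk⟩ := ((hW.primeIdealOf ⟨η, hηW⟩).isPrime.prod_mem_iff).1 h
    exact (mem_basicOpen_iff_notMem_primeIdealOf hW η hηW (g k)).mp (hηg k) hk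
  have hdvd : ∀ k, g k ∣ G := fun k => Finset.dvd_prod_of_mem g (Finset.mem_univ k)
  set W' : Y.Opens := Y.basicOpen G with hW'def
  have hW' : IsAffineOpen W' := hW.basicOpen G
  have hW'W : W' ≤ W := Y.basicOpen_le G
  -- the pieces over a basic open `D(g')`
  set P : Γ(Y, W) → Fin n → X.Opens := fun g' k =>
    X.basicOpen (f.appLE W (Xc k) (hXW k) g') with hP
  have hPeq : ∀ g' k, P g' k = Xc k ⊓ f ⁻¹ᵁ Y.basicOpen g' := fun g' k =>
    basicOpen_appLE_eq f (hXW k) g'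
  have hPa : ∀ g' k, IsAffineOpen (P g' k) := fun g' k => (hXa k).basicOpen _
  have hPfin : ∀ g' k, G ∣ g' → FinOn f (Y.basicOpen g') (P g' k) := fun g' k hGg' =>
    hg k g' ((hdvd k).trans hGg')
  -- step 2: the boundaries of the overlaps
  have hST : ∀ ij : Fin n × Fin n, ∃ S : Set (PrimeSpectrum Γ(Y, W')), IsClosed S ∧
      IsNowhereDense S ∧ ∀ (x : X) (hx : x ∈ P G ij.1),
        x ∈ frontier ((P G ij.1 ⊓ P G ij.2 : X.Opens) : Set X) →
        hW'.primeIdealOf ⟨f x, (hPfin G ij.1 dvd_rfl).1 hx⟩ ∈ S := by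
    intro ij
    obtain ⟨hcl, hnd⟩ := isNowhereDense_frontier_of_isOpen (P G ij.1 ⊓ P G ij.2).2
    exact chart_image_nowhereDense f hW' (hPa G ij.1) (hPfin G ij.1 dvd_rfl).1
      (finite_appLE_of_isFinite_resLE f hW' _ (hPfin G ij.1 dvd_rfl).2) _ hcl hnd
  choose S hScl hSnd hSmem using hST
  obtain ⟨hZcl, hZnd⟩ := isClosed_isNowhereDense_biUnion (Finset.univ : Finset (Fin n × Fin n))
    (s := S) (fun ij _ => hScl ij) (fun ij _ => hSnd ij)
  set Z : Set (PrimeSpectrum Γ(Y, W')) := ⋃ ij ∈ (Finset.univ : Finset (Fin n × Fin n)), S ij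
    with hZ
  -- a point outside `Z`
  have hηW' : η ∈ W' := hηG
  obtain ⟨p₁, hp₁⟩ : ∃ p₁ : PrimeSpectrum Γ(Y, W'), p₁ ∉ Z := by
    by_contra hcon
    push Not at hcon
    have hZuniv : Z = Set.univ := Set.eq_univ_of_forall hcon
    rw [IsNowhereDense, hZcl.closure_eq, hZuniv, interior_univ] at hZnd
    exact Set.notMem_empty (hW'.primeIdealOf ⟨η, hηW'⟩) (hZnd ▸ Set.mem_univ _)
  obtain ⟨_, ⟨_, ⟨h, rfl⟩, rfl⟩, hp₁h, hhZ⟩ :=
    PrimeSpectrum.isBasis_basic_opens.exists_subset_of_mem_open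
      (show p₁ ∈ Zᶜ from hp₁) hZcl.isOpen_compl
  set y₁ : Y := hW'.fromSpec p₁ with hy₁
  have hy₁W' : y₁ ∈ W' := by
    have : y₁ ∈ Set.range hW'.fromSpec := ⟨_, rfl⟩
    rwa [hW'.range_fromSpec] at this
  have hp₁eq : hW'.primeIdealOf ⟨y₁, hy₁W'⟩ = p₁ :=
    hW'.fromSpec.isOpenEmbedding.injective (hW'.fromSpec_primeIdealOf ⟨y₁, hy₁W'⟩)
  have hy₁h : y₁ ∈ Y.basicOpen h := by
    rw [mem_basicOpen_iff_notMem_primeIdealOf hW' y₁ hy₁W', hp₁eq]
    exact hp₁h
  obtain ⟨h', hh'le, hy₁h'⟩ := hW.exists_basicOpen_le (V := Y.basicOpen h) ⟨y₁, hy₁h⟩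
    (hW'W hy₁W')
  set V : Y.Opens := Y.basicOpen (G * h') with hVdef
  have hVle : V ≤ W' ⊓ Y.basicOpen h := by
    rw [hVdef, Scheme.basicOpen_mul]
    exact inf_le_inf_left _ hh'le
  have hy₁V : y₁ ∈ V := by
    rw [hVdef, Scheme.basicOpen_mul]
    exact ⟨hy₁W', hy₁h'⟩
  -- (★)
  have hstar : ∀ i j (x : X), x ∈ P G i →
      x ∈ frontier ((P G i ⊓ P G j : X.Opens) : Set X) → f x ∉ V := by
    intro i j x hx hxfr hfxV
    have h1 := hSmem (i, j) x hx hxfr
    have h2 : f x ∈ Y.basicOpen h := (hVle hfxV).2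
    rw [mem_basicOpen_iff_notMem_primeIdealOf hW' (f x) ((hPfin G i dvd_rfl).1 hx)] at h2
    have h3 : hW'.primeIdealOf ⟨f x, (hPfin G i dvd_rfl).1 hx⟩ ∈ Z :=
      Set.mem_iUnion₂.mpr ⟨(i, j), Finset.mem_univ _, h1⟩
    exact hhZ h2 h3
  refine ⟨G * h', ⟨y₁, hy₁V⟩, ?_⟩
  -- step 4: the pieces over `V`
  have hQle : ∀ k, P (G * h') k ≤ P G k := by
    intro k
    rw [hPeq, hPeq]
    exact inf_le_inf_left _ (fun x hx => (hVle hx).1)
  refine isFinite_of_pieces f (P (G * h')) (fun k => hPfin (G * h') k (dvd_mul_right G h')) ?_ ?_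
  · intro x hx
    have hxW : x ∈ f ⁻¹ᵁ W := hW'W (hVle hx).1
    have := hXcov hxW
    rw [Opens.mem_iSup] at this ⊢
    obtain ⟨k, hk⟩ := this
    exact ⟨k, by rw [hPeq]; exact ⟨hk, hx⟩⟩
  · intro k j x hxk hxcl
    by_contra hxj
    have hxk' : x ∈ Xc k ∧ f x ∈ V := by
      have := hxk; rw [hPeq] at this; exact this
    have hsub : ((P (G * h') k ⊓ P (G * h') j : X.Opens) : Set X) ⊆
        ((P G k ⊓ P G j : X.Opens) : Set X) := fun z hz => ⟨hQle k hz.1, hQle j hz.2⟩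
    have hx1 : x ∈ closure ((P G k ⊓ P G j : X.Opens) : Set X) := closure_mono hsub hxcl
    have hx2 : x ∉ ((P G k ⊓ P G j : X.Opens) : Set X) := by
      intro hmem
      apply hxj
      have h5 : x ∈ Xc j := by
        have := hmem.2; rw [hPeq] at this; exact this.1
      rw [hPeq]; exact ⟨h5, hxk'.2⟩
    have hx3 : x ∈ frontier ((P G k ⊓ P G j : X.Opens) : Set X) := by
      rw [frontier, (P G k ⊓ P G j).isOpen.interior_eq]
      exact ⟨hx1, hx2⟩
    exact hstar k j x (hQle k hxk) hx3 hxk'.2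

set_option backward.isDefEq.respectTransparency.types false in
/-- Stacks 03I1: a quasi-finite morphism is finite over a dense open of the target. -/
theorem exists_dense_open_isFinite_of_quasiFinite [LocallyQuasiFinite f] [LocallyOfFiniteType f]
    [QuasiCompact f] : ∃ U : Y.Opens, Dense (U : Set Y) ∧ IsFinite (f ∣_ U) := by
  refine ⟨⨆ V : {V : Y.Opens // IsFinite (f ∣_ V)}, V.1, ?_,
    restrict_iSup f (fun V : {V : Y.Opens // IsFinite (f ∣_ V)} => V.1) fun V => V.2⟩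
  rw [dense_iff_inter_open]
  rintro O hO ⟨y, hy⟩
  obtain ⟨_, ⟨W, hW : IsAffineOpen W, rfl⟩, hyW, hWO⟩ :=
    Y.isBasis_affineOpens.exists_subset_of_mem_open hy hO
  obtain ⟨g, ⟨z, hz⟩, hg⟩ := exists_nonempty_isFinite f hW ⟨y, hyW⟩
  refine ⟨z, hWO (Y.basicOpen_le g hz), ?_⟩
  exact (le_iSup (fun V : {V : Y.Opens // IsFinite (f ∣_ V)} => V.1) ⟨Y.basicOpen g, hg⟩) hz

set_option backward.isDefEq.respectTransparency.types false in
/-- Stacks 03J?: a quasi-finite morphism maps closed nowhere dense sets to nowhere dense sets. -/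
theorem isNowhereDense_image_of_quasiFinite [LocallyQuasiFinite f] [LocallyOfFiniteType f]
    [QuasiCompact f] (T : Set X) (hT : IsClosed T) (hT' : IsNowhereDense T) :
    IsNowhereDense (f '' T) := by
  rw [IsNowhereDense]
  by_contra hcon
  obtain ⟨y₀, hy₀⟩ := Set.nonempty_iff_ne_empty.mpr hcon
  obtain ⟨_, ⟨W, hW : IsAffineOpen W, rfl⟩, hyW, hWO⟩ :=
    Y.isBasis_affineOpens.exists_subset_of_mem_open hy₀ isOpen_interior
  obtain ⟨g, ⟨z, hz⟩, hg⟩ := exists_nonempty_isFinite f hW ⟨y₀, hyW⟩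
  set V : Y.Opens := Y.basicOpen g with hVdef
  have hV : IsAffineOpen V := hW.basicOpen g
  have hVO : (V : Set Y) ⊆ closure (f '' T) := fun y hy =>
    interior_subset (hWO (Y.basicOpen_le g hy))
  haveI : IsAffine ↑V := hV
  have hU : IsAffineOpen (f ⁻¹ᵁ V) := by
    have := hg
    rw [HasAffineProperty.iff_of_isAffine (P := @IsFinite)] at this
    exact this.1
  have hfin : (f.appLE V (f ⁻¹ᵁ V) le_rfl).hom.Finite := by
    apply finite_appLE_of_isFinite_resLE f hV
    rw [Scheme.Hom.resLE_eq_morphismRestrict]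
    exact hg
  obtain ⟨S, hScl, hSnd, hSmem⟩ := chart_image_nowhereDense f hV hU le_rfl hfin T hT hT'
  have hSuniv : S = Set.univ := by
    refine Set.eq_univ_of_forall fun p => ?_
    rw [← hScl.closure_eq, mem_closure_iff]
    intro N hN hpN
    have hopen : IsOpen (hV.fromSpec '' N) := hV.fromSpec.isOpenEmbedding.isOpenMap N hN
    have hyV : hV.fromSpec p ∈ V := by
      have : hV.fromSpec p ∈ Set.range hV.fromSpec := ⟨_, rfl⟩
      rwa [hV.range_fromSpec] at this
    have hycl : hV.fromSpec p ∈ closure (f '' T) := hVO hyV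
    obtain ⟨_, ⟨p', hp'N, rfl⟩, ⟨x, hxT, hx⟩⟩ :=
      mem_closure_iff.mp hycl _ hopen ⟨p, hpN, rfl⟩
    have hfxV : f x ∈ V := by
      rw [hx]
      have : hV.fromSpec p' ∈ Set.range hV.fromSpec := ⟨_, rfl⟩
      rwa [hV.range_fromSpec] at this
    have h1 := hSmem x hfxV hxT
    have h2 : hV.primeIdealOf ⟨f x, hfxV⟩ = p' := by
      apply hV.fromSpec.isOpenEmbedding.injective
      rw [hV.fromSpec_primeIdealOf]; exact hx
    rw [h2] at h1
    exact ⟨p', hp'N, h1⟩
  rw [IsNowhereDense, hScl.closure_eq, hSuniv, interior_univ] at hSnd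
  exact Set.notMem_empty (hV.primeIdealOf ⟨z, hz⟩) (hSnd ▸ Set.mem_univ _)

end Groth.Agent.Lib.Helper28.QFDenseSch
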