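import Mathlib
import Groth.Agent.Lib.Helper28.MovLemAlg
import Groth.Agent.Lib.Helper28.FibreChart
import Groth.Agent.Lib.Helper28.QFDenseSch
import Groth.Agent.Lib.Helper3.QCSec

/-!
# Scheme-level wrapper for S16363 (helper28)
-/

set_option autoImplicit false
set_option linter.style.haveILetI false
set_option linter.unusedSectionVars false
universe u
open AlgebraicGeometry CategoryTheory Limits TensorProduct TopologicalSpace

namespace Groth.Agent.Lib.Helper28.MovLemSch

open Groth.Agent.Lib.Helper28.MovLem Groth.Agent.Lib.Helper28.GenFibreTop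
  Groth.Agent.Lib.Helper28.QFDenseSch Groth.Agent.Lib.Helper8.SmoothFiberSch

variable {k K : Type u} [Field k] [Field K] [Algebra k K]
  (X : Scheme.{u}) (f : X ⟶ Spec (CommRingCat.of k))

theorem SpecMap_appLE_top {R S : CommRingCat.{u}} (φ : R ⟶ S)
    (e : (⊤ : (Spec S).Opens) ≤ (Spec.map φ) ⁻¹ᵁ ⊤) :
    (Spec.map φ).appLE ⊤ ⊤ e = (Spec.map φ).appTop := by
  simp [Scheme.Hom.appTop, Scheme.Hom.app_eq_appLE]

/-- Affine chart of `X_K` over an affine open `W` of `X`. -/
theorem chart_field (W : X.Opens) (hW : IsAffineOpen W) :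
    letI : Algebra k Γ(X, W) :=
      ((Scheme.ΓSpecIso (CommRingCat.of k)).inv ≫ f.appLE ⊤ W le_top).hom.toAlgebra
    ∃ (V' : (pullback f (Spec.map (CommRingCat.ofHom (algebraMap k K)))).Opens)
      (hle : V' ≤ (pullback.fst f (Spec.map (CommRingCat.ofHom (algebraMap k K)))) ⁻¹ᵁ W),
      IsAffineOpen V' ∧
      (∀ z, pullback.fst f (Spec.map (CommRingCat.ofHom (algebraMap k K))) z ∈ W → z ∈ V') ∧
      ∃ e : K ⊗[k] Γ(X, W) ≃+*
          Γ(pullback f (Spec.map (CommRingCat.ofHom (algebraMap k K))), V'),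
        ∀ a : Γ(X, W), e ((1 : K) ⊗ₜ[k] a) =
          ((pullback.fst f (Spec.map (CommRingCat.ofHom (algebraMap k K)))).appLE W V' hle).hom
            a := by
  letI alg : Algebra k Γ(X, W) :=
    ((Scheme.ΓSpecIso (CommRingCat.of k)).inv ≫ f.appLE ⊤ W le_top).hom.toAlgebra
  set g := Spec.map (CommRingCat.ofHom (algebraMap k K)) with hg
  have h : IsPullback (pullback.fst f g) (pullback.snd f g) f g := IsPullback.of_hasPullback f g
  have hW' : IsAffineOpen (⊤ : (Spec (CommRingCat.of K)).Opens) := isAffineOpen_top _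
  have hWt : IsAffineOpen (⊤ : (Spec (CommRingCat.of k)).Opens) := isAffineOpen_top _
  obtain ⟨hV', hpo⟩ := affine_chart_of_opens f g (pullback.snd f g) (pullback.fst f g) h ⊤ hWt
    W hW ⊤ hW' le_top le_top
  refine ⟨_, inf_le_left, hV', fun z hz => ⟨hz, trivial⟩, ?_⟩
  have H2 : IsPushout ((Scheme.ΓSpecIso (CommRingCat.of k)).inv ≫ f.appLE ⊤ W le_top)
      (CommRingCat.ofHom (algebraMap k K))
      ((pullback.fst f g).appLE W _ inf_le_left)
      ((Scheme.ΓSpecIso (CommRingCat.of K)).inv ≫ (pullback.snd f g).appLE ⊤ _ inf_le_right) :=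
    hpo.of_iso (Scheme.ΓSpecIso _) (Iso.refl _) (Scheme.ΓSpecIso _) (Iso.refl _) (by simp)
      (by rw [hg, SpecMap_appLE_top, Scheme.ΓSpecIso_naturality]) (by simp) (by simp)
  have H3 := CommRingCat.isPushout_tensorProduct k K Γ(X, W)
  refine ⟨(H3.isoIsPushout _ _ H2.flip).commRingCatIsoToRingEquiv, fun a => ?_⟩
  have h1 := H3.inr_isoIsPushout_hom _ _ H2.flip
  exact congr($(h1).hom a)

section closedpoint

variable {kb : Type u} [Field kb] [Algebra k kb]

theorem appLE_top_of_eq (g : Spec (CommRingCat.of kb) ⟶ Spec (CommRingCat.of k))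
    (hg : g = Spec.map (CommRingCat.ofHom (algebraMap k kb)))
    (e : (⊤ : (Spec (CommRingCat.of kb)).Opens) ≤ g ⁻¹ᵁ ⊤) :
    g.appLE ⊤ ⊤ e = (Spec.map (CommRingCat.ofHom (algebraMap k kb))).appTop := by
  subst hg
  exact SpecMap_appLE_top _ e

theorem point_ring_map (x : Spec (CommRingCat.of kb) ⟶ X)
    (hx : x ≫ f = Spec.map (CommRingCat.ofHom (algebraMap k kb))) (W : X.Opens)
    (hle : (⊤ : (Spec (CommRingCat.of kb)).Opens) ≤ x ⁻¹ᵁ W) :
    ((Scheme.ΓSpecIso (CommRingCat.of k)).inv ≫ f.appLE ⊤ W le_top) ≫ x.appLE W ⊤ hle =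
      CommRingCat.ofHom (algebraMap k kb) ≫ (Scheme.ΓSpecIso (CommRingCat.of kb)).inv := by
  rw [Category.assoc, Scheme.Hom.appLE_comp_appLE, appLE_top_of_eq (x ≫ f) hx,
    Scheme.ΓSpecIso_inv_naturality]

/-- The image point of an algebraic point is a closed point of every affine chart. -/
theorem isMaximal_primeIdealOf_of_algebraic [Algebra.IsAlgebraic k kb]
    (x : Spec (CommRingCat.of kb) ⟶ X)
    (hx : x ≫ f = Spec.map (CommRingCat.ofHom (algebraMap k kb)))
    (t : Spec (CommRingCat.of kb)) (W : X.Opens) (hW : IsAffineOpen W) (ht : x t ∈ W) :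
    (hW.primeIdealOf ⟨x t, ht⟩).asIdeal.IsMaximal := by
  have hle : (⊤ : (Spec (CommRingCat.of kb)).Opens) ≤ x ⁻¹ᵁ W := by
    intro s _
    have hst : s = t := Subsingleton.elim (α := PrimeSpectrum kb) _ _
    rw [hst]
    exact ht
  have htop := isAffineOpen_top (Spec (CommRingCat.of kb))
  rw [primeIdealOf_comap x hW htop hle t trivial]
  have hfield : IsField Γ(Spec (CommRingCat.of kb), ⊤) :=
    (Scheme.ΓSpecIso (CommRingCat.of kb)).commRingCatIsoToRingEquiv.toMulEquiv.isField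
      (Field.toIsField kb)
  haveI : ((htop.primeIdealOf ⟨t, trivial⟩).asIdeal).IsMaximal := by
    letI := hfield.toField
    have h0 : (htop.primeIdealOf ⟨t, trivial⟩).asIdeal = ⊥ := Ideal.eq_bot_of_prime _
    rw [h0]
    exact Ideal.bot_isMaximal
  apply Ideal.isMaximal_comap_of_isIntegral_of_isMaximal'
  have h1 := point_ring_map X f x hx W hle
  have h2 : ((x.appLE W ⊤ hle).hom.comp
      ((Scheme.ΓSpecIso (CommRingCat.of k)).inv ≫ f.appLE ⊤ W le_top).hom).IsIntegral := by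
    have h3 : (x.appLE W ⊤ hle).hom.comp
        ((Scheme.ΓSpecIso (CommRingCat.of k)).inv ≫ f.appLE ⊤ W le_top).hom =
        ((Scheme.ΓSpecIso (CommRingCat.of kb)).inv).hom.comp (algebraMap k kb) := by
      have := congrArg CommRingCat.Hom.hom h1
      exact this
    rw [h3]
    refine RingHom.IsIntegral.trans _ _ ?_ ?_
    · exact Algebra.IsIntegral.isIntegral (R := k) (A := kb)
    · apply RingHom.isIntegral_of_surjective
      intro y
      refine ⟨(Scheme.ΓSpecIso (CommRingCat.of kb)).hom.hom y, ?_⟩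
      exact congr($((Scheme.ΓSpecIso (CommRingCat.of kb)).hom_inv_id).hom y)
  exact RingHom.IsIntegral.tower_top _ _ h2

end closedpoint

section piece

theorem finiteType_sections [LocallyOfFiniteType f] (W : X.Opens) (hW : IsAffineOpen W) :
    letI : Algebra k Γ(X, W) :=
      ((Scheme.ΓSpecIso (CommRingCat.of k)).inv ≫ f.appLE ⊤ W le_top).hom.toAlgebra
    Algebra.FiniteType k Γ(X, W) := by
  have h1 : (f.appLE ⊤ W le_top).hom.FiniteType :=
    f.finiteType_appLE (isAffineOpen_top _) hW le_top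
  have h2 : ((Scheme.ΓSpecIso (CommRingCat.of k)).inv).hom.FiniteType := by
    apply RingHom.FiniteType.of_surjective
    intro y
    refine ⟨(Scheme.ΓSpecIso (CommRingCat.of k)).hom.hom y, ?_⟩
    exact congr($((Scheme.ΓSpecIso (CommRingCat.of k)).hom_inv_id).hom y)
  exact h1.comp h2

variable (U' : (pullback f (Spec.map (CommRingCat.ofHom (algebraMap k K)))).Opens)
  (hU' : Dense (U' : Set ↥(pullback f (Spec.map (CommRingCat.ofHom (algebraMap k K))))))

include hU' in
theorem affine_piece [LocallyOfFiniteType f] (W : X.Opens) (hW : IsAffineOpen W) :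
    ∃ C : Set X, IsClosed C ∧ IsNowhereDense C ∧
      ∀ z : ↥(pullback f (Spec.map (CommRingCat.ofHom (algebraMap k K)))), z ∉ U' →
        ∀ hz : pullback.fst f (Spec.map (CommRingCat.ofHom (algebraMap k K))) z ∈ W,
          (hW.primeIdealOf ⟨_, hz⟩).asIdeal.IsMaximal →
          pullback.fst f (Spec.map (CommRingCat.ofHom (algebraMap k K))) z ∈ C := by
  letI alg : Algebra k Γ(X, W) :=
    ((Scheme.ΓSpecIso (CommRingCat.of k)).inv ≫ f.appLE ⊤ W le_top).hom.toAlgebra
  haveI : Algebra.FiniteType k Γ(X, W) := finiteType_sections X f W hW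
  obtain ⟨V', hle, hV', hmem, e, he⟩ := chart_field (K := K) X f W hW
  let τ : PrimeSpectrum (K ⊗[k] Γ(X, W)) →
      ↥(pullback f (Spec.map (CommRingCat.ofHom (algebraMap k K)))) :=
    fun P => hV'.fromSpec (PrimeSpectrum.homeomorphOfRingEquiv e P)
  have hτc : Continuous τ :=
    hV'.fromSpec.continuous.comp (PrimeSpectrum.homeomorphOfRingEquiv e).continuous
  have hτo : IsOpenMap τ :=
    hV'.fromSpec.isOpenEmbedding.isOpenMap.comp (PrimeSpectrum.homeomorphOfRingEquiv e).isOpenMap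
  have hcl : IsClosed ((U' : Set ↥(pullback f (Spec.map (CommRingCat.ofHom (algebraMap k K)))))ᶜ) :=
    U'.2.isClosed_compl
  have hnd : IsNowhereDense
      ((U' : Set ↥(pullback f (Spec.map (CommRingCat.ofHom (algebraMap k K)))))ᶜ) := by
    refine (isClosed_isNowhereDense_iff_compl.2 ⟨?_, ?_⟩).2
    · rw [compl_compl]; exact U'.2
    · rw [compl_compl]; exact hU'
  have hT : IsClosed (τ ⁻¹' (U' : Set _)ᶜ) := hcl.preimage hτc
  have hT' : IsNowhereDense (τ ⁻¹' (U' : Set _)ᶜ) :=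
    isNowhereDense_preimage_of_isOpenMap hτc hτo hcl hnd
  obtain ⟨C₀, hC₀c, hC₀nd, hC₀⟩ := core (k := k) (A := Γ(X, W)) (K := K) _ hT hT'
  refine ⟨closure (hW.fromSpec '' C₀), isClosed_closure,
    (hW.fromSpec.isOpenEmbedding.isInducing.isNowhereDense_image hC₀nd).closure,
    fun z hzU' hz hmax => subset_closure ?_⟩
  have hzV' : z ∈ V' := hmem z hz
  set p := hV'.primeIdealOf ⟨z, hzV'⟩ with hp
  set P : PrimeSpectrum (K ⊗[k] Γ(X, W)) := (PrimeSpectrum.homeomorphOfRingEquiv e).symm p with hP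
  have hτP : τ P = z := by
    show hV'.fromSpec (PrimeSpectrum.homeomorphOfRingEquiv e P) = z
    rw [hP, Homeomorph.apply_symm_apply, hp, hV'.fromSpec_primeIdealOf]
  have hPT : P ∈ τ ⁻¹' (U' : Set _)ᶜ := by
    show τ P ∈ (U' : Set _)ᶜ
    rw [hτP]
    exact hzU'
  have hcomap : P.asIdeal.comap
      (Algebra.TensorProduct.includeRight : Γ(X, W) →ₐ[k] K ⊗[k] Γ(X, W)) =
      (hW.primeIdealOf ⟨_, hz⟩).asIdeal := by
    rw [primeIdealOf_comap _ hW hV' hle z hzV']
    ext a
    rw [Ideal.mem_comap, Ideal.mem_comap, ← he a]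
    rfl
  have h1 := hC₀ P hPT (by rw [hcomap]; exact hmax)
  refine ⟨hW.primeIdealOf ⟨_, hz⟩, ?_, hW.fromSpec_primeIdealOf _⟩
  have h2 : (⟨P.asIdeal.comap
      (Algebra.TensorProduct.includeRight : Γ(X, W) →ₐ[k] K ⊗[k] Γ(X, W)),
      Ideal.comap_isPrime _ _⟩ : PrimeSpectrum Γ(X, W)) = hW.primeIdealOf ⟨_, hz⟩ := by
    apply PrimeSpectrum.ext
    exact hcomap
  rw [h2] at h1
  exact h1

end piece

section main

theorem isMaximal_transport {W : X.Opens} (hW : IsAffineOpen W) (p q : X) (hpq : p = q)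
    (hp : p ∈ W) (hq : q ∈ W) (h : (hW.primeIdealOf ⟨q, hq⟩).asIdeal.IsMaximal) :
    (hW.primeIdealOf ⟨p, hp⟩).asIdeal.IsMaximal := by
  subst hpq
  exact h

theorem main [LocallyOfFiniteType f] [QuasiCompact f]
    (U' : (pullback f (Spec.map (CommRingCat.ofHom (algebraMap k K)))).Opens)
    (hU' : Dense (U' : Set ↥(pullback f (Spec.map (CommRingCat.ofHom (algebraMap k K)))))) :
    ∃ U : X.Opens, Dense (U : Set ↥X) ∧
      ∀ (kb Ω : Type u) [Field kb] [Algebra k kb] [IsAlgClosure k kb]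
        [Field Ω] [Algebra k Ω] [Algebra kb Ω] [Algebra K Ω] [IsScalarTower k kb Ω]
        [IsScalarTower k K Ω]
        (x : Spec (CommRingCat.of kb) ⟶ X),
        x ≫ f = Spec.map (CommRingCat.ofHom (algebraMap k kb)) →
        (∀ t : ↥(Spec (CommRingCat.of kb)), x.base t ∈ U) →
        ∀ (y : Spec (CommRingCat.of Ω) ⟶
            pullback f (Spec.map (CommRingCat.ofHom (algebraMap k K)))),
          y ≫ pullback.fst f (Spec.map (CommRingCat.ofHom (algebraMap k K))) =
              Spec.map (CommRingCat.ofHom (algebraMap kb Ω)) ≫ x →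
          y ≫ pullback.snd f (Spec.map (CommRingCat.ofHom (algebraMap k K))) =
              Spec.map (CommRingCat.ofHom (algebraMap K Ω)) →
          ∀ t : ↥(Spec (CommRingCat.of Ω)), y.base t ∈ U' := by
  haveI : CompactSpace X := QuasiCompact.compactSpace_of_compactSpace f
  obtain ⟨ι, hι, W, hWa, -, hcov⟩ :=
    Groth.Agent.Lib.Helper3.QCSec.exists_finite_affine_cover (X := X) ⊤ isCompact_univ
  haveI := Fintype.ofFinite ι
  choose C hCc hCnd hC using fun i => affine_piece X f U' hU' (W i) (hWa i)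
  obtain ⟨hc, hnd⟩ := isClosed_isNowhereDense_biUnion (Finset.univ : Finset ι) (s := C)
    (fun i _ => hCc i) (fun i _ => hCnd i)
  obtain ⟨ho, hd⟩ := isClosed_isNowhereDense_iff_compl.1 ⟨hc, hnd⟩
  refine ⟨⟨_, ho⟩, hd, ?_⟩
  intro kb Ω _ _ _ _ _ _ _ _ _ x hx hxU y hy1 hy2 t
  by_contra hyt
  haveI : Algebra.IsAlgebraic k kb := IsAlgClosure.isAlgebraic
  set t' := (Spec.map (CommRingCat.ofHom (algebraMap kb Ω))) t with ht'
  have hfst : pullback.fst f (Spec.map (CommRingCat.ofHom (algebraMap k K))) (y t) = x t' := by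
    rw [← Scheme.Hom.comp_apply, hy1, Scheme.Hom.comp_apply]
  have hmemtop : x t' ∈ (⊤ : X.Opens) := trivial
  obtain ⟨i, hi⟩ := Opens.mem_iSup.1 (hcov hmemtop)
  have hz : pullback.fst f (Spec.map (CommRingCat.ofHom (algebraMap k K))) (y t) ∈ W i := by
    rw [hfst]; exact hi
  have hmax := isMaximal_primeIdealOf_of_algebraic X f x hx t' (W i) (hWa i) hi
  have h1 := hC i (y t) hyt hz (isMaximal_transport X (hWa i) _ _ hfst hz hi hmax)
  rw [hfst] at h1
  have h2 : x t' ∈ (⋃ i ∈ (Finset.univ : Finset ι), C i)ᶜ := hxU t'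
  apply h2
  exact Set.mem_biUnion (Finset.mem_univ i) h1

end main

end Groth.Agent.Lib.Helper28.MovLemSch
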