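/-
Helper28 library: more linear algebra for `μ_n`-subgroups of `GL_m`: the ranks of a complete
system of orthogonal idempotents add up to the dimension, labellings with prescribed fibre
cardinalities, diagonal idempotent systems.
-/
import Groth.Agent.Lib.Helper28.MuAlg

set_option autoImplicit false
set_option linter.unusedSectionVars false

namespace Groth.Agent.Lib.Helper28.MuAlg2

open Groth.Agent.Lib.Helper28.MuAlg

section Sum

variable {k V : Type*} [Field k] [AddCommGroup V] [Module k V] [FiniteDimensional k V]
  {ι : Type*} [Fintype ι] [DecidableEq ι]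

theorem sum_finrank_range (E : ι → V →ₗ[k] V)
    (hE : ∀ a b, E a ∘ₗ E b = if a = b then E a else 0) (hE1 : ∑ a, E a = LinearMap.id) :
    ∑ a, Module.finrank k (LinearMap.range (E a)) = Module.finrank k V := by
  let e : V ≃ₗ[k] (∀ a, LinearMap.range (E a)) :=
    { toFun := fun v a => (E a).rangeRestrict v
      map_add' := fun v w => by funext a; exact map_add _ v w
      map_smul' := fun r v => by funext a; exact map_smul _ r v
      invFun := fun w => ∑ a, (w a : V)
      left_inv := fun v => by
        show ∑ a, ((E a).rangeRestrict v : V) = v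
        have := congrArg (fun T : V →ₗ[k] V => T v) hE1
        simp only [LinearMap.sum_apply, LinearMap.id_apply] at this
        exact this
      right_inv := fun w => by
        funext b
        apply Subtype.ext
        show E b (∑ a, (w a : V)) = (w b : V)
        rw [map_sum]
        simp only [apply_range E hE]
        rw [Finset.sum_ite_eq' Finset.univ b, if_pos (Finset.mem_univ _)] }
  rw [e.finrank_eq, Module.finrank_pi_fintype]

theorem sum_rank {m : ℕ} (E : ι → Matrix (Fin m) (Fin m) k)
    (hE : ∀ a b, E a * E b = if a = b then E a else 0) (hE1 : ∑ a, E a = 1) :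
    ∑ a, (E a).rank = m := by
  have tl : ∀ a b : ι, Matrix.toLin' (E a) ∘ₗ Matrix.toLin' (E b) =
      if a = b then Matrix.toLin' (E a) else 0 := by
    intro a b
    rw [← Matrix.toLin'_mul, hE]
    split_ifs
    · rfl
    · exact map_zero _
  have h1 : ∑ a, Matrix.toLin' (E a) = LinearMap.id := by
    rw [← map_sum, hE1, Matrix.toLin'_one]
  have h2 := sum_finrank_range (fun a => Matrix.toLin' (E a)) tl h1
  rw [Module.finrank_fin_fun] at h2
  refine (Finset.sum_congr rfl fun a _ => ?_).trans h2
  unfold Matrix.rank
  rw [Matrix.toLin'_apply']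

theorem exists_lab {m : ℕ} (r : ι → ℕ) (hr : ∑ a, r a = m) :
    ∃ lab : Fin m → ι, ∀ a, Fintype.card {l // lab l = a} = r a := by
  have hcard : Fintype.card (Fin m) = Fintype.card (Σ a, Fin (r a)) := by
    rw [Fintype.card_sigma, Fintype.card_fin]
    simp [hr]
  let e := Fintype.equivOfCardEq hcard
  refine ⟨fun l => (e l).1, fun a => ?_⟩
  have e2 : {l // (e l).1 = a} ≃ Fin (r a) :=
    (e.subtypeEquiv (fun l => Iff.rfl)).trans (Equiv.sigmaSubtype a)
  rw [Fintype.card_congr e2, Fintype.card_fin]

end Sum

section Diag

variable {ι : Type*} [Fintype ι] [DecidableEq ι] (R : Type*) [CommRing R] {m : ℕ}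
  (lab : Fin m → ι)

/-- the diagonal idempotent attached to a labelling -/
def dg (a : ι) : Matrix (Fin m) (Fin m) R :=
  Matrix.diagonal fun l => if lab l = a then 1 else 0

theorem dg_mul (a b : ι) : dg R lab a * dg R lab b = if a = b then dg R lab a else 0 := by
  unfold dg
  rw [Matrix.diagonal_mul_diagonal]
  by_cases hab : a = b
  · subst hab
    rw [if_pos rfl]
    congr 1
    funext l
    by_cases h : lab l = a <;> simp [h]
  · rw [if_neg hab, ← Matrix.diagonal_zero]
    congr 1
    funext l
    by_cases h : lab l = a
    · have : lab l ≠ b := fun h2 => hab (h.symm.trans h2)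
      rw [if_pos h, if_neg this, mul_zero]
    · simp [h]

theorem dg_sum : ∑ a, dg R lab a = 1 := by
  ext i j
  rw [Matrix.sum_apply]
  by_cases hij : i = j
  · subst hij
    simp only [dg, Matrix.diagonal_apply_eq, Matrix.one_apply_eq]
    rw [Finset.sum_ite_eq Finset.univ (lab i)]
    simp
  · simp only [dg, Matrix.diagonal_apply_ne _ hij, Matrix.one_apply_ne hij]
    simp

theorem dg_map {R' : Type*} [CommRing R'] (φ : R →+* R') (a : ι) :
    (dg R lab a).map φ = dg R' lab a := by
  unfold dg
  rw [Matrix.diagonal_map (map_zero φ)]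
  congr 1
  funext l
  split_ifs <;> simp

theorem dg_eq_zero (a : ι) (h : ∀ l, lab l ≠ a) : dg R lab a = 0 := by
  unfold dg
  rw [← Matrix.diagonal_zero]
  congr 1
  funext l
  simp [h l]

theorem dg_rank (k : Type*) [Field k] (a : ι) :
    (dg k lab a).rank = Fintype.card {l // lab l = a} := by
  classical
  unfold dg
  rw [Matrix.rank_diagonal]
  refine Fintype.card_congr (Equiv.subtypeEquivRight fun l => ?_)
  by_cases h : lab l = a <;> simp [h]

end Diag

end Groth.Agent.Lib.Helper28.MuAlg2
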