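/-
Helper28 library: conjugacy of `μ_n`-subgroups of `GL_m` descends from an extension field:
two closed subgroups `σ, τ ≅ D(ℤ/n)` of `GL_{m,k}` which become conjugate over a field extension
`K/k` are conjugate over `k`.
-/
import Groth.Agent.Lib.Helper28.MuBC

set_option autoImplicit false
set_option maxHeartbeats 1600000
set_option linter.unusedSectionVars false
universe u
open CategoryTheory CategoryTheory.Limits AlgebraicGeometry MonoidalCategory
  CartesianMonoidalCategory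
open scoped MonObj

namespace Groth.Agent.Lib.Helper28.MuConj

open Groth.Agent.Lib.Helper13 Groth.Agent.Lib.Helper28.SpPts Groth.Agent.Lib.Helper28.MuGen
  Groth.Agent.Lib.Helper28.MuBC Groth.Agent.Lib.Helper28.MuAlg CoactBr

noncomputable section

section Ex

variable {L Γ' : Type*} [CommRing L] [CommRing Γ'] {M : Type*} [Fintype M] {m : ℕ}

/-- the matrix `∑ₐ s(Tₐ) χ(a)` -/
def ex (s : L →+* Γ') (T : M → Matrix (Fin m) (Fin m) L) (χ : M → Γ') :
    Matrix (Fin m) (Fin m) Γ' :=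
  Matrix.of fun i j => ∑ a, s (T a i j) * χ a

theorem ex_apply (s : L →+* Γ') (T : M → Matrix (Fin m) (Fin m) L) (χ : M → Γ') (i j : Fin m) :
    ex s T χ i j = ∑ a, s (T a i j) * χ a := rfl

theorem ex_mulR (s : L →+* Γ') (T : M → Matrix (Fin m) (Fin m) L) (χ : M → Γ')
    (P : Matrix (Fin m) (Fin m) L) : ex s T χ * P.map s = ex s (fun a => T a * P) χ := by
  ext i j
  rw [Matrix.mul_apply]
  show ∑ l, (∑ a, s (T a i l) * χ a) * (s (P l j)) = ∑ a, s (∑ l, T a i l * P l j) * χ a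
  simp only [map_sum, map_mul, Finset.sum_mul]
  rw [Finset.sum_comm]
  exact Finset.sum_congr rfl fun a _ => Finset.sum_congr rfl fun l _ => by ring

theorem ex_mulL (s : L →+* Γ') (T : M → Matrix (Fin m) (Fin m) L) (χ : M → Γ')
    (P : Matrix (Fin m) (Fin m) L) : P.map s * ex s T χ = ex s (fun a => P * T a) χ := by
  ext i j
  rw [Matrix.mul_apply]
  show ∑ l, s (P i l) * (∑ a, s (T a l j) * χ a) = ∑ a, s (∑ l, P i l * T a l j) * χ a
  simp only [map_sum, map_mul, Finset.sum_mul, Finset.mul_sum]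
  rw [Finset.sum_comm]
  exact Finset.sum_congr rfl fun a _ => Finset.sum_congr rfl fun l _ => by ring

theorem ex_reindex (s : L →+* Γ') (T : M → Matrix (Fin m) (Fin m) L) (χ : M → Γ')
    (c : M ≃ M) : ex s (fun b => T (c b)) (fun b => χ (c b)) = ex s T χ := by
  ext i j
  exact Equiv.sum_comp c (fun a => s (T a i j) * χ a)

end Ex

section Gen

variable {L : Type u} [CommRing L]

theorem ex_unique {M : Type} [CommGroup M] [Fintype M] [DecidableEq M]
    {D : Over (Spec (CommRingCat.of L))} [GrpObj D] (X : CharD (L := L) M D) {m : ℕ}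
    (T T' : M → Matrix (Fin m) (Fin m) L)
    (h : ∀ {Y : Over (Spec (CommRingCat.of L))} (y : Y ⟶ D),
      ex (sm Y) T (X.chi y) = ex (sm Y) T' (X.chi y)) : T = T' := by
  funext a
  ext i j
  have := coeff_unique X (fun a => T a i j) (fun a => T' a i j)
    (fun {Y} y => congrFun (congrFun (h y) i) j)
  exact congrFun this a

theorem sm_unit_surjective :
    Function.Surjective (sm (𝟙_ (Over (Spec (CommRingCat.of L))))) := by
  intro c
  refine ⟨(Scheme.ΓSpecIso (CommRingCat.of L)).hom c, ?_⟩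
  rw [sm_unit]
  exact inv_hom c

theorem gm_const {G' : Over (Spec (CommRingCat.of L))} [GrpObj G'] {m : ℕ}
    (Z : MatD (L := L) m G') (g : 𝟙_ (Over (Spec (CommRingCat.of L))) ⟶ G') :
    ∃ P : Matrix (Fin m) (Fin m) L, ∀ Y : Over (Spec (CommRingCat.of L)),
      Z.gm (toUnit Y ≫ g) = P.map (sm Y) := by
  have hex : ∀ i j, ∃ r : L, sm (𝟙_ (Over (Spec (CommRingCat.of L)))) r = Z.gm g i j :=
    fun i j => sm_unit_surjective _
  choose P hP using hex
  refine ⟨Matrix.of P, fun Y => ?_⟩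
  rw [Z.gm_comp]
  ext i j
  rw [Matrix.map_apply, Matrix.map_apply, Matrix.of_apply, ← hP i j]
  exact (sm_comp (toUnit Y) (P i j)).symm

theorem gm_const_inv [Nontrivial L] {G' : Over (Spec (CommRingCat.of L))} [GrpObj G'] {m : ℕ}
    (Z : MatD (L := L) m G') (g : 𝟙_ (Over (Spec (CommRingCat.of L))) ⟶ G') :
    ∃ P P' : Matrix (Fin m) (Fin m) L, P * P' = 1 ∧ P' * P = 1 ∧
      ∀ Y : Over (Spec (CommRingCat.of L)), Z.gm (toUnit Y ≫ g) = P.map (sm Y) := by
  obtain ⟨P, hP⟩ := gm_const Z g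
  obtain ⟨P', hP'⟩ := gm_const Z g⁻¹
  have h1 : P * P' = 1 := by
    have h2 : Z.gm (toUnit (𝟙_ (Over (Spec (CommRingCat.of L)))) ≫ g) *
        Z.gm (toUnit (𝟙_ (Over (Spec (CommRingCat.of L)))) ≫ g⁻¹) = 1 := by
      rw [← Z.gm_mul, ← MonObj.comp_mul, mul_inv_cancel, MonObj.comp_one, Z.gm_one]
    rw [hP, hP'] at h2
    have h3 : (P * P').map (sm (𝟙_ (Over (Spec (CommRingCat.of L))))) =
        (1 : Matrix (Fin m) (Fin m) L).map (sm (𝟙_ (Over (Spec (CommRingCat.of L))))) := by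
      rw [Matrix.map_mul, h2, Matrix.map_one _ (map_zero _) (map_one _)]
    exact Matrix.map_injective sm_unit_injective h3
  exact ⟨P, P', h1, mul_eq_one_comm.mp h1, hP⟩

theorem split_data {S : Scheme.{u}} {M : Type} [AddCommGroup M] (T : Over S) [GrpObj T]
    (h : Red.IsSplitTorusWith M T) :
    ∃ (sh : T ⟶ Red.DS S M) (si : Red.DS S M ⟶ T), IsMonHom sh ∧ IsMonHom si ∧
      sh ≫ si = 𝟙 _ ∧ si ≫ sh = 𝟙 _ := by
  obtain ⟨e⟩ := h
  exact ⟨e.hom.hom.hom, e.inv.hom.hom, inferInstance, inferInstance,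
    congrArg (fun k => k.hom.hom) e.hom_inv_id, congrArg (fun k => k.hom.hom) e.inv_hom_id⟩

/-- an endomorphism of the diagonalisable group from a multiplicative map of characters -/
theorem exists_kappa {M : Type} [CommGroup M] {D : Over (Spec (CommRingCat.of L))} [GrpObj D]
    (X : CharD (L := L) M D) (c : M → M) (hc1 : c 1 = 1)
    (hcmul : ∀ b b', c (b * b') = c b * c b') :
    ∃ κ : D ⟶ D, ∀ {Y : Over (Spec (CommRingCat.of L))} (y : Y ⟶ D) (b : M),
      X.chi (y ≫ κ) b = X.chi y (c b) := by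
  obtain ⟨κ, hκ⟩ := X.chi_exists (Y := D)
    { toFun := fun a => X.chi (𝟙 D) (c a)
      map_one' := by rw [hc1]; exact X.chi_one _
      map_mul' := fun a b => by rw [hcmul]; exact X.chi_mul_elt _ _ _ }
  refine ⟨κ, fun {Y} y b => ?_⟩
  rw [X.chi_comp, hκ]
  show y.left.appTop (X.chi (𝟙 D) (c b)) = _
  rw [← X.chi_comp, Category.comp_id]

end Gen

/-- the diagonalisable group `D_k(ℤ/n)` -/
abbrev Dk (k : Type u) [CommRing k] (n : ℕ) : Over (Spec (CommRingCat.of k)) :=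
  Red.DS (Spec (CommRingCat.of k)) (ZMod n)

/-- the general linear group over `k` -/
abbrev Gk (k : Type u) [CommRing k] (m : ℕ) : Over (Spec (CommRingCat.of k)) :=
  sp k (CoordGrp.GLn m k)

/-- base change functor -/
abbrev PB (k K : Type u) [CommRing k] [CommRing K] [Algebra k K] :=
  Over.pullback (fkK k K)

theorem main (k : Type u) [Field k] (K : Type u) [Field K] [Algebra k K] (m n : ℕ) (hn : 0 < n)
    (σ τ : Over (Spec (CommRingCat.of k))) [GrpObj σ] [GrpObj τ]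
    (i : σ ⟶ Gk k m) (j : τ ⟶ Gk k m) [IsMonHom i] [IsMonHom j]
    (hj : IsClosedImmersion j.left)
    (hσ : Red.IsSplitTorusWith (ZMod n) σ) (hτ : Red.IsSplitTorusWith (ZMod n) τ)
    (h : ∃ (g : 𝟙_ (Over (Spec (CommRingCat.of K))) ⟶ Red.bc (fkK k K) (Gk k m))
      (φ : Red.bc (fkK k K) σ ≅ Red.bc (fkK k K) τ),
      AGF.conjBy g ((PB k K).map i) = φ.hom ≫ (PB k K).map j) :
    ∃ (g : 𝟙_ (Over (Spec (CommRingCat.of k))) ⟶ Gk k m) (φ : σ ≅ τ),
      AGF.conjBy g i = φ.hom ≫ j := by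
  classical
  haveI : NeZero n := ⟨hn.ne'⟩
  obtain ⟨gK, φK, hK⟩ := h
  obtain ⟨sh, si, hsh, hsi, hshsi, hsish⟩ := split_data σ hσ
  obtain ⟨th, ti, hth, hti, hthti, htith⟩ := split_data τ hτ
  haveI := hsh
  haveI := hsi
  haveI := hth
  haveI := hti
  obtain ⟨ρ, hρdef⟩ : ∃ ρ : Dk k n ⟶ Gk k m, ρ = si ≫ i := ⟨_, rfl⟩
  obtain ⟨ρ', hρ'def⟩ : ∃ ρ' : Dk k n ⟶ Gk k m, ρ' = ti ≫ j := ⟨_, rfl⟩
  haveI : IsMonHom ρ := by rw [hρdef]; infer_instance
  haveI : IsMonHom ρ' := by rw [hρ'def]; infer_instance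
  have hρ : ∀ {Y : Over (Spec (CommRingCat.of k))} (y y' : Y ⟶ Dk k n),
      (y * y') ≫ ρ = (y ≫ ρ) * (y' ≫ ρ) := fun y y' => MonObj.mul_comp y y' ρ
  have hρ' : ∀ {Y : Over (Spec (CommRingCat.of k))} (y y' : Y ⟶ Dk k n),
      (y * y') ≫ ρ' = (y ≫ ρ') * (y' ≫ ρ') := fun y y' => MonObj.mul_comp y y' ρ'
  haveI := hj
  haveI : Mono j.left := inferInstance
  haveI : Mono j := Over.mono_of_mono_left j
  haveI : IsIso ti := ⟨⟨th, htith, hthti⟩⟩
  haveI : Mono ρ' := by rw [hρ'def]; infer_instance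
  -- data
  obtain ⟨X, hXdef⟩ : ∃ X : CharD (L := k) (Multiplicative (ZMod n)) (Dk k n),
      X = charDS k (ZMod n) := ⟨_, rfl⟩
  obtain ⟨Z, hZdef⟩ : ∃ Z : MatD (L := k) m (Gk k m), Z = matGL m := ⟨_, rfl⟩
  obtain ⟨E, hEexp, hEorth, hEsum⟩ := exists_idem X Z ρ @hρ
  obtain ⟨F, hFexp, hForth, hFsum⟩ := exists_idem X Z ρ' @hρ'
  obtain ⟨XK, hXK⟩ : ∃ XK : CharD (L := K) (Multiplicative (ZMod n))
      (Red.bc (fkK k K) (Dk k n)), XK = charBC (K := K) X := ⟨_, rfl⟩
  obtain ⟨ZK, hZK⟩ : ∃ ZK : MatD (L := K) m (Red.bc (fkK k K) (Gk k m)),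
      ZK = matBC (K := K) Z := ⟨_, rfl⟩
  -- the automorphism ψ of the base change of D
  obtain ⟨ψ, hψdef⟩ : ∃ ψ : Red.bc (fkK k K) (Dk k n) ⟶ Red.bc (fkK k K) (Dk k n),
      ψ = (PB k K).map si ≫ φK.hom ≫ (PB k K).map th := ⟨_, rfl⟩
  obtain ⟨ψ', hψ'def⟩ : ∃ ψ' : Red.bc (fkK k K) (Dk k n) ⟶ Red.bc (fkK k K) (Dk k n),
      ψ' = (PB k K).map ti ≫ φK.inv ≫ (PB k K).map sh := ⟨_, rfl⟩
  have hψψ' : ψ ≫ ψ' = 𝟙 _ := by
    rw [hψdef, hψ'def]
    simp only [Category.assoc]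
    rw [← Functor.map_comp_assoc, hthti, CategoryTheory.Functor.map_id, Category.id_comp,
      Iso.hom_inv_id_assoc, ← Functor.map_comp, hsish, CategoryTheory.Functor.map_id]
  have hψ'ψ : ψ' ≫ ψ = 𝟙 _ := by
    rw [hψdef, hψ'def]
    simp only [Category.assoc]
    rw [← Functor.map_comp_assoc, hshsi, CategoryTheory.Functor.map_id, Category.id_comp,
      Iso.inv_hom_id_assoc, ← Functor.map_comp, htith, CategoryTheory.Functor.map_id]
  have hconj : AGF.conjBy gK ((PB k K).map ρ) = ψ ≫ (PB k K).map ρ' := by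
    rw [hψdef, hρdef, hρ'def, Functor.map_comp, Functor.map_comp, ← comp_conjBy, hK]
    simp only [Category.assoc]
    rw [← Functor.map_comp_assoc, hthti, CategoryTheory.Functor.map_id, Category.id_comp]
  have hψmul : ∀ {Y : Over (Spec (CommRingCat.of K))}
      (y y' : Y ⟶ Red.bc (fkK k K) (Dk k n)), (y * y') ≫ ψ = (y ≫ ψ) * (y' ≫ ψ) := by
    intro Y y y'
    apply cancel_bc (K := K) ρ'
    rw [Category.assoc, ← hconj,
      conjBy_mul_comp gK _ (fun {Y} y y' => mul_comp_bc (K := K) ρ @hρ y y'),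
      mul_comp_bc (K := K) ρ' @hρ', Category.assoc, Category.assoc, ← hconj]
  have hψ'mul : ∀ {Y : Over (Spec (CommRingCat.of K))}
      (y y' : Y ⟶ Red.bc (fkK k K) (Dk k n)), (y * y') ≫ ψ' = (y ≫ ψ') * (y' ≫ ψ') := by
    intro Y y y'
    have inj : ∀ z z' : Y ⟶ Red.bc (fkK k K) (Dk k n), z ≫ ψ = z' ≫ ψ → z = z' := by
      intro z z' hz
      have h2 := congrArg (· ≫ ψ') hz
      simp only [Category.assoc, hψψ', Category.comp_id] at h2
      exact h2
    apply inj
    rw [hψmul, Category.assoc, Category.assoc, Category.assoc, hψ'ψ, Category.comp_id,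
      Category.comp_id, Category.comp_id]
  obtain ⟨c, hc⟩ := exists_char_map XK XK ψ @hψmul
  obtain ⟨c', hc'⟩ := exists_char_map XK XK ψ' @hψ'mul
  have hcc' : ∀ b, c' (c b) = b := by
    intro b
    symm
    apply chi_elt_inj XK
    intro Y y
    have h2 := hc (y ≫ ψ') b
    rw [Category.assoc, hψ'ψ, Category.comp_id, hc'] at h2
    exact h2
  have hc'c : ∀ b, c (c' b) = b := by
    intro b
    symm
    apply chi_elt_inj XK
    intro Y y
    have h2 := hc' (y ≫ ψ) b
    rw [Category.assoc, hψψ', Category.comp_id, hc] at h2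
    exact h2
  have hcmul : ∀ b b', c (b * b') = c b * c b' := by
    intro b b'
    apply chi_elt_inj XK
    intro Y y
    rw [← hc, XK.chi_mul_elt, hc, hc, ← XK.chi_mul_elt]
  have hc1 : c 1 = 1 := by
    have h2 := hcmul 1 1
    rw [mul_one] at h2
    have h3 : c 1 * c 1 = c 1 * 1 := by rw [mul_one]; exact h2.symm
    exact mul_left_cancel h3
  have hc'mul : ∀ b b', c' (b * b') = c' b * c' b' := by
    intro b b'
    have h2 : c (c' (b * b')) = c (c' b * c' b') := by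
      rw [hcmul, hc'c, hc'c, hc'c]
    have h3 := congrArg c' h2
    rw [hcc', hcc'] at h3
    exact h3
  have hc'1 : c' 1 = 1 := by
    have h2 := congrArg c' hc1
    rw [hcc'] at h2
    exact h2.symm
  let cE : Multiplicative (ZMod n) ≃ Multiplicative (ZMod n) := ⟨c, c', hcc', hc'c⟩
  have hcE : ∀ b, cE b = c b := fun b => rfl
  -- the matrix of gK
  obtain ⟨P, P', hPP', hP'P, hP⟩ := gm_const_inv ZK gK
  have hEK : ∀ {Y : Over (Spec (CommRingCat.of K))} (y : Y ⟶ Red.bc (fkK k K) (Dk k n)),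
      ZK.gm (y ≫ (PB k K).map ρ) =
        ex (sm Y) (fun a => (E a).map (algebraMap k K)) (XK.chi y) := by
    intro Y y
    ext i j
    rw [hZK, hXK]
    exact expand_bc (K := K) X Z ρ E @hEexp y i j
  have hFK : ∀ {Y : Over (Spec (CommRingCat.of K))} (y : Y ⟶ Red.bc (fkK k K) (Dk k n)),
      ZK.gm (y ≫ (PB k K).map ρ') =
        ex (sm Y) (fun a => (F a).map (algebraMap k K)) (XK.chi y) := by
    intro Y y
    ext i j
    rw [hZK, hXK]
    exact expand_bc (K := K) X Z ρ' F @hFexp y i j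
  have key : ∀ a, (F (c' a)).map (algebraMap k K) * P = P * (E a).map (algebraMap k K) := by
    have hfun : (fun a => (F (c' a)).map (algebraMap k K) * P) =
        fun a => P * (E a).map (algebraMap k K) := by
      apply ex_unique XK
      intro Y y
      rw [← ex_mulR, ← ex_mulL]
      have h2 : ZK.gm ((y ≫ ψ) ≫ (PB k K).map ρ') =
          ex (sm Y) (fun a => (F (c' a)).map (algebraMap k K)) (XK.chi y) := by
        rw [hFK]
        have e2 : XK.chi (y ≫ ψ) = fun b => XK.chi y (c b) := funext (hc y)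
        rw [e2]
        have h3 := ex_reindex (sm Y) (fun a => (F (c' a)).map (algebraMap k K)) (XK.chi y) cE
        simp only [hcE, hcc'] at h3
        exact h3
      rw [← hEK, ← h2, ← hP Y, ← ZK.gm_mul, ← ZK.gm_mul]
      congr 1
      rw [Category.assoc, ← hconj, comp_conjBy, conjBy_mul]
    exact fun a => congrFun hfun a
  have hPd : IsUnit P.det :=
    (Matrix.isUnit_iff_isUnit_det P).1 ⟨⟨P, P', hPP', hP'P⟩, rfl⟩
  have hrank : ∀ b, (E (c b)).rank = (F b).rank := by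
    intro b
    have hk := key (c b)
    rw [hcc'] at hk
    calc (E (c b)).rank = ((E (c b)).map (algebraMap k K)).rank :=
          (rank_map_field (algebraMap k K) _).symm
      _ = (P * (E (c b)).map (algebraMap k K)).rank :=
          (Matrix.rank_mul_eq_right_of_isUnit_det _ _ hPd).symm
      _ = ((F b).map (algebraMap k K) * P).rank := by rw [hk]
      _ = ((F b).map (algebraMap k K)).rank := Matrix.rank_mul_eq_left_of_isUnit_det _ _ hPd
      _ = (F b).rank := rank_map_field (algebraMap k K) _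
  -- conjugation over k
  have horth : ∀ b b', E (c b) * E (c b') = if b = b' then E (c b) else 0 := by
    intro b b'
    rw [hEorth]
    by_cases hbb : b = b'
    · subst hbb; rw [if_pos rfl, if_pos rfl]
    · rw [if_neg hbb, if_neg]
      intro h2
      apply hbb
      have h3 := congrArg c' h2
      rw [hcc', hcc'] at h3
      exact h3
  have hsum : ∑ b, E (c b) = 1 := (Equiv.sum_comp cE E).trans hEsum
  obtain ⟨g₀, g₀', hgg', hg'g, hg⟩ := exists_conj (fun b => E (c b)) F horth hsum hForth hrank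
  obtain ⟨κ, hκ⟩ := exists_kappa X c hc1 hcmul
  obtain ⟨κ', hκ'⟩ := exists_kappa X c' hc'1 hc'mul
  have hκκ' : κ ≫ κ' = 𝟙 _ := by
    apply X.chi_ext
    intro b
    rw [hκ', ← Category.id_comp κ, hκ, hc'c]
  have hκ'κ : κ' ≫ κ = 𝟙 _ := by
    apply X.chi_ext
    intro b
    rw [hκ, ← Category.id_comp κ', hκ', hcc']
  -- the conjugating element
  have hmain : AGF.conjBy (cpt m g₀ g₀' hgg') ρ = κ ≫ ρ' := by
    apply Z.gm_inj
    have hgen : ∀ {Y : Over (Spec (CommRingCat.of k))} (y : Y ⟶ Dk k n),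
        Z.gm (y ≫ AGF.conjBy (cpt m g₀ g₀' hgg') ρ) = Z.gm (y ≫ κ ≫ ρ') := by
      intro Y y
      have hN : Z.gm (y ≫ κ ≫ ρ') = ex (sm Y) F (fun b => X.chi y (c b)) := by
        ext i j
        rw [← Category.assoc, hFexp, ex_apply]
        refine Finset.sum_congr rfl fun b _ => ?_
        rw [hκ]
      have hR : Z.gm (y ≫ ρ) = ex (sm Y) (fun b => E (c b)) (fun b => X.chi y (c b)) := by
        have h3 := ex_reindex (sm Y) E (X.chi y) cE
        simp only [hcE] at h3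
        rw [h3]
        ext i j
        exact hEexp y i j
      have hg₀ : Z.gm (toUnit Y ≫ cpt m g₀ g₀' hgg') = g₀.map (sm Y) := by
        rw [hZdef]
        exact gm_cpt m g₀ g₀' hgg' Y
      have h4 : Z.gm (y ≫ AGF.conjBy (cpt m g₀ g₀' hgg') ρ) * g₀.map (sm Y) =
          Z.gm (y ≫ κ ≫ ρ') * g₀.map (sm Y) := by
        rw [← hg₀, ← Z.gm_mul, comp_conjBy, conjBy_mul, Z.gm_mul, hg₀, hR, hN, ex_mulL, ex_mulR]
        congr 1
        funext b
        exact hg b
      have h5 : g₀.map (sm Y) * g₀'.map (sm Y) = 1 := by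
        rw [← Matrix.map_mul, hgg', Matrix.map_one _ (map_zero _) (map_one _)]
      calc Z.gm (y ≫ AGF.conjBy (cpt m g₀ g₀' hgg') ρ)
          = Z.gm (y ≫ AGF.conjBy (cpt m g₀ g₀' hgg') ρ) * (g₀.map (sm Y) * g₀'.map (sm Y)) := by
            rw [h5, mul_one]
        _ = (Z.gm (y ≫ κ ≫ ρ') * g₀.map (sm Y)) * g₀'.map (sm Y) := by
            rw [← mul_assoc, h4]
        _ = Z.gm (y ≫ κ ≫ ρ') := by rw [mul_assoc, h5, mul_one]
    have h6 := hgen (𝟙 (Dk k n))
    rw [Category.id_comp, Category.id_comp] at h6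
    exact h6
  refine ⟨cpt m g₀ g₀' hgg', ⟨sh ≫ κ ≫ ti, th ≫ κ' ≫ si, ?_, ?_⟩, ?_⟩
  · simp only [Category.assoc]
    rw [reassoc_of% htith, reassoc_of% hκκ', hshsi]
  · simp only [Category.assoc]
    rw [reassoc_of% hsish, reassoc_of% hκ'κ, hthti]
  · have hi : i = sh ≫ ρ := by
      rw [hρdef, ← Category.assoc, hshsi, Category.id_comp]
    rw [hi, ← comp_conjBy, hmain, hρ'def]
    simp only [Category.assoc]

end

end Groth.Agent.Lib.Helper28.MuConj
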