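/-
Helper28 library: descent of `μ_n`-subgroups of `GL_m` from an extension field `K` to `k`:
every closed subgroup `σ' ≅ D(ℤ/n)` of `GL_{m,K}` is conjugate to the base change of a diagonal
closed subgroup of `GL_{m,k}`.
-/
import Groth.Agent.Lib.Helper28.MuConj
import Groth.Agent.Lib.Helper28.MuAlg2
import Groth.Agent.Lib.Helper1.KummerSeq

set_option autoImplicit false
set_option maxHeartbeats 1600000
set_option linter.unusedSectionVars false
universe u
open CategoryTheory CategoryTheory.Limits AlgebraicGeometry MonoidalCategory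
  CartesianMonoidalCategory
open scoped MonObj

namespace Groth.Agent.Lib.Helper28.MuDesc

open Groth.Agent.Lib.Helper13 Groth.Agent.Lib.Helper28.SpPts Groth.Agent.Lib.Helper28.MuGen
  Groth.Agent.Lib.Helper28.MuBC Groth.Agent.Lib.Helper28.MuAlg Groth.Agent.Lib.Helper28.MuAlg2
  Groth.Agent.Lib.Helper28.MuConj Groth.Agent.Lib.Helper19.DiagCore CoactBr

noncomputable section

section Gen

variable {L : Type u} [CommRing L]

theorem ex_dg {Γ' : Type*} [CommRing Γ'] {M : Type*} [Fintype M] [DecidableEq M] {m : ℕ}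
    (s : L →+* Γ') (lab : Fin m → M) (χ : M → Γ') :
    ex s (dg L lab) χ = Matrix.diagonal fun l => χ (lab l) := by
  ext i j
  rw [ex_apply]
  by_cases hij : i = j
  · subst hij
    rw [Matrix.diagonal_apply_eq, Finset.sum_eq_single (lab i)]
    · simp [dg]
    · intro a _ ha
      have : (dg L lab a) i i = 0 := by
        simp only [dg, Matrix.diagonal_apply_eq]
        rw [if_neg (Ne.symm ha)]
      rw [this, map_zero, zero_mul]
    · intro h; exact absurd (Finset.mem_univ _) h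
  · rw [Matrix.diagonal_apply_ne _ hij]
    apply Finset.sum_eq_zero
    intro a _
    have : (dg L lab a) i j = 0 := by
      simp only [dg]
      exact Matrix.diagonal_apply_ne _ hij
    rw [this, map_zero, zero_mul]

theorem exists_iso_charD {M : Type} [CommGroup M] {D₁ D₂ : Over (Spec (CommRingCat.of L))}
    [GrpObj D₁] [GrpObj D₂] (X₁ : CharD (L := L) M D₁) (X₂ : CharD (L := L) M D₂) :
    ∃ (κ : D₁ ⟶ D₂) (κ' : D₂ ⟶ D₁), κ ≫ κ' = 𝟙 _ ∧ κ' ≫ κ = 𝟙 _ ∧
      (∀ {Y : Over (Spec (CommRingCat.of L))} (y : Y ⟶ D₁) (b : M),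
        X₂.chi (y ≫ κ) b = X₁.chi y b) ∧
      (∀ {Y : Over (Spec (CommRingCat.of L))} (y : Y ⟶ D₂) (b : M),
        X₁.chi (y ≫ κ') b = X₂.chi y b) := by
  obtain ⟨κ, hκ⟩ := X₂.chi_exists (Y := D₁) (chiHom X₁ (𝟙 D₁))
  obtain ⟨κ', hκ'⟩ := X₁.chi_exists (Y := D₂) (chiHom X₂ (𝟙 D₂))
  have h1 : ∀ {Y : Over (Spec (CommRingCat.of L))} (y : Y ⟶ D₁) (b : M),
      X₂.chi (y ≫ κ) b = X₁.chi y b := by
    intro Y y b
    rw [X₂.chi_comp, hκ]
    show y.left.appTop (X₁.chi (𝟙 D₁) b) = _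
    rw [← X₁.chi_comp, Category.comp_id]
  have h2 : ∀ {Y : Over (Spec (CommRingCat.of L))} (y : Y ⟶ D₂) (b : M),
      X₁.chi (y ≫ κ') b = X₂.chi y b := by
    intro Y y b
    rw [X₁.chi_comp, hκ']
    show y.left.appTop (X₂.chi (𝟙 D₂) b) = _
    rw [← X₂.chi_comp, Category.comp_id]
  refine ⟨κ, κ', ?_, ?_, @h1, @h2⟩
  · apply X₁.chi_ext
    intro b
    rw [h2, ← Category.id_comp κ, h1]
  · apply X₂.chi_ext
    intro b
    rw [h1, ← Category.id_comp κ', h2]

theorem closure_eq_top_of_cancel [Nontrivial L] {M : Type} [CommGroup M] [Fintype M]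
    [DecidableEq M] {D G : Over (Spec (CommRingCat.of L))} [GrpObj D] [GrpObj G] {m : ℕ}
    (X : CharD (L := L) M D) (Z : MatD (L := L) m G) (ρ : D ⟶ G)
    (hcancel : ∀ {Y : Over (Spec (CommRingCat.of L))} (y y' : Y ⟶ D), y ≫ ρ = y' ≫ ρ → y = y')
    (E : M → Matrix (Fin m) (Fin m) L)
    (hEexp : ∀ {Y : Over (Spec (CommRingCat.of L))} (y : Y ⟶ D) (i j : Fin m),
      Z.gm (y ≫ ρ) i j = ∑ a, sm Y (E a i j) * X.chi y a)
    (S : Set M) (hS : ∀ a, E a ≠ 0 → a ∈ S) : Subgroup.closure S = ⊤ := by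
  rw [eq_top_iff]
  intro a _
  obtain ⟨y, hy⟩ := exists_univ X (M ⧸ Subgroup.closure S)
    (QuotientGroup.mk' (Subgroup.closure S))
  have h1 : y ≫ ρ = 1 ≫ ρ := by
    apply Z.gm_inj
    ext i j
    rw [hEexp, hEexp]
    refine Finset.sum_congr rfl fun b _ => ?_
    by_cases hb : E b = 0
    · rw [hb]; simp
    · have hbS : b ∈ Subgroup.closure S := Subgroup.subset_closure (hS b hb)
      have h2 : (QuotientGroup.mk' (Subgroup.closure S)) b = 1 :=
        (QuotientGroup.eq_one_iff b).mpr hbS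
      rw [hy, h2, chi_one_pt, ← MonoidAlgebra.one_def, ← fnHom_apply, map_one]
  have h2 : y = 1 := hcancel _ _ h1
  have h3 : X.chi y a = 1 := by rw [h2, chi_one_pt]
  rw [hy] at h3
  have h4 : fn (𝟙 (sp L (MonoidAlgebra L (M ⧸ Subgroup.closure S))))
      (MonoidAlgebra.single ((QuotientGroup.mk' (Subgroup.closure S)) a) 1) =
      fn (𝟙 (sp L (MonoidAlgebra L (M ⧸ Subgroup.closure S)))) (MonoidAlgebra.single 1 1) := by
    rw [h3, ← MonoidAlgebra.one_def, ← fnHom_apply, map_one]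
  have h5 := fn_id_injective (M ⧸ Subgroup.closure S) h4
  have h6 : (QuotientGroup.mk' (Subgroup.closure S)) a = 1 := MonoidAlgebra.of_injective h5
  exact (QuotientGroup.eq_one_iff a).mp h6

theorem conj_eq {M : Type} [Fintype M] {D G : Over (Spec (CommRingCat.of L))} [GrpObj D]
    [GrpObj G] {m : ℕ} (Z : MatD (L := L) m G) (ρ₁ ρ₂ : D ⟶ G)
    (T₁ T₂ : M → Matrix (Fin m) (Fin m) L)
    (χ : ∀ {Y : Over (Spec (CommRingCat.of L))}, (Y ⟶ D) → M → Γ(Y.left, ⊤))
    (g : 𝟙_ (Over (Spec (CommRingCat.of L))) ⟶ G) (P P' : Matrix (Fin m) (Fin m) L)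
    (hPP' : P * P' = 1)
    (hg : ∀ Y : Over (Spec (CommRingCat.of L)), Z.gm (toUnit Y ≫ g) = P.map (sm Y))
    (h₁ : ∀ {Y : Over (Spec (CommRingCat.of L))} (y : Y ⟶ D),
      Z.gm (y ≫ ρ₁) = ex (sm Y) T₁ (χ y))
    (h₂ : ∀ {Y : Over (Spec (CommRingCat.of L))} (y : Y ⟶ D),
      Z.gm (y ≫ ρ₂) = ex (sm Y) T₂ (χ y))
    (hPT : ∀ a, P * T₁ a = T₂ a * P) : AGF.conjBy g ρ₁ = ρ₂ := by
  apply Z.gm_inj
  have hgen : ∀ {Y : Over (Spec (CommRingCat.of L))} (y : Y ⟶ D),
      Z.gm (y ≫ AGF.conjBy g ρ₁) = Z.gm (y ≫ ρ₂) := by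
    intro Y y
    have h4 : Z.gm (y ≫ AGF.conjBy g ρ₁) * P.map (sm Y) = Z.gm (y ≫ ρ₂) * P.map (sm Y) := by
      rw [← hg Y, ← Z.gm_mul, comp_conjBy, conjBy_mul, Z.gm_mul, hg Y, h₁, h₂, ex_mulL, ex_mulR]
      congr 1
      funext b
      exact hPT b
    have h5 : P.map (sm Y) * P'.map (sm Y) = 1 := by
      rw [← Matrix.map_mul, hPP', Matrix.map_one _ (map_zero _) (map_one _)]
    calc Z.gm (y ≫ AGF.conjBy g ρ₁)
        = Z.gm (y ≫ AGF.conjBy g ρ₁) * (P.map (sm Y) * P'.map (sm Y)) := by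
          rw [h5, mul_one]
      _ = (Z.gm (y ≫ ρ₂) * P.map (sm Y)) * P'.map (sm Y) := by
          rw [← mul_assoc, h4]
      _ = Z.gm (y ≫ ρ₂) := by rw [mul_assoc, h5, mul_one]
  have h6 := hgen (𝟙 D)
  rw [Category.id_comp, Category.id_comp] at h6
  exact h6

section DiagHom

variable {M : Type} [CommGroup M] {D : Over (Spec (CommRingCat.of L))} [GrpObj D]
  (X : CharD (L := L) M D) {m : ℕ} (lab : Fin m → M)

/-- the ring homomorphism of the diagonal embedding -/
def diagRing : CoordGrp.GLn m L →+* Γ(D.left, ⊤) :=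
  letI : Algebra L Γ(D.left, ⊤) := (sm D).toAlgebra
  (CoordGrp.GLn.pt m L (Matrix.diagonal fun l => X.chi (𝟙 D) (lab l))
    (∏ l, X.chi (𝟙 D) (lab l)⁻¹) (by
      rw [Matrix.det_diagonal, ← Finset.prod_mul_distrib]
      refine Finset.prod_eq_one fun l _ => ?_
      rw [← X.chi_mul_elt, mul_inv_cancel, X.chi_one])).toRingHom

theorem diagRing_algebraMap (r : L) :
    diagRing X lab (algebraMap L (CoordGrp.GLn m L) r) = sm D r := by
  letI : Algebra L Γ(D.left, ⊤) := (sm D).toAlgebra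
  exact AlgHom.commutes (CoordGrp.GLn.pt m L _ _ _) r

theorem diagRing_X (i j : Fin m) : diagRing X lab (CoordGrp.GLn.X i j) =
    (Matrix.diagonal fun l => X.chi (𝟙 D) (lab l)) i j := by
  letI : Algebra L Γ(D.left, ⊤) := (sm D).toAlgebra
  exact CoordGrp.GLn.pt_X _ _ _ i j

/-- the diagonal embedding attached to a labelling -/
def diagHom : D ⟶ sp L (CoordGrp.GLn m L) :=
  mkSp (diagRing X lab) (diagRing_algebraMap X lab)

theorem gm_diagHom {Y : Over (Spec (CommRingCat.of L))} (y : Y ⟶ D) :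
    SpPts.gm m (y ≫ diagHom X lab) = Matrix.diagonal fun l => X.chi y (lab l) := by
  rw [SpPts.gm_comp]
  ext i j
  rw [Matrix.map_apply, SpPts.gm_apply]
  unfold diagHom
  rw [fn_mkSp, diagRing_X]
  by_cases hij : i = j
  · subst hij
    rw [Matrix.diagonal_apply_eq, Matrix.diagonal_apply_eq]
    show y.left.appTop (X.chi (𝟙 D) (lab i)) = _
    rw [← X.chi_comp, Category.comp_id]
  · rw [Matrix.diagonal_apply_ne _ hij, Matrix.diagonal_apply_ne _ hij]
    exact map_zero _

theorem diagHom_mul {Y : Over (Spec (CommRingCat.of L))} (y y' : Y ⟶ D) :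
    (y * y') ≫ diagHom X lab = (y ≫ diagHom X lab) * (y' ≫ diagHom X lab) := by
  apply SpPts.gm_injective m
  rw [SpPts.gm_mul, gm_diagHom, gm_diagHom, gm_diagHom, Matrix.diagonal_mul_diagonal]
  congr 1
  funext l
  exact X.chi_mul y y' (lab l)

theorem isMonHom_diagHom : IsMonHom (diagHom X lab) :=
  Groth.Agent.Lib.Helper1.Kummer.isMonHom_of_points _ (fun _ y y' => diagHom_mul X lab y y')

theorem diagRing_surjective [Fintype M] [DecidableEq M]
    (hgen : Subgroup.closure (Set.range lab) = ⊤) : Function.Surjective (diagRing X lab) := by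
  intro c
  obtain ⟨e, he⟩ := expand X (fun {Y} y => y.left.appTop c) (by
    intro Y Y' s y
    rw [Over.comp_left, Scheme.Hom.comp_appTop]
    rfl)
  have hc : c = ∑ a, sm D (e a) * X.chi (𝟙 D) a := by
    have h1 := he (𝟙 D)
    rw [← h1, Over.id_left, Scheme.Hom.id_appTop]
    rfl
  have hchi : ∀ a : M, ∃ x, diagRing X lab x = X.chi (𝟙 D) a := by
    intro a
    have ha : a ∈ Subgroup.closure (Set.range lab) := by rw [hgen]; exact Subgroup.mem_top a
    induction ha using Subgroup.closure_induction with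
    | mem x hx =>
      obtain ⟨l, rfl⟩ := hx
      refine ⟨CoordGrp.GLn.X l l, ?_⟩
      rw [diagRing_X, Matrix.diagonal_apply_eq]
    | one => exact ⟨1, by rw [map_one, X.chi_one]⟩
    | mul x y _ _ hx hy =>
      obtain ⟨x', hx'⟩ := hx
      obtain ⟨y', hy'⟩ := hy
      exact ⟨x' * y', by rw [map_mul, hx', hy', X.chi_mul_elt]⟩
    | inv x _ hx =>
      obtain ⟨x', hx'⟩ := hx
      refine ⟨x' ^ (Fintype.card M - 1), ?_⟩
      have h1 : x⁻¹ = x ^ (Fintype.card M - 1) := by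
        apply inv_eq_of_mul_eq_one_right
        rw [← pow_succ', Nat.sub_add_cancel Fintype.card_pos, pow_card_eq_one]
      rw [map_pow, hx', h1]
      exact (map_pow (chiHom X (𝟙 D)) x _).symm
  choose x hx using hchi
  refine ⟨∑ a, algebraMap L (CoordGrp.GLn m L) (e a) * x a, ?_⟩
  rw [map_sum, hc]
  refine Finset.sum_congr rfl fun a _ => ?_
  rw [map_mul, hx, diagRing_algebraMap]

theorem isClosedImmersion_diagHom [IsAffine D.left] [Fintype M] [DecidableEq M]
    (hgen : Subgroup.closure (Set.range lab) = ⊤) :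
    IsClosedImmersion (diagHom X lab).left := by
  haveI : IsClosedImmersion (Spec.map (CommRingCat.ofHom (diagRing X lab))) :=
    IsClosedImmersion.spec_of_surjective (CommRingCat.ofHom (diagRing X lab))
      (diagRing_surjective X lab hgen)
  show IsClosedImmersion (D.left.toSpecΓ ≫ Spec.map (CommRingCat.ofHom (diagRing X lab)))
  infer_instance

end DiagHom

end Gen

section KPts

variable {k K : Type u} [CommRing k] [CommRing K] [Algebra k K] (m : ℕ)

/-- the `k`-level point underlying a constant `K`-point of `GL_m` -/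
def cptK1 (P P' : Matrix (Fin m) (Fin m) K) (h : P * P' = 1) :
    (Over.map (fkK k K)).obj (𝟙_ (Over (Spec (CommRingCat.of K)))) ⟶
      sp k (CoordGrp.GLn m k) :=
  mkSp (Y := (Over.map (fkK k K)).obj (𝟙_ (Over (Spec (CommRingCat.of K)))))
    ((show K →+* Γ(((Over.map (fkK k K)).obj (𝟙_ (Over (Spec (CommRingCat.of K))))).left, ⊤) from
      (Scheme.ΓSpecIso (CommRingCat.of K)).inv.hom).comp
    (CoordGrp.GLn.pt m k P P'.det (by rw [← Matrix.det_mul, h, Matrix.det_one])).toRingHom)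
    (fun r => by
      have h1 : (sm ((Over.map (fkK k K)).obj (𝟙_ (Over (Spec (CommRingCat.of K))))) r :
          Γ((𝟙_ (Over (Spec (CommRingCat.of K)))).left, ⊤)) =
          (Scheme.ΓSpecIso (CommRingCat.of K)).inv (algebraMap k K r) :=
        (sm_map _ r).trans (sm_unit _)
      rw [RingHom.comp_apply]
      have h2 : (CoordGrp.GLn.pt m k P P'.det
          (by rw [← Matrix.det_mul, h, Matrix.det_one])).toRingHom
          (algebraMap k (CoordGrp.GLn m k) r) = algebraMap k K r :=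
        AlgHom.commutes _ r
      rw [h2]
      exact h1.symm)

/-- the constant `K`-point of the base change of `GL_m` attached to an invertible matrix -/
def cptK (P P' : Matrix (Fin m) (Fin m) K) (h : P * P' = 1) :
    𝟙_ (Over (Spec (CommRingCat.of K))) ⟶ Red.bc (fkK k K) (sp k (CoordGrp.GLn m k)) :=
  adjE (fkK k K) (sp k (CoordGrp.GLn m k)) (cptK1 m P P' h)

theorem gm_cptK (P P' : Matrix (Fin m) (Fin m) K) (h : P * P' = 1)
    (Y : Over (Spec (CommRingCat.of K))) :
    (matBC (K := K) (matGL (L := k) m)).gm (toUnit Y ≫ cptK (k := k) m P P' h) =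
      P.map (sm Y) := by
  rw [matBC_gm]
  unfold cptK
  rw [adjE_symm_comp, Equiv.symm_apply_apply]
  show SpPts.gm m ((Over.map (fkK k K)).map (toUnit Y) ≫ cptK1 m P P' h) = _
  rw [SpPts.gm_comp]
  ext i j
  rw [Matrix.map_apply, Matrix.map_apply, SpPts.gm_apply]
  unfold cptK1
  rw [fn_mkSp, RingHom.comp_apply]
  have h2 : (CoordGrp.GLn.pt m k P P'.det
      (by rw [← Matrix.det_mul, h, Matrix.det_one])).toRingHom
      (CoordGrp.GLn.X i j : CoordGrp.GLn m k) = P i j := CoordGrp.GLn.pt_X _ _ _ i j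
  rw [h2, sm_apply]
  rfl

end KPts

end

end Groth.Agent.Lib.Helper28.MuDesc
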