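/-
Helper28 library: main theorem on descent of `μ_n`-subgroups of `GL_m` along a field extension.
-/
import Groth.Agent.Lib.Helper28.MuDesc

set_option autoImplicit false
set_option maxHeartbeats 1600000
set_option linter.unusedSectionVars false
universe u
open CategoryTheory CategoryTheory.Limits AlgebraicGeometry MonoidalCategory
  CartesianMonoidalCategory
open scoped MonObj

namespace Groth.Agent.Lib.Helper28.MuDescMain

open Groth.Agent.Lib.Helper13 Groth.Agent.Lib.Helper28.SpPts Groth.Agent.Lib.Helper28.MuGen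
  Groth.Agent.Lib.Helper28.MuBC Groth.Agent.Lib.Helper28.MuAlg Groth.Agent.Lib.Helper28.MuAlg2
  Groth.Agent.Lib.Helper28.MuConj Groth.Agent.Lib.Helper28.MuDesc
  Groth.Agent.Lib.Helper19.DiagCore CoactBr

noncomputable section

theorem isAffine_Dk (k : Type u) [CommRing k] (n : ℕ) : IsAffine (Dk k n).left := by
  haveI : IsAffine (Red.diag (ULift.{u} ℤ) (ZMod n)).left := by
    show IsAffine (Spec _)
    infer_instance
  show IsAffine (pullback _ _)
  infer_instance

theorem main (k : Type u) [Field k] (K : Type u) [Field K] [Algebra k K] (m n : ℕ) (hn : 0 < n)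
    (σ' : Over (Spec (CommRingCat.of K))) [GrpObj σ']
    (i' : σ' ⟶ Red.bc (fkK k K) (Gk k m)) [IsMonHom i'] (hi' : IsClosedImmersion i'.left)
    (hσ' : Red.IsSplitTorusWith (ZMod n) σ') :
    ∃ (σ : Over (Spec (CommRingCat.of k))) (_ : GrpObj σ) (i : σ ⟶ Gk k m) (_ : IsMonHom i),
      IsClosedImmersion i.left ∧ Red.IsSplitTorusWith (ZMod n) σ ∧
      ∃ (g : 𝟙_ (Over (Spec (CommRingCat.of K))) ⟶ Red.bc (fkK k K) (Gk k m))
        (φ : σ' ≅ Red.bc (fkK k K) σ), AGF.conjBy g i' = φ.hom ≫ (PB k K).map i := by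
  classical
  haveI : NeZero n := ⟨hn.ne'⟩
  obtain ⟨sh, si, hsh, hsi, hshsi, hsish⟩ := split_data σ' hσ'
  haveI := hsh
  haveI := hsi
  obtain ⟨X, hXdef⟩ : ∃ X : CharD (L := k) (Multiplicative (ZMod n)) (Dk k n),
      X = charDS k (ZMod n) := ⟨_, rfl⟩
  obtain ⟨XK, hXK⟩ : ∃ XK : CharD (L := K) (Multiplicative (ZMod n))
      (Red.bc (fkK k K) (Dk k n)), XK = charBC (K := K) X := ⟨_, rfl⟩
  obtain ⟨XK', hXK'⟩ : ∃ XK' : CharD (L := K) (Multiplicative (ZMod n)) (Dk K n),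
      XK' = charDS K (ZMod n) := ⟨_, rfl⟩
  obtain ⟨ZK, hZK⟩ : ∃ ZK : MatD (L := K) m (Red.bc (fkK k K) (Gk k m)),
      ZK = matBC (K := K) (matGL (L := k) m) := ⟨_, rfl⟩
  obtain ⟨κ, κ', hκκ', hκ'κ, hκ, hκ'⟩ := exists_iso_charD XK' XK
  obtain ⟨ρ, hρdef⟩ : ∃ ρ : Red.bc (fkK k K) (Dk k n) ⟶ Red.bc (fkK k K) (Gk k m),
      ρ = κ' ≫ si ≫ i' := ⟨_, rfl⟩
  have hκ'mul : ∀ {Y : Over (Spec (CommRingCat.of K))}
      (y y' : Y ⟶ Red.bc (fkK k K) (Dk k n)), (y * y') ≫ κ' = (y ≫ κ') * (y' ≫ κ') := by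
    intro Y y y'
    apply XK'.chi_ext
    intro b
    rw [hκ', XK'.chi_mul, hκ', hκ', XK.chi_mul]
  have hρ : ∀ {Y : Over (Spec (CommRingCat.of K))}
      (y y' : Y ⟶ Red.bc (fkK k K) (Dk k n)), (y * y') ≫ ρ = (y ≫ ρ) * (y' ≫ ρ) := by
    intro Y y y'
    rw [hρdef, ← Category.assoc, hκ'mul, MonObj.mul_comp, Category.assoc, Category.assoc]
  haveI := hi'
  haveI : Mono i'.left := inferInstance
  haveI : Mono i' := Over.mono_of_mono_left i'
  have hcancel : ∀ {Y : Over (Spec (CommRingCat.of K))}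
      (y y' : Y ⟶ Red.bc (fkK k K) (Dk k n)), y ≫ ρ = y' ≫ ρ → y = y' := by
    intro Y y y' h
    rw [hρdef] at h
    have h1 : (y ≫ κ' ≫ si) ≫ i' = (y' ≫ κ' ≫ si) ≫ i' := by
      simp only [Category.assoc]
      exact h
    have h2 := (cancel_mono i').mp h1
    have h3 := congrArg (· ≫ sh ≫ κ) h2
    simp only [Category.assoc] at h3
    rw [reassoc_of% hsish, hκ'κ, Category.comp_id, Category.comp_id] at h3
    exact h3
  obtain ⟨E, hEexp, hEorth, hEsum⟩ := exists_idem XK ZK ρ @hρ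
  obtain ⟨lab, hlab⟩ := exists_lab (fun a => (E a).rank) (sum_rank E hEorth hEsum)
  have hrank : ∀ a, (E a).rank = (dg K lab a).rank := fun a => by rw [dg_rank, hlab]
  obtain ⟨P, P', hPP', hP'P, hP⟩ :=
    exists_conj E (dg K lab) hEorth hEsum (dg_mul K lab) hrank
  have hgen : Subgroup.closure (Set.range lab) = ⊤ := by
    apply closure_eq_top_of_cancel XK ZK ρ @hcancel E @hEexp
    intro a ha
    by_contra hna
    apply ha
    have h0 : dg K lab a = 0 := dg_eq_zero K lab a (fun l hl => hna ⟨l, hl⟩)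
    have h1 := hP a
    rw [h0, zero_mul] at h1
    calc E a = (P' * P) * E a := by rw [hP'P, one_mul]
      _ = P' * (P * E a) := mul_assoc _ _ _
      _ = 0 := by rw [h1, mul_zero]
  haveI hmon : IsMonHom (diagHom X lab) := isMonHom_diagHom X lab
  haveI : IsAffine (Dk k n).left := isAffine_Dk k n
  have hcl : IsClosedImmersion (diagHom X lab).left := isClosedImmersion_diagHom X lab hgen
  have hk : ∀ {Y : Over (Spec (CommRingCat.of k))} (y : Y ⟶ Dk k n) (i j : Fin m),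
      (matGL (L := k) m).gm (y ≫ diagHom X lab) i j =
        ∑ a, sm Y ((dg k lab a) i j) * X.chi y a := by
    intro Y y i j
    show SpPts.gm m (y ≫ diagHom X lab) i j = _
    rw [gm_diagHom, ← ex_dg (sm Y) lab (X.chi y), ex_apply]
  have hi : i' = sh ≫ κ ≫ ρ := by
    rw [hρdef, reassoc_of% hκκ', reassoc_of% hshsi]
  have hmain : AGF.conjBy (cptK (k := k) m P P' hPP') ρ = (PB k K).map (diagHom X lab) := by
    apply conj_eq ZK ρ ((PB k K).map (diagHom X lab)) E (dg K lab) (fun {Y} y => XK.chi y)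
      (cptK (k := k) m P P' hPP') P P' hPP'
    · intro Y
      rw [hZK]
      exact gm_cptK m P P' hPP' Y
    · intro Y y
      ext i j
      exact hEexp y i j
    · intro Y y
      ext i j
      rw [hZK, hXK]
      have h1 := expand_bc (K := K) X (matGL (L := k) m) (diagHom X lab) (dg k lab) @hk y i j
      rw [h1, ex_apply]
      refine Finset.sum_congr rfl fun a _ => ?_
      rw [← dg_map k lab (algebraMap k K) a]
      rfl
    · exact hP
  refine ⟨Dk k n, inferInstance, diagHom X lab, hmon, hcl, ⟨Iso.refl _⟩,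
    cptK (k := k) m P P' hPP', ⟨sh ≫ κ, κ' ≫ si, ?_, ?_⟩, ?_⟩
  · rw [Category.assoc, reassoc_of% hκκ', hshsi]
  · rw [Category.assoc, reassoc_of% hsish, hκ'κ]
  · rw [hi, ← comp_conjBy, ← comp_conjBy, hmain, Category.assoc]

end

end Groth.Agent.Lib.Helper28.MuDescMain
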