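import Groth.Agent.Lib.Helper28.GcMod
import Mathlib.LinearAlgebra.StdBasis
import Mathlib.LinearAlgebra.Dimension.Constructions

/-!
# The nilpotent block `NF`, `NV` on `GcMod c k` and its final filtration `Nfil`
-/

set_option autoImplicit false
set_option linter.unusedSectionVars false
universe u

namespace Groth.Agent.Lib.Helper28.NFil

open W4c6eohyperellchar2 Groth.Agent.Lib.Helper28.GcMod

variable (c : ℕ) (k : Type u) [Field k] [CharP k 2] [PerfectRing k 2]

/-- coordinate description of `Nfil`. -/
def Ncoord (i : ℕ) : Submodule k (GcMod c k) where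
  carrier := {v | (∀ t : Fin c, i < t.val + 1 → v.2 t = 0) ∧
    (∀ t : Fin c, t.val + 1 ≤ 2 * c - i → v.1 t = 0)}
  add_mem' := by
    rintro v w ⟨hv1, hv2⟩ ⟨hw1, hw2⟩
    exact ⟨fun t ht => by simp [hv1 t ht, hw1 t ht], fun t ht => by simp [hv2 t ht, hw2 t ht]⟩
  zero_mem' := ⟨fun _ _ => rfl, fun _ _ => rfl⟩
  smul_mem' := by
    rintro r v ⟨hv1, hv2⟩
    exact ⟨fun t ht => by simp [hv1 t ht], fun t ht => by simp [hv2 t ht]⟩

theorem Nfil_eq (i : ℕ) : Nfil c k i = Ncoord c k i := by
  apply le_antisymm
  · unfold Nfil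
    rw [Submodule.span_le]
    rintro v (⟨n, ⟨h1, h2⟩, rfl⟩ | ⟨n, ⟨h1, h2⟩, rfl⟩)
    · refine ⟨fun t ht => ?_, fun t _ => rfl⟩
      show (if t.val + 1 = n then (1 : k) else 0) = 0
      rw [if_neg]
      have := min_le_left i c
      omega
    · refine ⟨fun t _ => rfl, fun t ht => ?_⟩
      show (if t.val + 1 = n then (1 : k) else 0) = 0
      rw [if_neg]
      omega
  · rintro v ⟨hv1, hv2⟩
    rw [eq_sum c k v]
    refine Submodule.add_mem _ (Submodule.sum_mem _ fun t _ => ?_)
      (Submodule.sum_mem _ fun t _ => ?_)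
    · by_cases h : t.val + 1 ≤ 2 * c - i
      · rw [hv2 t h, zero_smul]
        exact Submodule.zero_mem _
      · exact Submodule.smul_mem _ _ (Submodule.subset_span
          (Or.inr ⟨t.val + 1, ⟨by omega, by have := t.isLt; omega⟩, rfl⟩))
    · by_cases h : i < t.val + 1
      · rw [hv1 t h, zero_smul]
        exact Submodule.zero_mem _
      · exact Submodule.smul_mem _ _ (Submodule.subset_span
          (Or.inl ⟨t.val + 1, ⟨by omega, by have := t.isLt; rw [Nat.le_min]; omega⟩, rfl⟩))

theorem mem_Nfil (i : ℕ) (v : GcMod c k) : v ∈ Nfil c k i ↔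
    (∀ t : Fin c, i < t.val + 1 → v.2 t = 0) ∧ (∀ t : Fin c, t.val + 1 ≤ 2 * c - i → v.1 t = 0) := by
  rw [Nfil_eq]; rfl

theorem Nfil_mono {i i' : ℕ} (h : i ≤ i') : Nfil c k i ≤ Nfil c k i' := by
  intro v hv
  rw [mem_Nfil] at hv ⊢
  exact ⟨fun t ht => hv.1 t (by omega), fun t ht => hv.2 t (by omega)⟩

theorem finrank_Nfil (i : ℕ) (hi : i ≤ 2 * c) : Module.finrank k (Nfil c k i) = i := by
  classical
  let b : Fin (min i c) ⊕ Fin (i - c) → GcMod c k :=
    Sum.elim (fun s => Y c k (s.val + 1)) (fun s => X c k (2 * c - i + s.val + 1))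
  have hrange : Set.range b = (fun n => Y c k n) '' Set.Icc 1 (min i c) ∪
      (fun n => X c k n) '' Set.Ioc (2 * c - i) c := by
    rw [Set.Sum.elim_range]
    congr 1
    · ext v
      constructor
      · rintro ⟨s, rfl⟩
        exact ⟨s.val + 1, ⟨by omega, by have := s.isLt; omega⟩, rfl⟩
      · rintro ⟨n, ⟨h1, h2⟩, rfl⟩
        refine ⟨⟨n - 1, by omega⟩, ?_⟩
        simp only
        congr 1
        omega
    · ext v
      constructor
      · rintro ⟨s, rfl⟩
        exact ⟨2 * c - i + s.val + 1, ⟨by omega, by have := s.isLt; omega⟩, rfl⟩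
      · rintro ⟨n, ⟨h1, h2⟩, rfl⟩
        refine ⟨⟨n - (2 * c - i) - 1, by omega⟩, ?_⟩
        simp only
        congr 1
        omega
  have hli : LinearIndependent k b := by
    let ρ : GcMod c k →ₗ[k] (Fin (min i c) ⊕ Fin (i - c) → k) :=
      { toFun := fun v => Sum.elim (fun s => v.2 ⟨s.val, by have := s.isLt; omega⟩)
          (fun s => v.1 ⟨2 * c - i + s.val, by have := s.isLt; omega⟩)
        map_add' := fun v w => by funext x; rcases x with s | s <;> rfl
        map_smul' := fun r v => by funext x; rcases x with s | s <;> rfl }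
    refine LinearIndependent.of_comp ρ ?_
    have : ρ ∘ b = fun x => Pi.single x (1 : k) := by
      funext x y
      rcases x with s | s <;> rcases y with s' | s'
      · show (Y c k (s.val + 1)).2 ⟨s'.val, _⟩ = _
        unfold Y
        simp only
        by_cases h : s' = s
        · subst h; simp
        · rw [Pi.single_eq_of_ne (by simpa using h), if_neg]
          intro h2
          exact h (Fin.ext (by omega))
      · rw [Pi.single_eq_of_ne (by simp)]
        rfl
      · rw [Pi.single_eq_of_ne (by simp)]
        rfl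
      · show (X c k (2 * c - i + s.val + 1)).1 ⟨2 * c - i + s'.val, _⟩ = _
        unfold X
        simp only
        by_cases h : s' = s
        · subst h; simp
        · rw [Pi.single_eq_of_ne (by simpa using h), if_neg]
          intro h2
          exact h (Fin.ext (by omega))
    rw [this]
    exact Pi.linearIndependent_single_one _ k
  have h3 : Nfil c k i = Submodule.span k (Set.range b) := by rw [hrange]; rfl
  rw [h3, finrank_span_eq_card hli]
  simp only [Fintype.card_sum, Fintype.card_fin]
  omega

/-! ### `NV` -/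

theorem NV_add (a : ℕ → k) (v w : GcMod c k) :
    NV c k a (v + w) = NV c k a v + NV c k a w := by
  unfold NV
  refine Prod.ext (by simp) ?_
  funext t
  simp only [Prod.snd_add, Pi.add_apply, Prod.fst_add]
  have hY : coefY (v + w) (2 * (t.val + 1)) =
      coefY v (2 * (t.val + 1)) + coefY w (2 * (t.val + 1)) := by
    unfold coefY
    split_ifs <;> simp
  rw [hY, map_add, add_add_add_comm, ← Finset.sum_add_distrib]
  congr 1
  refine Finset.sum_congr rfl fun j _ => ?_
  split_ifs
  · rw [add_mul, map_add]
  · simp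

theorem NV_smul (a : ℕ → k) (r : k) (v : GcMod c k) :
    NV c k a (r • v) = (frobeniusEquiv k 2).symm r • NV c k a v := by
  unfold NV
  refine Prod.ext (by simp) ?_
  funext t
  simp only [Prod.smul_snd, Pi.smul_apply, Prod.smul_fst, smul_eq_mul]
  have hY : coefY (r • v) (2 * (t.val + 1)) = r * coefY v (2 * (t.val + 1)) := by
    unfold coefY
    split_ifs <;> simp
  rw [hY, map_mul, mul_add ((frobeniusEquiv k 2).symm r), Finset.mul_sum]
  congr 1
  refine Finset.sum_congr rfl fun j _ => ?_
  split_ifs
  · rw [mul_assoc, map_mul]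
  · simp

theorem NV_zero (a : ℕ → k) : NV c k a 0 = 0 := by
  have := NV_smul c k a 0 0
  simpa using this

theorem NV_mem (a : ℕ → k) (i : ℕ) (hi : i ≤ 2 * c) (v : GcMod c k) (hv : v ∈ Nfil c k i) :
    NV c k a v ∈ Nfil c k (i / 2) := by
  rw [mem_Nfil] at hv ⊢
  obtain ⟨hv1, hv2⟩ := hv
  refine ⟨fun t ht => ?_, fun t _ => rfl⟩
  show (frobeniusEquiv k 2).symm (coefY v (2 * (t.val + 1))) + Finset.univ.sum _ = 0
  have h1 : coefY v (2 * (t.val + 1)) = 0 := by
    unfold coefY
    split_ifs with h
    · exact hv1 _ (by simp only; omega)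
    · rfl
  rw [h1, map_zero, zero_add]
  refine Finset.sum_eq_zero fun j _ => ?_
  split_ifs with h
  · rw [hv2 j (by omega), zero_mul, map_zero]
  · rfl

theorem NV_surj (a : ℕ → k) (ha : a c ≠ 0) :
    ∀ i, i ≤ 2 * c → ∀ w ∈ Nfil c k (i / 2), ∃ v ∈ Nfil c k i, NV c k a v = w := by
  intro i
  induction i with
  | zero =>
    intro _ w hw
    refine ⟨0, Submodule.zero_mem _, ?_⟩
    rw [mem_Nfil] at hw
    obtain ⟨h1, h2⟩ := hw
    have : w = 0 := Prod.ext (funext fun t => h2 t (by have := t.isLt; omega))
      (funext fun t => h1 t (by omega))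
    rw [this, NV_zero]
  | succ i ih =>
    intro hi w hw
    by_cases hpar : (i + 1) % 2 = 1
    · have h2 : (i + 1) / 2 = i / 2 := by omega
      rw [h2] at hw
      obtain ⟨v, hv, rfl⟩ := ih (by omega) w hw
      exact ⟨v, Nfil_mono c k (Nat.le_succ i) hv, rfl⟩
    · obtain ⟨m, hm⟩ : ∃ m, i + 1 = 2 * m := ⟨(i + 1) / 2, by omega⟩
      have hm1 : 1 ≤ m := by omega
      have hmc : m ≤ c := by omega
      have hmlt : m - 1 < c := by omega
      have h2 : (i + 1) / 2 = m := by omega
      have h3 : i / 2 = m - 1 := by omega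
      rw [h2] at hw
      -- the new basis vector
      obtain ⟨e, he, hρ⟩ : ∃ e ∈ Nfil c k (i + 1), (NV c k a e).2 ⟨m - 1, hmlt⟩ ≠ 0 := by
        by_cases hic : i + 1 ≤ c
        · refine ⟨Y c k (i + 1), Submodule.subset_span
            (Or.inl ⟨i + 1, ⟨by omega, by rw [Nat.le_min]; omega⟩, rfl⟩), ?_⟩
          show (frobeniusEquiv k 2).symm (coefY (Y c k (i + 1)) (2 * ((m - 1) + 1))) +
            Finset.univ.sum _ ≠ 0
          rw [coefY_Y, if_pos (by omega), map_one, Finset.sum_eq_zero, add_zero]
          · exact one_ne_zero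
          · intro j _
            split_ifs
            · show (frobeniusEquiv k 2).symm ((0 : k) * _) = 0
              rw [zero_mul, map_zero]
            · rfl
        · have hlt : 2 * (c - m) < c := by omega
          refine ⟨X c k (2 * c - i), Submodule.subset_span
            (Or.inr ⟨2 * c - i, ⟨by omega, by omega⟩, rfl⟩), ?_⟩
          show (frobeniusEquiv k 2).symm (coefY (X c k (2 * c - i)) (2 * ((m - 1) + 1))) +
            Finset.univ.sum _ ≠ 0
          rw [coefY_X, map_zero, zero_add, Finset.sum_eq_single ⟨2 * (c - m), hlt⟩]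
          · rw [if_pos (by simp only; omega)]
            have h4 : (X c k (2 * c - i)).1 ⟨2 * (c - m), hlt⟩ = 1 := by
              unfold X
              simp only
              rw [if_pos (by omega)]
            rw [h4, one_mul]
            have h5 : m - 1 + 1 + 2 * (c - m) / 2 = c := by omega
            simp only
            rw [h5]
            intro h6
            exact ha (by simpa using h6)
          · intro j _ hj
            have h4 : (X c k (2 * c - i)).1 j = 0 := by
              unfold X
              simp only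
              rw [if_neg]
              intro h
              exact hj (Fin.ext (by simp only; omega))
            rw [h4, zero_mul, map_zero]
            simp
          · intro h
            exact absurd (Finset.mem_univ _) h
      have hNe : NV c k a e ∈ Nfil c k m := h2 ▸ NV_mem c k a (i + 1) hi e he
      have hw' : w - (w.2 ⟨m - 1, hmlt⟩ / (NV c k a e).2 ⟨m - 1, hmlt⟩) • NV c k a e ∈
          Nfil c k (i / 2) := by
        have h4 : w - (w.2 ⟨m - 1, hmlt⟩ / (NV c k a e).2 ⟨m - 1, hmlt⟩) • NV c k a e ∈
            Nfil c k m := Submodule.sub_mem _ hw (Submodule.smul_mem _ _ hNe)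
        rw [mem_Nfil] at h4 ⊢
        refine ⟨fun t ht => ?_, fun t ht => h4.2 t (by omega)⟩
        by_cases htm : t.val + 1 = m
        · have h5 : t = ⟨m - 1, hmlt⟩ := Fin.ext (by simp only; omega)
          rw [h5]
          show w.2 _ - _ * (NV c k a e).2 ⟨m - 1, hmlt⟩ = 0
          rw [div_mul_cancel₀ _ hρ, sub_self]
        · exact h4.1 t (by omega)
      obtain ⟨v', hv', hNV⟩ := ih (by omega) _ hw'
      refine ⟨v' + ((w.2 ⟨m - 1, hmlt⟩ / (NV c k a e).2 ⟨m - 1, hmlt⟩) ^ 2) • e,
        Submodule.add_mem _ (Nfil_mono c k (Nat.le_succ i) hv') (Submodule.smul_mem _ _ he), ?_⟩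
      rw [NV_add, NV_smul, hNV, frobeniusEquiv_symm_pow, sub_add_cancel]

/-! ### `NF` -/

theorem NF_mem_iff (a : ℕ → k) (ha : a c ≠ 0) (i : ℕ) (hi : i ≤ 2 * c) (v : GcMod c k) :
    NF c k a v ∈ Nfil c k i ↔ v ∈ Nfil c k (c + (i + 1) / 2) := by
  rw [mem_Nfil, mem_Nfil]
  constructor
  · rintro ⟨h1, h2⟩
    refine ⟨fun t ht => by have := t.isLt; omega, ?_⟩
    have key : ∀ n (hn : n < c), n + 1 ≤ 2 * c - (c + (i + 1) / 2) → v.1 ⟨n, hn⟩ = 0 := by
      intro n
      induction n using Nat.strong_induction_on with
      | _ n ih =>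
        intro hn hle
        by_cases hc : 2 * (n + 1) ≤ c
        · have hlt : 2 * n + 1 < c := by omega
          have h4 := h2 ⟨2 * n + 1, hlt⟩ (by simp only; omega)
          have h5 : (NF c k a v).1 ⟨2 * n + 1, hlt⟩ = (v.1 ⟨n, hn⟩) ^ 2 := by
            unfold NF
            simp only
            rw [if_pos (by omega)]
            unfold coefX
            rw [dif_pos (by omega)]
            have h8 : ∀ (x y : Fin c), x = y → v.1 x ^ 2 = v.1 y ^ 2 := fun x y h => by rw [h]
            exact h8 _ _ (Fin.ext (by simp only; omega))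
          rw [h5] at h4
          exact (pow_eq_zero_iff two_ne_zero).mp h4
        · have hlt : 2 * (c - (n + 1)) < c := by omega
          have h4 := h1 ⟨2 * (c - (n + 1)), hlt⟩ (by simp only; omega)
          have h5 : (NF c k a v).2 ⟨2 * (c - (n + 1)), hlt⟩ = v.1 ⟨n, hn⟩ ^ 2 * a c := by
            unfold NF
            simp only
            rw [if_pos (by omega), Finset.sum_eq_single ⟨n, hn⟩]
            · rw [if_pos (by simp only; omega)]
              congr 2
              simp only
              omega
            · intro j _ hj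
              split_ifs with h6
              · have hjn : j.val < n := by
                  have : j.val ≠ n := fun h => hj (Fin.ext h)
                  omega
                have h7 := ih j.val hjn j.isLt (by omega)
                rw [show v.1 j = v.1 ⟨j.val, j.isLt⟩ from rfl, h7]
                simp
              · rfl
            · intro h
              exact absurd (Finset.mem_univ _) h
          rw [h5] at h4
          rcases mul_eq_zero.mp h4 with h | h
          · exact (pow_eq_zero_iff two_ne_zero).mp h
          · exact absurd h ha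
    exact fun t ht => key t.val t.isLt ht
  · rintro ⟨-, h2⟩
    refine ⟨fun t ht => ?_, fun t ht => ?_⟩
    · show (if (t.val + 1) % 2 = 1 then Finset.univ.sum _ else 0) = 0
      split_ifs with hpar
      · refine Finset.sum_eq_zero fun j _ => ?_
        split_ifs with h6
        · rw [h2 j (by omega)]
          simp
        · rfl
      · rfl
    · show (if (t.val + 1) % 2 = 0 then coefX v ((t.val + 1) / 2) ^ 2 else 0) = 0
      split_ifs with hpar
      · unfold coefX
        split_ifs with h7
        · rw [h2 _ (by simp only; omega)]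
          simp
        · simp
      · rfl

end Groth.Agent.Lib.Helper28.NFil
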