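import Mathlib

/-!
# The largest submodule with nowhere dense support (helper28)

For a finite module `M` over a Noetherian ring, `K M` is the submodule of elements vanishing at
all minimal primes of the support.
-/

set_option autoImplicit false
universe u

namespace Groth.Agent.Lib.Helper28.NoEmbedded

variable {R : Type u} [CommRing R] (M : Type u) [AddCommGroup M] [Module R M]

/-- the submodule of elements vanishing at all minimal primes of the support -/
def K : Submodule R M where
  carrier := {m | ∀ p ∈ (Module.annihilator R M).minimalPrimes, ∃ r ∉ p, r • m = 0}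
  add_mem' := by
    intro a b ha hb p hp
    obtain ⟨r, hr, hra⟩ := ha p hp
    obtain ⟨s, hs, hsb⟩ := hb p hp
    have hprime : p.IsPrime := hp.1.1
    refine ⟨r * s, fun h => (hprime.mem_or_mem h).elim hr hs, ?_⟩
    rw [smul_add, mul_smul r s b, hsb, smul_zero, mul_comm, mul_smul, hra, smul_zero, add_zero]
  zero_mem' := fun p hp => ⟨1, (Ideal.ne_top_iff_one _).1 hp.1.1.ne_top, smul_zero _⟩
  smul_mem' := by
    intro c a ha p hp
    obtain ⟨r, hr, hra⟩ := ha p hp
    exact ⟨r, hr, by rw [smul_comm, hra, smul_zero]⟩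

variable {M}

lemma mem_K (m : M) : m ∈ K (R := R) M ↔
    ∀ p ∈ (Module.annihilator R M).minimalPrimes, ∃ r ∉ p, r • m = 0 := Iff.rfl

/-- the point of the spectrum given by a minimal prime -/
def pt {p : Ideal R} (hp : p ∈ (Module.annihilator R M).minimalPrimes) : PrimeSpectrum R :=
  ⟨p, hp.1.1⟩

lemma le_K_iff (K' : Submodule R M) : K' ≤ K (R := R) M ↔
    ∀ (p : Ideal R) (hp : p ∈ (Module.annihilator R M).minimalPrimes),
      pt hp ∉ Module.support R K' := by
  constructor
  · intro h p hp
    rw [Module.notMem_support_iff']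
    intro m
    obtain ⟨r, hr, hrm⟩ := h m.2 p hp
    exact ⟨r, hr, Subtype.ext hrm⟩
  · intro h m hm p hp
    have := h p hp
    rw [Module.notMem_support_iff'] at this
    obtain ⟨r, hr, hrm⟩ := this ⟨m, hm⟩
    exact ⟨r, hr, congrArg Subtype.val hrm⟩

lemma pt_mem_support [Module.Finite R M] {p : Ideal R}
    (hp : p ∈ (Module.annihilator R M).minimalPrimes) : pt hp ∈ Module.support R M := by
  rw [Module.support_eq_zeroLocus, PrimeSpectrum.mem_zeroLocus]
  exact hp.1.2

lemma exists_pt_le [Module.Finite R M] {x : PrimeSpectrum R} (hx : x ∈ Module.support R M) :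
    ∃ (p : Ideal R) (hp : p ∈ (Module.annihilator R M).minimalPrimes), pt hp ≤ x := by
  obtain ⟨p, hp, hpx⟩ := Ideal.exists_minimalPrimes_le (Module.annihilator_le_of_mem_support hx)
  exact ⟨p, hp, hpx⟩

lemma eq_of_le_of_mem_minimalPrimes {I p q : Ideal R} (hp : p ∈ I.minimalPrimes)
    (hq : q.IsPrime) (hIq : I ≤ q) (hqp : q ≤ p) : q = p :=
  le_antisymm hqp (hp.2 ⟨hq, hIq⟩ hqp)

variable [IsNoetherianRing R] [Module.Finite R M]

/-- the topological characterisation of submodules with nowhere dense support -/
lemma nowhereDense_iff (K' : Submodule R M) :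
    (∀ U : Set (PrimeSpectrum R), IsOpen U →
      U ∩ Module.support R M ⊆ closure (Module.support R ↥K') → U ∩ Module.support R M = ∅) ↔
    K' ≤ K (R := R) M := by
  rw [le_K_iff]
  have hclosed : IsClosed (Module.support R ↥K') := by
    rw [Module.support_eq_zeroLocus]
    exact PrimeSpectrum.isClosed_zeroLocus _
  constructor
  · intro h p hp hpK
    have hfin : (Module.annihilator R M).minimalPrimes.Finite :=
      Ideal.finite_minimalPrimes_of_isNoetherianRing R _
    set Z : Set (PrimeSpectrum R) :=
      ⋃ q ∈ ((Module.annihilator R M).minimalPrimes \ {p}), PrimeSpectrum.zeroLocus (q : Set R)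
      with hZ
    have hZc : IsClosed Z :=
      (hfin.subset Set.sdiff_subset).isClosed_biUnion
        (fun q _ => PrimeSpectrum.isClosed_zeroLocus _)
    have hU := h Zᶜ hZc.isOpen_compl ?_
    · have hpU : pt hp ∈ Zᶜ ∩ Module.support R M := by
        refine ⟨?_, pt_mem_support hp⟩
        intro hpZ
        rw [hZ, Set.mem_iUnion₂] at hpZ
        obtain ⟨q, hq, hqp⟩ := hpZ
        rw [PrimeSpectrum.mem_zeroLocus] at hqp
        have hqp' : q ≤ p := hqp
        exact hq.2 (eq_of_le_of_mem_minimalPrimes hp hq.1.1.1 hq.1.1.2 hqp')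
      rw [hU] at hpU
      exact hpU
    · rintro x ⟨hxZ, hxS⟩
      apply subset_closure
      obtain ⟨q, hq, hqx⟩ := exists_pt_le hxS
      by_cases hqp : q = p
      · subst hqp
        exact Module.mem_support_mono hqx hpK
      · exfalso
        apply hxZ
        rw [hZ, Set.mem_iUnion₂]
        exact ⟨q, ⟨hq, hqp⟩, hqx⟩
  · intro h U hU hsub
    rw [hclosed.closure_eq] at hsub
    by_contra hne
    obtain ⟨x, hxU, hxS⟩ := Set.nonempty_iff_ne_empty.2 hne
    obtain ⟨p, hp, hpx⟩ := exists_pt_le hxS
    have hpU : pt hp ∈ U :=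
      ((PrimeSpectrum.le_iff_specializes _ _).1 hpx).mem_open hU hxU
    exact h p hp (hsub ⟨hpU, pt_mem_support hp⟩)

lemma pt_notMem_support_K {p : Ideal R} (hp : p ∈ (Module.annihilator R M).minimalPrimes) :
    pt hp ∉ Module.support R (K (R := R) M) := (le_K_iff _).1 le_rfl p hp

lemma support_quotient_K : Module.support R (M ⧸ K (R := R) M) = Module.support R M := by
  have hex := Module.support_of_exact (R := R)
    (LinearMap.exact_subtype_mkQ (K (R := R) M)) (Submodule.subtype_injective _)
    (Submodule.mkQ_surjective _)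
  apply le_antisymm
  · rw [hex]
    exact Set.subset_union_right
  · intro x hx
    obtain ⟨p, hp, hpx⟩ := exists_pt_le hx
    have h1 := pt_mem_support hp
    rw [hex] at h1
    rcases h1 with h1 | h1
    · exact absurd h1 (pt_notMem_support_K hp)
    · exact Module.mem_support_mono hpx h1

lemma assoc_quotient_mem_minimalPrimes {q : Ideal R}
    (hq : q ∈ associatedPrimes R (M ⧸ K (R := R) M)) :
    q ∈ (Module.annihilator R M).minimalPrimes := by
  obtain ⟨hqp, y, hy⟩ := (isAssociatedPrime_iff).1 hq
  obtain ⟨m, rfl⟩ := Submodule.mkQ_surjective _ y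
  have hmem : ∀ r : R, r ∈ q ↔ r • m ∈ K (R := R) M := by
    intro r
    rw [hy, Submodule.mem_colon_singleton, Submodule.mem_bot, ← map_smul,
      Submodule.mkQ_apply, Submodule.Quotient.mk_eq_zero]
  have hmK : m ∉ K (R := R) M := by
    intro hm
    apply hqp.ne_top
    rw [Ideal.eq_top_iff_one, hmem, one_smul]
    exact hm
  rw [mem_K] at hmK
  push Not at hmK
  obtain ⟨p, hp, hpm⟩ := hmK
  have hprime : p.IsPrime := hp.1.1
  have hqp' : q ≤ p := by
    intro r hr
    rw [hmem, mem_K] at hr
    obtain ⟨s, hs, hsr⟩ := hr p hp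
    by_contra hrp
    apply hpm (s * r) (fun h => (hprime.mem_or_mem h).elim hs hrp)
    rw [mul_smul, hsr]
  have hann : Module.annihilator R M ≤ q := by
    intro r hr
    rw [hmem, Module.mem_annihilator.1 hr m]
    exact zero_mem _
  rw [eq_of_le_of_mem_minimalPrimes hp hqp hann hqp']
  exact hp

lemma assoc_quotient_incomparable {p q : Ideal R}
    (hp : p ∈ associatedPrimes R (M ⧸ K (R := R) M))
    (hq : q ∈ associatedPrimes R (M ⧸ K (R := R) M)) (hpq : p ≤ q) : p = q := by
  have hp' := assoc_quotient_mem_minimalPrimes hp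
  have hq' := assoc_quotient_mem_minimalPrimes hq
  exact eq_of_le_of_mem_minimalPrimes hq' hp'.1.1 hp'.1.2 hpq

/-- a minimal associated prime is a minimal prime of the support -/
lemma mem_minimalPrimes_of_minimal_assoc {q : Ideal R}
    (hq : Minimal (fun x => x ∈ associatedPrimes R M) q) :
    q ∈ (Module.annihilator R M).minimalPrimes := by
  have hq1 : q ∈ associatedPrimes R M := hq.1
  have hqprime : q.IsPrime := IsAssociatedPrime.isPrime hq1
  have hann : Module.annihilator R M ≤ q := by
    have := IsAssociatedPrime.annihilator_le hq1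
    rwa [Submodule.annihilator_top] at this
  obtain ⟨p, hp, hpq⟩ := Ideal.exists_minimalPrimes_le hann
  have hpass : p ∈ associatedPrimes R M :=
    Module.associatedPrimes.minimalPrimes_annihilator_subset_associatedPrimes R M hp
  have : q ≤ p := hq.2 hpass hpq
  rw [le_antisymm this hpq]
  exact hp

lemma exists_pow_smul_eq_zero (f : R)
    (hf : ∀ p ∈ associatedPrimes R M, ¬ Minimal (fun x => x ∈ associatedPrimes R M) p → f ∈ p)
    (m : M) (hm : m ∈ K (R := R) M) : ∃ n : ℕ, f ^ n • m = 0 := by
  have hrad : f ∈ (Module.annihilator R (Submodule.span R {m})).radical := by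
    rw [← Ideal.sInf_minimalPrimes, Ideal.mem_sInf]
    intro q hq
    have hq1 : q ∈ associatedPrimes R (Submodule.span R {m}) :=
      Module.associatedPrimes.minimalPrimes_annihilator_subset_associatedPrimes R _ hq
    have hq2 : q ∈ associatedPrimes R M :=
      associatedPrimes.subset_of_injective (Submodule.subtype_injective _) hq1
    apply hf q hq2
    intro hmin
    have hqmin := mem_minimalPrimes_of_minimal_assoc hmin
    obtain ⟨s, hs, hsm⟩ := hm q hqmin
    apply hs
    apply hq.1.2
    rw [Module.mem_annihilator]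
    rintro ⟨x, hx⟩
    obtain ⟨c, rfl⟩ := Submodule.mem_span_singleton.1 hx
    apply Subtype.ext
    show s • c • m = 0
    rw [smul_comm, hsm, smul_zero]
  obtain ⟨n, hn⟩ := hrad
  refine ⟨n, ?_⟩
  have := Module.mem_annihilator.1 hn ⟨m, Submodule.mem_span_singleton_self m⟩
  exact congrArg Subtype.val this

lemma localized_bijective (f : R)
    (hf : ∀ p ∈ associatedPrimes R M, ¬ Minimal (fun x => x ∈ associatedPrimes R M) p → f ∈ p) :
    Function.Bijective (LocalizedModule.map (Submonoid.powers f) (K (R := R) M).mkQ) := by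
  refine ⟨?_, LocalizedModule.map_surjective _ _ (Submodule.mkQ_surjective _)⟩
  rw [injective_iff_map_eq_zero]
  intro x hx
  induction x using LocalizedModule.induction_on with
  | h m s =>
    rw [LocalizedModule.map_mk, ← LocalizedModule.zero_mk 1, LocalizedModule.mk_eq] at hx
    obtain ⟨u, hu⟩ := hx
    rw [smul_zero, smul_zero, one_smul] at hu
    obtain ⟨a, ha⟩ := u.2
    have hu' : f ^ a • m ∈ K (R := R) M := by
      rw [← Submodule.Quotient.mk_eq_zero, Submodule.Quotient.mk_smul]
      have : u • (K (R := R) M).mkQ m = (u : R) • (K (R := R) M).mkQ m := rfl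
      rw [this, ← ha] at hu
      exact hu
    obtain ⟨n, hn⟩ := exists_pow_smul_eq_zero f hf _ hu'
    rw [← LocalizedModule.zero_mk 1, LocalizedModule.mk_eq]
    refine ⟨⟨f ^ (n + a), n + a, rfl⟩, ?_⟩
    rw [smul_zero, smul_zero, one_smul]
    show f ^ (n + a) • m = 0
    rw [pow_add, mul_smul, hn]

theorem main :
    ∃ K : Submodule R M,
      IsGreatest {K' : Submodule R M | ∀ U : Set (PrimeSpectrum R), IsOpen U →
        U ∩ Module.support R M ⊆ closure (Module.support R ↥K') →
          U ∩ Module.support R M = ∅} K ∧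
      Module.support R (M ⧸ K) = Module.support R M ∧
      (∀ p ∈ associatedPrimes R (M ⧸ K), ∀ q ∈ associatedPrimes R (M ⧸ K), p ≤ q → p = q) ∧
      ∀ f : R, (∀ p ∈ associatedPrimes R M,
        ¬ Minimal (fun x => x ∈ associatedPrimes R M) p → f ∈ p) →
        Function.Bijective (LocalizedModule.map (Submonoid.powers f) K.mkQ) := by
  refine ⟨K (R := R) M, ⟨?_, ?_⟩, support_quotient_K, ?_, ?_⟩
  · exact (nowhereDense_iff _).2 le_rfl
  · intro K' hK'
    exact (nowhereDense_iff K').1 hK'
  · intro p hp q hq hpq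
    exact assoc_quotient_incomparable hp hq hpq
  · intro f hf
    exact localized_bijective f hf

end Groth.Agent.Lib.Helper28.NoEmbedded
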