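import Groth.Agent.Lib.Helper28.HilbertFin
import Groth.Agent.Lib.Helper28.OrbitPts

/-!
# Nullforms and the orbit closure of a vector (helper28)

For a linear coaction of a Hopf algebra with an integral on a polynomial ring over a field:
* `eval_eq_of_isNullform`: invariants take the same value at a nullform and at the origin.
* `isNullform_iff_inOrbitClosure` (k algebraically closed, `H` of finite type with a total integral): `v` is a nullform iff
  the origin lies in the orbit closure of `v`.
-/

set_option autoImplicit false
set_option linter.unusedSectionVars false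
universe u v w

open TensorProduct MvPolynomial
open Groth.Agent.Lib.Helper28.HopfIntegral
open Groth.Agent.Lib.Helper28.TameAct

namespace Groth.Agent.Lib.Helper28.Nullform

section

variable {k : Type u} [Field k] {H : Type v} [CommRing H] [HopfAlgebra k H]
variable {ι : Type w} [Fintype ι]
variable [HopfRep.Comod k H (MvPolynomial ι k)] [GLin.IsCoactAlg k H (MvPolynomial ι k)]

lemma hC (a : k) : HopfRep.Comod.coact (k := k) (A := H) (C a : MvPolynomial ι k) ∈
    PolyGraded.T k H k ι 0 := by
  have h1 : (C a : MvPolynomial ι k) = a • 1 := by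
    rw [MvPolynomial.smul_eq_C_mul, mul_one]
  rw [h1, map_smul, GLin.IsCoactAlg.coact_one (k := k)]
  exact Submodule.smul_mem _ _ PolyGraded.one_mem_T

lemma hX (hlin : GLin.IsLinear k H ι) (i : ι) :
    HopfRep.Comod.coact (k := k) (A := H) (X i : MvPolynomial ι k) ∈ PolyGraded.T k H k ι 1 := by
  obtain ⟨m, hm⟩ := hlin i
  rw [hm]
  exact Submodule.sum_mem _ (fun l _ => PolyGraded.tmul_mem_T (isHomogeneous_X k l) _)

lemma eval_zero_of_isHomogeneous {d : ℕ} (hd : 0 < d) {F : MvPolynomial ι k} (hF : F.IsHomogeneous d) :
    MvPolynomial.eval (fun _ => (0 : k)) F = 0 := by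
  have h0 : MvPolynomial.eval (fun _ => (0 : k)) F = constantCoeff F := by
    have := MvPolynomial.eval_zero' (R := k) (σ := ι)
    exact RingHom.congr_fun this F
  rw [h0, constantCoeff_eq]
  apply hF.coeff_eq_zero
  simp only [map_zero]
  omega

/-- invariants take the same value at a nullform and at the origin -/
theorem eval_eq_of_isNullform (hlin : GLin.IsLinear k H ι) (I : H →ₗ[k] k) (hI : IsIntegral I)
    (v : ι → k) (hv : GLin.IsNullform k H v) (f : MvPolynomial ι k)
    (hf : f ∈ GLin.invariants k H (MvPolynomial ι k)) :
    MvPolynomial.eval v f = MvPolynomial.eval (fun _ => (0 : k)) f := by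
  have h1 : f = ∑ d ∈ Finset.range (f.totalDegree + 1), reyV I (homogeneousComponent d f) := by
    rw [← map_sum, sum_homogeneousComponent, reyV_of_mem I hI f hf]
  rw [h1, map_sum, map_sum]
  refine Finset.sum_congr rfl (fun d _ => ?_)
  have hhom : (reyV I (homogeneousComponent d f)).IsHomogeneous d :=
    PolyGraded.reyV_isHomogeneous (fun a => hC a) (fun i => hX hlin i) I
      (homogeneousComponent_isHomogeneous d f)
  have hinv : reyV I (homogeneousComponent d f) ∈ GLin.invariants k H (MvPolynomial ι k) :=
    reyV_mem I hI _
  rcases Nat.eq_zero_or_pos d with h0 | hpos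
  · subst h0
    have hc : reyV I (homogeneousComponent 0 f) = C (coeff 0 (reyV I (homogeneousComponent 0 f))) :=
      (totalDegree_eq_zero_iff_eq_C).mp ((totalDegree_zero_iff_isHomogeneous ι).mpr hhom)
    rw [hc, eval_C, eval_C]
  · rw [hv _ hinv d hpos hhom, eval_zero_of_isHomogeneous hpos hhom]

end

end Groth.Agent.Lib.Helper28.Nullform
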