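import Groth.Agent.Lib.Helper28.TameAct
import Groth.Agent.Lib.Helper28.ComodIntegral
import Mathlib.RingTheory.Jacobson.Ring
import Mathlib.FieldTheory.IsAlgClosed.Basic

/-!
# Linearly reductive groups act tamely (helper28)

* `isComodHom_of_isIntegral`: an integral `∫ : A → k` gives a total integral `a ↦ ∫ a • 1` into any
  comodule algebra `B`.
* `exists_totalIntegral_of_isLinearlyReductive`.
* `isNoetherianRing_invariants`, `exists_finset_span_fixedPts`.
* `isHopfMod_trivial`: every comodule is a Hopf module over the trivial comodule algebra `k`.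
-/

set_option autoImplicit false
set_option linter.unusedSectionVars false
universe u v w w'

open TensorProduct
open Groth.Agent.Lib.Helper28.HopfIntegral
open Groth.Agent.Lib.Helper28.ComodIntegral

namespace Groth.Agent.Lib.Helper28.TameAct

section integral

variable {k : Type u} [CommRing k] {A : Type v} [CommRing A] [HopfAlgebra k A]
variable {B : Type w} [CommRing B] [Algebra k B] [HopfRep.Comod k A B] [GLin.IsCoactAlg k A B]

lemma rTensor_comul_of_isIntegral (I : A →ₗ[k] k) (hI : IsIntegral I) (a : A) :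
    I.rTensor A (Coalgebra.comul (R := k) a) = (1 : k) ⊗ₜ[k] (I a • (1 : A)) := by
  rw [← hI.2 a, ← TensorProduct.lid_symm_apply, LinearEquiv.symm_apply_apply]

/-- an integral gives a total integral into any comodule algebra -/
theorem isComodHom_of_isIntegral (I : A →ₗ[k] k) (hI : IsIntegral I) :
    Hoch.IsComodHom A (Algebra.linearMap k B ∘ₗ I) := by
  apply LinearMap.ext
  intro a
  simp only [LinearMap.comp_apply, Algebra.linearMap_apply]
  rw [LinearMap.rTensor_comp, LinearMap.comp_apply]
  have h : HopfRep.Comod.coact (k := k) (A := A) (V := A) a = Coalgebra.comul (R := k) a := rfl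
  rw [h, rTensor_comul_of_isIntegral I hI, LinearMap.rTensor_tmul, Algebra.linearMap_apply, map_one,
    Algebra.algebraMap_eq_smul_one, map_smul, GLin.IsCoactAlg.coact_one (k := k) (A := A) (R := B),
    Algebra.TensorProduct.one_def, TensorProduct.tmul_smul]

theorem exists_totalIntegral_of_isIntegral (I : A →ₗ[k] k) (hI : IsIntegral I) :
    ∃ α : A →ₗ[k] B, Hoch.IsComodHom A α ∧ α 1 = 1 :=
  ⟨Algebra.linearMap k B ∘ₗ I, isComodHom_of_isIntegral I hI, by
    rw [LinearMap.comp_apply, hI.1, Algebra.linearMap_apply, map_one]⟩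

end integral

section field

variable {k : Type u} [Field k] {A : Type v} [CommRing A] [HopfAlgebra k A]
variable {B : Type w} [CommRing B] [Algebra k B] [HopfRep.Comod k A B] [GLin.IsCoactAlg k A B]

theorem exists_totalIntegral_of_isLinearlyReductive (hG : HopfRep.IsLinearlyReductive k A) :
    ∃ α : A →ₗ[k] B, Hoch.IsComodHom A α ∧ α 1 = 1 := by
  obtain ⟨I, hI⟩ := exists_isIntegral_of_isLinearlyReductive hG
  exact exists_totalIntegral_of_isIntegral I hI

end field

section noetherian

variable {k : Type u} [CommRing k] {A : Type v} [CommRing A] [HopfAlgebra k A]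
variable {B : Type w} [CommRing B] [Algebra k B] [HopfRep.Comod k A B] [GLin.IsCoactAlg k A B]

theorem isNoetherianRing_invariants (htame : ∃ α : A →ₗ[k] B, Hoch.IsComodHom A α ∧ α 1 = 1)
    [IsNoetherianRing B] : IsNoetherianRing ↥(GLin.invariants k A B) := by
  obtain ⟨α, hα, hα1⟩ := htame
  rw [isNoetherianRing_iff, isNoetherian_iff']
  let e : Ideal ↥(GLin.invariants k A B) ↪o Ideal B :=
    OrderEmbedding.ofMapLEIff (fun c => c.map (algebraMap ↥(GLin.invariants k A B) B))
      (fun c c' => ⟨fun h => by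
        rw [← comap_map_eq α hα hα1 c, ← comap_map_eq α hα hα1 c']
        exact Ideal.comap_mono h, fun h => Ideal.map_mono h⟩)
  exact e.wellFoundedGT

variable {M : Type w'} [AddCommGroup M] [Module k M] [Module B M] [IsScalarTower k B M]
  [HopfRep.Comod k A M] [TameAct.IsHopfMod k A B M]

lemma isComodHom_toSpanSingleton (m : M) (hm : m ∈ HopfRep.fixedPts k A M) :
    Hoch.IsComodHom A ((LinearMap.toSpanSingleton B M m).restrictScalars k) := by
  have hm' : HopfRep.Comod.coact (k := k) (A := A) m = m ⊗ₜ[k] (1 : A) := hm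
  apply LinearMap.ext
  intro b
  simp only [LinearMap.comp_apply, LinearMap.coe_restrictScalars,
    LinearMap.toSpanSingleton_apply]
  rw [TameAct.IsHopfMod.coact_smul (k := k) (A := A), hm', hmSMul_tmul_one]

lemma reynolds_smul_of_mem_fixedPts (α : A →ₗ[k] B) (m : M) (hm : m ∈ HopfRep.fixedPts k A M)
    (b : B) : TameAct.reynolds k A B M α (b • m) = rey α b • m :=
  (reynolds_map α (LinearMap.toSpanSingleton B M m) (isComodHom_toSpanSingleton m hm) b).symm

theorem exists_finset_span_fixedPts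
    (htame : ∃ α : A →ₗ[k] B, Hoch.IsComodHom A α ∧ α 1 = 1) [IsNoetherian B M] :
    ∃ s : Finset M, (↑s : Set M) ⊆ ↑(HopfRep.fixedPts k A M) ∧
      (↑(HopfRep.fixedPts k A M) : Set M) ⊆
        ↑(Submodule.span ↥(GLin.invariants k A B) (↑s : Set M)) := by
  obtain ⟨α, hα, hα1⟩ := htame
  have hfg : (Submodule.span B (↑(HopfRep.fixedPts k A M) : Set M)).FG :=
    IsNoetherian.noetherian _
  obtain ⟨s, hs, hspan⟩ := (Submodule.fg_span_iff_fg_span_finset_subset _).mp hfg
  refine ⟨s, hs, ?_⟩
  have key : ∀ y ∈ Submodule.span B (↑s : Set M), ∀ b : B,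
      TameAct.reynolds k A B M α (b • y) ∈
        Submodule.span ↥(GLin.invariants k A B) (↑s : Set M) := by
    intro y hy
    induction hy using Submodule.span_induction with
    | mem y hy =>
      intro b
      rw [reynolds_smul_of_mem_fixedPts α y (hs hy) b]
      exact Submodule.smul_mem _ (⟨rey α b, rey_mem α hα b⟩ : ↥(GLin.invariants k A B))
        (Submodule.subset_span hy)
    | zero =>
      intro b
      rw [smul_zero, map_zero]
      exact Submodule.zero_mem _
    | add y₁ y₂ _ _ h₁ h₂ =>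
      intro b
      rw [smul_add, map_add]
      exact Submodule.add_mem _ (h₁ b) (h₂ b)
    | smul b' y _ h =>
      intro b
      rw [smul_smul]
      exact h (b * b')
  intro x hx
  have hx' : x ∈ Submodule.span B (↑s : Set M) := by
    rw [← hspan]
    exact Submodule.subset_span hx
  have := key x hx' 1
  rwa [one_smul, reynolds_of_mem_fixedPts α hα1 x hx] at this

end noetherian

section trivialBase

variable {k : Type u} [CommRing k] {A : Type v} [CommRing A] [HopfAlgebra k A]
variable {V : Type w} [AddCommGroup V] [Module k V] [HopfRep.Comod k A V]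
variable {W : Type w'} [AddCommGroup W] [Module k W] [HopfRep.Comod k A W]

/-- the trivial comodule structure on the base ring, as a local instance -/
noncomputable local instance trivComod : HopfRep.Comod k A k := HopfRep.Comod.trivial k A k

lemma coact_trivial (c : k) :
    HopfRep.Comod.coact (k := k) (A := A) (V := k) c = c ⊗ₜ[k] (1 : A) := rfl

theorem isCoactAlg_trivial : GLin.IsCoactAlg k A k where
  coact_one := by rw [coact_trivial, Algebra.TensorProduct.one_def]
  coact_mul := fun f g => by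
    rw [coact_trivial, coact_trivial, coact_trivial, Algebra.TensorProduct.tmul_mul_tmul, one_mul]

lemma hmSMul_trivial (c : k) (t : V ⊗[k] A) :
    TameAct.hmSMul k A k V (c ⊗ₜ[k] (1 : A)) t = c • t := by
  induction t using TensorProduct.induction_on with
  | zero => simp
  | tmul x a => simp [TensorProduct.smul_tmul']
  | add t₁ t₂ h₁ h₂ => simp only [map_add, smul_add, h₁, h₂]

attribute [local instance] isCoactAlg_trivial

theorem isHopfMod_trivial : TameAct.IsHopfMod k A k V where
  coact_smul := fun c v => by rw [coact_trivial, hmSMul_trivial, map_smul]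

attribute [local instance] isHopfMod_trivial

lemma isComodHom_integral (I : A →ₗ[k] k) (hI : IsIntegral I) : Hoch.IsComodHom A I := by
  have h := isComodHom_of_isIntegral (B := k) I hI
  have h2 : Algebra.linearMap k k ∘ₗ I = I := by
    ext a
    simp
  rwa [h2] at h

/-- the canonical Reynolds operator of a comodule over a Hopf algebra with an integral -/
noncomputable abbrev reyV (I : A →ₗ[k] k) : V →ₗ[k] V := TameAct.reynolds k A k V I

lemma reyV_mem (I : A →ₗ[k] k) (hI : IsIntegral I) (x : V) :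
    reyV I x ∈ HopfRep.fixedPts k A V :=
  reynolds_mem_fixedPts I (isComodHom_integral I hI) x

lemma reyV_of_mem (I : A →ₗ[k] k) (hI : IsIntegral I) (x : V) (hx : x ∈ HopfRep.fixedPts k A V) :
    reyV I x = x :=
  reynolds_of_mem_fixedPts I hI.1 x hx

lemma reyV_map (I : A →ₗ[k] k) (u : V →ₗ[k] W) (hu : Hoch.IsComodHom A u) (x : V) :
    u (reyV I x) = reyV I (u x) :=
  reynolds_map I u hu x

/-- uniqueness of the Reynolds operator -/
theorem eq_reyV (I : A →ₗ[k] k) (hI : IsIntegral I) (E : V →ₗ[k] V) (hE₁ : Hoch.IsComodHom A E)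
    (hE₂ : E ∘ₗ E = E) (hE₃ : ∀ x : V, E x = x ↔ x ∈ HopfRep.fixedPts k A V) :
    E = reyV I := by
  apply LinearMap.ext
  intro x
  have h1 : E x ∈ HopfRep.fixedPts k A V := (hE₃ (E x)).mp (LinearMap.congr_fun hE₂ x)
  rw [← reyV_of_mem I hI (E x) h1, ← reyV_map I E hE₁ x]
  exact (hE₃ _).mpr (reyV_mem I hI x)

theorem reynolds_commute (I : A →ₗ[k] k) (hI : IsIntegral I)
    (E : V →ₗ[k] V) (hE₁ : Hoch.IsComodHom A E) (hE₂ : E ∘ₗ E = E)
    (hE₃ : ∀ x : V, E x = x ↔ x ∈ HopfRep.fixedPts k A V)
    (E' : W →ₗ[k] W) (hE'₁ : Hoch.IsComodHom A E') (hE'₂ : E' ∘ₗ E' = E')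
    (hE'₃ : ∀ y : W, E' y = y ↔ y ∈ HopfRep.fixedPts k A W)
    (u : V →ₗ[k] W) (hu : Hoch.IsComodHom A u) :
    E' ∘ₗ u = u ∘ₗ E := by
  rw [eq_reyV I hI E hE₁ hE₂ hE₃, eq_reyV I hI E' hE'₁ hE'₂ hE'₃]
  apply LinearMap.ext
  intro x
  exact (reyV_map I u hu x).symm

end trivialBase

section colon

variable {k : Type u} [CommRing k] {A : Type v} [CommRing A] [HopfAlgebra k A]
variable {B : Type w} [CommRing B] [Algebra k B] [HopfRep.Comod k A B] [GLin.IsCoactAlg k A B]

/-- `z ⊗ a ↦ z * (1 ⊗ S a)` -/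
noncomputable def Qmul : (B ⊗[k] A) ⊗[k] A →ₗ[k] B ⊗[k] A :=
  LinearMap.mul' k (B ⊗[k] A) ∘ₗ
    (((Algebra.TensorProduct.includeRight : A →ₐ[k] B ⊗[k] A).toLinearMap ∘ₗ
      HopfAlgebra.antipode k (A := A)).lTensor (B ⊗[k] A))

@[simp] lemma Qmul_tmul (z : B ⊗[k] A) (a : A) :
    Qmul (k := k) (z ⊗ₜ[k] a) = z * ((1 : B) ⊗ₜ[k] HopfAlgebra.antipode k a) := by
  simp [Qmul]

lemma Qmul_assoc_symm (x : B) (w : A ⊗[k] A) :
    Qmul (k := k) ((TensorProduct.assoc k B A A).symm (x ⊗ₜ[k] w)) =
      x ⊗ₜ[k] (LinearMap.mul' k A ((HopfAlgebra.antipode k (A := A)).lTensor A w)) := by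
  induction w using TensorProduct.induction_on with
  | zero => simp
  | tmul c a => simp
  | add w₁ w₂ h₁ h₂ => simp only [TensorProduct.tmul_add, map_add, h₁, h₂]

lemma Qmul_coact (y : B) :
    Qmul (k := k) ((HopfRep.Comod.coact (k := k) (A := A)).rTensor A
      (HopfRep.Comod.coact (k := k) (A := A) y)) = y ⊗ₜ[k] (1 : A) := by
  rw [coact_rTensor_coact]
  have h : ∀ t : B ⊗[k] A, Qmul (k := k) ((TensorProduct.assoc k B A A).symm
      ((Coalgebra.comul (R := k) (A := A)).lTensor B t)) =
      (cou (k := k) (A := A) t) ⊗ₜ[k] (1 : A) := by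
    intro t
    induction t using TensorProduct.induction_on with
    | zero => simp
    | tmul x c =>
      rw [LinearMap.lTensor_tmul, Qmul_assoc_symm, HopfAlgebra.mul_antipode_lTensor_comul_apply,
        cou_tmul, Algebra.algebraMap_eq_smul_one, TensorProduct.tmul_smul,
        TensorProduct.smul_tmul']
    | add t₁ t₂ h₁ h₂ => simp only [map_add, TensorProduct.add_tmul, h₁, h₂]
  rw [h, cou_coact]

/-- for an invariant ideal `I`, `y ⊗ 1` lies in the ideal generated by `ρ(I)` -/
lemma tmul_one_mem_span_coact (I : Ideal B)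
    (hI : HopfRep.IsSubcomod (k := k) (A := A) (I.restrictScalars k)) (y : B) (hy : y ∈ I) :
    y ⊗ₜ[k] (1 : A) ∈ Ideal.span
      ((fun x => HopfRep.Comod.coact (k := k) (A := A) x) '' (I : Set B)) := by
  obtain ⟨t, ht⟩ := hI y hy
  rw [← Qmul_coact (k := k) (A := A) y, ← ht]
  have h : ∀ t : ↥(I.restrictScalars k) ⊗[k] A,
      Qmul (k := k) ((HopfRep.Comod.coact (k := k) (A := A)).rTensor A
        ((I.restrictScalars k).subtype.rTensor A t)) ∈ Ideal.span
      ((fun x => HopfRep.Comod.coact (k := k) (A := A) x) '' (I : Set B)) := by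
    intro t
    induction t using TensorProduct.induction_on with
    | zero => simp
    | tmul x a =>
      rw [LinearMap.rTensor_tmul, LinearMap.rTensor_tmul, Qmul_tmul]
      exact Ideal.mul_mem_right _ _ (Ideal.subset_span ⟨x.1, x.2, rfl⟩)
    | add t₁ t₂ h₁ h₂ =>
      rw [map_add, map_add, map_add]
      exact Ideal.add_mem _ h₁ h₂
  exact h t

variable (α : A →ₗ[k] B)

/-- the full contraction map of the Reynolds operator -/
noncomputable abbrev Lfull : B ⊗[k] A →ₗ[k] B :=
  TensorProduct.lift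
    ((Algebra.lsmul k k B : B →ₐ[k] Module.End k B).toLinearMap ∘ₗ α ∘ₗ
      (HopfAlgebraStruct.antipode (R := k) (A := A))).flip

lemma rey_eq_Lfull (b : B) : rey α b = Lfull α (HopfRep.Comod.coact (k := k) (A := A) b) := rfl

lemma Lfull_mul_tmul_one (z : B ⊗[k] A) (y : B) :
    Lfull α (z * (y ⊗ₜ[k] (1 : A))) = Lfull α z * y := by
  induction z using TensorProduct.induction_on with
  | zero => simp
  | tmul x a => simp [mul_assoc]
  | add z₁ z₂ h₁ h₂ => simp only [add_mul, map_add, h₁, h₂]

lemma Lfull_mem_of_mem_map (J : Ideal B) (z : B ⊗[k] A)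
    (hz : z ∈ J.map (Algebra.TensorProduct.includeLeft : B →ₐ[k] B ⊗[k] A)) :
    Lfull α z ∈ J := by
  suffices h : ∀ w : B ⊗[k] A, Lfull α (w * z) ∈ J by simpa using h 1
  rw [Ideal.map] at hz
  induction hz using Submodule.span_induction with
  | mem z hz =>
    obtain ⟨x, hx, rfl⟩ := hz
    intro w
    change Lfull α (w * (x ⊗ₜ[k] (1 : A))) ∈ J
    rw [Lfull_mul_tmul_one]
    exact J.mul_mem_left _ hx
  | zero => intro w; simp
  | add z₁ z₂ _ _ h₁ h₂ =>
    intro w
    rw [mul_add, map_add]
    exact J.add_mem (h₁ w) (h₂ w)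
  | smul w' z _ h =>
    intro w
    rw [smul_eq_mul, ← mul_assoc]
    exact h (w * w')

/-- an ideal generated by invariants is stable under the coaction -/
lemma coact_mem_map_of_mem_span (s : Set B) (hs : s ⊆ GLin.invariants k A B) (x : B)
    (hx : x ∈ Ideal.span s) :
    HopfRep.Comod.coact (k := k) (A := A) x ∈
      (Ideal.span s).map (Algebra.TensorProduct.includeLeft : B →ₐ[k] B ⊗[k] A) := by
  induction hx using Submodule.span_induction with
  | mem x hx =>
    have : HopfRep.Comod.coact (k := k) (A := A) x = x ⊗ₜ[k] (1 : A) := hs hx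
    rw [this]
    exact Ideal.mem_map_of_mem _ (Ideal.subset_span hx)
  | zero => simp
  | add x₁ x₂ _ _ h₁ h₂ =>
    rw [map_add]
    exact Ideal.add_mem _ h₁ h₂
  | smul r x _ h =>
    rw [smul_eq_mul, GLin.IsCoactAlg.coact_mul]
    exact Ideal.mul_mem_left _ _ h

theorem exists_invariant_colon (hα : Hoch.IsComodHom A α) (hα1 : α 1 = 1)
    (I : Ideal B) (hI : HopfRep.IsSubcomod (k := k) (A := A) (I.restrictScalars k))
    (s : Set B) (hs : s ⊆ GLin.invariants k A B)
    (hb : ∃ b : B, b - 1 ∈ I ∧ ∀ y ∈ I, b * y ∈ Ideal.span s) :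
    ∃ b ∈ GLin.invariants k A B, b - 1 ∈ I ∧ ∀ y ∈ I, b * y ∈ Ideal.span s := by
  obtain ⟨b, hb1, hb2⟩ := hb
  refine ⟨rey α b, rey_mem α hα b, ?_, ?_⟩
  · have h1 : rey α (1 : B) = 1 := rey_of_mem α hα1 1 (GLin.invariants k A B).one_mem
    rw [← h1, ← map_sub]
    exact rey_mem_ideal α I hI _ hb1
  · intro y hy
    rw [rey_eq_Lfull, ← Lfull_mul_tmul_one]
    apply Lfull_mem_of_mem_map
    have h1 := tmul_one_mem_span_coact (k := k) (A := A) I hI y hy
    suffices h : ∀ z ∈ Ideal.span
        ((fun x => HopfRep.Comod.coact (k := k) (A := A) x) '' (I : Set B)),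
        ∀ w : B ⊗[k] A, HopfRep.Comod.coact (k := k) (A := A) b * (w * z) ∈
          (Ideal.span s).map (Algebra.TensorProduct.includeLeft : B →ₐ[k] B ⊗[k] A) by
      simpa using h _ h1 1
    intro z hz
    induction hz using Submodule.span_induction with
    | mem z hz =>
      obtain ⟨y', hy', rfl⟩ := hz
      intro w
      have : HopfRep.Comod.coact (k := k) (A := A) b *
          (w * HopfRep.Comod.coact (k := k) (A := A) y') =
          w * HopfRep.Comod.coact (k := k) (A := A) (b * y') := by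
        rw [GLin.IsCoactAlg.coact_mul]; ring
      rw [this]
      exact Ideal.mul_mem_left _ _ (coact_mem_map_of_mem_span s hs _ (hb2 y' hy'))
    | zero => intro w; simp
    | add z₁ z₂ _ _ h₁ h₂ =>
      intro w
      rw [mul_add, mul_add]
      exact Ideal.add_mem _ (h₁ w) (h₂ w)
    | smul w' z _ h =>
      intro w
      rw [smul_eq_mul, ← mul_assoc w]
      exact h (w * w')

end colon

section points

variable {k : Type u} [Field k] [IsAlgClosed k] {A : Type v} [CommRing A] [HopfAlgebra k A]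
variable {B : Type w} [CommRing B] [Algebra k B] [Algebra.FiniteType k B]
  [HopfRep.Comod k A B] [GLin.IsCoactAlg k A B]

/-- a `k`-point with prescribed maximal ideal (Nullstellensatz) -/
lemma exists_point_of_isMaximal (n : Ideal B) [hn : n.IsMaximal] :
    ∃ x : B →ₐ[k] k, ∀ f : B, x f = 0 ↔ f ∈ n := by
  letI : Field (B ⧸ n) := Ideal.Quotient.field n
  haveI : Algebra.FiniteType k (B ⧸ n) :=
    Algebra.FiniteType.of_surjective (Ideal.Quotient.mkₐ k n) (Ideal.Quotient.mkₐ_surjective k n)
  haveI : Module.Finite k (B ⧸ n) := finite_of_finite_type_of_isJacobsonRing k (B ⧸ n)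
  have hbij : Function.Bijective (algebraMap k (B ⧸ n)) :=
    IsAlgClosed.algebraMap_bijective_of_isIntegral
  let e : k ≃ₐ[k] (B ⧸ n) := AlgEquiv.ofBijective (Algebra.ofId k (B ⧸ n)) hbij
  refine ⟨(e.symm : (B ⧸ n) →ₐ[k] k).comp (Ideal.Quotient.mkₐ k n), fun f => ?_⟩
  simp only [AlgHom.comp_apply, AlgEquiv.coe_algHom, Ideal.Quotient.mkₐ_eq_mk]
  rw [map_eq_zero_iff _ e.symm.injective, Ideal.Quotient.eq_zero_iff_mem]

/-- lifting points of the quotient through the image of an invariant closed subset -/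
theorem exists_point_lift (htame : ∃ α : A →ₗ[k] B, Hoch.IsComodHom A α ∧ α 1 = 1)
    (I : Ideal B) (hI : HopfRep.IsSubcomod (k := k) (A := A) (I.restrictScalars k))
    (φ : GLin.invariants k A B →ₐ[k] k)
    (hφ : ∀ f : GLin.invariants k A B, (f : B) ∈ I → φ f = 0) :
    ∃ x : B →ₐ[k] k, (∀ f ∈ I, x f = 0) ∧ ∀ f : GLin.invariants k A B, x (f : B) = φ f := by
  obtain ⟨α, hα, hα1⟩ := htame
  have hφsurj : Function.Surjective φ := fun c => ⟨algebraMap k _ c, by simp⟩
  haveI hm : (RingHom.ker (φ : GLin.invariants k A B →+* k)).IsMaximal :=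
    RingHom.ker_isMaximal_of_surjective (φ : GLin.invariants k A B →+* k) hφsurj
  let p : PrimeSpectrum (GLin.invariants k A B) :=
    ⟨RingHom.ker (φ : GLin.invariants k A B →+* k), hm.isPrime⟩
  have hp : p ∈ PrimeSpectrum.zeroLocus ((I.comap (algebraMap (GLin.invariants k A B) B) :
      Ideal (GLin.invariants k A B)) : Set (GLin.invariants k A B)) := by
    rw [PrimeSpectrum.mem_zeroLocus]
    intro f hf
    exact hφ f hf
  rw [← image_zeroLocus α hα hα1 I hI] at hp
  obtain ⟨q, hq, hqp⟩ := hp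
  rw [PrimeSpectrum.mem_zeroLocus] at hq
  obtain ⟨n, hn, hqn⟩ := Ideal.exists_le_maximal q.asIdeal q.2.ne_top
  haveI := hn
  obtain ⟨x, hx⟩ := exists_point_of_isMaximal (k := k) n
  have hcomap : n.comap (algebraMap (GLin.invariants k A B) B) =
      RingHom.ker (φ : GLin.invariants k A B →+* k) := by
    symm
    apply hm.eq_of_le (Ideal.comap_ne_top _ hn.ne_top)
    have : p.asIdeal = q.asIdeal.comap (algebraMap (GLin.invariants k A B) B) := by
      rw [← hqp]; rfl
    change p.asIdeal ≤ _
    rw [this]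
    exact Ideal.comap_mono hqn
  refine ⟨x, fun f hf => (hx f).mpr (hqn (hq hf)), fun f => ?_⟩
  have h1 : f - algebraMap k _ (φ f) ∈ RingHom.ker (φ : GLin.invariants k A B →+* k) := by
    rw [RingHom.mem_ker]
    simp
  rw [← hcomap, Ideal.mem_comap] at h1
  have h2 := (hx _).mpr h1
  have h3 : (algebraMap (GLin.invariants k A B) B) (f - algebraMap k _ (φ f)) =
      (f : B) - algebraMap k B (φ f) := rfl
  rw [h3, map_sub, AlgHom.commutes, sub_eq_zero] at h2
  rw [h2]
  rfl

end points

end Groth.Agent.Lib.Helper28.TameAct
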