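import Groth.Agent.Lib.Helper28.GenIdeal
import Groth.Agent.Lib.Helper28.TameField

/-!
# The span of the orbit of a vector under the rational points (helper28)

`span_orbit_eq_gen`: for a reduced finitely generated Hopf algebra over an algebraically closed field the span of the
orbit `{g · v}` of a vector under the rational points is the subcomodule generated by `v`.
-/

set_option autoImplicit false
set_option linter.unusedSectionVars false
set_option linter.style.haveILetI false
universe u v w

open TensorProduct
open Groth.Agent.Lib.Helper19.Reynolds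

namespace Groth.Agent.Lib.Helper28.OrbitSpan

section

variable {k : Type u} [Field k] [IsAlgClosed k] {A : Type v} [CommRing A] [HopfAlgebra k A]
  [Algebra.FiniteType k A] [IsReduced A]
variable {V : Type w} [AddCommGroup V] [Module k V] [HopfRep.Comod k A V]

omit [IsAlgClosed k] [Algebra.FiniteType k A] [IsReduced A] [HopfRep.Comod k A V] in
lemma apply_lid_rTensor (f : A →ₗ[k] k) (l : Module.Dual k V) (t : V ⊗[k] A) :
    f (TensorProduct.lid k A (l.rTensor A t)) = l (TensorProduct.rid k V (f.lTensor V t)) := by
  induction t using TensorProduct.induction_on with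
  | zero => simp
  | tmul x a => simp [mul_comm]
  | add t₁ t₂ h₁ h₂ => simp only [map_add, h₁, h₂]

/-- an element killed by all rational points is zero -/
lemma eq_zero_of_forall_point (a : A) (ha : ∀ g : A →ₐ[k] k, g a = 0) : a = 0 := by
  haveI : IsJacobsonRing A := isJacobsonRing_of_finiteType (A := k) (B := A)
  have h1 : a ∈ (⊥ : Ideal A).jacobson := by
    rw [Ideal.jacobson, Ideal.mem_sInf]
    rintro J ⟨-, hJ⟩
    haveI := hJ
    letI : HopfRep.Comod k A A := HopfRep.Comod.regular k A
    obtain ⟨g, hg⟩ := Groth.Agent.Lib.Helper28.TameAct.exists_point_of_isMaximal (k := k) J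
    exact (hg a).mp (ha g)
  have h2 : (⊥ : Ideal A).jacobson = ⊥ :=
    IsJacobsonRing.out inferInstance (Ideal.radical_eq_iff.mp (nilradical_eq_zero A))
  rw [h2] at h1
  exact h1

theorem span_orbit_eq_gen (v : V) :
    Submodule.span k (Set.range fun g : A →ₐ[k] k => HopfRep.Comod.act k A V g v) =
      gen (K := k) (C := A) v := by
  apply le_antisymm
  · apply Submodule.span_le.mpr
    rintro _ ⟨g, rfl⟩
    exact ⟨g.toLinearMap, rfl⟩
  · rintro _ ⟨f, rfl⟩
    rw [← Subspace.forall_mem_dualAnnihilator_apply_eq_zero_iff]
    intro l hl
    rw [Submodule.mem_dualAnnihilator] at hl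
    have ha : TensorProduct.lid k A (l.rTensor A (HopfRep.Comod.coact (k := k) (A := A) v)) = 0 := by
      apply eq_zero_of_forall_point (k := k)
      intro g
      have h1 := apply_lid_rTensor g.toLinearMap l (HopfRep.Comod.coact (k := k) (A := A) v)
      rw [AlgHom.toLinearMap_apply] at h1
      rw [h1]
      exact hl _ (Submodule.subset_span ⟨g, rfl⟩)
    have h2 := apply_lid_rTensor f l (HopfRep.Comod.coact (k := k) (A := A) v)
    rw [ha, map_zero] at h2
    exact h2.symm

end

end Groth.Agent.Lib.Helper28.OrbitSpan
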