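import Mathlib.CategoryTheory.Monoidal.Cartesian.Over
import Mathlib.CategoryTheory.Limits.Shapes.Pullback.IsPullback.Basic

/-!
# Whiskering in `Over X` is a base change (helper28)
-/

set_option autoImplicit false

open CategoryTheory Limits MonoidalCategory CartesianMonoidalCategory

namespace Groth.Agent.Lib.Helper28.OverWhisker

variable {C : Type*} [Category C] [HasPullbacks C] {X : C}

attribute [local instance] Over.cartesianMonoidalCategory

/-- `R ◁ f` is the base change of `f` along the projection `R ⊗ T ⟶ T`. -/
theorem isPullback_whiskerLeft_left (R : Over X) {S T : Over X} (f : S ⟶ T) :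
    IsPullback (pullback.snd R.hom S.hom) (R ◁ f).left f.left (pullback.snd R.hom T.hom) := by
  refine IsPullback.of_bot (h₃₁ := R.hom) (v₂₁ := pullback.fst R.hom T.hom) (v₂₂ := T.hom) ?_ ?_
    (IsPullback.of_hasPullback R.hom T.hom).flip
  · rw [Over.whiskerLeft_left_fst, Over.w f]
    exact (IsPullback.of_hasPullback R.hom S.hom).flip
  · exact (Over.whiskerLeft_left_snd f).symm

/-- `f ▷ R` is the base change of `f` along the projection `T ⊗ R ⟶ T`. -/
theorem isPullback_whiskerRight_left (R : Over X) {S T : Over X} (f : S ⟶ T) :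
    IsPullback (pullback.fst S.hom R.hom) (f ▷ R).left f.left (pullback.fst T.hom R.hom) := by
  refine IsPullback.of_bot (h₃₁ := R.hom) (v₂₁ := pullback.snd T.hom R.hom) (v₂₂ := T.hom) ?_ ?_
    (IsPullback.of_hasPullback T.hom R.hom)
  · rw [Over.whiskerRight_left_snd, Over.w f]
    exact (IsPullback.of_hasPullback S.hom R.hom)
  · exact (Over.whiskerRight_left_fst f).symm

end Groth.Agent.Lib.Helper28.OverWhisker
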