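import Mathlib

/-!
# Perfect algebras in characteristic `p`: algebraic input for "finitely presentable perfect
algebras are perfectly finitely presented"

* `pcl p S`: inside a perfect `B`-algebra `R`, the `p`-radical closure of the subalgebra generated
  by `S` (a perfect subalgebra).
* For a ring map `π : B[X_σ] → R` to a perfect ring and a finite subset `T` of `ker π`:
  `AT π T = B[X_σ]/(T)`, `DT π p T` its perfect closure, transition maps `trD`, the maps
  `κT : DT π p T → R`, and the concrete description of `R` as the filtered colimit of the `DT π p T`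
  (`exists_κT_eq`, `exists_trD_eq`).
* `core`: a section of `κT` yields a finitely presented `B`-algebra with a `p`-radical map to `R`.
-/

namespace Groth.Agent.Lib.Helper28.PerfAlg

universe u

noncomputable section

section Basic

theorem charP_of_hom {p : ℕ} [hp : Fact p.Prime] {B C : Type*} [CommRing B] [CommRing C]
    [Nontrivial C] [CharP B p] (f : B →+* C) : CharP C p := by
  refine (CharP.charP_iff_prime_eq_zero hp.out).2 ?_
  rw [← map_natCast f, CharP.cast_eq_zero, map_zero]

theorem pow_p_pow_inj {p : ℕ} [Fact p.Prime] {L : Type*} [CommRing L] [CharP L p]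
    [PerfectRing L p] (n : ℕ) {x y : L} (h : x ^ p ^ n = y ^ p ^ n) : x = y := by
  apply (injective_frobenius L p).iterate n
  rwa [iterate_frobenius, iterate_frobenius]

end Basic

section PC

variable (K : Type u) [CommRing K] (p : ℕ) [Fact p.Prime] [CharP K p]

theorem exists_pow_eq_of (x : PerfectClosure K p) :
    ∃ (n : ℕ) (y : K), x ^ p ^ n = PerfectClosure.of K p y := by
  obtain ⟨⟨n, y⟩, rfl⟩ := PerfectClosure.mk_surjective K p x
  refine ⟨n, y, ?_⟩
  rw [← iterate_frobenius, PerfectClosure.iterate_frobenius_mk]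

theorem pc_hom_ext {L : Type*} [CommRing L] [CharP L p] [PerfectRing L p]
    {f g : PerfectClosure K p →+* L}
    (h : f.comp (PerfectClosure.of K p) = g.comp (PerfectClosure.of K p)) : f = g :=
  (PerfectClosure.lift K p L).symm.injective h

theorem lift_of {L : Type*} [CommRing L] [CharP L p] [PerfectRing L p] (f : K →+* L) (y : K) :
    PerfectClosure.lift K p L f (PerfectClosure.of K p y) = f y :=
  RingHom.congr_fun ((PerfectClosure.lift K p L).symm_apply_apply f) y

theorem of_eq_zero_iff (y : K) : PerfectClosure.of K p y = 0 ↔ ∃ n : ℕ, y ^ p ^ n = 0 := by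
  rw [PerfectClosure.of_apply, PerfectClosure.zero_def, PerfectClosure.mk_eq_iff]
  constructor
  · rintro ⟨z, hz⟩
    refine ⟨z, ?_⟩
    simpa [iterate_frobenius, iterate_map_zero] using hz
  · rintro ⟨n, hn⟩
    refine ⟨n, ?_⟩
    simpa [iterate_frobenius, iterate_map_zero] using hn

end PC

section Gen

variable {B R : Type u} [CommRing B] [CommRing R] [Algebra B R]

theorem gen_inj (U : Subalgebra B R) : Function.Injective U.val.toRingHom :=
  fun _ _ h => Subtype.ext h

theorem gen_val_incl {U V : Subalgebra B R} (h : U ≤ V) :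
    (V.val.toRingHom).comp (Subalgebra.inclusion h).toRingHom = U.val.toRingHom :=
  RingHom.ext fun _ => rfl

theorem gen_val_algebraMap (U : Subalgebra B R) :
    (U.val.toRingHom).comp (algebraMap B U) = algebraMap B R :=
  RingHom.ext fun _ => rfl

theorem gen_incl_id {U : Subalgebra B R} (h : U ≤ U) :
    (Subalgebra.inclusion h).toRingHom = RingHom.id _ :=
  RingHom.ext fun _ => Subtype.ext rfl

theorem gen_incl_comp {U V W : Subalgebra B R} (h : U ≤ V) (h' : V ≤ W) :
    (Subalgebra.inclusion h').toRingHom.comp (Subalgebra.inclusion h).toRingHom =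
      (Subalgebra.inclusion (h.trans h')).toRingHom :=
  RingHom.ext fun _ => Subtype.ext rfl

theorem gen_incl_algebraMap {U V : Subalgebra B R} (h : U ≤ V) :
    (Subalgebra.inclusion h).toRingHom.comp (algebraMap B U) = algebraMap B V :=
  RingHom.ext fun _ => Subtype.ext rfl

theorem gen_val_mk (U : Subalgebra B R) (a : R) (h : a ∈ U) : U.val.toRingHom ⟨a, h⟩ = a := rfl

theorem gen_val_mem (U : Subalgebra B R) (x : U) : U.val.toRingHom x ∈ U := x.2

end Gen

section Stage1

variable {B R : Type u} [CommRing B] [CommRing R] [Algebra B R] (p : ℕ) [Fact p.Prime]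
  [CharP R p] [PerfectRing R p]

theorem pow_mem_of_le (U : Subalgebra B R) {a : R} {n N : ℕ} (h : a ^ p ^ n ∈ U) (hn : n ≤ N) :
    a ^ p ^ N ∈ U := by
  obtain ⟨k, rfl⟩ := Nat.exists_eq_add_of_le hn
  rw [pow_add, pow_mul]
  exact U.pow_mem h _

/-- The `p`-radical closure, inside the perfect `B`-algebra `R`, of the subalgebra generated by
`S`. -/
def pcl (S : Set R) : Subalgebra B R where
  carrier := {a | ∃ n : ℕ, a ^ p ^ n ∈ Algebra.adjoin B S}
  mul_mem' := by
    rintro a b ⟨n, ha⟩ ⟨m, hb⟩
    refine ⟨max n m, ?_⟩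
    rw [mul_pow]
    exact mul_mem (pow_mem_of_le p _ ha (le_max_left _ _)) (pow_mem_of_le p _ hb (le_max_right _ _))
  one_mem' := ⟨0, by simp⟩
  add_mem' := by
    rintro a b ⟨n, ha⟩ ⟨m, hb⟩
    refine ⟨max n m, ?_⟩
    rw [add_pow_char_pow]
    exact add_mem (pow_mem_of_le p _ ha (le_max_left _ _)) (pow_mem_of_le p _ hb (le_max_right _ _))
  zero_mem' := ⟨0, by simp⟩
  algebraMap_mem' := fun r => ⟨0, by simpa using Subalgebra.algebraMap_mem _ r⟩

theorem mem_pcl {S : Set R} {a : R} :
    a ∈ pcl (B := B) p S ↔ ∃ n : ℕ, a ^ p ^ n ∈ Algebra.adjoin B S := Iff.rfl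

theorem pcl_mono {S S' : Set R} (h : S ⊆ S') : pcl (B := B) p S ≤ pcl p S' := by
  rintro a ⟨n, ha⟩
  exact ⟨n, Algebra.adjoin_mono h ha⟩

theorem self_mem_pcl {S : Set R} {a : R} (h : a ∈ S) : a ∈ pcl (B := B) p S :=
  ⟨0, by simpa using Algebra.subset_adjoin h⟩

theorem pcl_natCast_p (S : Set R) : ((p : ℕ) : pcl (B := B) p S) = 0 := by
  apply Subtype.ext
  have : ((p : ℕ) : R) = 0 := CharP.cast_eq_zero R p
  simpa using this

theorem pcl_frob_bijective (S : Set R) :
    Function.Bijective fun y : pcl (B := B) p S => y ^ p := by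
  constructor
  · intro y z h
    apply Subtype.ext
    apply injective_frobenius R p
    have := congrArg Subtype.val h
    simpa [frobenius_def] using this
  · intro y
    obtain ⟨b, hb⟩ := surjective_frobenius R p (y : R)
    obtain ⟨n, hn⟩ := y.2
    have hb' : b ^ p = (y : R) := by simpa [frobenius_def] using hb
    refine ⟨⟨b, n + 1, ?_⟩, Subtype.ext ?_⟩
    · rw [pow_succ', pow_mul, hb']
      exact hn
    · simpa using hb'

/-- Transition maps between the `p`-radical closures. -/
def t1r {S S' : Set R} (h : S ⊆ S') : pcl (B := B) p S →+* pcl (B := B) p S' :=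
  (Subalgebra.inclusion (pcl_mono (B := B) p h)).toRingHom

/-- The inclusion of the `p`-radical closure. -/
def c1r (S : Set R) : pcl (B := B) p S →+* R := (pcl (B := B) p S).val.toRingHom

theorem c1r_injective (S : Set R) : Function.Injective (c1r (B := B) p S) :=
  gen_inj _

theorem c1r_t1r {S S' : Set R} (h : S ⊆ S') :
    (c1r (B := B) p S').comp (t1r p h) = c1r p S := gen_val_incl _

theorem c1r_algebraMap (S : Set R) :
    (c1r (B := B) p S).comp (algebraMap B (pcl (B := B) p S)) = algebraMap B R :=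
  gen_val_algebraMap _

theorem t1r_id {S : Set R} (h : S ⊆ S) : t1r (B := B) p h = RingHom.id _ :=
  gen_incl_id _

theorem t1r_comp {S S' S'' : Set R} (h : S ⊆ S') (h' : S' ⊆ S'') :
    (t1r (B := B) p h').comp (t1r p h) = t1r p (h.trans h') :=
  gen_incl_comp _ _

theorem t1r_algebraMap {S S' : Set R} (h : S ⊆ S') :
    (t1r (B := B) p h).comp (algebraMap B (pcl (B := B) p S)) = algebraMap B (pcl (B := B) p S') :=
  gen_incl_algebraMap _

theorem t1r_apply_eq {S S' : Set R} (h : S ⊆ S') {x y : pcl (B := B) p S}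
    (hxy : c1r p S x = c1r p S y) : t1r p h x = t1r p h y := by
  rw [c1r_injective p S hxy]

theorem exists_c1r_eq (a : R) : ∃ x : pcl (B := B) p ({a} : Set R), c1r p _ x = a :=
  ⟨⟨a, self_mem_pcl p rfl⟩, gen_val_mk _ _ _⟩

theorem c1r_mem (S : Set R) (x : pcl (B := B) p S) : c1r p S x ∈ pcl (B := B) p S :=
  gen_val_mem _ x

end Stage1

section Stage2

variable {B R : Type u} [CommRing B] [CommRing R] {σ : Type u} (π : MvPolynomial σ B →+* R)

/-- The ideal generated by a finite subset of `ker π`. -/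
def IT (T : Finset (RingHom.ker π)) : Ideal (MvPolynomial σ B) :=
  Ideal.span (Subtype.val '' (T : Set (RingHom.ker π)))

theorem IT_le_ker (T : Finset (RingHom.ker π)) : IT π T ≤ RingHom.ker π := by
  rw [IT, Ideal.span_le]
  rintro _ ⟨x, -, rfl⟩
  exact x.2

theorem IT_mono {T T' : Finset (RingHom.ker π)} (h : T ≤ T') : IT π T ≤ IT π T' :=
  Ideal.span_mono (Set.image_mono (by exact_mod_cast h))

theorem mem_IT {T : Finset (RingHom.ker π)} {x : RingHom.ker π} (hx : x ∈ T) :
    (x : MvPolynomial σ B) ∈ IT π T :=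
  Ideal.subset_span ⟨x, Finset.mem_coe.2 hx, rfl⟩

theorem IT_fg (T : Finset (RingHom.ker π)) : (IT π T).FG := by
  classical
  refine ⟨T.image Subtype.val, ?_⟩
  rw [Finset.coe_image]
  rfl

/-- The finitely presented algebra `B[X_σ]/(T)`. -/
def AT (T : Finset (RingHom.ker π)) : Type u := MvPolynomial σ B ⧸ IT π T

instance (T : Finset (RingHom.ker π)) : CommRing (AT π T) :=
  inferInstanceAs (CommRing (MvPolynomial σ B ⧸ IT π T))

instance (T : Finset (RingHom.ker π)) : Algebra B (AT π T) :=
  inferInstanceAs (Algebra B (MvPolynomial σ B ⧸ IT π T))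

theorem AT_fp [Finite σ] (T : Finset (RingHom.ker π)) : Algebra.FinitePresentation B (AT π T) :=
  Algebra.FinitePresentation.quotient (R := B) (A := MvPolynomial σ B) (IT_fg π T)

/-- The quotient map. -/
def mkA (T : Finset (RingHom.ker π)) : MvPolynomial σ B →+* AT π T := Ideal.Quotient.mk (IT π T)

theorem mkA_surjective (T : Finset (RingHom.ker π)) : Function.Surjective (mkA π T) :=
  Ideal.Quotient.mk_surjective

theorem mkA_eq_zero {T : Finset (RingHom.ker π)} {f : MvPolynomial σ B} (h : f ∈ IT π T) :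
    mkA π T f = 0 := Ideal.Quotient.eq_zero_iff_mem.2 h

theorem algebraMap_AT (T : Finset (RingHom.ker π)) (b : B) :
    algebraMap B (AT π T) b = mkA π T (MvPolynomial.C b) := rfl

/-- The induced map to `R`. -/
def kT (T : Finset (RingHom.ker π)) : AT π T →+* R :=
  Ideal.Quotient.lift (IT π T) π (fun _ ha => IT_le_ker π T ha)

theorem kT_mkA (T : Finset (RingHom.ker π)) (f : MvPolynomial σ B) : kT π T (mkA π T f) = π f :=
  Ideal.Quotient.lift_mk _ _ _

instance [Nontrivial R] (T : Finset (RingHom.ker π)) : Nontrivial (AT π T) :=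
  (kT π T).domain_nontrivial

instance charP_AT (p : ℕ) [Fact p.Prime] [CharP B p] [Nontrivial R]
    (T : Finset (RingHom.ker π)) : CharP (AT π T) p :=
  charP_of_hom (algebraMap B (AT π T))

/-- Transition maps between the finitely presented algebras. -/
def trA {T T' : Finset (RingHom.ker π)} (h : T ≤ T') : AT π T →+* AT π T' :=
  Ideal.Quotient.factor (IT_mono π h)

theorem trA_mkA {T T' : Finset (RingHom.ker π)} (h : T ≤ T') (f : MvPolynomial σ B) :
    trA π h (mkA π T f) = mkA π T' f := rfl

variable (p : ℕ) [Fact p.Prime] [CharP B p] [Nontrivial R] [CharP R p] [PerfectRing R p]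

/-- The perfect closure of `B[X_σ]/(T)`. -/
abbrev DT (T : Finset (RingHom.ker π)) : Type u := PerfectClosure (AT π T) p

/-- The canonical map from the polynomial ring. -/
def oT (T : Finset (RingHom.ker π)) : MvPolynomial σ B →+* DT π p T :=
  (PerfectClosure.of (AT π T) p).comp (mkA π T)

theorem oT_apply (T : Finset (RingHom.ker π)) (f : MvPolynomial σ B) :
    oT π p T f = PerfectClosure.of (AT π T) p (mkA π T f) := rfl

/-- The induced map to the perfect ring `R`. -/
def κT (T : Finset (RingHom.ker π)) : DT π p T →+* R :=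
  PerfectClosure.lift (AT π T) p R (kT π T)

/-- Transition maps between the perfect closures. -/
def trD {T T' : Finset (RingHom.ker π)} (h : T ≤ T') : DT π p T →+* DT π p T' :=
  PerfectClosure.lift (AT π T) p (DT π p T') ((PerfectClosure.of (AT π T') p).comp (trA π h))

theorem oT_epi {L : Type*} [CommRing L] [CharP L p] [PerfectRing L p]
    (T : Finset (RingHom.ker π)) {f g : DT π p T →+* L}
    (h : ∀ x, f (oT π p T x) = g (oT π p T x)) : f = g := by
  apply pc_hom_ext
  apply Ideal.Quotient.ringHom_ext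
  exact RingHom.ext h

theorem κT_oT (T : Finset (RingHom.ker π)) (f : MvPolynomial σ B) :
    κT π p T (oT π p T f) = π f := by
  rw [oT_apply, κT, lift_of, kT_mkA]

theorem trD_oT {T T' : Finset (RingHom.ker π)} (h : T ≤ T') (f : MvPolynomial σ B) :
    trD π p h (oT π p T f) = oT π p T' f := by
  rw [oT_apply, trD, lift_of]
  rfl

theorem κT_trD {T T' : Finset (RingHom.ker π)} (h : T ≤ T') :
    (κT π p T').comp (trD π p h) = κT π p T := by
  apply oT_epi π p T
  intro x
  rw [RingHom.comp_apply, trD_oT, κT_oT, κT_oT]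

theorem trD_id (T : Finset (RingHom.ker π)) : trD π p (le_refl T) = RingHom.id _ := by
  apply oT_epi π p T
  intro x
  rw [trD_oT, RingHom.id_apply]

theorem trD_comp {T T' T'' : Finset (RingHom.ker π)} (h : T ≤ T') (h' : T' ≤ T'') :
    (trD π p h').comp (trD π p h) = trD π p (h.trans h') := by
  apply oT_epi π p T
  intro x
  rw [RingHom.comp_apply, trD_oT, trD_oT, trD_oT]

theorem DT_natCast_p (T : Finset (RingHom.ker π)) : ((p : ℕ) : DT π p T) = 0 :=
  CharP.cast_eq_zero _ p

theorem DT_frob_bijective (T : Finset (RingHom.ker π)) :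
    Function.Bijective fun y : DT π p T => y ^ p :=
  PerfectRing.bijective_frobenius

theorem exists_κT_eq (hrad : ∀ a : R, ∃ (n : ℕ) (f : MvPolynomial σ B), π f = a ^ p ^ n)
    (a : R) : ∃ x : DT π p ∅, κT π p ∅ x = a := by
  obtain ⟨n, f, hf⟩ := hrad a
  refine ⟨PerfectClosure.mk (AT π ∅) p (n, mkA π ∅ f), ?_⟩
  apply pow_p_pow_inj (p := p) n
  rw [← map_pow, ← iterate_frobenius, PerfectClosure.iterate_frobenius_mk, ← oT_apply, κT_oT, hf]

theorem exists_trD_eq (T : Finset (RingHom.ker π)) (x y : DT π p T)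
    (h : κT π p T x = κT π p T y) :
    ∃ T', ∃ hT : T ≤ T', trD π p hT x = trD π p hT y := by
  classical
  obtain ⟨n, x₀, hx⟩ := exists_pow_eq_of (AT π T) p x
  obtain ⟨m, y₀, hy⟩ := exists_pow_eq_of (AT π T) p y
  obtain ⟨fx, rfl⟩ := mkA_surjective π T x₀
  obtain ⟨fy, rfl⟩ := mkA_surjective π T y₀
  rw [← oT_apply] at hx hy
  have e1 : π fx = (κT π p T x) ^ p ^ n := by rw [← map_pow, hx, κT_oT]
  have e2 : π fy = (κT π p T y) ^ p ^ m := by rw [← map_pow, hy, κT_oT]
  have hg : fx ^ p ^ m - fy ^ p ^ n ∈ RingHom.ker π := by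
    rw [RingHom.mem_ker, map_sub, map_pow, map_pow, sub_eq_zero, e1, e2, h, ← pow_mul, ← pow_mul,
      ← pow_add, ← pow_add, add_comm]
  have hT : T ≤ insert (⟨_, hg⟩ : RingHom.ker π) T := Finset.subset_insert _ _
  refine ⟨insert (⟨_, hg⟩ : RingHom.ker π) T, hT, ?_⟩
  have hmk : mkA π (insert (⟨_, hg⟩ : RingHom.ker π) T) (fx ^ p ^ m) =
      mkA π (insert (⟨_, hg⟩ : RingHom.ker π) T) (fy ^ p ^ n) := by
    rw [← sub_eq_zero, ← map_sub]
    exact mkA_eq_zero π (mem_IT π (x := ⟨_, hg⟩) (Finset.mem_insert_self _ _))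
  apply pow_p_pow_inj (p := p) (n + m)
  have e3 : (trD π p hT x) ^ p ^ (n + m) = oT π p _ (fx ^ p ^ m) := by
    rw [pow_add, pow_mul, ← map_pow, hx, trD_oT, map_pow]
  have e4 : (trD π p hT y) ^ p ^ (n + m) = oT π p _ (fy ^ p ^ n) := by
    rw [add_comm, pow_add, pow_mul, ← map_pow, hy, trD_oT, map_pow]
  rw [e3, e4, oT_apply, oT_apply, hmk]

set_option maxHeartbeats 400000 in
theorem core [Finite σ]
    (hrad : ∀ a : R, ∃ (n : ℕ) (f : MvPolynomial σ B), π f = a ^ p ^ n)
    (T : Finset (RingHom.ker π)) (s : R →+* DT π p T)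
    (hs : ∀ a, κT π p T (s a) = a)
    (hsB : ∀ b : B, s (π (MvPolynomial.C b)) = oT π p T (MvPolynomial.C b)) :
    ∃ (A₀ : Type u) (_ : CommRing A₀) (_ : Algebra B A₀) (_ : Algebra.FinitePresentation B A₀)
      (k : A₀ →+* R), k.comp (algebraMap B A₀) = π.comp MvPolynomial.C ∧ IsPRadical k p := by
  classical
  cases nonempty_fintype σ
  have key : ∀ l : σ, ∃ (n : ℕ) (h : MvPolynomial σ B),
      (s (π (MvPolynomial.X l)) - oT π p T (MvPolynomial.X l)) ^ p ^ n = oT π p T h := by
    intro l
    obtain ⟨n, y, hy⟩ := exists_pow_eq_of (AT π T) p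
      (s (π (MvPolynomial.X l)) - oT π p T (MvPolynomial.X l))
    obtain ⟨h, rfl⟩ := mkA_surjective π T y
    exact ⟨n, h, hy⟩
  choose nn hh hkey using key
  have hhker : ∀ l, hh l ∈ RingHom.ker π := by
    intro l
    have := congrArg (κT π p T) (hkey l)
    rw [map_pow, map_sub, hs, κT_oT, sub_self,
      zero_pow (pow_ne_zero _ (Fact.out : p.Prime).ne_zero), κT_oT] at this
    exact this.symm
  let T' : Finset (RingHom.ker π) :=
    T ∪ Finset.univ.image (fun l => (⟨hh l, hhker l⟩ : RingHom.ker π))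
  have hTT' : T ≤ T' := Finset.subset_union_left
  have hmem : ∀ l, hh l ∈ IT π T' := fun l =>
    mem_IT π (x := ⟨hh l, hhker l⟩)
      (Finset.mem_union_right _ (Finset.mem_image_of_mem _ (Finset.mem_univ l)))
  -- the idempotent `s ∘ κ` becomes the identity after passing to `T'`
  have hφe : (trD π p hTT').comp (s.comp (κT π p T)) = trD π p hTT' := by
    apply oT_epi π p T
    intro x
    rw [RingHom.comp_apply, RingHom.comp_apply, κT_oT]
    revert x
    refine RingHom.congr_fun (f := (trD π p hTT').comp (s.comp π))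
      (g := (trD π p hTT').comp (oT π p T)) ?_
    apply MvPolynomial.ringHom_ext
    · intro b
      rw [RingHom.comp_apply, RingHom.comp_apply, RingHom.comp_apply, hsB]
    · intro l
      rw [RingHom.comp_apply, RingHom.comp_apply, RingHom.comp_apply, ← sub_eq_zero, ← map_sub]
      apply IsNilpotent.eq_zero
      refine ⟨p ^ nn l, ?_⟩
      rw [← map_pow, hkey l, trD_oT, oT_apply, mkA_eq_zero π (hmem l), map_zero]
  refine ⟨AT π T', inferInstance, inferInstance, AT_fp π T', kT π T', ?_, ?_, ?_⟩
  · ext b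
    rw [RingHom.comp_apply, RingHom.comp_apply, algebraMap_AT, kT_mkA]
  · intro a
    obtain ⟨n, f, hf⟩ := hrad a
    exact ⟨n, mkA π T' f, by rw [kT_mkA, hf]⟩
  · intro x hx
    obtain ⟨f, rfl⟩ := mkA_surjective π T' x
    rw [RingHom.mem_ker, kT_mkA] at hx
    rw [mem_pNilradical, ← of_eq_zero_iff, ← oT_apply, ← trD_oT π p hTT', ← hφe,
      RingHom.comp_apply, RingHom.comp_apply, κT_oT, hx, map_zero, map_zero]

end Stage2

end

end Groth.Agent.Lib.Helper28.PerfAlg
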