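import Mathlib

/-!
# Extracting a section from a finitely presentable object and a concrete filtered colimit

`exists_section_of_colimit`: in a full subcategory of `Under B` (`B` a commutative ring), let `A` be
a finitely presentable object and suppose `A.obj.right` is, concretely, the filtered colimit of a
directed system of `B`-algebras `Dj j` all lying in the subcategory.  Then the identity of `A`
factors through some `Dj j`.
-/

namespace Groth.Agent.Lib.Helper28.PerfCat

open CategoryTheory Limits

universe u

set_option maxHeartbeats 400000 in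
theorem exists_section_of_colimit
    {B : CommRingCat.{u}} (P : ObjectProperty (Under B)) (A : P.FullSubcategory)
    [IsFinitelyPresentable.{u} A]
    {J : Type u} [Preorder J] [IsDirected J (· ≤ ·)] [Nonempty J]
    (Dj : J → CommRingCat.{u}) (sj : ∀ j, B ⟶ Dj j) (hP : ∀ j, P (Under.mk (sj j)))
    (tr : ∀ i j, i ≤ j → (Dj i ⟶ Dj j))
    (tr_id : ∀ i, tr i i le_rfl = 𝟙 _)
    (tr_comp : ∀ i j k (h : i ≤ j) (h' : j ≤ k), tr i j h ≫ tr j k h' = tr i k (h.trans h'))
    (s_tr : ∀ i j (h : i ≤ j), sj i ≫ tr i j h = sj j)
    (cj : ∀ j, Dj j ⟶ A.obj.right)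
    (c_tr : ∀ i j (h : i ≤ j), tr i j h ≫ cj j = cj i)
    (s_c : ∀ j, sj j ≫ cj j = A.obj.hom)
    (hsurj : ∀ a : A.obj.right, ∃ j, ∃ x : Dj j, (cj j).hom x = a)
    (hinj : ∀ j (x y : Dj j), (cj j).hom x = (cj j).hom y →
      ∃ j', ∃ h : j ≤ j', (tr j j' h).hom x = (tr j j' h).hom y) :
    ∃ j, ∃ q : A.obj.right ⟶ Dj j, A.obj.hom ≫ q = sj j ∧ q ≫ cj j = 𝟙 _ := by
  classical
  let F' : J ⥤ P.FullSubcategory :=
    { obj := fun j => ⟨Under.mk (sj j), hP j⟩
      map := fun {i j} f => ObjectProperty.homMk (Under.homMk (tr i j (leOfHom f)) (s_tr i j _))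
      map_id := fun i => by
        apply ObjectProperty.hom_ext
        apply Under.UnderMorphism.ext
        exact tr_id i
      map_comp := fun {i j k} f g => by
        apply ObjectProperty.hom_ext
        apply Under.UnderMorphism.ext
        exact (tr_comp i j k (leOfHom f) (leOfHom g)).symm }
  let c' : Cocone F' :=
    { pt := A
      ι :=
        { app := fun j => ObjectProperty.homMk (Under.homMk (cj j) (s_c j))
          naturality := fun i j f => by
            apply ObjectProperty.hom_ext
            apply Under.UnderMorphism.ext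
            simp
            exact c_tr i j (leOfHom f) } }
  have : IsConnected J := IsFiltered.isConnected J
  have hT : IsColimit ((forget CommRingCat).mapCocone
      ((Under.forget B).mapCocone (P.ι.mapCocone c'))) := by
    refine Types.FilteredColimit.isColimitOf' _ _ ?_ ?_
    · intro x
      obtain ⟨j, y, hy⟩ := hsurj x
      exact ⟨j, y, hy.symm⟩
    · intro i x y hxy
      obtain ⟨j', h, hh⟩ := hinj i x y hxy
      exact ⟨j', homOfLE h, hh⟩
  have hc : IsColimit ((Under.forget B).mapCocone (P.ι.mapCocone c')) := by
    have : ReflectsColimit ((F' ⋙ P.ι) ⋙ Under.forget B) (forget CommRingCat) :=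
      reflectsColimit_of_reflectsIsomorphisms _ _
    exact isColimitOfReflects (forget CommRingCat) hT
  have hcU : IsColimit (P.ι.mapCocone c') := isColimitOfReflects (Under.forget B) hc
  have hc'' : IsColimit c' := isColimitOfReflects P.ι hcU
  obtain ⟨j, q, hq⟩ := IsFinitelyPresentable.exists_hom_of_isColimit hc'' (𝟙 A)
  refine ⟨j, q.hom.right, ?_, ?_⟩
  · exact Under.w q.hom
  · have := congr($(hq).hom.right)
    simp at this
    exact this

end Groth.Agent.Lib.Helper28.PerfCat
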