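import Groth.Agent.Lib.Helper28.PerfAlg
import Groth.Agent.Lib.Helper28.PerfCat

/-!
# Finitely presentable perfect algebras are perfectly finitely presented
-/

namespace Groth.Agent.Lib.Helper28.PerfMain

open CategoryTheory Limits
open Groth.Agent.Lib.Helper28.PerfAlg Groth.Agent.Lib.Helper28.PerfCat

universe u

/-- The property cutting out perfect `B`-algebras of characteristic `p`. -/
abbrev PP (p : ℕ) (B : CommRingCat.{u}) : ObjectProperty (Under B) :=
  fun Y : Under B => (p : Y.right) = 0 ∧ Function.Bijective fun y : Y.right => y ^ p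

/-- Ring-level form of `exists_section_of_colimit` for perfect algebras. -/
theorem stage_gen (p : ℕ) (B : CommRingCat.{u}) (A : (PP p B).FullSubcategory)
    [IsFinitelyPresentable.{u} A]
    {J : Type u} [Preorder J] [IsDirected J (· ≤ ·)] [Nonempty J]
    (D : J → Type u) [∀ j, CommRing (D j)]
    (sB : ∀ j, B →+* D j)
    (hp0 : ∀ j, ((p : ℕ) : D j) = 0) (hbij : ∀ j, Function.Bijective fun y : D j => y ^ p)
    (tr : ∀ i j, i ≤ j → (D i →+* D j))
    (tr_id : ∀ i, tr i i le_rfl = RingHom.id _)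
    (tr_comp : ∀ i j k (h : i ≤ j) (h' : j ≤ k), (tr j k h').comp (tr i j h) = tr i k (h.trans h'))
    (s_tr : ∀ i j (h : i ≤ j), (tr i j h).comp (sB i) = sB j)
    (c : ∀ j, D j →+* A.obj.right)
    (c_tr : ∀ i j (h : i ≤ j), (c j).comp (tr i j h) = c i)
    (s_c : ∀ j, (c j).comp (sB j) = A.obj.hom.hom)
    (hsurj : ∀ a : A.obj.right, ∃ j, ∃ x : D j, c j x = a)
    (hinj : ∀ j (x y : D j), c j x = c j y → ∃ j', ∃ h : j ≤ j', tr j j' h x = tr j j' h y) :
    ∃ j, ∃ q : A.obj.right →+* D j, (∀ b, q (A.obj.hom.hom b) = sB j b) ∧ ∀ a, c j (q a) = a := by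
  obtain ⟨j, q, hq1, hq2⟩ := exists_section_of_colimit (PP p B) A
    (fun j => CommRingCat.of (D j))
    (fun j => CommRingCat.ofHom (sB j))
    (fun j => ⟨hp0 j, hbij j⟩)
    (fun i j h => CommRingCat.ofHom (tr i j h))
    (fun i => by rw [tr_id]; rfl)
    (fun i j k h h' => by rw [← CommRingCat.ofHom_comp, tr_comp])
    (fun i j h => by rw [← CommRingCat.ofHom_comp, s_tr])
    (fun j => CommRingCat.ofHom (c j))
    (fun i j h => by rw [← CommRingCat.ofHom_comp, c_tr])
    (fun j => by rw [← CommRingCat.ofHom_comp, s_c]; rfl)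
    hsurj hinj
  exact ⟨j, q.hom, fun b => congr($(hq1).hom b), fun a => congr($(hq2).hom a)⟩

theorem stage1 (p : ℕ) [Fact p.Prime] (B : CommRingCat.{u}) (A : (PP p B).FullSubcategory)
    [IsFinitelyPresentable.{u} A] [Algebra B A.obj.right]
    (halg : algebraMap B A.obj.right = A.obj.hom.hom)
    [CharP A.obj.right p] [PerfectRing A.obj.right p] :
    ∃ S : Finset A.obj.right, ∀ a : A.obj.right,
      a ∈ pcl (B := B) p (S : Set A.obj.right) := by
  classical
  obtain ⟨S, q, -, hq⟩ := stage_gen p B A (J := Finset A.obj.right)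
    (fun S => ↥(pcl (B := B) p (S : Set A.obj.right)))
    (fun S => algebraMap B _)
    (fun S => pcl_natCast_p p _) (fun S => pcl_frob_bijective p _)
    (fun S S' h => t1r p (Finset.coe_subset.2 h))
    (fun S => t1r_id p _) (fun S S' S'' h h' => t1r_comp p _ _)
    (fun S S' h => t1r_algebraMap p _)
    (fun S => c1r p _)
    (fun S S' h => c1r_t1r p _) (fun S => by rw [c1r_algebraMap, halg])
    (fun a => ⟨{a}, ⟨a, self_mem_pcl p (Finset.mem_coe.2 (Finset.mem_singleton_self a))⟩,
      gen_val_mk _ _ _⟩)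
    (fun S x y hxy => ⟨S, le_rfl, t1r_apply_eq p _ hxy⟩)
  exact ⟨S, fun a => by rw [← hq a]; exact c1r_mem p _ _⟩

theorem stage2 (p : ℕ) [Fact p.Prime] (B : CommRingCat.{u}) [CharP B p]
    (A : (PP p B).FullSubcategory) [IsFinitelyPresentable.{u} A]
    [Nontrivial A.obj.right] [CharP A.obj.right p] [PerfectRing A.obj.right p]
    {σ : Type u} (π : MvPolynomial σ B →+* A.obj.right)
    (hπC : ∀ b, π (MvPolynomial.C b) = A.obj.hom.hom b)
    (hrad : ∀ a : A.obj.right, ∃ (n : ℕ) (f : MvPolynomial σ B), π f = a ^ p ^ n) :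
    ∃ T : Finset (RingHom.ker π), ∃ s : A.obj.right →+* DT π p T,
      (∀ a, κT π p T (s a) = a) ∧
        ∀ b : B, s (π (MvPolynomial.C b)) = oT π p T (MvPolynomial.C b) := by
  classical
  obtain ⟨T, q2, hq2a, hq2b⟩ := stage_gen p B A (J := Finset (RingHom.ker π))
    (fun T => DT π p T)
    (fun T => (oT π p T).comp MvPolynomial.C)
    (fun T => DT_natCast_p π p T) (fun T => DT_frob_bijective π p T)
    (fun T T' h => trD π p h)
    (fun T => trD_id π p T) (fun T T' T'' h h' => trD_comp π p h h')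
    (fun T T' h => RingHom.ext fun b => trD_oT π p h _)
    (fun T => κT π p T)
    (fun T T' h => κT_trD π p h)
    (fun T => RingHom.ext fun b => by
      rw [RingHom.comp_apply, RingHom.comp_apply, κT_oT, hπC])
    (fun a => ⟨∅, exists_κT_eq π p hrad a⟩)
    (fun T x y h => exists_trD_eq π p T x y h)
  exact ⟨T, q2, hq2b, fun b => by rw [hπC, hq2a]; rfl⟩


theorem main (p : ℕ) [Fact p.Prime] (B : CommRingCat.{u}) [CharP B p] [PerfectRing B p]
    (A : ObjectProperty.FullSubcategory fun Y : Under B =>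
      (p : Y.right) = 0 ∧ Function.Bijective fun y : Y.right => y ^ p)
    [IsFinitelyPresentable.{u} A] :
    ∃ (A₀ : Type u) (_ : CommRing A₀) (_ : Algebra B A₀) (_ : Algebra.FinitePresentation B A₀)
      (k : A₀ →+* A.obj.right), k.comp (algebraMap B A₀) = A.obj.hom.hom ∧ IsPRadical k p := by
  classical
  obtain ⟨hA1, hA2⟩ := A.property
  rcases subsingleton_or_nontrivial (A.obj.right : Type u) with hsub | hnt
  · -- the zero ring
    have hsubq : Subsingleton (B ⧸ (⊤ : Ideal B)) := Ideal.Quotient.subsingleton_iff.2 rfl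
    refine ⟨B ⧸ (⊤ : Ideal B), inferInstance, inferInstance,
      Algebra.FinitePresentation.quotient (R := B) (A := B) ⟨{1}, by simp⟩,
      Ideal.Quotient.lift ⊤ A.obj.hom.hom (fun a _ => Subsingleton.elim _ _), ?_, ?_⟩
    · exact RingHom.ext fun b => Subsingleton.elim _ _
    · refine ⟨fun x => ⟨0, 0, Subsingleton.elim _ _⟩, fun x _ => ?_⟩
      rw [Subsingleton.elim x 0]
      exact Ideal.zero_mem _
  · haveI : CharP (A.obj.right : Type u) p := charP_of_hom A.obj.hom.hom
    haveI : PerfectRing (A.obj.right : Type u) p := ⟨hA2⟩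
    letI : Algebra B (A.obj.right : Type u) := A.obj.hom.hom.toAlgebra
    obtain ⟨S, hS⟩ := stage1 p B A rfl
    have hπC : ∀ b : B, (MvPolynomial.aeval (fun s : S => (s : (A.obj.right : Type u)))).toRingHom
        (MvPolynomial.C b) = A.obj.hom.hom b := by
      intro b
      show MvPolynomial.aeval _ (MvPolynomial.C b) = _
      rw [MvPolynomial.aeval_C]
      rfl
    have hrad : ∀ a : (A.obj.right : Type u), ∃ (n : ℕ) (f : MvPolynomial S B),
        (MvPolynomial.aeval (fun s : S => (s : (A.obj.right : Type u)))).toRingHom f = a ^ p ^ n := by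
      intro a
      obtain ⟨n, hn⟩ := hS a
      have hrange : Set.range (fun s : S => (s : (A.obj.right : Type u))) =
          (S : Set (A.obj.right : Type u)) := by
        ext x; simp
      rw [← hrange, Algebra.adjoin_range_eq_range_aeval] at hn
      obtain ⟨f, hf⟩ := hn
      exact ⟨n, f, hf⟩
    obtain ⟨T, s, hs1, hs2⟩ := stage2 p B A _ hπC hrad
    obtain ⟨A₀, i1, i2, i3, k, hk, hkr⟩ := core _ p hrad T s hs1 hs2
    refine ⟨A₀, i1, i2, i3, k, ?_, hkr⟩
    rw [hk]
    exact RingHom.ext hπC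


end Groth.Agent.Lib.Helper28.PerfMain
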