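import Groth.Agent.Lib.Helper28.PolyGraded

/-!
# The comodule-algebra structure on a polynomial ring attached to a matrix corepresentation (helper28)

`K` a comodule algebra over the commutative bialgebra `H` over `k`, `M` a matrix over `H` with
`Δ M_ij = Σ M_il ⊗ M_lj` and `ε M_ij = δ_ij`.  Then `P = K[x_i]` is a comodule algebra with
`ρ(C a) = (C ⊗ id)(ρ_K a)` and `ρ(x_j) = Σ_l x_l ⊗ M_lj`.
-/

set_option autoImplicit false
set_option linter.unusedSectionVars false
universe u v w

open TensorProduct MvPolynomial

namespace Groth.Agent.Lib.Helper28.PolyComod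

section

variable {k : Type u} [CommRing k] {H : Type v} [CommRing H] [HopfAlgebra k H]
variable {K : Type w} [CommRing K] [Algebra k K] [HopfRep.Comod k H K] [GLin.IsCoactAlg k H K]
variable {ι : Type} [Fintype ι] [DecidableEq ι] (M : Matrix ι ι H)

variable (k K ι) in
/-- the inclusion of the coefficients, as a `k`-algebra map -/
noncomputable def Ck : K →ₐ[k] MvPolynomial ι K := IsScalarTower.toAlgHom k K (MvPolynomial ι K)

@[simp] lemma Ck_apply (a : K) : Ck k K ι a = C a := rfl

variable (k H K ι) in
/-- `(C ⊗ id) ∘ ρ_K` -/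
noncomputable def baseHom : K →ₐ[k] MvPolynomial ι K ⊗[k] H :=
  (Algebra.TensorProduct.map (Ck k K ι) (AlgHom.id k H)).comp (GLin.coactAlgHom k H K)

lemma baseHom_apply (a : K) : baseHom k H K ι a =
    Algebra.TensorProduct.map (Ck k K ι) (AlgHom.id k H) (HopfRep.Comod.coact (k := k) (A := H) a) := rfl

/-- the coaction as a `k`-algebra map -/
noncomputable def coactAlg : MvPolynomial ι K →ₐ[k] MvPolynomial ι K ⊗[k] H :=
  { MvPolynomial.eval₂Hom (baseHom k H K ι : K →+* MvPolynomial ι K ⊗[k] H)
      (fun j => ∑ l, X l ⊗ₜ[k] M l j) with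
    commutes' := fun c => by
      change MvPolynomial.eval₂Hom _ _ (algebraMap k (MvPolynomial ι K) c) = _
      rw [MvPolynomial.algebraMap_apply, MvPolynomial.eval₂Hom_C]
      exact (baseHom k H K ι).commutes c }

@[simp] lemma coactAlg_C (a : K) : coactAlg (k := k) M (C a) = baseHom k H K ι a :=
  MvPolynomial.eval₂Hom_C _ _ a

@[simp] lemma coactAlg_X (j : ι) : coactAlg (k := k) (K := K) M (X j) = ∑ l, X l ⊗ₜ[k] M l j :=
  MvPolynomial.eval₂Hom_X' _ _ j

lemma algHom_ext' {B : Type*} [Semiring B] [Algebra k B] {f g : MvPolynomial ι K →ₐ[k] B}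
    (hC : ∀ a, f (C a) = g (C a)) (hX : ∀ i, f (X i) = g (X i)) : f = g := by
  apply AlgHom.coe_ringHom_injective
  exact MvPolynomial.ringHom_ext hC hX

variable (hΔ : ∀ i j, Coalgebra.comul (R := k) (M i j) = ∑ l, M i l ⊗ₜ[k] M l j)
variable (hε : ∀ i j, Coalgebra.counit (R := k) (M i j) = if i = j then (1 : k) else 0)

lemma assoc_cH_tmul (u : K ⊗[k] H) (h : H) :
    Algebra.TensorProduct.assoc k k k (MvPolynomial ι K) H H
      ((Algebra.TensorProduct.map (Ck k K ι) (AlgHom.id k H) u) ⊗ₜ[k] h) =
    Algebra.TensorProduct.map (Ck k K ι) (AlgHom.id k (H ⊗[k] H))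
      (TensorProduct.assoc k K H H (u ⊗ₜ[k] h)) := by
  induction u using TensorProduct.induction_on with
  | zero => simp
  | tmul y h' => simp
  | add u₁ u₂ h₁ h₂ => simp only [map_add, TensorProduct.add_tmul, h₁, h₂]

lemma claimA (t : K ⊗[k] H) :
    Algebra.TensorProduct.assoc k k k (MvPolynomial ι K) H H
      (Algebra.TensorProduct.map (coactAlg (k := k) (K := K) M) (AlgHom.id k H)
        (Algebra.TensorProduct.map (Ck k K ι) (AlgHom.id k H) t)) =
    Algebra.TensorProduct.map (Ck k K ι) (AlgHom.id k (H ⊗[k] H))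
      (TensorProduct.assoc k K H H
        ((HopfRep.Comod.coact (k := k) (A := H) (V := K)).rTensor H t)) := by
  induction t using TensorProduct.induction_on with
  | zero => simp
  | tmul x h =>
    rw [Algebra.TensorProduct.map_tmul, Algebra.TensorProduct.map_tmul, Ck_apply, coactAlg_C,
      baseHom_apply, AlgHom.id_apply, AlgHom.id_apply, LinearMap.rTensor_tmul]
    exact assoc_cH_tmul _ h
  | add u₁ u₂ h₁ h₂ => simp only [map_add, h₁, h₂]

lemma claimB (t : K ⊗[k] H) :
    Algebra.TensorProduct.map (AlgHom.id k (MvPolynomial ι K)) (Bialgebra.comulAlgHom k H)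
      (Algebra.TensorProduct.map (Ck k K ι) (AlgHom.id k H) t) =
    Algebra.TensorProduct.map (Ck k K ι) (AlgHom.id k (H ⊗[k] H))
      ((Coalgebra.comul (R := k) (A := H)).lTensor K t) := by
  induction t using TensorProduct.induction_on with
  | zero => simp
  | tmul x h => simp
  | add u₁ u₂ h₁ h₂ => simp only [map_add, h₁, h₂]

lemma claimC (t : K ⊗[k] H) :
    Algebra.TensorProduct.rid k k (MvPolynomial ι K)
      (Algebra.TensorProduct.map (AlgHom.id k (MvPolynomial ι K)) (Bialgebra.counitAlgHom k H)
        (Algebra.TensorProduct.map (Ck k K ι) (AlgHom.id k H) t)) =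
    Ck k K ι (TensorProduct.rid k K ((Coalgebra.counit (R := k) (A := H)).lTensor K t)) := by
  induction t using TensorProduct.induction_on with
  | zero => simp
  | tmul x h => simp [Algebra.smul_def, MvPolynomial.algebraMap_apply]
  | add u₁ u₂ h₁ h₂ => simp only [map_add, h₁, h₂]

include hΔ in
theorem coactAlg_coassoc :
    (Algebra.TensorProduct.assoc k k k (MvPolynomial ι K) H H).toAlgHom.comp
        ((Algebra.TensorProduct.map (coactAlg (k := k) (K := K) M) (AlgHom.id k H)).comp (coactAlg M)) =
      (Algebra.TensorProduct.map (AlgHom.id k _) (Bialgebra.comulAlgHom k H)).comp (coactAlg M) := by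
  apply algHom_ext'
  · intro a
    have hK := LinearMap.congr_fun (HopfRep.Comod.coassoc (k := k) (A := H) (V := K)) a
    simp only [LinearMap.comp_apply, LinearEquiv.coe_coe] at hK
    simp only [AlgHom.comp_apply, coactAlg_C, baseHom_apply]
    refine (claimA M _).trans ?_
    rw [hK, ← claimB]
  · intro i
    simp only [AlgHom.comp_apply, coactAlg_X, map_sum, Algebra.TensorProduct.map_tmul, AlgHom.id_apply,
      TensorProduct.sum_tmul, TensorProduct.tmul_sum, Bialgebra.comulAlgHom_apply, hΔ]
    exact Finset.sum_comm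

include hε in
theorem coactAlg_counit :
    (Algebra.TensorProduct.rid k k (MvPolynomial ι K)).toAlgHom.comp
        ((Algebra.TensorProduct.map (AlgHom.id k _) (Bialgebra.counitAlgHom k H)).comp
          (coactAlg (k := k) (K := K) M)) = AlgHom.id k _ := by
  apply algHom_ext'
  · intro a
    have hK := LinearMap.congr_fun (HopfRep.Comod.counit_comp (k := k) (A := H) (V := K)) a
    simp only [LinearMap.comp_apply, LinearMap.flip_apply, TensorProduct.mk_apply] at hK
    simp only [AlgHom.comp_apply, coactAlg_C, baseHom_apply, AlgHom.id_apply]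
    refine (claimC _).trans ?_
    rw [hK]
    simp
  · intro i
    simp [Bialgebra.counitAlgHom_apply, hε, Finset.sum_ite_eq', tmul_ite]

/-- the comodule structure on `K[x]` attached to the matrix corepresentation `M` -/
@[reducible] noncomputable def polyComod : HopfRep.Comod k H (MvPolynomial ι K) where
  coact := (coactAlg (k := k) (K := K) M).toLinearMap
  coassoc := by
    refine LinearMap.ext fun p => ?_
    exact congrArg (fun φ => φ p) (coactAlg_coassoc (K := K) M hΔ)
  counit_comp := by
    refine LinearMap.ext fun p => ?_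
    have h' : (Algebra.TensorProduct.rid k k (MvPolynomial ι K))
        (LinearMap.lTensor (MvPolynomial ι K) (CoalgebraStruct.counit (R := k) (A := H))
          (coactAlg (k := k) (K := K) M p)) = p := congrArg (fun φ => φ p) (coactAlg_counit (K := K) M hε)
    apply (Algebra.TensorProduct.rid k k (MvPolynomial ι K)).injective
    simpa using h'

theorem polyComod_coact (p : MvPolynomial ι K) :
    (polyComod (K := K) M hΔ hε).coact p = coactAlg (k := k) (K := K) M p := rfl

theorem polyComod_isCoactAlg :
    letI := polyComod (K := K) M hΔ hε; GLin.IsCoactAlg k H (MvPolynomial ι K) := by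
  letI := polyComod (K := K) M hΔ hε
  exact ⟨by simp [polyComod_coact], fun f g => by simp [polyComod_coact]⟩

open Groth.Agent.Lib.Helper28.PolyGraded in
theorem polyComod_hC (a : K) :
    (polyComod (K := K) M hΔ hε).coact (C a) ∈ T k H K ι 0 := by
  rw [polyComod_coact, coactAlg_C, baseHom_apply]
  generalize HopfRep.Comod.coact (k := k) (A := H) a = t
  induction t using TensorProduct.induction_on with
  | zero => rw [map_zero]; exact Submodule.zero_mem _
  | tmul x h =>
    rw [Algebra.TensorProduct.map_tmul, Ck_apply]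
    exact tmul_mem_T (isHomogeneous_C ι x) _
  | add u₁ u₂ h₁ h₂ => rw [map_add]; exact Submodule.add_mem _ h₁ h₂

open Groth.Agent.Lib.Helper28.PolyGraded in
theorem polyComod_hX (j : ι) :
    (polyComod (K := K) M hΔ hε).coact (X j) ∈ T k H K ι 1 := by
  rw [polyComod_coact, coactAlg_X]
  exact Submodule.sum_mem _ (fun l _ => tmul_mem_T (isHomogeneous_X K l) _)

/-- a constant polynomial is invariant only if its coefficient is -/
theorem mem_invariants_of_C_mem (a : K)
    (ha : (polyComod (K := K) M hΔ hε).coact (C a) = (C a : MvPolynomial ι K) ⊗ₜ[k] (1 : H)) :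
    a ∈ GLin.invariants k H K := by
  rw [polyComod_coact, coactAlg_C, baseHom_apply] at ha
  let ev0 : MvPolynomial ι K →ₐ[k] K :=
    (MvPolynomial.aeval (0 : ι → K) : MvPolynomial ι K →ₐ[K] K).restrictScalars k
  have h1 : ∀ t : K ⊗[k] H, Algebra.TensorProduct.map ev0 (AlgHom.id k H)
      (Algebra.TensorProduct.map (Ck k K ι) (AlgHom.id k H) t) = t := by
    intro t
    induction t using TensorProduct.induction_on with
    | zero => simp
    | tmul x h => simp [ev0]
    | add u₁ u₂ h₁ h₂ => simp only [map_add, h₁, h₂]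
  have h2 := congrArg (Algebra.TensorProduct.map ev0 (AlgHom.id k H)) ha
  rw [h1] at h2
  change HopfRep.Comod.coact (k := k) (A := H) a = a ⊗ₜ[k] (1 : H)
  rw [h2]
  simp [ev0]

section equivariant

variable {R' : Type*} [CommRing R'] [Algebra k R'] [Algebra K R'] [IsScalarTower k K R']
variable [HopfRep.Comod k H R'] [GLin.IsCoactAlg k H R']

/-- evaluation at a tuple transforming by `M` is a comodule map -/
theorem isComodHom_aeval
    (hK : Hoch.IsComodHom H (IsScalarTower.toAlgHom k K R').toLinearMap)
    (e : ι → R')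
    (he : ∀ j, HopfRep.Comod.coact (k := k) (A := H) (e j) = ∑ l, e l ⊗ₜ[k] M l j) :
    letI := polyComod (K := K) M hΔ hε
    Hoch.IsComodHom H ((MvPolynomial.aeval e : MvPolynomial ι K →ₐ[K] R').restrictScalars k).toLinearMap := by
  letI := polyComod (K := K) M hΔ hε
  have h : (GLin.coactAlgHom k H R').comp ((MvPolynomial.aeval e : MvPolynomial ι K →ₐ[K] R').restrictScalars k) =
      (Algebra.TensorProduct.map ((MvPolynomial.aeval e : MvPolynomial ι K →ₐ[K] R').restrictScalars k)
        (AlgHom.id k H)).comp (coactAlg (k := k) (K := K) M) := by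
    apply algHom_ext'
    · intro a
      have h1 := LinearMap.congr_fun hK a
      simp only [LinearMap.comp_apply, AlgHom.toLinearMap_apply, IsScalarTower.coe_toAlgHom'] at h1
      simp only [AlgHom.comp_apply, AlgHom.restrictScalars_apply, MvPolynomial.aeval_C, coactAlg_C,
        baseHom_apply, GLin.coactAlgHom_apply]
      rw [h1]
      generalize HopfRep.Comod.coact (k := k) (A := H) a = t
      induction t using TensorProduct.induction_on with
      | zero => simp
      | tmul x h => simp
      | add u₁ u₂ h₁ h₂ => simp only [map_add, h₁, h₂]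
    · intro j
      simp only [AlgHom.comp_apply, AlgHom.restrictScalars_apply, MvPolynomial.aeval_X, coactAlg_X,
        GLin.coactAlgHom_apply, he, map_sum, Algebra.TensorProduct.map_tmul, AlgHom.id_apply]
  apply LinearMap.ext
  intro p
  exact congrArg (fun φ => φ p) h

end equivariant

end

end Groth.Agent.Lib.Helper28.PolyComod
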