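import Groth.Agent.Lib.Helper28.TameField
import Groth.Agent.Lib.Helper28.GradedHilbert

/-!
# Graded comodule-algebra structures on polynomial rings and Hilbert's finiteness theorem (helper28)

`P = MvPolynomial ι K` (`K` a `k`-algebra) with a comodule-algebra structure over a commutative Hopf algebra `H`
over `k` such that `ρ(C a) ∈ P₀ ⊗ H` and `ρ(X i) ∈ P₁ ⊗ H`.
* `T d`: the image of `P_d ⊗ H` in `P ⊗ H`;  `coact_mem_T`: the coaction is homogeneous.
* `reyV_isHomogeneous`: the Reynolds operator of an integral preserves degrees.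
* `exists_finset_invariants`: Hilbert's theorem: if `K` is noetherian and `ι` finite, then there is a finite set `s` of
  invariants such that any subring containing the degree zero invariants and `s` contains all invariants.
-/

set_option autoImplicit false
set_option linter.unusedSectionVars false
universe u v w

open TensorProduct MvPolynomial
open Groth.Agent.Lib.Helper28.HopfIntegral
open Groth.Agent.Lib.Helper28.TameAct

namespace Groth.Agent.Lib.Helper28.PolyGraded

section

variable {k : Type u} [CommRing k] {H : Type v} [CommRing H] [HopfAlgebra k H]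
variable {K : Type w} [CommRing K] [Algebra k K]
variable {ι : Type*}

variable (k H K ι) in
/-- the image of `P_d ⊗ H` in `P ⊗ H` -/
noncomputable def T (d : ℕ) : Submodule k (MvPolynomial ι K ⊗[k] H) :=
  Submodule.span k {x | ∃ p : MvPolynomial ι K, p.IsHomogeneous d ∧ ∃ h : H, x = p ⊗ₜ[k] h}

lemma tmul_mem_T {d : ℕ} {p : MvPolynomial ι K} (hp : p.IsHomogeneous d) (h : H) :
    p ⊗ₜ[k] h ∈ T k H K ι d :=
  Submodule.subset_span ⟨p, hp, h, rfl⟩

lemma one_mem_T : (1 : MvPolynomial ι K ⊗[k] H) ∈ T k H K ι 0 := by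
  rw [Algebra.TensorProduct.one_def]
  exact tmul_mem_T (isHomogeneous_one ι K) 1

lemma mul_mem_T {d e : ℕ} {x y : MvPolynomial ι K ⊗[k] H} (hx : x ∈ T k H K ι d)
    (hy : y ∈ T k H K ι e) : x * y ∈ T k H K ι (d + e) := by
  induction hx using Submodule.span_induction with
  | mem x hx =>
    obtain ⟨p, hp, h, rfl⟩ := hx
    induction hy using Submodule.span_induction with
    | mem y hy =>
      obtain ⟨q, hq, h', rfl⟩ := hy
      rw [Algebra.TensorProduct.tmul_mul_tmul]
      exact tmul_mem_T (hp.mul hq) _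
    | zero => rw [mul_zero]; exact Submodule.zero_mem _
    | add y₁ y₂ _ _ h₁ h₂ => rw [mul_add]; exact Submodule.add_mem _ h₁ h₂
    | smul c y _ h₁ => rw [mul_smul_comm]; exact Submodule.smul_mem _ c h₁
  | zero => rw [zero_mul]; exact Submodule.zero_mem _
  | add x₁ x₂ _ _ h₁ h₂ => rw [add_mul]; exact Submodule.add_mem _ h₁ h₂
  | smul c x _ h₁ => rw [smul_mul_assoc]; exact Submodule.smul_mem _ c h₁

variable [HopfRep.Comod k H (MvPolynomial ι K)] [GLin.IsCoactAlg k H (MvPolynomial ι K)]

local notation "ρ" => HopfRep.Comod.coact (k := k) (A := H) (V := MvPolynomial ι K)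

lemma coact_mul' (p q : MvPolynomial ι K) : ρ (p * q) = ρ p * ρ q :=
  GLin.IsCoactAlg.coact_mul (k := k) p q

/-- the coaction is homogeneous -/
theorem coact_mem_T (hC : ∀ a : K, ρ (C a) ∈ T k H K ι 0) (hX : ∀ i : ι, ρ (X i) ∈ T k H K ι 1)
    {d : ℕ} {p : MvPolynomial ι K} (hp : p.IsHomogeneous d) : ρ p ∈ T k H K ι d := by
  have h1 : ∀ m ∈ homogeneousSubmodule ι K 1, ρ m ∈ T k H K ι 1 := by
    intro m hm
    rw [homogeneousSubmodule_one_eq_span_X] at hm
    induction hm using Submodule.span_induction with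
    | mem x hx => obtain ⟨i, rfl⟩ := hx; exact hX i
    | zero => rw [map_zero]; exact Submodule.zero_mem _
    | add x y _ _ h₁ h₂ => rw [map_add]; exact Submodule.add_mem _ h₁ h₂
    | smul c x _ h₁ =>
      rw [smul_eq_C_mul, coact_mul']
      have := mul_mem_T (hC c) h₁
      rwa [zero_add] at this
  have hp' : p ∈ homogeneousSubmodule ι K 1 ^ d := by
    rw [homogeneousSubmodule_one_pow]; exact hp
  clear hp
  induction hp' using Submodule.pow_induction_on_left' with
  | algebraMap r => exact hC r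
  | add x y i _ _ h₁ h₂ => rw [map_add]; exact Submodule.add_mem _ h₁ h₂
  | mem_mul m hm i x _ h₁ =>
    rw [coact_mul']
    have := mul_mem_T (h1 m hm) h₁
    rwa [add_comm] at this

/-- the contraction `P ⊗ H → P`, `p ⊗ h ↦ I(S h) • p` -/
noncomputable abbrev ctr (I : H →ₗ[k] k) : MvPolynomial ι K ⊗[k] H →ₗ[k] MvPolynomial ι K :=
  TensorProduct.lift
      ((Algebra.lsmul k k (MvPolynomial ι K) : k →ₐ[k] Module.End k (MvPolynomial ι K)).toLinearMap ∘ₗ I ∘ₗ
        (HopfAlgebraStruct.antipode (R := k) (A := H))).flip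

lemma reyV_eq_ctr (I : H →ₗ[k] k) (p : MvPolynomial ι K) : reyV I p = ctr I (ρ p) := rfl

lemma ctr_isHomogeneous (I : H →ₗ[k] k) {d : ℕ} {x : MvPolynomial ι K ⊗[k] H} (hx : x ∈ T k H K ι d) :
    (ctr I x).IsHomogeneous d := by
  induction hx using Submodule.span_induction with
  | mem x hx =>
    obtain ⟨p, hp, h, rfl⟩ := hx
    have : ctr I (p ⊗ₜ[k] h) = C (algebraMap k K (I (HopfAlgebraStruct.antipode (R := k) h))) * p := by
      simp [ctr, Algebra.smul_def, MvPolynomial.algebraMap_apply]
    rw [this]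
    exact hp.C_mul _
  | zero => rw [map_zero]; exact isHomogeneous_zero _ _ _
  | add x y _ _ h₁ h₂ => rw [map_add]; exact h₁.add h₂
  | smul c x _ h₁ =>
    rw [map_smul, Algebra.smul_def, MvPolynomial.algebraMap_apply]
    exact h₁.C_mul _

/-- the Reynolds operator preserves degrees -/
theorem reyV_isHomogeneous (hC : ∀ a : K, ρ (C a) ∈ T k H K ι 0) (hX : ∀ i : ι, ρ (X i) ∈ T k H K ι 1)
    (I : H →ₗ[k] k) {d : ℕ} {p : MvPolynomial ι K} (hp : p.IsHomogeneous d) :
    (reyV I p).IsHomogeneous d := by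
  rw [reyV_eq_ctr]
  exact ctr_isHomogeneous I (coact_mem_T hC hX hp)

lemma reyV_mul (I : H →ₗ[k] k) (c : MvPolynomial ι K) (hc : c ∈ GLin.invariants k H (MvPolynomial ι K))
    (b : MvPolynomial ι K) : reyV I (c * b) = c * reyV I b :=
  (reyV_map I _ (isComodHom_mulLeft c hc) b).symm

attribute [local instance] MvPolynomial.gradedAlgebra

/-- Hilbert's finiteness theorem for a graded coaction on a polynomial ring -/
theorem exists_finset_invariants [Finite ι] [IsNoetherianRing K]
    (hC : ∀ a : K, ρ (C a) ∈ T k H K ι 0) (hX : ∀ i : ι, ρ (X i) ∈ T k H K ι 1)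
    (I : H →ₗ[k] k) (hI : IsIntegral I) :
    ∃ s : Finset (MvPolynomial ι K), (∀ g ∈ s, g ∈ GLin.invariants k H (MvPolynomial ι K)) ∧
      ∀ D : Subring (MvPolynomial ι K),
        (∀ c ∈ GLin.invariants k H (MvPolynomial ι K), c.IsHomogeneous 0 → c ∈ D) →
        (∀ g ∈ s, g ∈ D) → ∀ c ∈ GLin.invariants k H (MvPolynomial ι K), c ∈ D := by
  obtain ⟨s, hs, h⟩ := GradedHilbert.exists_finset_le (homogeneousSubmodule ι K)
    (GLin.invariants k H (MvPolynomial ι K)).toSubring (reyV I).toAddMonoidHom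
    (fun b => reyV_mem I hI b) (fun c hc => reyV_of_mem I hI c hc)
    (fun c hc b => reyV_mul I c hc b)
    (fun d b hb => reyV_isHomogeneous hC hX I hb)
  exact ⟨s, hs, fun D h0 hD c hc => h D h0 hD hc⟩

end

end Groth.Agent.Lib.Helper28.PolyGraded
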