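import Mathlib

/-!
# A quasi-affine scheme locally of finite type over `S` embeds into affine space over `S`
-/

set_option autoImplicit false
universe u

namespace Groth.Agent.Lib.Helper28.QAffImm

open AlgebraicGeometry CategoryTheory Limits

/-- Local data for the immersion. -/
theorem exists_local_data {X S : Scheme.{u}} (π : X ⟶ S) [LocallyOfFiniteType π]
    [X.IsQuasiAffine] (x : X) :
    ∃ (S₁ : S.Opens) (f : Γ(X, ⊤)) (E : Finset Γ(X, ⊤)) (hle : X.basicOpen f ≤ π ⁻¹ᵁ S₁),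
      IsAffineOpen S₁ ∧ IsAffineOpen (X.basicOpen f) ∧ x ∈ X.basicOpen f ∧
      ∀ T : Subring Γ(X, X.basicOpen f), (∀ s, π.appLE S₁ (X.basicOpen f) hle s ∈ T) →
        (∀ a ∈ E, X.presheaf.map (homOfLE (le_top : X.basicOpen f ≤ ⊤)).op a ∈ T) →
        (∀ u, u * X.presheaf.map (homOfLE (le_top : X.basicOpen f ≤ ⊤)).op f = 1 → u ∈ T) →
        T = ⊤ := by
  classical
  obtain ⟨_, ⟨S₁, hS₁, rfl⟩, hxS₁, -⟩ :=
    S.isBasis_affineOpens.exists_subset_of_mem_open (Set.mem_univ (π x)) isOpen_univ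
  obtain ⟨_, ⟨_, ⟨f, hf, rfl⟩, rfl⟩, hxf, hle⟩ :=
    (Scheme.IsQuasiAffine.isBasis_basicOpen X).exists_subset_of_mem_open
      (show x ∈ ((π ⁻¹ᵁ S₁ : X.Opens) : Set X) from hxS₁) (π ⁻¹ᵁ S₁).isOpen
  have hft : (π.appLE S₁ (X.basicOpen f) hle).hom.FiniteType :=
    HasRingHomProperty.appLE (P := @LocallyOfFiniteType) π inferInstance ⟨S₁, hS₁⟩ ⟨_, hf⟩ hle
  letI := (π.appLE S₁ (X.basicOpen f) hle).hom.toAlgebra
  obtain ⟨t, ht⟩ := (RingHom.finiteType_algebraMap.mp hft).out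
  have hloc : ∀ b : Γ(X, X.basicOpen f), ∃ (n : ℕ) (y : Γ(X, ⊤)),
      X.presheaf.map (homOfLE (le_top : X.basicOpen f ≤ ⊤)).op y =
        (X.presheaf.map (homOfLE (le_top : X.basicOpen f ≤ ⊤)).op f) ^ n * b := fun b =>
    exists_eq_pow_mul_of_isCompact_of_isQuasiSeparated X ⊤ isCompact_univ
      isQuasiSeparated_univ f b
  choose n y hy using hloc
  refine ⟨S₁, f, t.image y, hle, hS₁, hf, hxf, ?_⟩
  intro T h1 h2 h3
  rw [eq_top_iff]
  rintro b -
  have hunit : IsUnit (X.presheaf.map (homOfLE (le_top : X.basicOpen f ≤ ⊤)).op f) :=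
    RingedSpace.isUnit_res_basicOpen _ f
  obtain ⟨u, hu⟩ := hunit.exists_left_inv
  have huT : u ∈ T := h3 u hu
  have hb : b ∈ Algebra.adjoin Γ(S, S₁) (t : Set Γ(X, X.basicOpen f)) := by rw [ht]; trivial
  induction hb using Algebra.adjoin_induction with
  | mem z hz =>
    have h4 : z = u ^ n z * X.presheaf.map (homOfLE (le_top : X.basicOpen f ≤ ⊤)).op (y z) := by
      rw [hy z, ← mul_assoc, ← mul_pow, hu, one_pow, one_mul]
    rw [h4]
    exact T.mul_mem (T.pow_mem huT _) (h2 _ (Finset.mem_image_of_mem y hz))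
  | algebraMap r => exact h1 r
  | add a b _ _ ha hb => exact T.add_mem ha hb
  | mul a b _ _ ha hb => exact T.mul_mem ha hb

/-- A morphism restricted to an affine open with affine preimage and surjective map on sections
is a closed immersion. -/
lemma isClosedImmersion_morphismRestrict {X P : Scheme.{u}} (g : X ⟶ P) (W : P.Opens)
    (hW : IsAffineOpen W) (hW' : IsAffineOpen (g ⁻¹ᵁ W)) (hs : Function.Surjective (g.app W)) :
    IsClosedImmersion (g ∣_ W) := by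
  have : IsAffine W.toScheme := hW
  have : IsAffine (g ⁻¹ᵁ W).toScheme := hW'
  apply IsClosedImmersion.of_surjective_of_isAffine
  rw [← Scheme.Hom.resLE_eq_morphismRestrict, Scheme.Hom.appTop, Scheme.Hom.resLE_app_top,
    Scheme.Hom.appLE_eq_app]
  intro z
  obtain ⟨w, hw⟩ := hs ((g ⁻¹ᵁ W).topIso.hom z)
  refine ⟨W.topIso.inv w, ?_⟩
  simp only [CommRingCat.comp_apply]
  rw [← CommRingCat.comp_apply W.topIso.inv W.topIso.hom, Iso.inv_hom_id, CommRingCat.id_apply,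
    hw, ← CommRingCat.comp_apply, Iso.hom_inv_id, CommRingCat.id_apply]

open AffineSpace in
/-- The chart lemma: over `W = p⁻¹(S₁) ∩ D(T_k)` the morphism `i` is a closed immersion. -/
theorem isClosedImmersion_chart {X S : Scheme.{u}} (n : Type u) (i : X ⟶ 𝔸(n; S))
    (π : X ⟶ S) (hi : i ≫ 𝔸(n; S) ↘ S = π)
    {S₁ : S.Opens} {f : Γ(X, ⊤)} {E : Finset Γ(X, ⊤)}
    (hle : X.basicOpen f ≤ π ⁻¹ᵁ S₁)
    (hS₁ : IsAffineOpen S₁) (hf : IsAffineOpen (X.basicOpen f))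
    (hT : ∀ T : Subring Γ(X, X.basicOpen f),
        (∀ s, π.appLE S₁ (X.basicOpen f) hle s ∈ T) →
        (∀ a ∈ E, X.presheaf.map (homOfLE (le_top : X.basicOpen f ≤ ⊤)).op a ∈ T) →
        (∀ u, u * X.presheaf.map (homOfLE (le_top : X.basicOpen f ≤ ⊤)).op f = 1 → u ∈ T) →
        T = ⊤)
    (k : n) (hk : i.appTop (coord S k) = f) (hE : ∀ a ∈ E, ∃ j, i.appTop (coord S j) = a) :
    (𝔸(n; S) ↘ S) ⁻¹ᵁ S₁ ⊓ 𝔸(n; S).basicOpen (coord S k) ≤ ⊤ ∧
    i ⁻¹ᵁ ((𝔸(n; S) ↘ S) ⁻¹ᵁ S₁ ⊓ 𝔸(n; S).basicOpen (coord S k)) = X.basicOpen f ∧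
    IsClosedImmersion (i ∣_ ((𝔸(n; S) ↘ S) ⁻¹ᵁ S₁ ⊓ 𝔸(n; S).basicOpen (coord S k))) := by
  subst hi
  obtain ⟨W, hWdef⟩ : ∃ W : 𝔸(n; S).Opens,
      W = (𝔸(n; S) ↘ S) ⁻¹ᵁ S₁ ⊓ 𝔸(n; S).basicOpen (coord S k) := ⟨_, rfl⟩
  rw [← hWdef]
  have hP₁ : IsAffineOpen ((𝔸(n; S) ↘ S) ⁻¹ᵁ S₁) := hS₁.preimage (𝔸(n; S) ↘ S)
  have hW : IsAffineOpen W := by
    have := hP₁.basicOpen (𝔸(n; S).presheaf.map
      (homOfLE (le_top : (𝔸(n; S) ↘ S) ⁻¹ᵁ S₁ ≤ ⊤)).op (coord S k))
    rwa [Scheme.basicOpen_res, ← hWdef] at this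
  have hpre : i ⁻¹ᵁ W = X.basicOpen f := by
    rw [hWdef, Scheme.Hom.preimage_inf, ← Scheme.Hom.comp_preimage, Scheme.preimage_basicOpen_top,
      hk]
    exact inf_eq_right.mpr hle
  refine ⟨le_top, hpre, ?_⟩
  have hW' : IsAffineOpen (i ⁻¹ᵁ W) := hpre ▸ hf
  apply isClosedImmersion_morphismRestrict i W hW hW'
  have hfW : X.basicOpen f ≤ i ⁻¹ᵁ W := hpre.ge
  -- surjectivity of appLE
  have hsurj : Function.Surjective (i.appLE W (X.basicOpen f) hfW) := by
    rw [← RingHom.range_eq_top]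
    apply hT
    · intro s
      have hWS : W ≤ (𝔸(n; S) ↘ S) ⁻¹ᵁ S₁ := hWdef ▸ inf_le_left
      have h1 := Scheme.Hom.appLE_comp_appLE i (𝔸(n; S) ↘ S) S₁ W (X.basicOpen f) hWS hfW
      rw [← h1]
      exact ⟨(𝔸(n; S) ↘ S).appLE S₁ W hWS s, rfl⟩
    · intro a ha
      obtain ⟨j, rfl⟩ := hE a ha
      refine ⟨𝔸(n; S).presheaf.map (homOfLE (le_top : W ≤ ⊤)).op (coord S j), ?_⟩
      change (𝔸(n; S).presheaf.map (homOfLE (le_top : W ≤ ⊤)).op ≫ i.appLE W (X.basicOpen f) hfW)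
        (coord S j) = (i.app ⊤ ≫ X.presheaf.map (homOfLE (le_top : X.basicOpen f ≤ ⊤)).op)
          (coord S j)
      rw [Scheme.Hom.map_appLE, Scheme.Hom.app_eq_appLE, Scheme.Hom.appLE_map]
    · intro u hu
      -- the coordinate is a unit on W
      have hWD : W ≤ 𝔸(n; S).basicOpen (coord S k) := hWdef ▸ inf_le_right
      have hunit : IsUnit (𝔸(n; S).presheaf.map (homOfLE (le_top : W ≤ ⊤)).op (coord S k)) := by
        have hcomp : 𝔸(n; S).presheaf.map (homOfLE (le_top : W ≤ ⊤)).op =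
            𝔸(n; S).presheaf.map (homOfLE (𝔸(n; S).basicOpen_le (coord S k))).op ≫
              𝔸(n; S).presheaf.map (homOfLE hWD).op := by
          rw [← Functor.map_comp]; rfl
        rw [hcomp, CommRingCat.comp_apply]
        have h2 : IsUnit ((𝔸(n; S).presheaf.map
            (homOfLE (𝔸(n; S).basicOpen_le (coord S k))).op) (coord S k)) :=
          RingedSpace.isUnit_res_basicOpen 𝔸(n; S).toRingedSpace (coord S k)
        exact h2.map (𝔸(n; S).presheaf.map (homOfLE hWD).op).hom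
      obtain ⟨w, hw⟩ := hunit.exists_left_inv
      have h4 : i.appLE W (X.basicOpen f) hfW
          (𝔸(n; S).presheaf.map (homOfLE (le_top : W ≤ ⊤)).op (coord S k)) =
          X.presheaf.map (homOfLE (le_top : X.basicOpen f ≤ ⊤)).op (i.appTop (coord S k)) := by
        change (𝔸(n; S).presheaf.map (homOfLE (le_top : W ≤ ⊤)).op ≫ i.appLE W (X.basicOpen f) hfW)
          (coord S k) = (i.app ⊤ ≫ X.presheaf.map (homOfLE (le_top : X.basicOpen f ≤ ⊤)).op)
            (coord S k)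
        rw [Scheme.Hom.map_appLE, Scheme.Hom.app_eq_appLE, Scheme.Hom.appLE_map]
      rw [hk] at h4
      refine ⟨w, ?_⟩
      have h5 : i.appLE W (X.basicOpen f) hfW w *
          X.presheaf.map (homOfLE (le_top : X.basicOpen f ≤ ⊤)).op f = 1 := by
        rw [← h4]
        change (i.appLE W (X.basicOpen f) hfW).hom w * (i.appLE W (X.basicOpen f) hfW).hom _ = 1
        rw [← map_mul, hw, map_one]
      -- uniqueness of inverses
      calc (i.appLE W (X.basicOpen f) hfW).hom w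
          = (i.appLE W (X.basicOpen f) hfW).hom w *
            (X.presheaf.map (homOfLE (le_top : X.basicOpen f ≤ ⊤)).op f * u) := by
              rw [mul_comm _ u, hu, mul_one]
        _ = u := by rw [← mul_assoc]; erw [h5]; rw [one_mul]
  -- from appLE to app
  intro z
  obtain ⟨w, hw⟩ := hsurj (X.presheaf.map (homOfLE hfW).op z)
  refine ⟨w, ?_⟩
  have hiso : IsIso (X.presheaf.map (homOfLE hfW).op) := by
    have : homOfLE hfW = eqToHom hpre.symm := rfl
    rw [this]; infer_instance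
  have hinj : Function.Injective (X.presheaf.map (homOfLE hfW).op) :=
    (ConcreteCategory.bijective_of_isIso _).1
  apply hinj
  rw [← hw]
  rfl

instance : MorphismProperty.RespectsRight @IsImmersion @IsOpenImmersion where
  postcomp i hi f hf := by
    have : IsOpenImmersion i := hi
    have : IsImmersion f := hf
    exact (inferInstance : IsImmersion (f ≫ i))

open AffineSpace in
theorem exists_immersion {X S : Scheme.{u}} (π : X ⟶ S) [LocallyOfFiniteType π]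
    [X.IsQuasiAffine] :
    ∃ (n : ℕ) (i : X ⟶ 𝔸(ULift.{u} (Fin n); S)), IsImmersion i ∧
      i ≫ (𝔸(ULift.{u} (Fin n); S) ↘ S) = π := by
  classical
  choose S₁ f E hle hS₁ hf hxf hT using exists_local_data π
  obtain ⟨t, ht⟩ := isCompact_univ.elim_finite_subcover (fun x => (X.basicOpen (f x) : Set X))
    (fun x => (X.basicOpen (f x)).isOpen) (fun x _ => Set.mem_iUnion.mpr ⟨x, hxf x⟩)
  let F : Finset Γ(X, ⊤) := t.image f ∪ t.biUnion E
  let e : F ≃ Fin F.card := F.equivFin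
  let v : ULift.{u} (Fin F.card) → Γ(X, ⊤) := fun j => (e.symm j.down).1
  have hv : ∀ a ∈ F, ∃ j, v j = a := fun a ha => ⟨⟨e ⟨a, ha⟩⟩, by simp [v]⟩
  refine ⟨F.card, homOfVector π v, ?_, homOfVector_over π v⟩
  have hidx : ∀ x ∈ t, ∃ k, (homOfVector π v).appTop (coord S k) = f x := by
    intro x hx
    obtain ⟨k, hk⟩ := hv (f x) (Finset.mem_union_left _ (Finset.mem_image_of_mem f hx))
    exact ⟨k, by rw [homOfVector_appTop_coord, hk]⟩
  have hEidx : ∀ x ∈ t, ∀ a ∈ E x, ∃ j, (homOfVector π v).appTop (coord S j) = a := by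
    intro x hx a ha
    obtain ⟨j, hj⟩ := hv a (Finset.mem_union_right _ (Finset.mem_biUnion.mpr ⟨x, hx, ha⟩))
    exact ⟨j, by rw [homOfVector_appTop_coord, hj]⟩
  choose k hk using fun x : t => hidx x.1 x.2
  let W : t → 𝔸(ULift.{u} (Fin F.card); S).Opens := fun x =>
    (𝔸(ULift.{u} (Fin F.card); S) ↘ S) ⁻¹ᵁ S₁ x.1 ⊓
      𝔸(ULift.{u} (Fin F.card); S).basicOpen (coord S (k x))
  have hchart := fun x : t => isClosedImmersion_chart (ULift.{u} (Fin F.card))
    (homOfVector π v) π (homOfVector_over π v) (hle x.1) (hS₁ x.1) (hf x.1) (hT x.1) (k x)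
    (hk x) (hEidx x.1 x.2)
  apply IsZariskiLocalAtTarget.of_range_subset_iSup (P := @IsImmersion) W
  · rintro _ ⟨z, rfl⟩
    obtain ⟨x, hx⟩ := Set.mem_iUnion.mp (ht (Set.mem_univ z))
    obtain ⟨hxt, hzx⟩ := Set.mem_iUnion.mp hx
    have h1 : z ∈ (homOfVector π v) ⁻¹ᵁ W ⟨x, hxt⟩ := by
      rw [(hchart ⟨x, hxt⟩).2.1]; exact hzx
    exact TopologicalSpace.Opens.mem_iSup.mpr ⟨⟨x, hxt⟩, h1⟩
  · intro x
    have := (hchart x).2.2
    infer_instance

end Groth.Agent.Lib.Helper28.QAffImm
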