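import Mathlib

/-!
# Quasi-finiteness at points over a generic point
-/

set_option autoImplicit false
universe u

namespace Groth.Agent.Lib.Helper28.QFGen

open AlgebraicGeometry CategoryTheory Limits

section Top

variable {T : Type*} [TopologicalSpace T]

lemma eq_of_specializes_of_mem_irreducibleComponents [T0Space T] {a b : T} (h : a ⤳ b)
    (hb : closure {b} ∈ irreducibleComponents T) : a = b := by
  have h1 : closure ({b} : Set T) ⊆ closure {a} := h.closure_subset
  have h2 : closure ({a} : Set T) ⊆ closure {b} :=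
    hb.2 (isIrreducible_singleton.closure) h1
  have h3 : closure ({a} : Set T) = closure {b} := subset_antisymm h2 h1
  exact ((inseparable_iff_closure_eq).mpr h3).eq

end Top

variable {X Y : Scheme.{u}} (f : X ⟶ Y) [LocallyOfFiniteType f]

/-- quasi-finiteness at `x` in terms of the subspace topology of the fibre. -/
lemma quasiFiniteAt_iff_isOpen_singleton (x : X) :
    f.QuasiFiniteAt x ↔ IsOpen ({⟨x, rfl⟩} : Set (f ⁻¹' {f x})) := by
  rw [Scheme.Hom.quasiFiniteAt_iff_isOpen_singleton_asFiber, ← (f.fiberHomeo (f x)).isOpen_image]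
  simp only [Set.image_singleton, Scheme.Hom.asFiber, Homeomorph.apply_symm_apply]

theorem mem_irreducibleComponents_of_quasiFiniteAt (x : X)
    (hη : closure {f x} ∈ irreducibleComponents Y)
    (h3 : ∀ x' : X, f x' = f x → closure {x'} ∈ irreducibleComponents X → f.QuasiFiniteAt x') :
    closure {x} ∈ irreducibleComponents X := by
  have hZ := isIrreducible_irreducibleComponent (x := x)
  have hZcl := isClosed_irreducibleComponent (x := x)
  obtain ⟨x', hgen⟩ : ∃ x' : X, IsGenericPoint x' (irreducibleComponent x) := by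
    have := hZ.isGenericPoint_genericPoint_closure
    rw [hZcl.closure_eq] at this
    exact ⟨_, this⟩
  have hcomp : closure {x'} ∈ irreducibleComponents X := by
    rw [hgen.def]; exact irreducibleComponent_mem_irreducibleComponents x
  have hspec : x' ⤳ x := by
    rw [specializes_iff_mem_closure, hgen.def]; exact mem_irreducibleComponent
  have hfx' : f x' = f x :=
    eq_of_specializes_of_mem_irreducibleComponents (hspec.map f.continuous) hη
  have hq := h3 x' hfx' hcomp
  have hcl : IsClosed ({⟨x', rfl⟩} : Set (f ⁻¹' {f x'})) := by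
    have := (Scheme.Hom.QuasiFiniteAt.isClopen_singleton_asFiber f hq).1
    rw [← (f.fiberHomeo (f x')).isClosed_image] at this
    simpa only [Set.image_singleton, Scheme.Hom.asFiber, Homeomorph.apply_symm_apply] using this
  have hxmem : x ∈ f ⁻¹' {f x'} := hfx'.symm
  have hmem : (⟨x, hxmem⟩ : f ⁻¹' {f x'}) ∈ closure {⟨x', rfl⟩} := by
    rw [closure_subtype]
    simpa using hspec.mem_closure
  rw [hcl.closure_eq] at hmem
  have hxx' : x = x' := congr_arg Subtype.val hmem
  rw [hxx']; exact hcomp

theorem quasiFiniteAt_of_forall_mem_irreducibleComponents (x : X)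
    (h1 : ∀ x' : X, f x' = f x → closure {x'} ∈ irreducibleComponents X) :
    f.QuasiFiniteAt x := by
  rw [Scheme.Hom.quasiFiniteAt_iff_isOpen_singleton_asFiber]
  -- no nontrivial specializations in the fibre
  have hns : ∀ a b : f.fiber (f x), a ⤳ b → a = b := by
    intro a b hab
    have h2 : f.fiberι (f x) a ⤳ f.fiberι (f x) b := hab.map (f.fiberι (f x)).continuous
    have hb : f (f.fiberι (f x) b) = f x := by
      have : f.fiberι (f x) b ∈ f ⁻¹' {f x} := by
        rw [← Scheme.Hom.range_fiberι]; exact ⟨b, rfl⟩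
      exact this
    have := eq_of_specializes_of_mem_irreducibleComponents h2 (h1 _ hb)
    exact (f.fiberι (f x)).isEmbedding.injective this
  obtain ⟨_, ⟨U, hU', rfl⟩, haU, -⟩ := (f.fiber (f x)).isBasis_affineOpens.exists_subset_of_mem_open
    (Set.mem_univ (f.asFiber x)) isOpen_univ
  have hU : IsAffineOpen U := hU'
  have hNoeth : IsNoetherianRing Γ(f.fiber (f x), U) := by
    have hq : LocallyOfFiniteType (f.fiberToSpecResidueField (f x)) :=
      MorphismProperty.pullback_snd (P := @LocallyOfFiniteType) _ _ inferInstance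
    have hft := HasRingHomProperty.appLE (P := @LocallyOfFiniteType)
      (f.fiberToSpecResidueField (f x)) hq ⟨⊤, isAffineOpen_top _⟩ ⟨U, hU⟩ le_top
    have hN : IsNoetherianRing Γ(Spec (Y.residueField (f x)), ⊤) :=
      isNoetherianRing_of_ringEquiv (Y.residueField (f x))
        (Scheme.ΓSpecIso (Y.residueField (f x))).commRingCatIsoToRingEquiv.symm
    algebraize [((f.fiberToSpecResidueField (f x)).appLE ⊤ U le_top).hom]
    exact Algebra.FiniteType.isNoetherianRing Γ(Spec (Y.residueField (f x)), ⊤) _
  have hdim : Ring.KrullDimLE 0 Γ(f.fiber (f x), U) := by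
    rw [Ring.krullDimLE_zero_iff]
    intro p hp
    obtain ⟨m, hm, hpm⟩ := Ideal.exists_le_maximal p hp.ne_top
    let P : PrimeSpectrum Γ(f.fiber (f x), U) := ⟨p, hp⟩
    let M : PrimeSpectrum Γ(f.fiber (f x), U) := ⟨m, hm.isPrime⟩
    have hPM : P ⤳ M := (PrimeSpectrum.le_iff_specializes P M).mp hpm
    have h3 := hns _ _ (hPM.map hU.fromSpec.continuous)
    have hPM' : P = M := hU.fromSpec.isOpenEmbedding.injective h3
    have hpm' : p = m := congr_arg PrimeSpectrum.asIdeal hPM'
    rwa [hpm']
  have hArt : IsArtinianRing Γ(f.fiber (f x), U) :=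
    isArtinianRing_iff_isNoetherianRing_krullDimLE_zero.mpr ⟨hNoeth, hdim⟩
  let p : Spec Γ(f.fiber (f x), U) := hU.primeIdealOf ⟨_, haU⟩
  have hp : hU.fromSpec p = f.asFiber x := hU.fromSpec_primeIdealOf ⟨_, haU⟩
  have hopen : IsOpen ({p} : Set (Spec Γ(f.fiber (f x), U))) := by
    have : DiscreteTopology (PrimeSpectrum Γ(f.fiber (f x), U)) := inferInstance
    exact @isOpen_discrete (PrimeSpectrum Γ(f.fiber (f x), U)) _ this _
  have h4 := hU.fromSpec.isOpenEmbedding.isOpenMap _ hopen
  rwa [Set.image_singleton, hp] at h4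

end Groth.Agent.Lib.Helper28.QFGen
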