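import Mathlib
import Groth.Prelude

/-!
# Helper library (helper28): sub-lemmas H9, H10 for helper9's S13113
(scheme-theoretic image of `(π, s) : Y ⟶ 𝔸¹_X`).
-/

set_option autoImplicit false
set_option linter.style.haveILetI false
universe u
open CategoryTheory CategoryTheory.Limits AlgebraicGeometry TopologicalSpace
open scoped TensorProduct

namespace Groth.Agent.Lib.Helper28.SemiNormH

theorem fst_comp_toImage_eq {X Y : Scheme.{u}} (π : Y ⟶ X) (s : Γ(Y, ⊤))
    (hs : (pullback.fst π π).appTop s = (pullback.snd π π).appTop s) :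
    pullback.fst π π ≫ (AffineSpace.homOfVector π (fun _ : PUnit.{u+1} => s)).toImage =
      pullback.snd π π ≫ (AffineSpace.homOfVector π (fun _ : PUnit.{u+1} => s)).toImage := by
  rw [← cancel_mono (AffineSpace.homOfVector π (fun _ : PUnit.{u+1} => s)).imageι]
  rw [Category.assoc, Category.assoc, Scheme.Hom.toImage_imageι]
  apply AffineSpace.hom_ext
  · rw [Category.assoc, Category.assoc, AffineSpace.homOfVector_over, pullback.condition]
  · intro i
    rw [Scheme.Hom.comp_appTop, Scheme.Hom.comp_appTop, CommRingCat.comp_apply,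
      CommRingCat.comp_apply, AffineSpace.homOfVector_appTop_coord]
    exact hs

theorem isProper_imageι_comp_and_surjective_toImage {X Y : Scheme.{u}} (π : Y ⟶ X) [IsProper π]
    (s : Γ(Y, ⊤)) :
    IsProper ((AffineSpace.homOfVector π (fun _ : PUnit.{u+1} => s)).imageι ≫
        (𝔸(PUnit.{u+1}; X) ↘ X)) ∧
      Surjective (AffineSpace.homOfVector π (fun _ : PUnit.{u+1} => s)).toImage := by
  have hover : AffineSpace.homOfVector π (fun _ : PUnit.{u+1} => s) ≫ (𝔸(PUnit.{u+1}; X) ↘ X) = π :=
    AffineSpace.homOfVector_over _ _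
  generalize AffineSpace.homOfVector π (fun _ : PUnit.{u+1} => s) = a at hover ⊢
  haveI : IsProper (a ≫ (𝔸(PUnit.{u+1}; X) ↘ X)) := by rw [hover]; infer_instance
  haveI : IsProper a := IsProper.of_comp a (𝔸(PUnit.{u+1}; X) ↘ X)
  haveI : IsProper (a.toImage ≫ a.imageι) := by rw [Scheme.Hom.toImage_imageι]; infer_instance
  haveI : IsProper a.toImage := IsProper.of_comp a.toImage a.imageι
  have hsurj : Surjective a.toImage := by
    constructor
    have hd : DenseRange a.toImage := (inferInstance : IsDominant a.toImage).denseRange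
    have hc : IsClosed (Set.range a.toImage) := a.toImage.isClosedMap.isClosed_range
    rw [← Set.range_eq_univ, ← hc.closure_eq]
    exact hd.closure_range
  refine ⟨?_, hsurj⟩
  haveI := hsurj
  haveI : UniversallyClosed (a.toImage ≫ (a.imageι ≫ (𝔸(PUnit.{u+1}; X) ↘ X))) := by
    rw [← Category.assoc, Scheme.Hom.toImage_imageι, hover]; infer_instance
  haveI : UniversallyClosed (a.imageι ≫ (𝔸(PUnit.{u+1}; X) ↘ X)) :=
    UniversallyClosed.of_comp_surjective a.toImage _
  exact { }

end Groth.Agent.Lib.Helper28.SemiNormH
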