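import Mathlib.LinearAlgebra.FiniteDimensional.Defs
import Mathlib.LinearAlgebra.FiniteDimensional.Basic
import Mathlib.LinearAlgebra.Span.Defs
import Mathlib.LinearAlgebra.Dimension.OrzechProperty
import Mathlib.LinearAlgebra.Dimension.Constructions
import Mathlib.RingTheory.Artinian.Module
import Mathlib.RingTheory.Noetherian.Defs
import Mathlib.Order.Disjoint
import Mathlib.Tactic.LinearCombination
import Mathlib.Tactic.Abel
import Mathlib.LinearAlgebra.Quotient.Basic
import Mathlib.LinearAlgebra.LinearIndependent.Lemmas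
import Mathlib.LinearAlgebra.Basis.Basic
import Mathlib.LinearAlgebra.Dimension.StrongRankCondition
import Mathlib.LinearAlgebra.Dimension.Free
import Mathlib.LinearAlgebra.Finsupp.LinearCombination
import Mathlib.Algebra.BigOperators.Fin
import Mathlib.Algebra.BigOperators.Intervals

/-!
# Semilinear endomorphisms of finite-dimensional vector spaces: Fitting decomposition
-/

set_option autoImplicit false
set_option linter.unusedSectionVars false
universe u v

namespace Groth.Agent.Lib.Helper28.SigmaLin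

variable {k : Type u} [Field k] {σ : k →+* k} {V : Type v} [AddCommGroup V] [Module k V]
  (T : V →ₛₗ[σ] V)

/-- the `k`-span of the image of the `n`-th iterate of `T`. -/
def Vn (n : ℕ) : Submodule k V := Submodule.span k (Set.range ((⇑T)^[n]))

theorem iterate_add (n : ℕ) (x y : V) : (⇑T)^[n] (x + y) = (⇑T)^[n] x + (⇑T)^[n] y := by
  induction n generalizing x y with
  | zero => rfl
  | succ n ih =>
    rw [Function.iterate_succ_apply, Function.iterate_succ_apply, Function.iterate_succ_apply,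
      map_add, ih]

theorem iterate_zero' (n : ℕ) : (⇑T)^[n] 0 = 0 := by
  induction n with
  | zero => rfl
  | succ n ih => rw [Function.iterate_succ_apply, map_zero, ih]

theorem iterate_neg (n : ℕ) (x : V) : (⇑T)^[n] (-x) = -(⇑T)^[n] x := by
  induction n generalizing x with
  | zero => rfl
  | succ n ih =>
    rw [Function.iterate_succ_apply, Function.iterate_succ_apply, map_neg, ih]

theorem iterate_sub (n : ℕ) (x y : V) : (⇑T)^[n] (x - y) = (⇑T)^[n] x - (⇑T)^[n] y := by
  rw [sub_eq_add_neg, iterate_add, iterate_neg, ← sub_eq_add_neg]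

theorem iterate_smul (n : ℕ) (c : k) (x : V) :
    (⇑T)^[n] (c • x) = (⇑σ)^[n] c • (⇑T)^[n] x := by
  induction n generalizing c x with
  | zero => rfl
  | succ n ih =>
    rw [Function.iterate_succ_apply, Function.iterate_succ_apply, Function.iterate_succ_apply,
      LinearMap.map_smulₛₗ, ih]

theorem Vn_succ_le (n : ℕ) : Vn T (n + 1) ≤ Vn T n := by
  unfold Vn
  rw [Submodule.span_le]
  rintro _ ⟨w, rfl⟩
  exact Submodule.subset_span ⟨T w, (Function.iterate_succ_apply _ _ _).symm⟩

theorem Vn_antitone : Antitone (Vn T) := antitone_nat_of_succ_le (Vn_succ_le T)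

theorem map_mem_Vn {n : ℕ} {x : V} (hx : x ∈ Vn T n) : T x ∈ Vn T (n + 1) := by
  unfold Vn at hx ⊢
  induction hx using Submodule.span_induction with
  | mem x hx =>
    obtain ⟨w, rfl⟩ := hx
    exact Submodule.subset_span ⟨w, Function.iterate_succ_apply' _ _ _⟩
  | zero => rw [map_zero]; exact Submodule.zero_mem _
  | add x y _ _ hx hy => rw [map_add]; exact Submodule.add_mem _ hx hy
  | smul c x _ hx => rw [LinearMap.map_smulₛₗ]; exact Submodule.smul_mem _ _ hx

theorem Vn_succ_le_span_image (n : ℕ) : Vn T (n + 1) ≤ Submodule.span k (T '' (Vn T n : Set V)) := by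
  unfold Vn
  rw [Submodule.span_le]
  rintro _ ⟨w, rfl⟩
  exact Submodule.subset_span ⟨(⇑T)^[n] w, Submodule.subset_span ⟨w, rfl⟩,
    (Function.iterate_succ_apply' _ _ _).symm⟩

/-- A semilinear map whose image of a finite-dimensional subspace `W` spans (at least) `W` is
injective on `W`. -/
theorem injOn_of_le_span_image [FiniteDimensional k V] (W : Submodule k V)
    (hW : W ≤ Submodule.span k (T '' (W : Set V))) : Set.InjOn T (W : Set V) := by
  classical
  set d := Module.finrank k W with hd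
  let b : Module.Basis (Fin d) k W := Module.finBasis k W
  let T' : W →ₛₗ[σ] V := T.domRestrict W
  let w : Fin d → V := fun i => T' (b i)
  have hT' : ∀ x : W, T' x = ∑ i, σ (b.repr x i) • w i := by
    intro x
    conv_lhs => rw [← b.sum_repr x]
    rw [map_sum]
    refine Finset.sum_congr rfl fun i _ => ?_
    rw [LinearMap.map_smulₛₗ]
  have hspan : W ≤ Submodule.span k (Set.range w) := by
    refine hW.trans ?_
    rw [Submodule.span_le]
    rintro _ ⟨x, hx, rfl⟩
    have : T x = T' ⟨x, hx⟩ := rfl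
    rw [this, hT']
    exact Submodule.sum_mem _ fun i _ => Submodule.smul_mem _ _ (Submodule.subset_span ⟨i, rfl⟩)
  have hli : LinearIndependent k w := by
    rw [linearIndependent_iff_card_eq_finrank_span, Fintype.card_fin]
    refine le_antisymm ?_ ?_
    · exact Submodule.finrank_mono hspan
    · exact (finrank_range_le_card w).trans_eq (Fintype.card_fin d)
  have hker : ∀ z : W, T' z = 0 → z = 0 := by
    intro z hz
    rw [hT'] at hz
    have h0 := Fintype.linearIndependent_iff.mp hli _ hz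
    have : b.repr z = 0 := by
      ext i
      exact (map_eq_zero_iff σ σ.injective).mp (h0 i)
    exact b.repr.map_eq_zero_iff.mp this
  intro x hx y hy hxy
  have h1 : T' (⟨x, hx⟩ - ⟨y, hy⟩) = 0 := by
    rw [map_sub]
    exact sub_eq_zero.mpr hxy
  have h2 := hker _ h1
  have h3 := congrArg Subtype.val h2
  simpa [sub_eq_zero] using h3

theorem exists_Vn_stable [FiniteDimensional k V] : ∃ N, ∀ m, N ≤ m → Vn T m = Vn T N := by
  obtain ⟨N, hN⟩ := IsArtinian.monotone_stabilizes
    (⟨fun n => OrderDual.toDual (Vn T n), fun a b h => Vn_antitone T h⟩ :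
      ℕ →o (Submodule k V)ᵒᵈ)
  exact ⟨N, fun m hm => (congrArg OrderDual.ofDual (hN m hm)).symm⟩

theorem iInf_Vn_eq {N : ℕ} (hN : ∀ m, N ≤ m → Vn T m = Vn T N) : ⨅ n, Vn T n = Vn T N := by
  refine le_antisymm (iInf_le _ N) (le_iInf fun n => ?_)
  rcases le_total N n with h | h
  · exact (hN n h).ge
  · exact Vn_antitone T h

/-- the statement of S19229 -/
theorem eq_zero_of_iterate_eq_zero [FiniteDimensional k V] (v : V)
    (hnil : ∃ n : ℕ, (⇑T)^[n] v = 0) (hss : ∀ n : ℕ, v ∈ Vn T n) : v = 0 := by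
  obtain ⟨N, hN⟩ := exists_Vn_stable T
  have hW : Vn T N ≤ Submodule.span k (T '' (Vn T N : Set V)) :=
    (hN (N + 1) (Nat.le_succ N)).ge.trans (Vn_succ_le_span_image T N)
  have hmap : ∀ x ∈ Vn T N, T x ∈ Vn T N := fun x hx => hN (N + 1) (Nat.le_succ N) ▸ map_mem_Vn T hx
  have inj := injOn_of_le_span_image T _ hW
  have key : ∀ n : ℕ, ∀ x ∈ Vn T N, (⇑T)^[n] x = 0 → x = 0 := by
    intro n
    induction n with
    | zero => intro x _ hx; exact hx
    | succ n ih =>
      intro x hx h0
      rw [Function.iterate_succ_apply] at h0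
      have h1 := ih (T x) (hmap x hx) h0
      exact inj hx (Submodule.zero_mem _) (h1.trans (map_zero T).symm)
  obtain ⟨n, hn⟩ := hnil
  exact key n v (hss N) hn

/-! ### Surjective `σ`: Fitting decomposition -/

/-- kernel of the `n`-th iterate, as a subspace. -/
def Kn (n : ℕ) : Submodule k V where
  carrier := {v | (⇑T)^[n] v = 0}
  add_mem' := fun {a b} ha hb => by
    show (⇑T)^[n] (a + b) = 0
    rw [iterate_add, ha, hb, add_zero]
  zero_mem' := iterate_zero' T n
  smul_mem' := fun c x hx => by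
    show (⇑T)^[n] (c • x) = 0
    rw [iterate_smul, hx, smul_zero]

theorem mem_Kn {n : ℕ} {v : V} : v ∈ Kn T n ↔ (⇑T)^[n] v = 0 := Iff.rfl

theorem Kn_mono : Monotone (Kn T) := monotone_nat_of_le_succ fun n v hv => by
  rw [mem_Kn] at hv ⊢
  rw [Function.iterate_succ_apply', hv, map_zero]

theorem exists_Kn_stable [FiniteDimensional k V] : ∃ M, ∀ m, M ≤ m → Kn T m = Kn T M := by
  obtain ⟨M, hM⟩ := monotone_stabilizes_iff_noetherian.mpr (inferInstance : IsNoetherian k V)
    (⟨Kn T, Kn_mono T⟩ : ℕ →o Submodule k V)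
  exact ⟨M, fun m hm => (hM m hm).symm⟩

theorem surjOn_of_le_span_image (hσ : Function.Surjective σ) (W : Submodule k V)
    (hW : W ≤ Submodule.span k (T '' (W : Set V))) : Set.SurjOn T (W : Set V) (W : Set V) := by
  let S : Submodule k V :=
    { carrier := T '' (W : Set V)
      add_mem' := by
        rintro _ _ ⟨x, hx, rfl⟩ ⟨y, hy, rfl⟩
        exact ⟨x + y, W.add_mem hx hy, map_add T x y⟩
      zero_mem' := ⟨0, W.zero_mem, map_zero T⟩
      smul_mem' := by
        rintro c _ ⟨x, hx, rfl⟩
        obtain ⟨c', rfl⟩ := hσ c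
        exact ⟨c' • x, W.smul_mem c' hx, LinearMap.map_smulₛₗ T c' x⟩ }
  have h : Submodule.span k (T '' (W : Set V)) ≤ S := Submodule.span_le.mpr (fun x hx => hx)
  exact fun x hx => h (hW hx)

theorem surjOn_iterate {s : Set V} {f : V → V} (h : Set.SurjOn f s s) (n : ℕ) :
    Set.SurjOn f^[n] s s := by
  induction n with
  | zero => exact fun x hx => ⟨x, hx, rfl⟩
  | succ n ih =>
    intro x hx
    obtain ⟨y, hy, rfl⟩ := ih hx
    obtain ⟨z, hz, rfl⟩ := h hy
    exact ⟨z, hz, Function.iterate_succ_apply _ _ _⟩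

/-- the statement of S19230 -/
theorem fitting [FiniteDimensional k V] (hσ : Function.Surjective σ) :
    (∃ W : Submodule k V, (W : Set V) = {v : V | ∃ n : ℕ, (⇑T)^[n] v = 0} ∧
      (∃ N : ℕ, ∀ v ∈ W, (⇑T)^[N] v = 0) ∧
      IsCompl W (⨅ n : ℕ, Vn T n)) ∧
    Set.BijOn (⇑T) (⋂ n : ℕ, (Vn T n : Set V)) (⋂ n : ℕ, (Vn T n : Set V)) := by
  obtain ⟨N, hN⟩ := exists_Vn_stable T
  obtain ⟨M, hM⟩ := exists_Kn_stable T
  have hinf := iInf_Vn_eq T hN
  have hW : Vn T N ≤ Submodule.span k (T '' (Vn T N : Set V)) :=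
    (hN (N + 1) (Nat.le_succ N)).ge.trans (Vn_succ_le_span_image T N)
  have hmap : ∀ x ∈ Vn T N, T x ∈ Vn T N := fun x hx => hN (N + 1) (Nat.le_succ N) ▸ map_mem_Vn T hx
  have inj := injOn_of_le_span_image T _ hW
  have surj := surjOn_of_le_span_image T hσ _ hW
  refine ⟨⟨Kn T M, ?_, ⟨M, fun v hv => hv⟩, ⟨?_, ?_⟩⟩, ?_⟩
  · ext v
    constructor
    · intro hv
      exact ⟨M, hv⟩
    · rintro ⟨n, hn⟩
      have h1 : v ∈ Kn T (max n M) := Kn_mono T (le_max_left n M) hn
      rw [hM _ (le_max_right n M)] at h1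
      exact h1
  · rw [Submodule.disjoint_def]
    intro x hx hx'
    exact eq_zero_of_iterate_eq_zero T x ⟨M, hx⟩ fun n => (iInf_le (Vn T) n) hx'
  · rw [Submodule.codisjoint_iff_exists_add_eq]
    intro v
    set L := max M N with hL
    have h1 : (⇑T)^[L] v ∈ Vn T N := by
      rw [← hN L (le_max_right M N)]
      exact Submodule.subset_span ⟨v, rfl⟩
    obtain ⟨w, hw, hwv⟩ := surjOn_iterate surj L h1
    refine ⟨v - w, w, ?_, hinf ▸ hw, sub_add_cancel v w⟩
    rw [← hM L (le_max_left M N), mem_Kn, iterate_sub, hwv, sub_self]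
  · have h2 : (⋂ n : ℕ, (Vn T n : Set V)) = (Vn T N : Set V) := by
      rw [← Submodule.coe_iInf, hinf]
    rw [h2]
    exact ⟨hmap, inj, surj⟩

/-! ### Fixed vectors -/

/-- the solvability hypothesis (i) on `σ`. -/
def Solv (σ : k →+* k) : Prop :=
  ∀ (n : ℕ) (b : Fin (n + 1) → k), b ≠ 0 →
      ∃ x : k, x ≠ 0 ∧ x = ∑ i : Fin (n + 1), (⇑σ)^[i.val + 1] x * (⇑σ)^[i.val] (b (Fin.rev i))

/-- the statement of S19232 -/
theorem exists_fixed_mem_span_orbit [FiniteDimensional k V] (h2 : Solv σ)
    (e : V) (he : ∀ m : ℕ, (⇑T)^[m] e ≠ 0) :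
    ∃ v ∈ Submodule.span k (Set.range (fun m : ℕ => (⇑T)^[m] e)), v ≠ 0 ∧ T v = v := by
  classical
  set E : ℕ → V := fun m => (⇑T)^[m] e with hE
  have hTE : ∀ m, T (E m) = E (m + 1) := fun m => (Function.iterate_succ_apply' _ _ _).symm
  let P : ℕ → Prop := fun n => E (n + 1) ∈ Submodule.span k (Set.range (fun i : Fin (n + 1) => E i))
  have hex : ∃ n, P n := by
    have hmono : Monotone (fun n : ℕ => Submodule.span k (Set.range (fun i : Fin (n + 1) => E i))) := by
      refine monotone_nat_of_le_succ fun n => Submodule.span_mono ?_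
      rintro _ ⟨i, rfl⟩
      exact ⟨⟨i.1, by omega⟩, rfl⟩
    obtain ⟨n, hn⟩ := monotone_stabilizes_iff_noetherian.mpr (inferInstance : IsNoetherian k V)
      (⟨_, hmono⟩ : ℕ →o Submodule k V)
    refine ⟨n, ?_⟩
    have h1 := hn (n + 1) (Nat.le_succ n)
    change Submodule.span k (Set.range (fun i : Fin (n + 1) => E i)) =
      Submodule.span k (Set.range (fun i : Fin (n + 1 + 1) => E i)) at h1
    change E (n + 1) ∈ Submodule.span k (Set.range (fun i : Fin (n + 1) => E i))
    rw [h1]
    exact Submodule.subset_span ⟨⟨n + 1, by omega⟩, rfl⟩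
  set n := Nat.find hex with hn
  have hPn : P n := Nat.find_spec hex
  have hmin : ∀ m, m < n → ¬ P m := fun m hm => Nat.find_min hex hm
  obtain ⟨a, ha⟩ := (Submodule.mem_span_range_iff_exists_fun k).mp hPn
  have ha0 : a ≠ 0 := by
    rintro rfl
    apply he (n + 1)
    change E (n + 1) = 0
    rw [← ha]
    simp
  obtain ⟨y, hy0, hy⟩ := h2 n a ha0
  -- extend `a` to `ℕ`
  let a' : ℕ → k := fun i => if h : i < n + 1 then a ⟨i, h⟩ else 0
  have ha' : E (n + 1) = ∑ i ∈ Finset.range (n + 1), a' i • E i := by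
    rw [← ha, ← Fin.sum_univ_eq_sum_range (fun i => a' i • E i) (n + 1)]
    refine Finset.sum_congr rfl fun i _ => ?_
    simp only [a', dif_pos i.isLt]
  -- the coefficients of the fixed vector
  let x : ℕ → k := fun i => Nat.rec (σ y * a' 0) (fun i xi => σ xi + σ y * a' (i + 1)) i
  have hx0 : x 0 = σ y * a' 0 := rfl
  have hxs : ∀ i, x (i + 1) = σ (x i) + σ y * a' (i + 1) := fun i => rfl
  have hclosed : ∀ i, x i = ∑ l ∈ Finset.range (i + 1),
      (⇑σ)^[i - l + 1] y * (⇑σ)^[i - l] (a' l) := by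
    intro i
    induction i with
    | zero => simp [hx0]
    | succ i ih =>
      rw [hxs, ih, Finset.sum_range_succ _ (i + 1), map_sum]
      congr 1
      · refine Finset.sum_congr rfl fun l hl => ?_
        rw [Finset.mem_range] at hl
        have h1 : i + 1 - l = (i - l) + 1 := by omega
        rw [h1, map_mul, ← Function.iterate_succ_apply' (⇑σ), ← Function.iterate_succ_apply' (⇑σ)]
      · simp
  have hxn : x n = y := by
    rw [hclosed n]
    conv_rhs => rw [hy]
    rw [← Finset.sum_range_reflect]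
    rw [← Fin.sum_univ_eq_sum_range
      (fun j => (⇑σ)^[n - (n + 1 - 1 - j) + 1] y * (⇑σ)^[n - (n + 1 - 1 - j)] (a' (n + 1 - 1 - j)))
      (n + 1)]
    refine Finset.sum_congr rfl fun i _ => ?_
    have hi := i.isLt
    have h1 : n - (n + 1 - 1 - i.val) = i.val := by omega
    have h2' : n + 1 - 1 - i.val < n + 1 := by omega
    rw [h1]
    congr 2
    simp only [a', dif_pos h2']
    congr 1
    exact Fin.ext (by simp [Fin.rev])
  let v : V := ∑ i ∈ Finset.range (n + 1), x i • E i
  have hv0 : v ≠ 0 := by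
    intro hv
    change ∑ i ∈ Finset.range (n + 1), x i • E i = 0 at hv
    rw [Finset.sum_range_succ, hxn] at hv
    have h1 : E n = -(y⁻¹ • ∑ i ∈ Finset.range n, x i • E i) := by
      have h3 : y • E n = -∑ i ∈ Finset.range n, x i • E i := by
        rw [eq_neg_iff_add_eq_zero, add_comm]; exact hv
      rw [← smul_neg, ← h3, smul_smul, inv_mul_cancel₀ hy0, one_smul]
    rcases Nat.eq_zero_or_pos n with h0 | hpos
    · rw [h0] at h1
      simp only [Finset.range_zero, Finset.sum_empty, smul_zero, neg_zero] at h1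
      exact he 0 h1
    · obtain ⟨m, hm⟩ : ∃ m, n = m + 1 := ⟨n - 1, by omega⟩
      apply hmin m (by omega)
      change E (m + 1) ∈ Submodule.span k (Set.range (fun i : Fin (m + 1) => E i))
      rw [← hm, h1]
      refine Submodule.neg_mem _ (Submodule.smul_mem _ _ (Submodule.sum_mem _ fun i hi => ?_))
      rw [Finset.mem_range] at hi
      exact Submodule.smul_mem _ _ (Submodule.subset_span ⟨⟨i, by omega⟩, rfl⟩)
  refine ⟨v, ?_, hv0, ?_⟩
  · exact Submodule.sum_mem _ fun i _ => Submodule.smul_mem _ _ (Submodule.subset_span ⟨i, rfl⟩)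
  · change T (∑ i ∈ Finset.range (n + 1), x i • E i) = ∑ i ∈ Finset.range (n + 1), x i • E i
    rw [map_sum]
    simp_rw [LinearMap.map_smulₛₗ, hTE]
    rw [Finset.sum_range_succ, hxn, ha', Finset.sum_range_succ' (fun i => a' i • E i),
      Finset.sum_range_succ' (fun i => x i • E i), hx0, smul_add, Finset.smul_sum, ← add_assoc,
      ← Finset.sum_add_distrib, mul_smul]
    congr 1
    refine Finset.sum_congr rfl fun i _ => ?_
    rw [hxs, add_smul, mul_smul]

/-- the Artin–Schreier type hypothesis (ii) on `σ`. -/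
def AS (σ : k →+* k) : Prop := ∀ c : k, ∃ y : k, σ y - y + c = 0

/-- the span of the fixed vectors is `T`-stable. -/
theorem map_mem_span_fixed {x : V} (hx : x ∈ Submodule.span k {v : V | T v = v}) :
    T x ∈ Submodule.span k {v : V | T v = v} := by
  induction hx using Submodule.span_induction with
  | mem x hx => rw [show T x = x from hx]; exact Submodule.subset_span hx
  | zero => rw [map_zero]; exact Submodule.zero_mem _
  | add x y _ _ hx hy => rw [map_add]; exact Submodule.add_mem _ hx hy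
  | smul c x _ hx => rw [LinearMap.map_smulₛₗ]; exact Submodule.smul_mem _ _ hx

/-- `1 - T` is surjective on the span of the fixed vectors. -/
theorem exists_sub_eq_of_mem_span_fixed (h3 : AS σ) {w : V}
    (hw : w ∈ Submodule.span k {v : V | T v = v}) :
    ∃ z ∈ Submodule.span k {v : V | T v = v}, z - T z = w := by
  have key : ∀ c : k, ∃ z ∈ Submodule.span k {v : V | T v = v}, z - T z = c • w := by
    induction hw using Submodule.span_induction with
    | mem f hf =>
      intro c
      obtain ⟨y, hy⟩ := h3 (-c)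
      refine ⟨(-y) • f, Submodule.smul_mem _ _ (Submodule.subset_span hf), ?_⟩
      rw [LinearMap.map_smulₛₗ, show T f = f from hf, ← sub_smul]
      congr 1
      rw [map_neg]
      linear_combination hy
    | zero => intro c; exact ⟨0, Submodule.zero_mem _, by simp⟩
    | add x y _ _ hx hy =>
      intro c
      obtain ⟨z₁, hz₁, h₁⟩ := hx c
      obtain ⟨z₂, hz₂, h₂⟩ := hy c
      refine ⟨z₁ + z₂, Submodule.add_mem _ hz₁ hz₂, ?_⟩
      rw [map_add, smul_add, ← h₁, ← h₂]
      abel
    | smul a x _ hx =>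
      intro c
      obtain ⟨z, hz, h⟩ := hx (c * a)
      exact ⟨z, hz, by rw [h, mul_smul]⟩
  simpa using key 1

theorem span_fixed_eq_top [FiniteDimensional k V]
    (h1 : Submodule.span k (Set.range ⇑T) = ⊤) (h2 : Solv σ) (h3 : AS σ) :
    Submodule.span k {v : V | T v = v} = ⊤ := by
  classical
  set U : Submodule k V := Submodule.span k {v : V | T v = v} with hU
  by_contra hne
  have hUT : U ≤ U.comap T := fun x hx => map_mem_span_fixed T hx
  let Tq : (V ⧸ U) →ₛₗ[σ] (V ⧸ U) := U.mapQ U T hUT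
  have hTq : ∀ v : V, Tq (U.mkQ v) = U.mkQ (T v) := fun v => rfl
  have hspan : (⊤ : Submodule k (V ⧸ U)) ≤ Submodule.span k (Tq '' ((⊤ : Submodule k (V ⧸ U)) : Set (V ⧸ U))) := by
    rintro x -
    obtain ⟨v, rfl⟩ := U.mkQ_surjective x
    have hv : v ∈ Submodule.span k (Set.range ⇑T) := h1 ▸ Submodule.mem_top
    induction hv using Submodule.span_induction with
    | mem v hv =>
      obtain ⟨w, rfl⟩ := hv
      exact Submodule.subset_span ⟨U.mkQ w, Submodule.mem_top, hTq w⟩
    | zero => rw [map_zero]; exact Submodule.zero_mem _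
    | add x y _ _ hx hy => rw [map_add]; exact Submodule.add_mem _ hx hy
    | smul c x _ hx => rw [map_smul]; exact Submodule.smul_mem _ _ hx
  have hinj : Function.Injective Tq := by
    have := injOn_of_le_span_image Tq ⊤ hspan
    intro x y hxy
    exact this Submodule.mem_top Submodule.mem_top hxy
  obtain ⟨ebar, hebar⟩ : ∃ x : V ⧸ U, x ≠ 0 := by
    by_contra hall
    simp only [not_exists, not_not] at hall
    apply hne
    rw [eq_top_iff]
    intro v _
    exact (Submodule.Quotient.mk_eq_zero U).mp (hall (U.mkQ v))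
  have hiter : ∀ m : ℕ, (⇑Tq)^[m] ebar ≠ 0 := by
    intro m h0
    apply hebar
    apply hinj.iterate m
    rw [h0, iterate_zero']
  obtain ⟨vbar, -, hvbar0, hvbar⟩ := exists_fixed_mem_span_orbit Tq h2 ebar hiter
  obtain ⟨u, rfl⟩ := U.mkQ_surjective vbar
  have h4 : T u - u ∈ U := by
    rw [← Submodule.Quotient.mk_eq_zero U, Submodule.Quotient.mk_sub]
    exact sub_eq_zero.mpr hvbar
  obtain ⟨z, hz, hzw⟩ := exists_sub_eq_of_mem_span_fixed T h3 h4
  have h5 : T (u + z) = u + z := by
    rw [map_add]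
    have : T u + T z = u + z := by
      have h6 : z - T z = T u - u := hzw
      have h7 : T u + T z = (T u - u) - (z - T z) + (u + z) := by abel
      rw [h7, h6, sub_self, zero_add]
    exact this
  have h6 : u + z ∈ U := Submodule.subset_span h5
  have h7 : u ∈ U := by
    have := U.sub_mem h6 hz
    rwa [add_sub_cancel_right] at this
  exact hvbar0 ((Submodule.Quotient.mk_eq_zero U).mpr h7)

/-- the statement of S19233 -/
theorem exists_basis_fixed [FiniteDimensional k V]
    (h1 : Submodule.span k (Set.range ⇑T) = ⊤) (h2 : Solv σ) (h3 : AS σ) :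
    (∃ b : Module.Basis (Fin (Module.finrank k V)) k V, ∀ i, T (b i) = b i) ∧
    Function.Surjective (fun v : V => v - T v) := by
  classical
  have hspan := span_fixed_eq_top T h1 h2 h3
  refine ⟨?_, ?_⟩
  · obtain ⟨b, hbF, hbspan, hbli⟩ := exists_linearIndependent k {v : V | T v = v}
    let B : Module.Basis b k V := Module.Basis.mk hbli (by
      rw [Subtype.range_coe, hbspan, hspan])
    have : Finite b := Module.Finite.finite_basis B
    let _ : Fintype b := Fintype.ofFinite b
    let e : b ≃ Fin (Module.finrank k V) :=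
      Fintype.equivFinOfCardEq (Module.finrank_eq_card_basis B).symm
    refine ⟨B.reindex e, fun i => ?_⟩
    rw [Module.Basis.reindex_apply, Module.Basis.mk_apply]
    exact hbF (e.symm i).2
  · intro w
    obtain ⟨z, -, hz⟩ := exists_sub_eq_of_mem_span_fixed T h3
      (hspan ▸ Submodule.mem_top : w ∈ Submodule.span k {v : V | T v = v})
    exact ⟨z, hz⟩

/-- the statement of S19234 -/
theorem surjective_and_basis [FiniteDimensional k V] (hσ : Function.Surjective σ)
    (h2 : Solv σ) (h3 : AS σ) :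
    Function.Surjective (fun v : V => v - T v) ∧
    ∃ b : Module.Basis (Fin (Module.finrank k ↥(⨅ n : ℕ, Vn T n))) k ↥(⨅ n : ℕ, Vn T n),
      ∀ i, T (b i : V) = (b i : V) := by
  classical
  obtain ⟨⟨K, hKset, ⟨N, hKN⟩, hcompl⟩, hbij⟩ := fitting T hσ
  set W : Submodule k V := ⨅ n : ℕ, Vn T n with hWdef
  have hWset : (⋂ n : ℕ, (Vn T n : Set V)) = (W : Set V) := by
    rw [hWdef, Submodule.coe_iInf]
  rw [hWset] at hbij
  have hmapW : ∀ x ∈ W, T x ∈ W := fun x hx => hbij.mapsTo hx
  let TW : W →ₛₗ[σ] W := (T.domRestrict W).codRestrict W (fun x => hmapW x x.2)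
  have hTW : ∀ x : W, (TW x : V) = T (x : V) := fun x => rfl
  have h1 : Submodule.span k (Set.range ⇑TW) = ⊤ := by
    rw [eq_top_iff]
    rintro ⟨y, hy⟩ -
    obtain ⟨x, hx, hxy⟩ := hbij.surjOn hy
    exact Submodule.subset_span ⟨⟨x, hx⟩, Subtype.ext hxy⟩
  obtain ⟨⟨b, hb⟩, hsurjW⟩ := exists_basis_fixed TW h1 h2 h3
  refine ⟨?_, b, fun i => ?_⟩
  · intro v
    obtain ⟨a, w, ha, hw, rfl⟩ := Submodule.codisjoint_iff_exists_add_eq.mp hcompl.codisjoint v
    obtain ⟨zw, hzw⟩ := hsurjW ⟨w, hw⟩
    have hzw' : (zw : V) - T (zw : V) = w := congrArg Subtype.val hzw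
    refine ⟨(∑ i ∈ Finset.range N, (⇑T)^[i] a) + (zw : V), ?_⟩
    change (∑ i ∈ Finset.range N, (⇑T)^[i] a) + (zw : V) -
      T ((∑ i ∈ Finset.range N, (⇑T)^[i] a) + (zw : V)) = a + w
    rw [map_add, map_sum, add_sub_add_comm, hzw']
    congr 1
    simp_rw [← Function.iterate_succ_apply' (⇑T)]
    rw [← Finset.sum_sub_distrib, Finset.sum_range_sub' (fun i => (⇑T)^[i] a) N, hKN a ha]
    simp
  · have := congrArg Subtype.val (hb i)
    rwa [hTW] at this

end Groth.Agent.Lib.Helper28.SigmaLin
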