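import Groth.Agent.Lib.Helper28.SigmaLin
import Mathlib.FieldTheory.IsAlgClosed.Basic
import Mathlib.FieldTheory.Perfect
import Mathlib.Algebra.Polynomial.RingDivision
import Mathlib.Algebra.Polynomial.Roots

/-!
# The solvability hypotheses for Frobenius and its inverse on an algebraically closed field
-/

set_option autoImplicit false
set_option linter.unusedSectionVars false
set_option linter.unusedSimpArgs false
universe u

namespace Groth.Agent.Lib.Helper28.SigmaLin

open Polynomial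

variable {k : Type u} [Field k] [IsAlgClosed k]

theorem exists_ne_zero_root (P : k[X]) (i j : ℕ) (hij : i ≠ j)
    (hi : P.coeff i ≠ 0) (hj : P.coeff j ≠ 0) : ∃ z : k, z ≠ 0 ∧ P.eval z = 0 := by
  have hP : P ≠ 0 := by
    rintro rfl
    simp at hi
  obtain ⟨Q, hPQ, hQ⟩ := exists_eq_pow_rootMultiplicity_mul_and_not_dvd P hP 0
  set m := rootMultiplicity 0 P
  simp only [map_zero, sub_zero] at hPQ hQ
  have hQ0 : Q.eval 0 ≠ 0 := by
    intro h
    apply hQ
    rw [X_dvd_iff, coeff_zero_eq_eval_zero]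
    exact h
  by_cases hdeg : Q.degree = 0
  · exfalso
    have hq : Q = C (Q.coeff 0) := eq_C_of_degree_eq_zero hdeg
    have hc : ∀ l, P.coeff l ≠ 0 → l = m := by
      intro l hl
      rw [hPQ, hq, coeff_X_pow_mul', coeff_C] at hl
      by_contra hne
      apply hl
      split_ifs with h1 h2
      · exfalso; omega
      · rfl
      · rfl
    exact hij ((hc i hi).trans (hc j hj).symm)
  · obtain ⟨z, hz⟩ := IsAlgClosed.exists_root Q hdeg
    refine ⟨z, ?_, ?_⟩
    · rintro rfl
      exact hQ0 hz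
    · rw [hPQ, eval_mul, hz, mul_zero]

variable (p : ℕ) [hp : Fact p.Prime] (σ : k →+* k)

theorem iterate_frobInv_pow (hσ : ∀ y, σ (y ^ p) = y) (m : ℕ) (y : k) :
    (⇑σ)^[m] (y ^ p ^ m) = y := by
  induction m generalizing y with
  | zero => simp
  | succ m ih =>
    rw [Function.iterate_succ_apply, pow_succ, pow_mul, hσ, ih]

theorem iterate_frob (hσ : ∀ y, σ y = y ^ p) (m : ℕ) (y : k) :
    (⇑σ)^[m] y = y ^ p ^ m := by
  induction m generalizing y with
  | zero => simp
  | succ m ih =>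
    rw [Function.iterate_succ_apply, hσ, ih, ← pow_mul, ← pow_succ']

theorem as_of_frobInv (hσ : ∀ y, σ (y ^ p) = y) : AS σ := by
  intro c
  have hp1 : p ≠ 1 := hp.out.ne_one
  have hp0 : p ≠ 0 := hp.out.ne_zero
  obtain ⟨w, -, hw⟩ := exists_ne_zero_root (X ^ p - X - C c : k[X]) p 1 hp1
    (by simp [coeff_X_pow, coeff_X, coeff_C, hp1.symm, hp0])
    (by simp [coeff_X_pow, coeff_X, coeff_C, hp1.symm])
  simp only [eval_sub, eval_pow, eval_X, eval_C] at hw
  refine ⟨w ^ p, ?_⟩
  rw [hσ]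
  linear_combination -hw

theorem as_of_frob (hσ : ∀ y, σ y = y ^ p) : AS σ := by
  intro c
  have hp1 : p ≠ 1 := hp.out.ne_one
  have hp0 : p ≠ 0 := hp.out.ne_zero
  obtain ⟨w, -, hw⟩ := exists_ne_zero_root (X ^ p - X + C c : k[X]) p 1 hp1
    (by simp [coeff_X_pow, coeff_X, coeff_C, hp1.symm, hp0])
    (by simp [coeff_X_pow, coeff_X, coeff_C, hp1.symm])
  simp only [eval_sub, eval_add, eval_pow, eval_X, eval_C] at hw
  refine ⟨w, ?_⟩
  rw [hσ]
  exact hw

theorem solv_of_frobInv (hσ : ∀ y, σ (y ^ p) = y) : Solv σ := by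
  classical
  intro n b hb
  have hp2 : 1 < p := hp.out.one_lt
  have hinj : ∀ m : ℕ, Function.Injective (⇑σ)^[m] := fun m => σ.injective.iterate m
  obtain ⟨j₀, hj₀⟩ := Function.ne_iff.mp hb
  set c : Fin (n + 1) → k := fun i => (⇑σ)^[i.val] (b (Fin.rev i)) with hc
  have hc0 : c (Fin.rev j₀) ≠ 0 := by
    simp only [hc, Fin.rev_rev]
    intro h
    apply hj₀
    have := hinj (Fin.rev j₀).val (h.trans (iterate_map_zero σ _).symm)
    simpa using this
  set P : k[X] := X ^ (p ^ (n + 1)) - ∑ i : Fin (n + 1), C (c i) * X ^ (p ^ (n - i.val)) with hP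
  have hcoefX : ∀ l : ℕ, P.coeff l = (if l = p ^ (n + 1) then 1 else 0) -
      ∑ i : Fin (n + 1), if l = p ^ (n - i.val) then c i else 0 := by
    intro l
    rw [hP, coeff_sub, coeff_X_pow, finsetSum_coeff]
    congr 1
    refine Finset.sum_congr rfl fun i _ => ?_
    rw [coeff_C_mul, coeff_X_pow, mul_ite, mul_one, mul_zero]
  have hlt : ∀ i : Fin (n + 1), p ^ (n - i.val) < p ^ (n + 1) := fun i =>
    Nat.pow_lt_pow_right hp2 (by omega)
  have h1 : P.coeff (p ^ (n + 1)) ≠ 0 := by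
    rw [hcoefX, if_pos rfl, Finset.sum_eq_zero, sub_zero]
    · exact one_ne_zero
    · intro i _
      rw [if_neg (hlt i).ne']
  have h2 : P.coeff (p ^ (n - (Fin.rev j₀).val)) ≠ 0 := by
    rw [hcoefX, if_neg (hlt _).ne, zero_sub, neg_ne_zero, Finset.sum_eq_single (Fin.rev j₀)]
    · rw [if_pos rfl]
      exact hc0
    · intro i _ hi
      rw [if_neg]
      intro h
      have h3 := Nat.pow_right_injective hp2 h
      have hi1 := i.isLt
      have hi2 := (Fin.rev j₀).isLt
      exact hi (Fin.ext (by omega)).symm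
    · intro h
      exact absurd (Finset.mem_univ _) h
  obtain ⟨z, hz0, hz⟩ := exists_ne_zero_root P _ _ (hlt (Fin.rev j₀)).ne' h1 h2
  simp only [hP, eval_sub, eval_pow, eval_X, eval_finsetSum, eval_mul, eval_C] at hz
  refine ⟨z ^ p ^ (n + 1), pow_ne_zero _ hz0, ?_⟩
  have hx : ∀ i : Fin (n + 1), (⇑σ)^[i.val + 1] (z ^ p ^ (n + 1)) = z ^ p ^ (n - i.val) := by
    intro i
    have hi1 := i.isLt
    have h3 : z ^ p ^ (n + 1) = (z ^ p ^ (n - i.val)) ^ p ^ (i.val + 1) := by
      rw [← pow_mul, ← pow_add]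
      congr 2
      omega
    rw [h3, iterate_frobInv_pow p σ hσ]
  rw [sub_eq_zero] at hz
  rw [hz]
  refine Finset.sum_congr rfl fun i _ => ?_
  rw [← hz, hx i, mul_comm]

theorem solv_of_frob (hσ : ∀ y, σ y = y ^ p) : Solv σ := by
  classical
  intro n b hb
  have hp2 : 1 < p := hp.out.one_lt
  have hinj : ∀ m : ℕ, Function.Injective (⇑σ)^[m] := fun m => σ.injective.iterate m
  obtain ⟨j₀, hj₀⟩ := Function.ne_iff.mp hb
  set c : Fin (n + 1) → k := fun i => (⇑σ)^[i.val] (b (Fin.rev i)) with hc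
  have hc0 : c (Fin.rev j₀) ≠ 0 := by
    simp only [hc, Fin.rev_rev]
    intro h
    apply hj₀
    have := hinj (Fin.rev j₀).val (h.trans (iterate_map_zero σ _).symm)
    simpa using this
  set P : k[X] := (∑ i : Fin (n + 1), C (c i) * X ^ (p ^ (i.val + 1))) - X with hP
  have hcoefX : ∀ l : ℕ, P.coeff l =
      (∑ i : Fin (n + 1), if l = p ^ (i.val + 1) then c i else 0) - (if 1 = l then 1 else 0) := by
    intro l
    rw [hP, coeff_sub, coeff_X, finsetSum_coeff]
    congr 1
    refine Finset.sum_congr rfl fun i _ => ?_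
    rw [coeff_C_mul, coeff_X_pow, mul_ite, mul_one, mul_zero]
  have hlt : ∀ i : Fin (n + 1), 1 < p ^ (i.val + 1) := fun i =>
    Nat.one_lt_pow (by omega) hp2
  have h1 : P.coeff 1 ≠ 0 := by
    rw [hcoefX, if_pos rfl, Finset.sum_eq_zero, zero_sub, neg_ne_zero]
    · exact one_ne_zero
    · intro i _
      rw [if_neg (hlt i).ne]
  have h2 : P.coeff (p ^ ((Fin.rev j₀).val + 1)) ≠ 0 := by
    rw [hcoefX, if_neg (hlt _).ne, sub_zero, Finset.sum_eq_single (Fin.rev j₀)]
    · rw [if_pos rfl]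
      exact hc0
    · intro i _ hi
      rw [if_neg]
      intro h
      have h3 := Nat.pow_right_injective hp2 h
      exact hi (Fin.ext (by omega)).symm
    · intro h
      exact absurd (Finset.mem_univ _) h
  obtain ⟨z, hz0, hz⟩ := exists_ne_zero_root P _ _ (hlt (Fin.rev j₀)).ne h1 h2
  simp only [hP, eval_sub, eval_pow, eval_X, eval_finsetSum, eval_mul, eval_C] at hz
  refine ⟨z, hz0, ?_⟩
  rw [sub_eq_zero] at hz
  rw [← hz]
  refine Finset.sum_congr rfl fun i _ => ?_
  rw [hz, iterate_frob p σ hσ, mul_comm]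

end Groth.Agent.Lib.Helper28.SigmaLin
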