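import Groth.Agent.Lib.Helper28.SigmaLin
import Mathlib.RingTheory.LocalRing.ResidueField.Defs
import Mathlib.RingTheory.LocalRing.ResidueField.Basic
import Mathlib.Algebra.Module.Torsion.Basic
import Mathlib.RingTheory.Ideal.Operations
import Mathlib.RingTheory.Finiteness.Basic
import Mathlib.RingTheory.Finiteness.Ideal
import Mathlib.RingTheory.Finiteness.Finsupp
import Mathlib.Algebra.Ring.Subring.Basic

/-!
# Semilinear endomorphisms over a local ring with principal nilpotent maximal ideal
-/

set_option autoImplicit false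
set_option linter.unusedSectionVars false
universe u v

namespace Groth.Agent.Lib.Helper28.SigmaLin

open IsLocalRing

section Local

variable (p : ℕ) {R : Type u} [CommRing R] [IsLocalRing R]
  (hmax : maximalIdeal R = Ideal.span {(p : R)})
  (σ : R →+* R) (σbar : ResidueField R →+* ResidueField R)
  (hσbar : ∀ r : R, σbar (residue R r) = residue R (σ r))
  {M : Type v} [AddCommGroup M] [Module R M] (T : M →ₛₗ[σ] M)

include hmax in
theorem map_mem_max (a : R) (ha : a ∈ maximalIdeal R) : σ a ∈ maximalIdeal R := by
  rw [hmax, Ideal.mem_span_singleton'] at ha ⊢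
  obtain ⟨r, rfl⟩ := ha
  exact ⟨σ r, by rw [map_mul, map_natCast]⟩

include hmax in
theorem map_mem_smul_top {x : M} (hx : x ∈ maximalIdeal R • (⊤ : Submodule R M)) :
    T x ∈ maximalIdeal R • (⊤ : Submodule R M) := by
  refine Submodule.smul_induction_on hx ?_ ?_
  · intro a ha m _
    rw [LinearMap.map_smulₛₗ]
    exact Submodule.smul_mem_smul (map_mem_max p hmax σ a ha) Submodule.mem_top
  · intro x y hx hy
    rw [map_add]
    exact Submodule.add_mem _ hx hy

/-- the induced `σ`-semilinear map on `M / 𝔪 M` (over `R`). -/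
noncomputable def TQ : (M ⧸ maximalIdeal R • (⊤ : Submodule R M)) →ₛₗ[σ]
    (M ⧸ maximalIdeal R • (⊤ : Submodule R M)) :=
  Submodule.mapQ _ _ T (fun _ hx => map_mem_smul_top p hmax σ T hx)

/-- `M / 𝔪 M` as a vector space over the residue field. -/
@[instance_reducible]
noncomputable def resModule (R : Type u) [CommRing R] [IsLocalRing R] (M : Type v) [AddCommGroup M]
    [Module R M] : Module (ResidueField R) (M ⧸ maximalIdeal R • (⊤ : Submodule R M)) :=
  inferInstanceAs (Module (R ⧸ maximalIdeal R) (M ⧸ maximalIdeal R • (⊤ : Submodule R M)))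

attribute [local instance] resModule

theorem residue_smul_mk (r : R) (m : M) :
    (residue R r) • (Submodule.Quotient.mk m : M ⧸ maximalIdeal R • (⊤ : Submodule R M)) =
      Submodule.Quotient.mk (r • m) := rfl

/-- the induced `σbar`-semilinear map on the `ResidueField R`-vector space `M / 𝔪 M`. -/
noncomputable def Tbar :
    (M ⧸ maximalIdeal R • (⊤ : Submodule R M)) →ₛₗ[σbar]
      (M ⧸ maximalIdeal R • (⊤ : Submodule R M)) :=
  { toFun := TQ p hmax σ T
    map_add' := (TQ p hmax σ T).map_add
    map_smul' := by
      intro c x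
      obtain ⟨r, rfl⟩ := residue_surjective c
      obtain ⟨m, rfl⟩ := Submodule.Quotient.mk_surjective _ x
      rw [residue_smul_mk, hσbar]
      change Submodule.Quotient.mk (T (r • m)) = _
      rw [LinearMap.map_smulₛₗ]
      rfl }

theorem Tbar_mk (m : M) : Tbar p hmax σ σbar hσbar T (Submodule.Quotient.mk m) =
    Submodule.Quotient.mk (T m) := rfl

theorem finiteDimensional_quot [Module.Finite R M] :
    FiniteDimensional (ResidueField R) (M ⧸ maximalIdeal R • (⊤ : Submodule R M)) := by
  classical
  obtain ⟨s, hs⟩ := (Module.Finite.fg_top : (⊤ : Submodule R M).FG)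
  refine ⟨⟨s.image (Submodule.Quotient.mk (p := maximalIdeal R • (⊤ : Submodule R M))), ?_⟩⟩
  rw [eq_top_iff]
  rintro x -
  obtain ⟨m, rfl⟩ := Submodule.Quotient.mk_surjective _ x
  have hm : m ∈ Submodule.span R (s : Set M) := hs ▸ Submodule.mem_top
  induction hm using Submodule.span_induction with
  | mem m hm =>
    exact Submodule.subset_span (by
      rw [Finset.coe_image]
      exact ⟨m, hm, rfl⟩)
  | zero => exact Submodule.zero_mem _
  | add x y _ _ hx hy => exact Submodule.add_mem _ hx hy
  | smul r x _ hx =>
    rw [← residue_smul_mk]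
    exact Submodule.smul_mem _ _ hx

include hmax hσbar in
/-- the statement of S19235 -/
theorem sub_surjective_local [Module.Finite R M] (n : ℕ) (hn : (p : R) ^ n = 0)
    (hsurj : Function.Surjective σbar) (h2 : Solv σbar) (h3 : AS σbar) :
    Function.Surjective (fun m : M => m - T m) := by
  have := finiteDimensional_quot (R := R) (M := M)
  have hQ := (surjective_and_basis (Tbar p hmax σ σbar hσbar T) hsurj h2 h3).1
  have key : ∀ i : ℕ, ∀ m : M, ∃ x m' : M, m = x - T x + (p : R) ^ i • m' := by
    intro i
    induction i with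
    | zero => intro m; exact ⟨0, m, by simp⟩
    | succ i ih =>
      intro m
      obtain ⟨x, m', hm⟩ := ih m
      obtain ⟨xbar, hxbar⟩ := hQ (Submodule.Quotient.mk m')
      obtain ⟨x', rfl⟩ := Submodule.Quotient.mk_surjective _ xbar
      have h4 : m' - (x' - T x') ∈ maximalIdeal R • (⊤ : Submodule R M) := by
        rw [← Submodule.Quotient.mk_eq_zero, Submodule.Quotient.mk_sub, Submodule.Quotient.mk_sub]
        have h5 : (Submodule.Quotient.mk x' : M ⧸ maximalIdeal R • (⊤ : Submodule R M)) -
            Submodule.Quotient.mk (T x') = Submodule.Quotient.mk m' := hxbar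
        rw [h5, sub_self]
      rw [hmax, Submodule.ideal_span_singleton_smul, Submodule.mem_smul_pointwise_iff_exists] at h4
      obtain ⟨m'', -, hm''⟩ := h4
      refine ⟨x + (p : R) ^ i • x', m'', ?_⟩
      have h6 : T ((p : R) ^ i • x') = (p : R) ^ i • T x' := by
        rw [LinearMap.map_smulₛₗ, map_pow, map_natCast]
      have h7 : m' = x' - T x' + (p : R) • m'' := by
        rw [hm'']; abel
      rw [hm, map_add, h6, h7, pow_succ, mul_smul, smul_add, smul_sub]
      abel
  intro m
  obtain ⟨x, m', hm⟩ := key n m
  refine ⟨x, ?_⟩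
  rw [hm, hn, zero_smul, add_zero]

/-! ### Fixed points -/

/-- the subring of `σ`-fixed elements. -/
def R0 (σ : R →+* R) : Subring R := σ.eqLocus (RingHom.id R)

theorem mem_R0 {r : R} : r ∈ R0 σ ↔ σ r = r := Iff.rfl

/-- the `T`-fixed elements as a module over the `σ`-fixed subring. -/
def fixedSub : Submodule (R0 σ) M where
  carrier := {m | T m = m}
  add_mem' := fun {a b} ha hb => by
    change T (a + b) = a + b
    rw [map_add, ha, hb]
  zero_mem' := map_zero T
  smul_mem' := fun r m hm => by
    change T ((r : R) • m) = (r : R) • m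
    rw [LinearMap.map_smulₛₗ, hm, (mem_R0 σ).mp r.2]

theorem mem_fixedSub {m : M} : m ∈ fixedSub σ T ↔ T m = m := Iff.rfl

theorem smul_eq_residue_smul (r : R) (q : M ⧸ maximalIdeal R • (⊤ : Submodule R M)) :
    r • q = residue R r • q := by
  obtain ⟨m, rfl⟩ := Submodule.Quotient.mk_surjective _ q
  rfl

include hmax hσbar in
theorem fixedSub_fg (n : ℕ) (hn : (p : R) ^ n = 0)
    (hsurj : Function.Surjective σbar) (h2 : Solv σbar) (h3 : AS σbar)
    (hlift : ∀ x : ResidueField R, σbar x = x → ∃ r : R, σ r = r ∧ residue R r = x) :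
    ∀ (i : ℕ) (M : Type v) [AddCommGroup M] [Module R M] [Module.Finite R M] (T : M →ₛₗ[σ] M),
      (∀ m : M, (p : R) ^ i • m = 0) → (fixedSub σ T).FG := by
  classical
  intro i
  induction i with
  | zero =>
    intro M _ _ _ T hM
    have h0 : fixedSub σ T = ⊥ := by
      rw [eq_bot_iff]
      intro m _
      have := hM m
      rw [pow_zero, one_smul] at this
      rw [this]
      exact Submodule.zero_mem _
    rw [h0]
    exact Submodule.fg_bot
  | succ i ih =>
    intro M _ _ _ T hM
    set N : Submodule R M := maximalIdeal R • (⊤ : Submodule R M) with hNdef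
    have hNp : ∀ x ∈ N, ∃ m'' : M, (p : R) • m'' = x := by
      intro x hx
      rw [hNdef, hmax, Submodule.ideal_span_singleton_smul,
        Submodule.mem_smul_pointwise_iff_exists] at hx
      obtain ⟨m'', -, h⟩ := hx
      exact ⟨m'', h⟩
    have hNkill : ∀ x : N, (p : R) ^ i • x = 0 := by
      intro x
      obtain ⟨m'', hm''⟩ := hNp x.1 x.2
      apply Subtype.ext
      rw [Submodule.coe_smul, Submodule.coe_zero, ← hm'', smul_smul, ← pow_succ]
      exact hM m''
    have hNfg : Module.Finite R N := by
      rw [Module.Finite.iff_fg]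
      refine Submodule.FG.smul ?_ Module.Finite.fg_top
      rw [hmax]
      exact Submodule.fg_span_singleton _
    let TN : N →ₛₗ[σ] N := (T.domRestrict N).codRestrict N
      (fun x => map_mem_smul_top p hmax σ T x.2)
    have hTN : ∀ x : N, (TN x : M) = T (x : M) := fun x => rfl
    have ihN := ih N TN hNkill
    have hsN := sub_surjective_local p hmax σ σbar hσbar TN n hn hsurj h2 h3
    have hfd := finiteDimensional_quot (R := R) (M := M)
    obtain ⟨-, b, hb⟩ := surjective_and_basis (Tbar p hmax σ σbar hσbar T) hsurj h2 h3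
    -- lifts of the fixed basis vectors
    have hB : ∀ j, ∃ B : M, T B = B ∧
        (Submodule.Quotient.mk B : M ⧸ N) = ((b j : _) : M ⧸ N) := by
      intro j
      obtain ⟨u, hu⟩ := Submodule.Quotient.mk_surjective N ((b j : _) : M ⧸ N)
      have h4 : T u - u ∈ N := by
        rw [← Submodule.Quotient.mk_eq_zero, Submodule.Quotient.mk_sub, sub_eq_zero,
          ← Tbar_mk p hmax σ σbar hσbar T u, hu]
        exact hb j
      obtain ⟨z, hz⟩ := hsN ⟨T u - u, h4⟩
      have hz' : (z : M) - T (z : M) = T u - u := congrArg Subtype.val hz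
      refine ⟨u + z, ?_, ?_⟩
      · rw [map_add]
        have h7 : T u + T (z : M) = (T u - u) - ((z : M) - T (z : M)) + (u + z) := by abel
        rw [h7, hz', sub_self, zero_add]
      · rw [Submodule.Quotient.mk_add, (Submodule.Quotient.mk_eq_zero N).mpr z.2, add_zero, hu]
    choose B hBfix hBmk using hB
    let f : M →ₗ[R0 σ] (M ⧸ N) := N.mkQ.restrictScalars (R0 σ)
    have hf : ∀ m, f m = Submodule.Quotient.mk m := fun m => rfl
    refine Submodule.fg_of_fg_map_of_fg_inf_ker f ?_ ?_
    · have hmapeq : (fixedSub σ T).map f =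
          Submodule.span (R0 σ) (Set.range fun j => ((b j : _) : M ⧸ N)) := by
        apply le_antisymm
        · rintro _ ⟨m, hm, rfl⟩
          rw [SetLike.mem_coe, mem_fixedSub] at hm
          set vbar : M ⧸ N := Submodule.Quotient.mk m with hvbar
          have hfix : Tbar p hmax σ σbar hσbar T vbar = vbar := by
            rw [hvbar, Tbar_mk, hm]
          have hmem : vbar ∈ ⨅ n : ℕ, Vn (Tbar p hmax σ σbar hσbar T) n := by
            rw [Submodule.mem_iInf]
            intro l
            exact Submodule.subset_span ⟨vbar, Function.iterate_fixed hfix l⟩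
          have hli : LinearIndependent (ResidueField R) (fun j => ((b j : _) : M ⧸ N)) :=
            b.linearIndependent.map' (Submodule.subtype _) (Submodule.ker_subtype _)
          have hrepr : vbar = ∑ j, b.repr ⟨vbar, hmem⟩ j • ((b j : _) : M ⧸ N) := by
            have := congrArg Subtype.val (b.sum_repr ⟨vbar, hmem⟩)
            refine (this.symm : vbar = _).trans ?_
            rw [Submodule.coe_sum]
            rfl
          have hfixc : ∀ j, σbar (b.repr ⟨vbar, hmem⟩ j) = b.repr ⟨vbar, hmem⟩ j := by
            have h5 : ∑ j, (σbar (b.repr ⟨vbar, hmem⟩ j) - b.repr ⟨vbar, hmem⟩ j) •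
                ((b j : _) : M ⧸ N) = 0 := by
              simp_rw [sub_smul]
              rw [Finset.sum_sub_distrib, ← hrepr, sub_eq_zero]
              conv_rhs => rw [← hfix, hrepr]
              rw [map_sum]
              refine Finset.sum_congr rfl fun j _ => ?_
              rw [LinearMap.map_smulₛₗ, hb j]
            intro j
            exact sub_eq_zero.mp (Fintype.linearIndependent_iff.mp hli _ h5 j)
          choose r hrfix hrres using fun j => hlift _ (hfixc j)
          change f m ∈ _
          rw [hf, ← hvbar, hrepr]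
          refine Submodule.sum_mem _ fun j _ => ?_
          have h6 : b.repr ⟨vbar, hmem⟩ j • ((b j : _) : M ⧸ N) =
              (⟨r j, (mem_R0 σ).mpr (hrfix j)⟩ : R0 σ) • ((b j : _) : M ⧸ N) := by
            rw [← hrres j, Subring.smul_def]
            exact (smul_eq_residue_smul (r j) _).symm
          rw [h6]
          exact Submodule.smul_mem _ _ (Submodule.subset_span ⟨j, rfl⟩)
        · rw [Submodule.span_le]
          rintro _ ⟨j, rfl⟩
          exact ⟨B j, hBfix j, hBmk j⟩
      rw [hmapeq]
      exact Submodule.fg_span (Set.finite_range _)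
    · have hkereq : fixedSub σ T ⊓ LinearMap.ker f =
          (fixedSub σ TN).map (N.subtype.restrictScalars (R0 σ)) := by
        apply le_antisymm
        · rintro m ⟨hm, hker⟩
          rw [SetLike.mem_coe, LinearMap.mem_ker, hf, Submodule.Quotient.mk_eq_zero] at hker
          exact ⟨⟨m, hker⟩, Subtype.ext hm, rfl⟩
        · rintro _ ⟨x, hx, rfl⟩
          refine ⟨congrArg Subtype.val hx, ?_⟩
          rw [SetLike.mem_coe, LinearMap.mem_ker]
          exact (Submodule.Quotient.mk_eq_zero N).mpr x.2
      rw [hkereq]
      exact ihN.map _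

end Local

end Groth.Agent.Lib.Helper28.SigmaLin
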