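import Groth.Agent.Lib.Helper28.SigmaLinLocal
import Groth.Agent.Lib.Helper28.SigmaLinFrob
import Groth.Prelude.Def_WittGrp
import Mathlib.RingTheory.WittVector.DiscreteValuationRing
import Mathlib.RingTheory.WittVector.Truncated
import Mathlib.RingTheory.WittVector.Identities
import Mathlib.RingTheory.DiscreteValuationRing.Basic
import Mathlib.FieldTheory.Finite.Basic
import Mathlib.RingTheory.Finiteness.Cardinality
import Mathlib.Algebra.Polynomial.Roots

/-!
# Truncated Witt vectors of a perfect field as a local ring with maximal ideal `(p)`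
-/

set_option autoImplicit false
set_option linter.unusedSectionVars false
universe u v

namespace Groth.Agent.Lib.Helper28.SigmaLin

open IsLocalRing

variable (p : ℕ) [hp : Fact p.Prime] (k : Type u) [Field k] [CharP k p] [PerfectRing k p] (n : ℕ)

/-- the zeroth coefficient as a ring homomorphism `W_{n+1}(k) → k`. -/
noncomputable def c0 : TruncatedWittVector p (n + 1) k →+* k where
  toFun x := x.coeff 0
  map_one' := by
    rw [← map_one (WittVector.truncate (p := p) (R := k) (n + 1)), WittVector.coeff_truncate]
    exact WittVector.one_coeff_zero p k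
  map_zero' := by
    rw [← map_zero (WittVector.truncate (p := p) (R := k) (n + 1)), WittVector.coeff_truncate]
    exact WittVector.zero_coeff _ _ _
  map_mul' x y := by
    obtain ⟨X, rfl⟩ := WittVector.truncate_surjective p (n + 1) k x
    obtain ⟨Y, rfl⟩ := WittVector.truncate_surjective p (n + 1) k y
    rw [← map_mul, WittVector.coeff_truncate, WittVector.coeff_truncate, WittVector.coeff_truncate]
    exact WittVector.mul_coeff_zero X Y
  map_add' x y := by
    obtain ⟨X, rfl⟩ := WittVector.truncate_surjective p (n + 1) k x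
    obtain ⟨Y, rfl⟩ := WittVector.truncate_surjective p (n + 1) k y
    rw [← map_add, WittVector.coeff_truncate, WittVector.coeff_truncate, WittVector.coeff_truncate]
    exact WittVector.add_coeff_zero X Y

theorem c0_apply (x : TruncatedWittVector p (n + 1) k) : c0 p k n x = x.coeff 0 := rfl

theorem c0_surjective : Function.Surjective (c0 p k n) := fun a =>
  ⟨TruncatedWittVector.mk p (fun i => if i = 0 then a else 0), by
    rw [c0_apply, TruncatedWittVector.coeff_mk, if_pos rfl]⟩

instance nontrivialW : Nontrivial (TruncatedWittVector p (n + 1) k) :=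
  (c0 p k n).domain_nontrivial

instance isLocalRingW : IsLocalRing (TruncatedWittVector p (n + 1) k) :=
  IsLocalRing.of_surjective' (WittVector.truncate (p := p) (R := k) (n + 1))
    (WittVector.truncate_surjective p (n + 1) k)

theorem p_pow_eq_zero : ((p : TruncatedWittVector p (n + 1) k)) ^ (n + 1) = 0 := by
  have h1 : ((p : TruncatedWittVector p (n + 1) k)) ^ (n + 1) =
      WittVector.truncate (n + 1) ((p : WittVector p k) ^ (n + 1)) := by
    rw [map_pow, map_natCast]
  rw [h1]
  ext i
  rw [WittVector.coeff_truncate, TruncatedWittVector.coeff_zero]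
  exact WittVector.coeff_p_pow_eq_zero p k (by have := i.isLt; omega)

theorem maximalIdeal_eq :
    maximalIdeal (TruncatedWittVector p (n + 1) k) =
      Ideal.span {(p : TruncatedWittVector p (n + 1) k)} := by
  apply le_antisymm
  · intro x hx
    rw [mem_maximalIdeal, mem_nonunits_iff] at hx
    obtain ⟨X, rfl⟩ := WittVector.truncate_surjective p (n + 1) k x
    have hX : X ∈ maximalIdeal (WittVector p k) := by
      rw [mem_maximalIdeal, mem_nonunits_iff]
      intro hu
      exact hx (hu.map _)
    rw [(WittVector.irreducible p).maximalIdeal_eq, Ideal.mem_span_singleton'] at hX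
    obtain ⟨Y, rfl⟩ := hX
    rw [Ideal.mem_span_singleton']
    exact ⟨WittVector.truncate (n + 1) Y, by rw [map_mul, map_natCast]⟩
  · rw [Ideal.span_le, Set.singleton_subset_iff, SetLike.mem_coe, mem_maximalIdeal, mem_nonunits_iff]
    intro hu
    have := hu.pow (n + 1)
    rw [p_pow_eq_zero] at this
    exact not_isUnit_zero this

theorem mem_maximalIdeal_iff (x : TruncatedWittVector p (n + 1) k) :
    x ∈ maximalIdeal (TruncatedWittVector p (n + 1) k) ↔ c0 p k n x = 0 := by
  constructor
  · intro hx
    rw [maximalIdeal_eq, Ideal.mem_span_singleton'] at hx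
    obtain ⟨y, rfl⟩ := hx
    rw [map_mul, map_natCast, CharP.cast_eq_zero, mul_zero]
  · intro hx
    rw [mem_maximalIdeal, mem_nonunits_iff]
    intro hu
    have := hu.map (c0 p k n)
    rw [hx] at this
    exact not_isUnit_zero this

theorem residue_eq_iff (x y : TruncatedWittVector p (n + 1) k) :
    residue _ x = residue _ y ↔ c0 p k n x = c0 p k n y := by
  rw [← sub_eq_zero, ← map_sub, residue_eq_zero_iff, mem_maximalIdeal_iff, map_sub, sub_eq_zero]

/-- the residue field of `W_{n+1}(k)` is `k`. -/
noncomputable def resEquiv : ResidueField (TruncatedWittVector p (n + 1) k) ≃+* k :=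
  (Ideal.quotEquivOfEq (by
    ext x
    rw [mem_maximalIdeal_iff, RingHom.mem_ker])).trans
    (RingHom.quotientKerEquivOfSurjective (c0_surjective p k n))

variable (f : k →+* k)

theorem c0_truncMap (x : TruncatedWittVector p (n + 1) k) :
    c0 p k n (WittGrp.truncMap p (n + 1) f x) = f (c0 p k n x) :=
  WittGrp.coeff_truncMap p (n + 1) f x 0

/-- the endomorphism of the residue field induced by `truncMap f`. -/
noncomputable def sbar : ResidueField (TruncatedWittVector p (n + 1) k) →+*
    ResidueField (TruncatedWittVector p (n + 1) k) :=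
  Ideal.Quotient.lift (maximalIdeal (TruncatedWittVector p (n + 1) k))
    ((residue _).comp (WittGrp.truncMap p (n + 1) f)) (fun a ha => by
      rw [RingHom.comp_apply, residue_eq_zero_iff, mem_maximalIdeal_iff, c0_truncMap,
        (mem_maximalIdeal_iff p k n a).mp ha, map_zero])

theorem sbar_residue (r : TruncatedWittVector p (n + 1) k) :
    sbar p k n f (residue _ r) = residue _ (WittGrp.truncMap p (n + 1) f r) := rfl

theorem hlift_truncMap (x : ResidueField (TruncatedWittVector p (n + 1) k))
    (hx : sbar p k n f x = x) :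
    ∃ r, WittGrp.truncMap p (n + 1) f r = r ∧ residue _ r = x := by
  obtain ⟨r', rfl⟩ := residue_surjective x
  rw [sbar_residue, residue_eq_iff, c0_truncMap] at hx
  refine ⟨TruncatedWittVector.mk p (fun i => if i = 0 then c0 p k n r' else 0), ?_, ?_⟩
  · ext i
    rw [WittGrp.coeff_truncMap, TruncatedWittVector.coeff_mk]
    split_ifs
    · exact hx
    · exact map_zero f
  · rw [residue_eq_iff, c0_apply, TruncatedWittVector.coeff_mk, if_pos rfl]

open Polynomial in
theorem finite_R0 (hf : ∀ c : k, f c = c → c ^ p = c) :
    Finite (R0 (WittGrp.truncMap p (n + 1) f)) := by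
  have hS : {c : k | c ^ p = c}.Finite := by
    have hne : (X ^ p - X : k[X]) ≠ 0 := FiniteField.X_pow_card_sub_X_ne_zero k hp.out.one_lt
    refine (Polynomial.finite_setOfPred_isRoot hne).subset ?_
    intro c hc
    have hc' : c ^ p = c := hc
    simp [IsRoot, hc']
  have hfin : Finite {c : k | c ^ p = c} := hS.to_subtype
  let g : R0 (WittGrp.truncMap p (n + 1) f) → (Fin (n + 1) → {c : k | c ^ p = c}) :=
    fun x i => ⟨(x : TruncatedWittVector p (n + 1) k).coeff i, hf _ (by
      have h1 : WittGrp.truncMap p (n + 1) f (x : TruncatedWittVector p (n + 1) k) = x := x.2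
      have h2 := congrArg (TruncatedWittVector.coeff i) h1
      rwa [WittGrp.coeff_truncMap] at h2)⟩
  exact Finite.of_injective g (fun x y h => Subtype.ext (TruncatedWittVector.ext fun i =>
    congrArg Subtype.val (congrFun h i)))

section AlgClosed

variable [IsAlgClosed k]

instance isAlgClosedRes : IsAlgClosed (ResidueField (TruncatedWittVector p (n + 1) k)) :=
  IsAlgClosed.of_ringEquiv (k := k) _ (resEquiv p k n).symm

theorem sbar_frob (y : ResidueField (TruncatedWittVector p (n + 1) k)) :
    sbar p k n (frobenius k p) y = y ^ p := by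
  obtain ⟨r, rfl⟩ := residue_surjective y
  rw [sbar_residue, ← map_pow, residue_eq_iff, c0_truncMap, map_pow, frobenius_def]

theorem sbar_frobInv (y : ResidueField (TruncatedWittVector p (n + 1) k)) :
    sbar p k n ((frobeniusEquiv k p).symm.toRingHom) (y ^ p) = y := by
  obtain ⟨r, rfl⟩ := residue_surjective y
  rw [← map_pow, sbar_residue, residue_eq_iff, c0_truncMap, map_pow]
  exact frobeniusEquiv_symm_pow k p _

/-- all hypotheses of the local statements hold for Frobenius and its inverse on `W_{n+1}(k)`. -/
theorem witt_hyp (σ : TruncatedWittVector p (n + 1) k →+* TruncatedWittVector p (n + 1) k)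
    (hσ : σ = WittGrp.truncMap p (n + 1) (frobenius k p) ∨
      σ = WittGrp.truncMap p (n + 1) (frobeniusEquiv k p).symm.toRingHom) :
    ∃ σbar : ResidueField (TruncatedWittVector p (n + 1) k) →+*
        ResidueField (TruncatedWittVector p (n + 1) k),
      (∀ r, σbar (residue _ r) = residue _ (σ r)) ∧ Function.Surjective σbar ∧ Solv σbar ∧
        AS σbar ∧ (∀ x, σbar x = x → ∃ r, σ r = r ∧ residue _ r = x) ∧ Finite (R0 σ) := by
  rcases hσ with rfl | rfl
  · refine ⟨sbar p k n (frobenius k p), fun r => rfl, ?_, solv_of_frob p _ (sbar_frob p k n),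
      as_of_frob p _ (sbar_frob p k n), hlift_truncMap p k n _, finite_R0 p k n _ ?_⟩
    · intro y
      obtain ⟨z, hz⟩ := IsAlgClosed.exists_pow_nat_eq y hp.out.pos
      exact ⟨z, by rw [sbar_frob, hz]⟩
    · intro c hc
      rwa [frobenius_def] at hc
  · refine ⟨sbar p k n _, fun r => rfl, ?_, solv_of_frobInv p _ (sbar_frobInv p k n),
      as_of_frobInv p _ (sbar_frobInv p k n), hlift_truncMap p k n _, finite_R0 p k n _ ?_⟩
    · intro y
      exact ⟨y ^ p, sbar_frobInv p k n y⟩
    · intro c hc
      have h1 : (frobeniusEquiv k p).symm c = c := hc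
      have h2 := congrArg (frobeniusEquiv k p) h1
      rw [RingEquiv.apply_symm_apply, frobeniusEquiv_apply, frobenius_def] at h2
      exact h2.symm

end AlgClosed

end Groth.Agent.Lib.Helper28.SigmaLin
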