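import Mathlib

/-!
# A spectral space is a directed limit of finite sober spaces (helper28)
-/

set_option autoImplicit false
universe u
open TopologicalSpace Set CategoryTheory CategoryTheory.Limits Topology

namespace Groth.Agent.Lib.Helper28.SpecLim

variable {X : Type u} [TopologicalSpace X]

/-- Compactness of the constructible topology, phrased in the original space. -/
theorem exists_mem_iff_of_fip [SpectralSpace X] {ι : Type*} (U : ι → Set X)
    (hUo : ∀ i, IsOpen (U i)) (hUc : ∀ i, IsCompact (U i)) (b : ι → Prop)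
    (hfin : ∀ s : Finset ι, ∃ x, ∀ i ∈ s, (x ∈ U i ↔ b i)) :
    ∃ x, ∀ i, (x ∈ U i ↔ b i) := by
  classical
  let S : ι → Set (WithConstructibleTopology X) := fun i =>
    WithTopology.ofTopology ⁻¹' {x | x ∈ U i ↔ b i}
  have hcl : ∀ i, IsClosed (S i) := by
    intro i
    rw [WithConstructibleTopology.isClosed_iff]
    show IsClosed[constructibleTopology X] {x | x ∈ U i ↔ b i}
    by_cases hb : b i
    · have h1 : {x | x ∈ U i ↔ b i} = U i := by ext x; simp [hb]
      rw [h1, ← @isOpen_compl_iff _ _ (constructibleTopology X)]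
      exact IsCompact.isOpen_constructibleTopology_of_isClosed (by simpa using hUc i)
        (hUo i).isClosed_compl
    · have h1 : {x | x ∈ U i ↔ b i} = (U i)ᶜ := by ext x; simp [hb]
      rw [h1, @isClosed_compl_iff _ (constructibleTopology X)]
      exact (hUc i).isOpen_constructibleTopology_of_isOpen (hUo i)
  have h2 := isCompact_univ.inter_iInter_nonempty S hcl (fun s => by
    obtain ⟨x, hx⟩ := hfin s
    refine ⟨WithTopology.toTopology _ x, mem_univ _, ?_⟩
    simp only [mem_iInter]
    intro i hi
    exact hx i hi)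
  obtain ⟨y, -, hy⟩ := h2
  refine ⟨WithTopology.ofTopology y, fun i => ?_⟩
  exact mem_iInter.1 hy i


variable (X)

/-- Compact opens of `X`, as a type in the universe of `X`. -/
abbrev K : Type u := {U : Set X // IsOpen U ∧ IsCompact U}

/-- The evaluation map into a finite Sierpiński cube. -/
def ev (j : Finset (K X)) (x : X) : j → Prop := fun k => x ∈ k.1.1

lemma continuous_ev (j : Finset (K X)) : Continuous (ev X j) :=
  continuous_pi fun k => continuous_Prop.2 k.1.2.1

/-- The finite model attached to a finite set of compact opens. -/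
abbrev Fobj (j : Finset (K X)) : Type u := Set.range (ev X j)

/-- Transition maps. -/
def res {i j : Finset (K X)} (h : i ⊆ j) : Fobj X j → Fobj X i :=
  fun φ => ⟨fun k => φ.1 ⟨k.1, h k.2⟩, by
    obtain ⟨x, hx⟩ := φ.2
    exact ⟨x, by funext k; rw [← hx]; rfl⟩⟩

lemma continuous_res {i j : Finset (K X)} (h : i ⊆ j) : Continuous (res X h) := by
  unfold res
  refine Continuous.subtype_mk (f := fun φ : Fobj X j => fun k : i => φ.1 ⟨k.1, h k.2⟩) ?_ _
  exact continuous_pi fun k =>
    (continuous_apply (⟨k.1, h k.2⟩ : j)).comp continuous_subtype_val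

lemma res_apply {i j : Finset (K X)} (h : i ⊆ j) (φ : Fobj X j) (k : i) :
    (res X h φ).1 k = φ.1 ⟨k.1, h k.2⟩ := rfl

instance (j : Finset (K X)) : Finite (Fobj X j) := by
  have : Finite (j → Prop) := Pi.finite
  exact Subtype.finite

variable {X}

theorem existsUnique_point [SpectralSpace X] (φ : ∀ j : Finset (K X), Fobj X j)
    (hφ : ∀ (i j : Finset (K X)) (h : i ⊆ j), res X h (φ j) = φ i) :
    ∃! x : X, ∀ j, ev X j x = (φ j).1 := by
  classical
  let b : K X → Prop := fun k => (φ {k}).1 ⟨k, Finset.mem_singleton_self k⟩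
  have hb : ∀ (j : Finset (K X)) (k : K X) (hk : k ∈ j), (φ j).1 ⟨k, hk⟩ = b k := by
    intro j k hk
    have h1 := hφ {k} j (Finset.singleton_subset_iff.2 hk)
    have h2 := congrArg (fun ψ : Fobj X {k} => ψ.1 ⟨k, Finset.mem_singleton_self k⟩) h1
    simpa [res_apply] using h2
  obtain ⟨x, hx⟩ := exists_mem_iff_of_fip (fun k : K X => k.1) (fun k => k.2.1) (fun k => k.2.2) b
    (fun s => by
      obtain ⟨x, hx⟩ := (φ s).2
      refine ⟨x, fun k hk => ?_⟩
      rw [← hb s k hk, ← hx]
      exact Iff.rfl)
  refine ⟨x, fun j => ?_, fun y hy => ?_⟩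
  · funext k
    rw [hb j k.1 k.2]
    exact propext (hx k.1)
  · have hxy : Inseparable y x := by
      rw [(PrespectralSpace.isTopologicalBasis (X := X)).inseparable_iff]
      intro U hU
      let k : K X := ⟨U, hU⟩
      have h1 : (y ∈ U) = b k := by
        have := congrFun (hy {k}) ⟨k, Finset.mem_singleton_self k⟩
        exact this
      rw [h1]
      exact (hx k).symm
    exact hxy.eq

variable (X)

/-- The diagram of finite models. -/
noncomputable def F : (Finset (K X))ᵒᵖ ⥤ TopCat.{u} where
  obj j := TopCat.of (Fobj X j.unop)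
  map {a b} f := TopCat.ofHom ⟨res X (leOfHom f.unop), continuous_res X _⟩
  map_id a := by ext φ; rfl
  map_comp f g := by ext φ; rfl

/-- The canonical cone. -/
noncomputable def cone : Cone (F X) where
  pt := TopCat.of X
  π :=
    { app := fun j => TopCat.ofHom
        ⟨fun x => ⟨ev X j.unop x, mem_range_self x⟩, (continuous_ev X _).subtype_mk _⟩
      naturality := fun a b f => by ext x; rfl }


variable {X}

lemma cone_compat (s : Cone (F X)) (p : s.pt) (i j : Finset (K X)) (h : i ⊆ j) :
    res X h (s.π.app (Opposite.op j) p) = s.π.app (Opposite.op i) p := by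
  have h1 := s.w (homOfLE h).op
  exact ConcreteCategory.congr_hom h1 p

/-- The point of `X` determined by a point of a cone. -/
noncomputable def liftFun [SpectralSpace X] (s : Cone (F X)) (p : s.pt) : X :=
  (existsUnique_point (fun j => s.π.app (Opposite.op j) p) (cone_compat s p)).choose

lemma liftFun_spec [SpectralSpace X] (s : Cone (F X)) (p : s.pt) (j : Finset (K X)) :
    ev X j (liftFun s p) = (s.π.app (Opposite.op j) p).1 :=
  (existsUnique_point (fun j => s.π.app (Opposite.op j) p) (cone_compat s p)).choose_spec.1 j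

lemma liftFun_unique [SpectralSpace X] (s : Cone (F X)) (p : s.pt) (y : X)
    (hy : ∀ j, ev X j y = (s.π.app (Opposite.op j) p).1) : y = liftFun s p :=
  (existsUnique_point (fun j => s.π.app (Opposite.op j) p) (cone_compat s p)).choose_spec.2 y hy

lemma continuous_liftFun [SpectralSpace X] (s : Cone (F X)) : Continuous (liftFun s) := by
  rw [(PrespectralSpace.isTopologicalBasis (X := X)).continuous_iff]
  intro U hU
  let k : K X := ⟨U, hU⟩
  have h1 : liftFun s ⁻¹' U =
      {p | (s.π.app (Opposite.op {k}) p).1 ⟨k, Finset.mem_singleton_self k⟩} := by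
    ext p
    have := congrFun (liftFun_spec s p {k}) ⟨k, Finset.mem_singleton_self k⟩
    show liftFun s p ∈ U ↔ _
    exact Iff.of_eq this
  rw [h1]
  refine continuous_Prop.1 ?_
  exact (continuous_apply (⟨k, Finset.mem_singleton_self k⟩ : ({k} : Finset (K X)))).comp
    (continuous_subtype_val.comp (s.π.app (Opposite.op {k})).hom.continuous)

/-- The canonical cone is a limit cone. -/
noncomputable def isLimitCone [SpectralSpace X] : IsLimit (cone X) where
  lift s := TopCat.ofHom ⟨liftFun s, continuous_liftFun s⟩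
  fac s j := by
    ext p
    apply Subtype.ext
    exact liftFun_spec s p j.unop
  uniq s m hm := by
    ext p
    refine liftFun_unique (X := X) s p _ ?_
    intro j
    have := ConcreteCategory.congr_hom (hm (Opposite.op j)) p
    exact congrArg Subtype.val this


/-- A finite topological space is quasi-sober. -/
theorem quasiSober_of_finite (Y : Type*) [TopologicalSpace Y] [Finite Y] : QuasiSober Y := by
  classical
  refine ⟨fun {S} hS hcl => ?_⟩
  have hfin : S.Finite := Set.toFinite S
  let t : Finset (Set Y) := hfin.toFinset.image (fun y => closure {y})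
  obtain ⟨z, hz, hSz⟩ := isIrreducible_iff_sUnion_isClosed.1 hS t
    (fun z hz => by
      obtain ⟨y, -, rfl⟩ := Finset.mem_image.1 hz
      exact isClosed_closure)
    (fun y hy => by
      refine mem_sUnion.2 ⟨closure {y}, ?_, subset_closure rfl⟩
      exact Finset.mem_coe.2 (Finset.mem_image.2 ⟨y, hfin.mem_toFinset.2 hy, rfl⟩))
  obtain ⟨y, hy, rfl⟩ := Finset.mem_image.1 hz
  refine ⟨y, ?_⟩
  show closure {y} = S
  exact subset_antisymm
    (hcl.closure_subset_iff.2 (singleton_subset_iff.2 (hfin.mem_toFinset.1 hy))) hSz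

/-- A spectral space is a directed limit of finite sober spaces. -/
theorem exists_isLimit_finite_sober (X : Type u) [TopologicalSpace X] [SpectralSpace X] :
    ∃ (J : Type u) (_ : Preorder J) (_ : Nonempty J) (_ : IsDirected J (· ≤ ·))
      (F : Jᵒᵖ ⥤ TopCat.{u}) (c : Cone F), Nonempty (IsLimit c) ∧
        (∀ j : Jᵒᵖ, Finite (F.obj j) ∧ T0Space (F.obj j) ∧ QuasiSober (F.obj j)) ∧
        Nonempty (c.pt ≅ TopCat.of X) := by
  classical
  refine ⟨Finset (K X), inferInstance, ⟨∅⟩, inferInstance, F X, cone X, ⟨isLimitCone⟩,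
    fun j => ?_, ⟨Iso.refl _⟩⟩
  have h1 : Finite (Fobj X j.unop) := inferInstance
  have h2 : T0Space (Fobj X j.unop) := inferInstance
  have h3 : QuasiSober (Fobj X j.unop) := quasiSober_of_finite _
  exact ⟨h1, h2, h3⟩

end Groth.Agent.Lib.Helper28.SpecLim
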