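import Groth.Agent.Lib.Helper28.TameField
import Groth.Agent.Lib.Helper28.IntegralBaseChange

/-!
# Subcomodule complements from an integral, over a commutative ring (helper28)

`exists_isCompl_of_isIntegral_of_split`: over a commutative Hopf algebra with a (normalised) integral
over any commutative ring, a subcomodule which is a direct summand as a module has a complement which
is a subcomodule.
-/

set_option autoImplicit false
set_option linter.unusedSectionVars false
universe u v w

open TensorProduct
open Groth.Agent.Lib.Helper28.HopfIntegral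

namespace Groth.Agent.Lib.Helper28.TameAct

section split

variable {k : Type u} [CommRing k] {A : Type v} [CommRing A] [HopfAlgebra k A]
variable {V : Type w} [AddCommGroup V] [Module k V] [HopfRep.Comod k A V]

attribute [local instance] trivComod isCoactAlg_trivial isHopfMod_trivial

lemma Lmap2_mem (I : A →ₗ[k] k) (W : Submodule k V) (s : W ⊗[k] A) (a : A) :
    Lmap2 (M := V) I ((W.subtype.rTensor A s) ⊗ₜ[k] a) ∈ W := by
  induction s using TensorProduct.induction_on with
  | zero => simp
  | tmul w c =>
    rw [LinearMap.rTensor_tmul, Lmap2_tmul]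
    exact W.smul_mem _ w.2
  | add s₁ s₂ h₁ h₂ =>
    rw [map_add, TensorProduct.add_tmul, map_add]
    exact W.add_mem h₁ h₂

lemma lam_mem (I : A →ₗ[k] k) (W : Submodule k V)
    (hW : HopfRep.IsSubcomod (k := k) (A := A) W) (s : W ⊗[k] A) :
    lam (M := V) I (W.subtype.rTensor A s) ∈ W := by
  induction s using TensorProduct.induction_on with
  | zero => simp
  | tmul w a =>
    rw [LinearMap.rTensor_tmul, lam_tmul]
    obtain ⟨s', hs'⟩ := hW w.1 w.2
    change Lmap2 I (HopfRep.Comod.coact (k := k) (A := A) (w : V) ⊗ₜ[k] a) ∈ W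
    rw [← hs']
    exact Lmap2_mem I W s' a
  | add s₁ s₂ h₁ h₂ =>
    rw [map_add, map_add]
    exact W.add_mem h₁ h₂

theorem exists_isCompl_of_isIntegral_of_split (I : A →ₗ[k] k) (hI : IsIntegral I)
    (W : Submodule k V) (hW : HopfRep.IsSubcomod (k := k) (A := A) W)
    (hsplit : ∃ W' : Submodule k V, IsCompl W W') :
    ∃ W'' : Submodule k V, HopfRep.IsSubcomod (k := k) (A := A) W'' ∧ IsCompl W W'' := by
  obtain ⟨W', hc⟩ := hsplit
  let p' : V →ₗ[k] W := W.projectionOnto W' hc
  have hp' : p' ∘ₗ W.subtype = LinearMap.id := Submodule.projectionOnto_comp_subtype hc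
  let e : V →ₗ[k] V := W.subtype ∘ₗ p'
  let q : V →ₗ[k] V := lam (M := V) I ∘ₗ e.rTensor A ∘ₗ HopfRep.Comod.coact (k := k) (A := A)
  have hq_apply : ∀ v, q v = lam (M := V) I (e.rTensor A (HopfRep.Comod.coact (k := k) (A := A) v)) :=
    fun v => rfl
  have hq_mem : ∀ v, q v ∈ W := by
    intro v
    rw [hq_apply, LinearMap.rTensor_comp, LinearMap.comp_apply]
    exact lam_mem I W hW _
  have hq_fix : ∀ w ∈ W, q w = w := by
    intro w hw
    obtain ⟨s, hs⟩ := hW w hw
    rw [hq_apply, ← hs, ← LinearMap.rTensor_comp_apply, LinearMap.comp_assoc, hp',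
      LinearMap.comp_id, hs]
    exact lam_coact I hI.1 w
  have hq_comod : ∀ v, HopfRep.Comod.coact (k := k) (A := A) (q v) =
      q.rTensor A (HopfRep.Comod.coact (k := k) (A := A) v) := by
    intro v
    rw [hq_apply, coact_lam I (isComodHom_integral I hI), coactAux_rTensor, ← coact_rTensor_coact,
      ← LinearMap.rTensor_comp_apply, ← LinearMap.rTensor_comp_apply]
    rfl
  have hqq : ∀ v, q (q v) = q v := fun v => hq_fix _ (hq_mem v)
  let r : V →ₗ[k] LinearMap.ker q :=
    LinearMap.codRestrict (LinearMap.ker q) (LinearMap.id - q) (fun v => by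
      rw [LinearMap.mem_ker, LinearMap.sub_apply, LinearMap.id_apply, map_sub, hqq, sub_self])
  have hr : (LinearMap.ker q).subtype ∘ₗ r = LinearMap.id - q := by
    ext v
    rfl
  refine ⟨LinearMap.ker q, ?_, ?_⟩
  · intro v hv
    have hv0 : q v = 0 := hv
    refine ⟨r.rTensor A (HopfRep.Comod.coact (k := k) (A := A) v), ?_⟩
    rw [← LinearMap.rTensor_comp_apply, hr, LinearMap.rTensor_sub, LinearMap.sub_apply,
      LinearMap.rTensor_id_apply, ← hq_comod, hv0, map_zero, sub_zero]
  · let f : V →ₗ[k] W := LinearMap.codRestrict W q hq_mem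
    have hf : ∀ w : W, f (w : V) = w := fun w => Subtype.ext (hq_fix w.1 w.2)
    have h := LinearMap.isCompl_of_proj hf
    have hker : LinearMap.ker f = LinearMap.ker q := LinearMap.ker_codRestrict _ _ _
    rwa [hker] at h

end split

end Groth.Agent.Lib.Helper28.TameAct
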