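import Mathlib

/-!
# Helper library (helper28): separatedness is stalk-local on the target (P2 for helper27's S4825)
-/

universe u
open CategoryTheory CategoryTheory.Limits AlgebraicGeometry

namespace Groth.Agent.Lib.Helper28.StalkFac2

theorem isSeparated_of_forall_stalk {X Y : Scheme.{u}} (f : X ⟶ Y) [QuasiSeparated f]
    (H : ∀ y : Y, IsSeparated (pullback.snd f (Y.fromSpecStalk y))) : IsSeparated f := by
  refine IsSeparated.of_valuativeCriterion f ?_
  intro S
  constructor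
  rintro ⟨l₁, hl₁, hl₁'⟩ ⟨l₂, hl₂, hl₂'⟩
  ext : 1
  dsimp at *
  let y : Y := S.i₂ (IsLocalRing.closedPoint S.R)
  let s : Spec (.of S.R) ⟶ Spec (Y.presheaf.stalk y) := Spec.map (Scheme.stalkClosedPointTo S.i₂)
  have hs : s ≫ Y.fromSpecStalk y = S.i₂ := Scheme.Spec_stalkClosedPointTo_fromSpecStalk S.i₂
  let m₁ : Spec (.of S.R) ⟶ pullback f (Y.fromSpecStalk y) :=
    pullback.lift l₁ s (by rw [hl₁', hs])
  let m₂ : Spec (.of S.R) ⟶ pullback f (Y.fromSpecStalk y) :=
    pullback.lift l₂ s (by rw [hl₂', hs])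
  have e : Spec.map (CommRingCat.ofHom (algebraMap S.R S.K)) ≫ m₁ =
      Spec.map (CommRingCat.ofHom (algebraMap S.R S.K)) ≫ m₂ := by
    apply pullback.hom_ext
    · simp only [Category.assoc, m₁, m₂, pullback.lift_fst, hl₁, hl₂]
    · simp only [Category.assoc, m₁, m₂, pullback.lift_snd]
  let S' : ValuativeCommSq (pullback.snd f (Y.fromSpecStalk y)) :=
    ⟨S.R, S.K, Spec.map (CommRingCat.ofHom (algebraMap S.R S.K)) ≫ m₁, s,
      ⟨by simp only [Category.assoc, m₁, pullback.lift_snd]⟩⟩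
  haveI := H y
  have hsub : Subsingleton S'.commSq.LiftStruct :=
    IsSeparated.valuativeCriterion (pullback.snd f (Y.fromSpecStalk y)) S'
  let L₁ : S'.commSq.LiftStruct := ⟨m₁, rfl, by simp only [m₁, S', pullback.lift_snd]⟩
  let L₂ : S'.commSq.LiftStruct := ⟨m₂, e.symm, by simp only [m₂, S', pullback.lift_snd]⟩
  have h₁₂ : L₁ = L₂ := Subsingleton.elim _ _
  have hm : m₁ = m₂ := congrArg CommSq.LiftStruct.l h₁₂
  calc l₁ = m₁ ≫ pullback.fst _ _ := by simp only [m₁, pullback.lift_fst]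
    _ = m₂ ≫ pullback.fst _ _ := by rw [hm]
    _ = l₂ := by simp only [m₂, pullback.lift_fst]

end Groth.Agent.Lib.Helper28.StalkFac2
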