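/-
Helper28 library: algebra for homomorphisms of split tori.  Group-like elements of a group
algebra over a domain are the basis elements; saturated injections of finitely generated abelian
groups admit retractions.
-/
import Mathlib

set_option autoImplicit false
set_option linter.unusedSectionVars false

namespace Groth.Agent.Lib.Helper28.TorAlg

open MonoidAlgebra

section GrpLike

variable {L : Type*} [CommRing L] {M : Type*} [CommMonoid M] [DecidableEq M]

theorem coeff_mapDomain_diag (e : MonoidAlgebra L M) (b b' : M) :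
    (mapDomain (fun a : M => (a, a)) e).coeff (b, b') = if b = b' then e.coeff b else 0 := by
  induction e using MonoidAlgebra.induction_linear with
  | zero => simp
  | add x y hx hy =>
    rw [mapDomain_add, coeff_add, Finsupp.add_apply, hx, hy, coeff_add, Finsupp.add_apply]
    split_ifs <;> simp
  | single a r =>
    rw [mapDomain_single, coeff_single, coeff_single, Finsupp.single_apply, Finsupp.single_apply]
    by_cases hbb : b = b'
    · subst hbb
      simp [Prod.mk.injEq]
    · rw [if_neg hbb, if_neg]
      intro h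
      exact hbb ((Prod.mk.inj h).1.symm.trans (Prod.mk.inj h).2)

theorem coeff_mul_inl_inr (x y : MonoidAlgebra L M) (b b' : M) :
    (mapDomain (fun a : M => (a, (1 : M))) x * mapDomain (fun a : M => ((1 : M), a)) y).coeff
      (b, b') = x.coeff b * y.coeff b' := by
  induction x using MonoidAlgebra.induction_linear with
  | zero => simp
  | add x₁ x₂ h₁ h₂ =>
    rw [mapDomain_add, add_mul, coeff_add, Finsupp.add_apply, h₁, h₂, coeff_add,
      Finsupp.add_apply, add_mul]
  | single a r =>
    induction y using MonoidAlgebra.induction_linear with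
    | zero => simp
    | add y₁ y₂ h₁ h₂ =>
      rw [mapDomain_add, mul_add, coeff_add, Finsupp.add_apply, h₁, h₂, coeff_add,
        Finsupp.add_apply, mul_add]
    | single a' r' =>
      rw [mapDomain_single, mapDomain_single, single_mul_single, coeff_single,
        coeff_single, coeff_single, Finsupp.single_apply, Finsupp.single_apply,
        Finsupp.single_apply]
      have hp : ((a, (1 : M)) * ((1 : M), a') : M × M) = (a, a') := by
        rw [Prod.mk_mul_mk, mul_one, one_mul]
      rw [hp]
      simp only [Prod.mk.injEq]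
      split_ifs <;> simp_all

theorem groupLike_single [IsDomain L] (e : MonoidAlgebra L M) (hne : e ≠ 0)
    (h : mapDomain (fun a : M => (a, a)) e =
      mapDomain (fun a : M => (a, (1 : M))) e * mapDomain (fun a : M => ((1 : M), a)) e) :
    ∃ a₀, e = single a₀ 1 := by
  have hrel : ∀ b b', (if b = b' then e.coeff b else 0) = e.coeff b * e.coeff b' := by
    intro b b'
    rw [← coeff_mapDomain_diag, h, coeff_mul_inl_inr]
  obtain ⟨a₀, ha₀⟩ : ∃ a₀, e.coeff a₀ ≠ 0 := by
    by_contra hall
    apply hne
    apply coeff_injective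
    ext b
    by_contra hb
    exact hall ⟨b, hb⟩
  have h1 : e.coeff a₀ = 1 := by
    have h2 := hrel a₀ a₀
    rw [if_pos rfl] at h2
    exact (mul_left_cancel₀ ha₀ (by rw [mul_one]; exact h2)).symm
  refine ⟨a₀, ?_⟩
  apply coeff_injective
  ext b
  rw [coeff_single, Finsupp.single_apply]
  by_cases hb : a₀ = b
  · subst hb
    rw [if_pos rfl, h1]
  · rw [if_neg hb]
    have h2 := hrel a₀ b
    rw [if_neg hb, h1, one_mul] at h2
    exact h2.symm

end GrpLike

section Split

theorem exists_retraction {A B : Type*} [AddCommGroup A] [AddCommGroup B] [Module.Finite ℤ B]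
    (c : A →+ B) (hc : Function.Injective c)
    (hsat : ∀ (r : ℤ) (x : B), r ≠ 0 → r • x ∈ c.range → x ∈ c.range) :
    ∃ ρ : B →+ A, ∀ a, ρ (c a) = a := by
  obtain ⟨f, hf⟩ : ∃ f : A →ₗ[ℤ] B, ∀ a, f a = c a := ⟨c.toIntLinearMap, fun a => rfl⟩
  have hfi : Function.Injective f := fun a b h => hc (by rw [← hf, ← hf]; exact h)
  have hex : Function.Exact f (LinearMap.range f).mkQ := LinearMap.exact_map_mkQ_range f
  have hsurj : Function.Surjective (LinearMap.range f).mkQ := Submodule.mkQ_surjective _
  have : Module.IsTorsionFree ℤ (B ⧸ LinearMap.range f) := by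
    apply Module.IsTorsionFree.of_smul_eq_zero
    intro r m hrm
    by_cases hr : r = 0
    · exact Or.inl hr
    · right
      obtain ⟨x, rfl⟩ := Submodule.mkQ_surjective _ m
      rw [← map_smul, Submodule.mkQ_apply, Submodule.Quotient.mk_eq_zero] at hrm
      obtain ⟨a, ha⟩ := hrm
      obtain ⟨a', ha'⟩ := hsat r x hr ⟨a, by rw [← hf]; exact ha⟩
      rw [Submodule.mkQ_apply, Submodule.Quotient.mk_eq_zero]
      exact ⟨a', by rw [hf]; exact ha'⟩
  obtain ⟨l, hl⟩ := Module.projective_lifting_property (LinearMap.range f).mkQ LinearMap.id hsurj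
  have h01 : (∃ l, (LinearMap.range f).mkQ ∘ₗ l = LinearMap.id) ↔
      (∃ l, l ∘ₗ f = LinearMap.id) := (hex.split_tfae hfi hsurj).out 0 1
  obtain ⟨ρ, hρ⟩ := h01.mp ⟨l, hl⟩
  exact ⟨ρ.toAddMonoidHom, fun a => by rw [← hf]; exact LinearMap.congr_fun hρ a⟩

end Split

end Groth.Agent.Lib.Helper28.TorAlg
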