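/-
Helper28 library: exact sequences of split tori over a field split.  Homomorphisms of
diagonalisable groups are induced by maps of character groups (no finiteness), kernels of such
homomorphisms are diagonalisable with character group the cokernel, and saturated sublattices
are direct summands.
-/
import Groth.Agent.Lib.Helper28.FinSubGeom
import Groth.Agent.Lib.Helper28.TorAlg

set_option autoImplicit false
set_option maxHeartbeats 1600000
set_option linter.unusedSectionVars false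
set_option linter.style.haveILetI false
universe u
open CategoryTheory CategoryTheory.Limits AlgebraicGeometry MonoidalCategory
  CartesianMonoidalCategory
open scoped MonObj

namespace Groth.Agent.Lib.Helper28.TorGeom

open Red Groth.Agent.Lib.Helper13 Groth.Agent.Lib.Helper28.SpPts Groth.Agent.Lib.Helper28.MuGen
  Groth.Agent.Lib.Helper28.MuBC Groth.Agent.Lib.Helper28.FinSubGeom
  Groth.Agent.Lib.Helper28.TorAlg CoactBr

noncomputable section

variable {K : Type u} [Field K]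

section Char

variable {M : Type} [CommGroup M] {D : Over (Spec (CommRingCat.of K))} [GrpObj D]
  (X : CharD (L := K) M D)

theorem theta_univ (N : Type) [CommMonoid N] (ψ : M →* N) (y : sp K (MonoidAlgebra K N) ⟶ D)
    (hy : ∀ a, X.chi y a = fn (𝟙 (sp K (MonoidAlgebra K N))) (MonoidAlgebra.single (ψ a) 1))
    (e : MonoidAlgebra K M) :
    theta X y e = fn (𝟙 (sp K (MonoidAlgebra K N))) (MonoidAlgebra.mapDomain ψ e) := by
  have h : theta X y = (fnHom (𝟙 (sp K (MonoidAlgebra K N)))).comp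
      (MonoidAlgebra.mapDomainRingHom K ψ) := by
    apply MonoidAlgebra.ringHom_ext
    · intro r
      have h1 : fn (𝟙 (sp K (MonoidAlgebra K N))) (MonoidAlgebra.single (1 : N) (1 : K)) = 1 := by
        rw [← MonoidAlgebra.one_def, ← fnHom_apply, map_one]
      have h2 := sm_mul_fn_single (L := K) N r (1 : N)
      rw [h1, mul_one] at h2
      rw [theta_single, X.chi_one, mul_one, h2]
      show _ = fn (𝟙 (sp K (MonoidAlgebra K N)))
        (MonoidAlgebra.mapDomain ψ (MonoidAlgebra.single (1 : M) r : MonoidAlgebra K M))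
      rw [MonoidAlgebra.mapDomain_single, map_one]
    · intro a
      rw [theta_single, map_one, one_mul, hy]
      show _ = fn (𝟙 (sp K (MonoidAlgebra K N)))
        (MonoidAlgebra.mapDomain ψ (MonoidAlgebra.single a (1 : K) : MonoidAlgebra K M))
      rw [MonoidAlgebra.mapDomain_single]
  rw [h]
  rfl

theorem chi_elt_inj' (a a' : M)
    (h : ∀ {Y : Over (Spec (CommRingCat.of K))} (y : Y ⟶ D), X.chi y a = X.chi y a') :
    a = a' := by
  obtain ⟨y₀, hy₀⟩ := exists_univ X M (MonoidHom.id M)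
  have h1 := h y₀
  rw [hy₀, hy₀] at h1
  have h2 := fn_id_injective M h1
  exact MonoidAlgebra.of_injective h2

end Char

section Maps

variable {M₁ M₂ : Type} [CommGroup M₁] [CommGroup M₂]
  {D₁ D₂ : Over (Spec (CommRingCat.of K))} [GrpObj D₁] [GrpObj D₂]
  (X₁ : CharD (L := K) M₁ D₁) (X₂ : CharD (L := K) M₂ D₂)

/-- a homomorphism between diagonalisable groups over a field is induced by a map of
character groups -/
theorem exists_char_map' (ψ : D₁ ⟶ D₂)
    (hψ : ∀ {Y : Over (Spec (CommRingCat.of K))} (y y' : Y ⟶ D₁),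
      (y * y') ≫ ψ = (y ≫ ψ) * (y' ≫ ψ)) :
    ∃ c : M₂ → M₁, ∀ {Y : Over (Spec (CommRingCat.of K))} (y : Y ⟶ D₁) (b : M₂),
      X₂.chi (y ≫ ψ) b = X₁.chi y (c b) := by
  classical
  have hex : ∀ b : M₂, ∃ a₀ : M₁, ∀ {Y : Over (Spec (CommRingCat.of K))} (y : Y ⟶ D₁),
      X₂.chi (y ≫ ψ) b = X₁.chi y a₀ := by
    intro b
    obtain ⟨e₀, he₀⟩ : ∃ e₀ : MonoidAlgebra K M₁,
        ∀ {Y : Over (Spec (CommRingCat.of K))} (y : Y ⟶ D₁),
          X₂.chi (y ≫ ψ) b = theta X₁ y e₀ :=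
      expand' X₁ (fun {Y} y => X₂.chi (y ≫ ψ) b) (by
        intro Y Y' s y
        show X₂.chi ((s ≫ y) ≫ ψ) b = _
        rw [Category.assoc, X₂.chi_comp])
    have hmul : ∀ {Y : Over (Spec (CommRingCat.of K))} (y y' : Y ⟶ D₁),
        theta X₁ (y * y') e₀ = theta X₁ y e₀ * theta X₁ y' e₀ := by
      intro Y y y'
      rw [← he₀, ← he₀, ← he₀, hψ, X₂.chi_mul]
    obtain ⟨y₁, hy₁⟩ := exists_univ X₁ (M₁ × M₁) (MonoidHom.inl M₁ M₁)
    obtain ⟨y₂, hy₂⟩ := exists_univ X₁ (M₁ × M₁) (MonoidHom.inr M₁ M₁)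
    have hy₁₂ : ∀ a, X₁.chi (y₁ * y₂) a = fn (𝟙 (sp K (MonoidAlgebra K (M₁ × M₁))))
        (MonoidAlgebra.single (((MonoidHom.id M₁).prod (MonoidHom.id M₁)) a) 1) := by
      intro a
      have hm : (MonoidHom.inl M₁ M₁) a * (MonoidHom.inr M₁ M₁) a =
          ((MonoidHom.id M₁).prod (MonoidHom.id M₁)) a := by simp
      rw [X₁.chi_mul, hy₁, hy₂, ← fnHom_apply, ← fnHom_apply, ← fnHom_apply, ← map_mul,
        MonoidAlgebra.single_mul_single, mul_one, hm]
    have h1 := hmul y₁ y₂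
    rw [theta_univ X₁ _ _ (y₁ * y₂) hy₁₂, theta_univ X₁ _ _ y₁ hy₁, theta_univ X₁ _ _ y₂ hy₂,
      ← fnHom_apply, ← fnHom_apply, ← fnHom_apply, ← map_mul] at h1
    have h2 := fn_id_injective (M₁ × M₁) h1
    have h2' : MonoidAlgebra.mapDomain (fun a : M₁ => (a, a)) e₀ =
        MonoidAlgebra.mapDomain (fun a : M₁ => (a, (1 : M₁))) e₀ *
          MonoidAlgebra.mapDomain (fun a : M₁ => ((1 : M₁), a)) e₀ := h2
    have hne : e₀ ≠ 0 := by
      intro h0
      have h3 := he₀ (1 : 𝟙_ (Over (Spec (CommRingCat.of K))) ⟶ D₁)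
      rw [h0, map_zero, one_comp_of_mul ψ hψ, chi_one_pt X₂] at h3
      haveI : Nontrivial Γ((𝟙_ (Over (Spec (CommRingCat.of K)))).left, ⊤) :=
        (sm_unit_injective (L := K)).nontrivial
      exact one_ne_zero h3
    obtain ⟨a₀, ha₀⟩ := groupLike_single e₀ hne h2'
    refine ⟨a₀, fun {Y} y => ?_⟩
    rw [he₀, ha₀, theta_single, map_one, one_mul]
  choose c hc using hex
  exact ⟨c, fun {Y} y b => hc b y⟩

theorem charmap_mul (ψ : D₁ ⟶ D₂) (c : M₂ → M₁)
    (hc : ∀ {Y : Over (Spec (CommRingCat.of K))} (y : Y ⟶ D₁) (b : M₂),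
      X₂.chi (y ≫ ψ) b = X₁.chi y (c b)) (b b' : M₂) : c (b * b') = c b * c b' := by
  apply chi_elt_inj' X₁
  intro Y y
  rw [← hc, X₂.chi_mul_elt, hc, hc, X₁.chi_mul_elt]

theorem exists_of_charmap (c : M₂ →* M₁) :
    ∃ ψ : D₁ ⟶ D₂, ∀ {Y : Over (Spec (CommRingCat.of K))} (y : Y ⟶ D₁) (b : M₂),
      X₂.chi (y ≫ ψ) b = X₁.chi y (c b) := by
  obtain ⟨ψ, hψ⟩ := X₂.chi_exists ((chiHom X₁ (𝟙 D₁)).comp c)
  refine ⟨ψ, fun {Y} y b => ?_⟩
  rw [X₂.chi_comp, hψ]
  show y.left.appTop (X₁.chi (𝟙 D₁) (c b)) = _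
  rw [← X₁.chi_comp, Category.comp_id]

theorem mul_of_charmap (ψ : D₁ ⟶ D₂) (c : M₂ → M₁)
    (hc : ∀ {Y : Over (Spec (CommRingCat.of K))} (y : Y ⟶ D₁) (b : M₂),
      X₂.chi (y ≫ ψ) b = X₁.chi y (c b))
    {Y : Over (Spec (CommRingCat.of K))} (y y' : Y ⟶ D₁) :
    (y * y') ≫ ψ = (y ≫ ψ) * (y' ≫ ψ) := by
  apply X₂.chi_ext
  intro b
  rw [hc, X₁.chi_mul, X₂.chi_mul, hc, hc]

end Maps

section Transport

variable {M : Type} [CommGroup M] {D D' : Over (Spec (CommRingCat.of K))} [GrpObj D] [GrpObj D']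

/-- transport of character data along an isomorphism of groups -/
def charTransport (ε : D ⟶ D') (ε' : D' ⟶ D) [IsMonHom ε] (h1 : ε ≫ ε' = 𝟙 D)
    (h2 : ε' ≫ ε = 𝟙 D') (X' : CharD (L := K) M D') : CharD (L := K) M D where
  chi y a := X'.chi (y ≫ ε) a
  chi_one y := X'.chi_one _
  chi_mul_elt y a b := X'.chi_mul_elt _ a b
  chi_mul y y' a := by rw [MonObj.mul_comp y y' ε, X'.chi_mul]
  chi_comp s y a := by rw [Category.assoc, X'.chi_comp]
  chi_ext y y' h := by
    have h3 := X'.chi_ext (y ≫ ε) (y' ≫ ε) h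
    have h4 := congrArg (fun t => t ≫ ε') h3
    simp only [Category.assoc, h1, Category.comp_id] at h4
    exact h4
  chi_exists ψ := by
    obtain ⟨y', hy'⟩ := X'.chi_exists ψ
    exact ⟨y' ≫ ε', fun a => by rw [Category.assoc, h2, Category.comp_id]; exact hy' a⟩

end Transport

section Kernel

variable {MG MQ MN : Type} [CommGroup MG] [CommGroup MQ] [CommGroup MN]
  {G Q DN : Over (Spec (CommRingCat.of K))} [GrpObj G] [GrpObj Q] [GrpObj DN]
  (XG : CharD (L := K) MG G) (XQ : CharD (L := K) MQ Q) (XN : CharD (L := K) MN DN)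

theorem exists_kernel (π : G ⟶ Q) (cπ : MQ → MG)
    (hcπ : ∀ {Y : Over (Spec (CommRingCat.of K))} (y : Y ⟶ G) (b : MQ),
      XQ.chi (y ≫ π) b = XG.chi y (cπ b))
    (q : MG →* MN) (hq : Function.Surjective q) (hq1 : ∀ b, q (cπ b) = 1)
    (hq2 : ∀ a, q a = 1 → ∃ b, cπ b = a) :
    ∃ iN : DN ⟶ G, (∀ {Y : Over (Spec (CommRingCat.of K))} (y : Y ⟶ DN) (a : MG),
      XG.chi (y ≫ iN) a = XN.chi y (q a)) ∧ Mono iN ∧ AlgGrp.IsKernel iN π := by
  obtain ⟨iN, hiN⟩ := exists_of_charmap XN XG q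
  have hmono : Mono iN := by
    constructor
    intro Y y y' h
    apply XN.chi_ext
    intro n
    obtain ⟨a, rfl⟩ := hq n
    rw [← hiN, ← hiN, h]
  refine ⟨iN, hiN, hmono, ?_⟩
  haveI := hmono
  refine isKernel_of_points iN π ?_ ?_
  · rw [← Hom.one_def]
    apply XQ.chi_ext
    intro b
    have h1 := hiN (𝟙 DN) (cπ b)
    rw [Category.id_comp] at h1
    rw [hcπ, h1, hq1, XN.chi_one, chi_one_pt XQ]
  · intro Y g hg
    have hg1 : ∀ b, XG.chi g (cπ b) = 1 := by
      intro b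
      rw [← hcπ, hg, ← Hom.one_def, chi_one_pt XQ]
    have hW : ∀ a a', q a = q a' → XG.chi g a = XG.chi g a' := by
      intro a a' h
      have h1 : q (a⁻¹ * a') = 1 := by rw [map_mul, map_inv, h, inv_mul_cancel]
      obtain ⟨b, hb⟩ := hq2 _ h1
      have h2 : a' = a * cπ b := by rw [hb, mul_inv_cancel_left]
      rw [h2, XG.chi_mul_elt, hg1, mul_one]
    have hone : XG.chi g (Function.surjInv hq 1) = 1 := by
      rw [hW _ 1 (by rw [Function.surjInv_eq hq, map_one]), XG.chi_one]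
    have hmulW : ∀ n n', XG.chi g (Function.surjInv hq (n * n')) =
        XG.chi g (Function.surjInv hq n) * XG.chi g (Function.surjInv hq n') := by
      intro n n'
      rw [← XG.chi_mul_elt]
      apply hW
      rw [Function.surjInv_eq hq, map_mul, Function.surjInv_eq hq, Function.surjInv_eq hq]
    obtain ⟨ψ', hψ'0⟩ : ∃ ψ' : MN →* Γ(Y.left, ⊤),
        ∀ n, ψ' n = XG.chi g (Function.surjInv hq n) :=
      ⟨MonoidHom.mk (OneHom.mk (fun n => XG.chi g (Function.surjInv hq n)) hone) hmulW,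
        fun n => rfl⟩
    have hψ' : ∀ a, ψ' (q a) = XG.chi g a := by
      intro a
      rw [hψ'0]
      exact hW _ _ (Function.surjInv_eq hq _)
    obtain ⟨h, hh⟩ := XN.chi_exists ψ'
    refine ⟨h, ?_⟩
    apply XG.chi_ext
    intro a
    rw [hiN, hh, hψ']

end Kernel

section Main

theorem main (k : Type u) [Field k]
    (T G Q : Over (Spec (CommRingCat.of k))) [GrpObj T] [GrpObj G] [GrpObj Q] (nK nG nQ : ℕ)
    (hK : Red.IsSplitTorusWith (Fin nK → ℤ) T) (hG : Red.IsSplitTorusWith (Fin nG → ℤ) G)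
    (hQ : Red.IsSplitTorusWith (Fin nQ → ℤ) Q)
    (i : T ⟶ G) [IsMonHom i] [Mono i]
    (π : G ⟶ Q) [IsMonHom π] [Flat π.left] [Surjective π.left] (hker : AlgGrp.IsKernel i π) :
    ∃ s : Q ⟶ G, IsMonHom s ∧ s ≫ π = 𝟙 Q := by
  obtain ⟨eK⟩ := hK
  obtain ⟨eG⟩ := hG
  obtain ⟨eQ⟩ := hQ
  obtain ⟨XK⟩ : Nonempty (CharD (L := k) (Multiplicative (Fin nK → ℤ)) T) :=
    ⟨charTransport eK.hom.hom.hom eK.inv.hom.hom
      (congrArg (fun t => t.hom.hom) eK.hom_inv_id) (congrArg (fun t => t.hom.hom) eK.inv_hom_id)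
      (charDS k _)⟩
  obtain ⟨XG⟩ : Nonempty (CharD (L := k) (Multiplicative (Fin nG → ℤ)) G) :=
    ⟨charTransport eG.hom.hom.hom eG.inv.hom.hom
      (congrArg (fun t => t.hom.hom) eG.hom_inv_id) (congrArg (fun t => t.hom.hom) eG.inv_hom_id)
      (charDS k _)⟩
  obtain ⟨XQ⟩ : Nonempty (CharD (L := k) (Multiplicative (Fin nQ → ℤ)) Q) :=
    ⟨charTransport eQ.hom.hom.hom eQ.inv.hom.hom
      (congrArg (fun t => t.hom.hom) eQ.hom_inv_id) (congrArg (fun t => t.hom.hom) eQ.inv_hom_id)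
      (charDS k _)⟩
  obtain ⟨cπ, hcπ⟩ := exists_char_map' XG XQ π (fun y y' => MonObj.mul_comp y y' π)
  have hcπm := charmap_mul XG XQ π cπ hcπ
  haveI : Epi π.left := Flat.epi_of_flat_of_surjective π.left
  have hinj : Function.Injective cπ := by
    intro b b' hbb
    apply chi_elt_inj' XQ
    intro Y y
    obtain ⟨z, hz⟩ := exists_gaFn_eq (X := Q) (XQ.chi (𝟙 Q) b)
    obtain ⟨z', hz'⟩ := exists_gaFn_eq (X := Q) (XQ.chi (𝟙 Q) b')
    have e1 := hcπ (𝟙 G) b
    have e2 := hcπ (𝟙 G) b'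
    rw [Category.id_comp] at e1 e2
    have h1 : π ≫ z = π ≫ z' := by
      apply gaFn_injective
      rw [gaFn_comp, gaFn_comp, hz, hz', ← XQ.chi_comp, ← XQ.chi_comp, Category.comp_id,
        e1, e2, hbb]
    have h2 : z = z' := by
      apply Over.OverMorphism.ext
      exact (cancel_epi π.left).mp (congrArg (fun t => t.left) h1)
    have h3 : XQ.chi (𝟙 Q) b = XQ.chi (𝟙 Q) b' := by rw [← hz, ← hz', h2]
    have h4 := congrArg (fun f => y.left.appTop f) h3
    simp only [← XQ.chi_comp, Category.comp_id] at h4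
    exact h4
  obtain ⟨cAdd, hcAdd⟩ : ∃ cAdd : (Fin nQ → ℤ) →+ (Fin nG → ℤ),
      ∀ a, cAdd a = Multiplicative.toAdd (cπ (Multiplicative.ofAdd a)) :=
    ⟨AddMonoidHom.mk' (fun a => Multiplicative.toAdd (cπ (Multiplicative.ofAdd a)))
      (fun a b => by
        show Multiplicative.toAdd (cπ (Multiplicative.ofAdd (a + b))) =
          Multiplicative.toAdd (cπ (Multiplicative.ofAdd a)) +
            Multiplicative.toAdd (cπ (Multiplicative.ofAdd b))
        rw [ofAdd_add, hcπm]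
        rfl), fun a => rfl⟩
  have hcAddinj : Function.Injective cAdd := by
    intro a a' h
    rw [hcAdd, hcAdd] at h
    exact Multiplicative.ofAdd.injective (hinj (Multiplicative.toAdd.injective h))
  obtain ⟨q, hqdef⟩ : ∃ q : Multiplicative (Fin nG → ℤ) →*
      Multiplicative ((Fin nG → ℤ) ⧸ cAdd.range),
      ∀ a, q a = Multiplicative.ofAdd ((QuotientAddGroup.mk' cAdd.range)
        (Multiplicative.toAdd a)) :=
    ⟨AddMonoidHom.toMultiplicative (QuotientAddGroup.mk' cAdd.range), fun a => rfl⟩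
  have hq : Function.Surjective q := by
    intro n
    obtain ⟨x, hx⟩ := QuotientAddGroup.mk'_surjective cAdd.range (Multiplicative.toAdd n)
    refine ⟨Multiplicative.ofAdd x, ?_⟩
    rw [hqdef]
    show Multiplicative.ofAdd ((QuotientAddGroup.mk' cAdd.range) x) = n
    rw [hx]
    rfl
  have hq1 : ∀ b, q (cπ b) = 1 := by
    intro b
    rw [hqdef]
    have h0 : (QuotientAddGroup.mk' cAdd.range) (Multiplicative.toAdd (cπ b)) = 0 :=
      (QuotientAddGroup.eq_zero_iff _).mpr ⟨Multiplicative.toAdd b, by rw [hcAdd]; rfl⟩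
    rw [h0]
    rfl
  have hq2 : ∀ a, q a = 1 → ∃ b, cπ b = a := by
    intro a ha
    rw [hqdef] at ha
    have h0 : (QuotientAddGroup.mk' cAdd.range) (Multiplicative.toAdd a) = 0 :=
      Multiplicative.ofAdd.injective ha
    obtain ⟨x, hx⟩ := (QuotientAddGroup.eq_zero_iff _).mp h0
    rw [hcAdd] at hx
    exact ⟨Multiplicative.ofAdd x, Multiplicative.toAdd.injective hx⟩
  obtain ⟨XN⟩ : Nonempty (CharD (L := k) (Multiplicative ((Fin nG → ℤ) ⧸ cAdd.range))
      (Red.DS (Spec (CommRingCat.of k)) ((Fin nG → ℤ) ⧸ cAdd.range))) := ⟨charDS k _⟩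
  obtain ⟨iN, hiN, hmonoN, hkerN⟩ := exists_kernel XG XQ XN π cπ hcπ q hq hq1 hq2
  haveI := hmonoN
  obtain ⟨κ, hκ⟩ : ∃ κ : T ≅ Red.DS (Spec (CommRingCat.of k)) ((Fin nG → ℤ) ⧸ cAdd.range),
      κ.hom ≫ iN = i :=
    ⟨IsPullback.isoIsPullback _ _ hker hkerN, IsPullback.isoIsPullback_hom_fst _ _ hker hkerN⟩
  have hκ' : κ.inv ≫ i = iN := by rw [← hκ, Iso.inv_hom_id_assoc]
  have hiNmul : ∀ {Y : Over (Spec (CommRingCat.of k))}
      (y y' : Y ⟶ Red.DS (Spec (CommRingCat.of k)) ((Fin nG → ℤ) ⧸ cAdd.range)),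
      (y * y') ≫ iN = (y ≫ iN) * (y' ≫ iN) := fun y y' => mul_of_charmap XN XG iN q hiN y y'
  have hκm : ∀ {Y : Over (Spec (CommRingCat.of k))} (y y' : Y ⟶ T),
      (y * y') ≫ κ.hom = (y ≫ κ.hom) * (y' ≫ κ.hom) := by
    intro Y y y'
    apply (cancel_mono iN).mp
    rw [Category.assoc, hκ, hiNmul, Category.assoc, Category.assoc, hκ, MonObj.mul_comp y y' i]
  have hκm' : ∀ {Y : Over (Spec (CommRingCat.of k))}
      (y y' : Y ⟶ Red.DS (Spec (CommRingCat.of k)) ((Fin nG → ℤ) ⧸ cAdd.range)),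
      (y * y') ≫ κ.inv = (y ≫ κ.inv) * (y' ≫ κ.inv) := by
    intro Y y y'
    apply (cancel_mono i).mp
    rw [Category.assoc, hκ', MonObj.mul_comp (y ≫ κ.inv) (y' ≫ κ.inv) i, Category.assoc,
      Category.assoc, hκ', hiNmul]
  obtain ⟨c₁, hc₁⟩ := exists_char_map' XK XN κ.hom hκm
  obtain ⟨c₂, hc₂⟩ := exists_char_map' XN XK κ.inv hκm'
  have hc₁m := charmap_mul XK XN κ.hom c₁ hc₁
  have h21 : ∀ n, c₂ (c₁ n) = n := by
    intro n
    apply chi_elt_inj' XN
    intro Y y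
    rw [← hc₂, ← hc₁, Category.assoc, Iso.inv_hom_id, Category.comp_id]
  have hc₁inj : Function.Injective c₁ := fun n n' h => by rw [← h21 n, ← h21 n', h]
  obtain ⟨c₁h, hc₁h⟩ : ∃ c₁h : Multiplicative ((Fin nG → ℤ) ⧸ cAdd.range) →*
      Multiplicative (Fin nK → ℤ), ∀ n, c₁h n = c₁ n := ⟨MonoidHom.mk' c₁ hc₁m, fun n => rfl⟩
  have hsat : ∀ (r : ℤ) (x : Fin nG → ℤ), r ≠ 0 → r • x ∈ cAdd.range → x ∈ cAdd.range := by
    intro r x hr hx
    have hn : (q (Multiplicative.ofAdd x)) ^ r = 1 := by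
      rw [← map_zpow, hqdef]
      have h0 : (QuotientAddGroup.mk' cAdd.range)
          (Multiplicative.toAdd ((Multiplicative.ofAdd x) ^ r)) = 0 :=
        (QuotientAddGroup.eq_zero_iff _).mpr hx
      rw [h0]
      rfl
    have h1 : (c₁h (q (Multiplicative.ofAdd x))) ^ r = 1 := by
      rw [← map_zpow, hn, map_one]
    have h2 : r • Multiplicative.toAdd (c₁h (q (Multiplicative.ofAdd x))) = 0 :=
      congrArg Multiplicative.toAdd h1
    have h3 : Multiplicative.toAdd (c₁h (q (Multiplicative.ofAdd x))) = 0 :=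
      (smul_eq_zero.mp h2).resolve_left hr
    have h4 : c₁h (q (Multiplicative.ofAdd x)) = c₁h 1 := by
      rw [map_one]
      exact Multiplicative.toAdd.injective h3
    rw [hc₁h, hc₁h] at h4
    have h5 := hc₁inj h4
    obtain ⟨b, hb⟩ := hq2 _ h5
    exact ⟨Multiplicative.toAdd b, by rw [hcAdd]; exact congrArg Multiplicative.toAdd hb⟩
  obtain ⟨ρ, hρ⟩ := exists_retraction cAdd hcAddinj hsat
  obtain ⟨s, hs⟩ := exists_of_charmap XQ XG (AddMonoidHom.toMultiplicative ρ)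
  refine ⟨s, ?_, ?_⟩
  · apply Groth.Agent.Lib.Helper1.Kummer.isMonHom_of_points
    intro Y y y'
    exact mul_of_charmap XQ XG s _ hs y y'
  · have h : 𝟙 Q ≫ s ≫ π = 𝟙 Q := by
      apply XQ.chi_ext
      intro b
      rw [← Category.assoc, hcπ, hs]
      congr 1
      show Multiplicative.ofAdd (ρ (Multiplicative.toAdd (cπ b))) = b
      have h1 := hρ (Multiplicative.toAdd b)
      rw [hcAdd] at h1
      exact congrArg Multiplicative.ofAdd h1
    rwa [Category.id_comp] at h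

end Main

end

end Groth.Agent.Lib.Helper28.TorGeom
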