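import Groth.Agent.S14272
import Groth.Agent.Lib.Helper26.RegularNormal
import Groth.Agent.Lib.Helper4.Depth
import Groth.Agent.Lib.Helper29.TorsorProps

/-!
# Helper library (helper28): morphisms of torsors under finite locally free group schemes extend
across closed subsets of depth at least two (via helper17's `S14272`).
-/

set_option autoImplicit false
set_option linter.style.haveILetI false
universe u
open CategoryTheory CategoryTheory.Limits AlgebraicGeometry MonoidalCategory CartesianMonoidalCategory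

namespace Groth.Agent.Lib.Helper28.TorsExt

/-- The depth-two hypothesis of `S14272` along the closed complement of `U`. -/
def H2 (X : Scheme.{u}) (U : X.Opens) : Prop :=
  ∀ z : X, z ∉ U → ∃ a b : X.presheaf.stalk z, a ∈ IsLocalRing.maximalIdeal (X.presheaf.stalk z) ∧
    b ∈ IsLocalRing.maximalIdeal (X.presheaf.stalk z) ∧
    RingTheory.Sequence.IsWeaklyRegular (X.presheaf.stalk z) [a, b]

theorem exists_pair_of_regular (R : Type u) [CommRing R] [IsRegularLocalRing R]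
    (h : (2 : WithBot ℕ∞) ≤ ringKrullDim R) :
    ∃ a b : R, a ∈ IsLocalRing.maximalIdeal R ∧ b ∈ IsLocalRing.maximalIdeal R ∧
      RingTheory.Sequence.IsWeaklyRegular R [a, b] := by
  have hht : ((IsLocalRing.maximalIdeal R).height : WithBot ℕ∞) = ringKrullDim R :=
    IsLocalRing.maximalIdeal_height_eq_ringKrullDim
  rw [← hht] at h
  have h2 : (2 : ℕ∞) ≤ (IsLocalRing.maximalIdeal R).height :=
    WithBot.coe_le_coe.mp
      (show ((2 : ℕ∞) : WithBot ℕ∞) ≤ ((IsLocalRing.maximalIdeal R).height : WithBot ℕ∞) from h)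
  have hd : (2 : ℕ∞) ≤ LocCoh.depth R R :=
    h2.trans (Groth.Agent.Lib.Helper26.RegularNormal.height_maximalIdeal_le_depth R)
  have hne : IsLocalRing.maximalIdeal R • (⊤ : Submodule R R) ≠ ⊤ :=
    Groth.Agent.Lib.Helper4.maximalIdeal_smul_top_ne_top
  obtain ⟨rs, hlen, hmem, hreg⟩ := Groth.Agent.Lib.Helper4.exists_isWeaklyRegular_of_le_idealDepth
    (IsLocalRing.maximalIdeal R) hne 2 (by exact_mod_cast hd)
  rcases rs with _ | ⟨a, _ | ⟨b, _ | ⟨z, l⟩⟩⟩
  · simp at hlen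
  · simp at hlen
  · exact ⟨a, b, hmem a (by simp), hmem b (by simp), hreg⟩
  · simp at hlen

theorem isWeaklyRegular_map_of_flat {R S : Type*} [CommRing R] [CommRing S] (φ : R →+* S)
    (hφ : φ.Flat) {a b : R} (h : RingTheory.Sequence.IsWeaklyRegular R [a, b]) :
    RingTheory.Sequence.IsWeaklyRegular S [φ a, φ b] := by
  algebraize [φ]
  exact h.of_flat (S := S)

theorem H2.of_flat {X P : Scheme.{u}} {U : X.Opens} (h : H2 X U) (p : P ⟶ X) [Flat p] :
    H2 P (p ⁻¹ᵁ U) := by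
  intro q hq
  obtain ⟨a, b, ha, hb, hab⟩ := h (p q) (fun hz => hq hz)
  have hflat := Flat.stalkMap p q
  refine ⟨(p.stalkMap q).hom a, (p.stalkMap q).hom b, ?_, ?_,
    isWeaklyRegular_map_of_flat _ hflat hab⟩
  · rw [IsLocalRing.mem_maximalIdeal, mem_nonunits_iff] at ha ⊢
    exact fun hu => ha (isUnit_of_map_unit (p.stalkMap q).hom a hu)
  · rw [IsLocalRing.mem_maximalIdeal, mem_nonunits_iff] at hb ⊢
    exact fun hu => hb (isUnit_of_map_unit (p.stalkMap q).hom b hu)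

/-- Relative Hartogs: for `p : P ⟶ X` flat and `f : Y ⟶ X` affine of finite presentation, `X`-morphisms
`P ⟶ Y` are the same as `X`-morphisms `P ×_X U ⟶ Y`. -/
theorem key {X : Scheme.{u}} (U : X.Opens) [QuasiCompact U.ι] {P : Scheme.{u}} (p : P ⟶ X) [Flat p]
    {Y : Scheme.{u}} (f : Y ⟶ X) [IsAffineHom f] [LocallyOfFinitePresentation f] (hZ : H2 X U)
    (t : pullback p U.ι ⟶ Y) (ht : t ≫ f = pullback.fst p U.ι ≫ p) :
    ∃! g : P ⟶ Y, g ≫ f = p ∧ pullback.fst p U.ι ≫ g = t := by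
  haveI : QuasiCompact (p ⁻¹ᵁ U).ι := by
    have : QuasiCompact ((pullbackRestrictIsoRestrict p U).inv ≫ pullback.fst p U.ι) :=
      inferInstance
    rwa [pullbackRestrictIsoRestrict_inv_fst] at this
  have hZ' : H2 P (p ⁻¹ᵁ U) := hZ.of_flat p
  haveI : IsAffineHom (pullback.fst p f) :=
    MorphismProperty.pullback_fst (P := @IsAffineHom) p f inferInstance
  haveI : LocallyOfFinitePresentation (pullback.fst p f) := inferInstance
  have hc : (p ⁻¹ᵁ U).ι ≫ p = ((pullbackRestrictIsoRestrict p U).inv ≫ t) ≫ f := by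
    rw [Category.assoc, ht, ← Category.assoc, pullbackRestrictIsoRestrict_inv_fst]
  have ht' : pullback.lift (p ⁻¹ᵁ U).ι ((pullbackRestrictIsoRestrict p U).inv ≫ t) hc ≫
      pullback.fst p f = (p ⁻¹ᵁ U).ι := pullback.lift_fst _ _ _
  obtain ⟨s, ⟨hs1, hs2⟩, hsu⟩ := Groth.Agent.S14272.result P (p ⁻¹ᵁ U) hZ' (pullback p f)
    (pullback.fst p f) _ ht'
  refine ⟨s ≫ pullback.snd p f, ⟨?_, ?_⟩, ?_⟩
  · rw [Category.assoc, ← pullback.condition, ← Category.assoc, hs1, Category.id_comp]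
  · have h1 : pullback.fst p U.ι = (pullbackRestrictIsoRestrict p U).hom ≫ (p ⁻¹ᵁ U).ι :=
      (pullbackRestrictIsoRestrict_hom_ι p U).symm
    rw [h1, Category.assoc, ← Category.assoc (p ⁻¹ᵁ U).ι, hs2, pullback.lift_snd,
      Iso.hom_inv_id_assoc]
  · rintro g ⟨hg1, hg2⟩
    have hg : pullback.lift (𝟙 P) g (by rw [Category.id_comp, hg1]) = s := by
      apply hsu
      refine ⟨pullback.lift_fst _ _ _, ?_⟩
      apply pullback.hom_ext
      · rw [Category.assoc, pullback.lift_fst, Category.comp_id, pullback.lift_fst]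
      · rw [Category.assoc, pullback.lift_snd, pullback.lift_snd,
          ← pullbackRestrictIsoRestrict_inv_fst, Category.assoc, hg2]
    rw [← hg, pullback.lift_snd]

theorem pb_map_left_fst {X Y : Scheme.{u}} (f : X ⟶ Y) {A B : Over Y} (g : A ⟶ B) :
    ((Over.pullback f).map g).left ≫ pullback.fst B.hom f = pullback.fst A.hom f ≫ g.left := by
  dsimp [Over.pullback]
  exact pullback.lift_fst _ _ _

theorem pb_left_snd {X Y : Scheme.{u}} (f : X ⟶ Y) {A B : Over Y}
    (k : (Over.pullback f).obj A ⟶ (Over.pullback f).obj B) :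
    k.left ≫ pullback.snd B.hom f = pullback.snd A.hom f :=
  Over.w k

theorem main {X : Scheme.{u}} (G : Over X) [GrpObj G]
    [IsFinite G.hom] [Flat G.hom] [LocallyOfFinitePresentation G.hom]
    (U : X.Opens) [QuasiCompact U.ι] (hZ : H2 X U)
    (Q₁ Q₂ : Over X) (a₁ : AlgGrp.Action G Q₁) (a₂ : AlgGrp.Action G Q₂)
    (h₁ : NonAbH1.IsTorsorFor Scheme.fppfPrecoverage a₁)
    (h₂ : NonAbH1.IsTorsorFor Scheme.fppfPrecoverage a₂)
    (h' : (Over.pullback U.ι).obj Q₁ ⟶ (Over.pullback U.ι).obj Q₂)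
    (hh' : (Functor.LaxMonoidal.μ (Over.pullback U.ι) G Q₁ ≫ (Over.pullback U.ι).map a₁.act) ≫ h' =
      ((Over.pullback U.ι).obj G ◁ h') ≫
        (Functor.LaxMonoidal.μ (Over.pullback U.ι) G Q₂ ≫ (Over.pullback U.ι).map a₂.act)) :
    ∃! h : Q₁ ⟶ Q₂, a₁.act ≫ h = (G ◁ h) ≫ a₂.act ∧ (Over.pullback U.ι).map h = h' := by
  have hf₁ : NonAbH1.IsTorsorFor Scheme.fpqcPrecoverage a₁ := by
    obtain ⟨hps, R, hR, hsec⟩ := h₁
    exact ⟨hps, R, Scheme.fppfPrecoverage_le_fpqcPrecoverage _ hR, hsec⟩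
  have hf₂ : NonAbH1.IsTorsorFor Scheme.fpqcPrecoverage a₂ := by
    obtain ⟨hps, R, hR, hsec⟩ := h₂
    exact ⟨hps, R, Scheme.fppfPrecoverage_le_fpqcPrecoverage _ hR, hsec⟩
  haveI : IsAffineHom G.hom := inferInstance
  obtain ⟨-, hflat₁⟩ := Groth.Agent.Lib.Helper29.TorsorProps.main6004 G Q₁ a₁ hf₁
  obtain ⟨haff₂, -⟩ := Groth.Agent.Lib.Helper29.TorsorProps.main6004 G Q₂ a₂ hf₂
  have hlfp₂ : LocallyOfFinitePresentation Q₂.hom :=
    Groth.Agent.Lib.Helper29.TorsorDesc.hom_of_isTorsorFor_fpqc @LocallyOfFinitePresentation a₂ hf₂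
      inferInstance
  haveI := hflat₁
  haveI := haff₂
  haveI := hlfp₂
  -- injectivity of restriction to `U`
  have inj : ∀ (P : Over X) [Flat P.hom] (g₁ g₂ : P ⟶ Q₂),
      (Over.pullback U.ι).map g₁ = (Over.pullback U.ι).map g₂ → g₁ = g₂ := by
    intro P _ g₁ g₂ hg
    obtain ⟨g, -, hgu⟩ := key U P.hom Q₂.hom hZ (pullback.fst P.hom U.ι ≫ g₁.left)
      (by rw [Category.assoc, Over.w])
    have e1 : g₁.left = g := hgu _ ⟨Over.w g₁, rfl⟩
    have e2 : g₂.left = g := by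
      refine hgu _ ⟨Over.w g₂, ?_⟩
      rw [← pb_map_left_fst, ← pb_map_left_fst, hg]
    exact Over.OverMorphism.ext (e1.trans e2.symm)
  -- existence
  obtain ⟨g, ⟨hg1, hg2⟩, -⟩ := key U Q₁.hom Q₂.hom hZ (h'.left ≫ pullback.fst Q₂.hom U.ι) (by
    rw [Category.assoc, pullback.condition, ← Category.assoc, pb_left_snd, pullback.condition])
  obtain ⟨h, hh⟩ : ∃ h : Q₁ ⟶ Q₂, h.left = g := ⟨Over.homMk g hg1, rfl⟩
  have hmap : (Over.pullback U.ι).map h = h' := by
    refine Over.OverMorphism.ext ?_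
    refine pullback.hom_ext (f := Q₂.hom) (g := U.ι) ?_ ?_
    · rw [pb_map_left_fst, hh, hg2]
    · rw [pb_left_snd, pb_left_snd]
  have hequiv : a₁.act ≫ h = (G ◁ h) ≫ a₂.act := by
    haveI : Flat (G ⊗ Q₁).hom := by
      rw [Over.tensorObj_hom]
      haveI : Flat (pullback.fst G.hom Q₁.hom) := inferInstance
      infer_instance
    apply inj
    rw [← cancel_epi (Functor.LaxMonoidal.μ (Over.pullback U.ι) G Q₁)]
    calc Functor.LaxMonoidal.μ (Over.pullback U.ι) G Q₁ ≫ (Over.pullback U.ι).map (a₁.act ≫ h)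
        = (Functor.LaxMonoidal.μ (Over.pullback U.ι) G Q₁ ≫ (Over.pullback U.ι).map a₁.act) ≫
            (Over.pullback U.ι).map h := by
          rw [Functor.map_comp, Category.assoc]
      _ = ((Over.pullback U.ι).obj G ◁ h') ≫
            (Functor.LaxMonoidal.μ (Over.pullback U.ι) G Q₂ ≫ (Over.pullback U.ι).map a₂.act) := by
          rw [hmap, hh']
      _ = (Functor.LaxMonoidal.μ (Over.pullback U.ι) G Q₁ ≫ (Over.pullback U.ι).map (G ◁ h)) ≫
            (Over.pullback U.ι).map a₂.act := by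
          rw [← Functor.LaxMonoidal.μ_natural_right, hmap, Category.assoc]
      _ = Functor.LaxMonoidal.μ (Over.pullback U.ι) G Q₁ ≫
            (Over.pullback U.ι).map ((G ◁ h) ≫ a₂.act) := by
          rw [Functor.map_comp, Category.assoc]
  exact ⟨h, ⟨hequiv, hmap⟩, fun h₂ ⟨_, hm⟩ => inj Q₁ h₂ h (hm.trans hmap.symm)⟩

end Groth.Agent.Lib.Helper28.TorsExt
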