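/-
Helper28 library: rational points of torsors under affine group schemes over an algebraically
closed field, part A: `K ⊗ B` inside `K ⊗ A`, kernel description, descent of membership.
-/
import Groth.Agent.Lib.Helper28.HopfPtExt

set_option autoImplicit false
universe u
open TensorProduct

namespace Groth.Agent.Lib.Helper28.TorsorPt

section Basic

variable {k : Type u} [Field k] (K : Type u) [Field K] [Algebra k K]
  {A : Type u} [CommRing A] [Algebra k A]

/-- `K ⊗ B → K ⊗ A` -/
noncomputable def incB (B : Subalgebra k A) : K ⊗[k] ↥B →ₐ[k] K ⊗[k] A :=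
  Algebra.TensorProduct.map (AlgHom.id k K) B.val

lemma incB_tmul (B : Subalgebra k A) (l : K) (b : ↥B) :
    incB K B (l ⊗ₜ[k] b) = l ⊗ₜ[k] (b : A) := rfl

lemma incB_injective (B : Subalgebra k A) : Function.Injective (incB K B) := by
  have h := Module.Flat.lTensor_preserves_injective_linearMap (M := K) B.val.toLinearMap
    Subtype.val_injective
  intro x y hxy
  apply h
  exact hxy

/-- `K ⊗ B` as a subalgebra of `K ⊗ A` -/
noncomputable def BK (B : Subalgebra k A) : Subalgebra k (K ⊗[k] A) := (incB K B).range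

lemma tmul_mem_BK {B : Subalgebra k A} (l : K) {b : A} (hb : b ∈ B) : l ⊗ₜ[k] b ∈ BK K B :=
  ⟨l ⊗ₜ[k] ⟨b, hb⟩, rfl⟩

lemma BK_mono {B B' : Subalgebra k A} (h : B ≤ B') : BK K B ≤ BK K B' := by
  rintro _ ⟨t, rfl⟩
  induction t using TensorProduct.induction_on with
  | zero => rw [map_zero]; exact Subalgebra.zero_mem _
  | tmul l b => exact tmul_mem_BK K l (h b.2)
  | add x y hx hy => rw [map_add]; exact Subalgebra.add_mem _ hx hy

lemma BK_top : BK K (⊤ : Subalgebra k A) = ⊤ := by
  rw [eq_top_iff]
  intro z hz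
  clear hz
  induction z using TensorProduct.induction_on with
  | zero => exact Subalgebra.zero_mem _
  | tmul l a => exact tmul_mem_BK K l Algebra.mem_top
  | add x y hx hy => exact Subalgebra.add_mem _ hx hy

lemma mem_BK_iSup {ι' : Type*} [Nonempty ι'] (Bs : ι' → Subalgebra k A)
    (dir : Directed (· ≤ ·) Bs) {z : K ⊗[k] A} (hz : z ∈ BK K (iSup Bs)) :
    ∃ i, z ∈ BK K (Bs i) := by
  obtain ⟨t, rfl⟩ := hz
  induction t using TensorProduct.induction_on with
  | zero => exact ⟨Classical.arbitrary ι', by rw [map_zero]; exact Subalgebra.zero_mem _⟩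
  | tmul l b =>
    have hb : (b : A) ∈ ((iSup Bs : Subalgebra k A) : Set A) := b.2
    rw [Subalgebra.coe_iSup_of_directed dir, Set.mem_iUnion] at hb
    obtain ⟨i, hi⟩ := hb
    exact ⟨i, tmul_mem_BK K l hi⟩
  | add x y hx hy =>
    obtain ⟨i, hi⟩ := hx
    obtain ⟨j, hj⟩ := hy
    obtain ⟨l, hil, hjl⟩ := dir i j
    exact ⟨l, by rw [map_add]; exact Subalgebra.add_mem _ (BK_mono K hil hi) (BK_mono K hjl hj)⟩

/-- kernel description of `K ⊗ B` -/
lemma mem_BK_iff (B : Subalgebra k A) (z : K ⊗[k] A) :
    z ∈ BK K B ↔ LinearMap.lTensor K (Subalgebra.toSubmodule B).mkQ z = 0 := by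
  constructor
  · rintro ⟨t, rfl⟩
    induction t using TensorProduct.induction_on with
    | zero => simp
    | tmul l b =>
      show LinearMap.lTensor K (Subalgebra.toSubmodule B).mkQ (l ⊗ₜ[k] (b : A)) = 0
      rw [LinearMap.lTensor_tmul]
      have : (Subalgebra.toSubmodule B).mkQ (b : A) = 0 := by
        rw [Submodule.mkQ_apply, Submodule.Quotient.mk_eq_zero]
        exact b.2
      rw [this, TensorProduct.tmul_zero]
    | add x y hx hy =>
      have hx' : LinearMap.lTensor K (Subalgebra.toSubmodule B).mkQ (incB K B x) = 0 := hx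
      have hy' : LinearMap.lTensor K (Subalgebra.toSubmodule B).mkQ (incB K B y) = 0 := hy
      show LinearMap.lTensor K (Subalgebra.toSubmodule B).mkQ (incB K B (x + y)) = 0
      rw [map_add, map_add, hx', hy', add_zero]
  · intro hz
    have hex : Function.Exact (Subalgebra.toSubmodule B).subtype (Subalgebra.toSubmodule B).mkQ :=
      LinearMap.exact_subtype_mkQ _
    have hex' := lTensor_exact K hex (Submodule.mkQ_surjective _)
    obtain ⟨t, rfl⟩ := (hex' z).mp hz
    clear hz
    induction t using TensorProduct.induction_on with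
    | zero => rw [map_zero]; exact Subalgebra.zero_mem _
    | tmul l b => exact tmul_mem_BK K l (show (b : A) ∈ B from b.2)
    | add x y hx hy =>
      rw [map_add]
      exact Subalgebra.add_mem _ hx hy

/-- descent of membership along `k → K` -/
lemma mem_of_one_tmul_mem_BK (V : Subalgebra k A) (c : A) (h : (1 : K) ⊗ₜ[k] c ∈ BK K V) :
    c ∈ V := by
  obtain ⟨r, hr⟩ := LinearMap.exists_leftInverse_of_injective (Algebra.linearMap k K)
    (LinearMap.ker_eq_bot.mpr (algebraMap k K).injective)
  have hr1 : r 1 = 1 := by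
    have := LinearMap.congr_fun hr 1
    simpa using this
  let π : K ⊗[k] A →ₗ[k] A := (TensorProduct.lid k A).toLinearMap ∘ₗ LinearMap.rTensor A r
  have hπ : ∀ z ∈ BK K V, π z ∈ V := by
    rintro _ ⟨t, rfl⟩
    induction t using TensorProduct.induction_on with
    | zero => rw [map_zero, map_zero]; exact Subalgebra.zero_mem _
    | tmul l v =>
      show r l • (v : A) ∈ V
      exact V.smul_mem v.2 _
    | add x y hx hy => rw [map_add, map_add]; exact V.add_mem hx hy
  have h1 := hπ _ h
  have h2 : π ((1 : K) ⊗ₜ[k] c) = c := by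
    show r 1 • c = c
    rw [hr1, one_smul]
  rw [h2] at h1
  exact h1

end Basic

end Groth.Agent.Lib.Helper28.TorsorPt
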