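/-
Helper28 library: rational points of torsors, part B: the trivialisation datum over `K`, the
subalgebras `C_B` of functions invariant under `ker (G → G_B)`, and the form property
`K ⊗ C_B ≃ K ⊗ B`.
-/
import Groth.Agent.Lib.Helper28.TorsorPtA

set_option autoImplicit false
universe u
open TensorProduct

namespace Groth.Agent.Lib.Helper28.TorsorPt

open Groth.Agent.Lib.Helper28.TakSubalg

section Datum

variable (k : Type u) [Field k] (K : Type u) [Field K] [Algebra k K]
  (A : Type u) [CommRing A] [HopfAlgebra k A] (C : Type u) [CommRing C] [Algebra k C]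

/-- the orbit map `C → K ⊗ A` through a `K`-point -/
noncomputable def iotaOf (p0 : C →ₐ[k] K) (κ : C →ₐ[k] C ⊗[k] A) : C →ₐ[k] K ⊗[k] A :=
  (Algebra.TensorProduct.map p0 (AlgHom.id k A)).comp κ

/-- the comparison `K ⊗ C → K ⊗ A` -/
noncomputable def PhiOf (p0 : C →ₐ[k] K) (κ : C →ₐ[k] C ⊗[k] A) : K ⊗[k] C →ₐ[k] K ⊗[k] A :=
  Algebra.TensorProduct.productMap Algebra.TensorProduct.includeLeft (iotaOf k K A C p0 κ)

/-- a torsor trivialised over `K`, in algebraic form -/
structure Datum where
  p0 : C →ₐ[k] K
  κ : C →ₐ[k] C ⊗[k] A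
  gu : A →ₐ[k] K ⊗[k] C
  Phi_gu : ∀ a, PhiOf k K A C p0 κ (gu a) = (1 : K) ⊗ₜ[k] a
  Phi_inj : Function.Injective (PhiOf k K A C p0 κ)
  colin : ∀ a, LinearMap.lTensor K κ.toLinearMap (gu a) =
    TensorProduct.assoc k K C A (LinearMap.rTensor A gu.toLinearMap (Coalgebra.comul a))

end Datum

section FP

variable {k : Type u} [Field k] {K : Type u} [Field K] [Algebra k K]
  {A : Type u} [CommRing A] [HopfAlgebra k A] {C : Type u} [CommRing C] [Algebra k C]
  (d : Datum k K A C)

/-- the orbit map -/
noncomputable def Datum.iota : C →ₐ[k] K ⊗[k] A := iotaOf k K A C d.p0 d.κ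

/-- the comparison map -/
noncomputable def Datum.Phi : K ⊗[k] C →ₐ[k] K ⊗[k] A := PhiOf k K A C d.p0 d.κ

lemma Datum.Phi_tmul (l : K) (c : C) :
    d.Phi (l ⊗ₜ[k] c) = (l ⊗ₜ[k] (1 : A)) * d.iota c := by
  show Algebra.TensorProduct.productMap _ _ (l ⊗ₜ[k] c) = _
  rw [Algebra.TensorProduct.productMap_apply_tmul]
  rfl

/-- functions on the torsor invariant under the kernel of `G → G_B` -/
noncomputable def Datum.CB (B : Subalgebra k A) : Subalgebra k C := (BK K B).comap d.iota

lemma Datum.mem_CB {B : Subalgebra k A} {c : C} : c ∈ d.CB B ↔ d.iota c ∈ BK K B := Iff.rfl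

lemma Datum.CB_mono {B B' : Subalgebra k A} (h : B ≤ B') : d.CB B ≤ d.CB B' :=
  fun _ hc => BK_mono K h hc

/-- **form property**: the universal division map sends `B` into `K ⊗ C_B`. -/
theorem Datum.gu_mem (B : Subalgebra k A) (hB : IsHopfSub B) {b : A} (hb : b ∈ B) :
    d.gu b ∈ BK K (d.CB B) := by
  let qB : A →ₗ[k] A ⧸ Subalgebra.toSubmodule B := (Subalgebra.toSubmodule B).mkQ
  let κB : C →ₗ[k] C ⊗[k] (A ⧸ Subalgebra.toSubmodule B) :=
    LinearMap.lTensor C qB ∘ₗ d.κ.toLinearMap
  -- the kernel of `κB` lies in `C_B`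
  have hN : ∀ n : C, κB n = 0 → n ∈ d.CB B := by
    intro n hn
    rw [Datum.mem_CB, mem_BK_iff]
    have e : ∀ u : C ⊗[k] A, LinearMap.lTensor K qB
        (Algebra.TensorProduct.map d.p0 (AlgHom.id k A) u) =
        LinearMap.rTensor (A ⧸ Subalgebra.toSubmodule B) d.p0.toLinearMap
          (LinearMap.lTensor C qB u) := by
      intro u
      induction u using TensorProduct.induction_on with
      | zero => simp
      | tmul c a => rfl
      | add x y hx hy => simp only [map_add, hx, hy]
    show LinearMap.lTensor K qB (Algebra.TensorProduct.map d.p0 (AlgHom.id k A) (d.κ n)) = 0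
    rw [e]
    have : LinearMap.lTensor C qB (d.κ n) = 0 := hn
    rw [this, map_zero]
  -- `Δ b` dies in `A ⊗ A/B`
  have hΔ : LinearMap.lTensor A qB (Coalgebra.comul (R := k) b) = 0 := by
    obtain ⟨y, hy⟩ := hB.comul_mem b hb
    rw [← hy]
    clear hy
    induction y using TensorProduct.induction_on with
    | zero => simp
    | tmul b₁ b₂ =>
      show (b₁ : A) ⊗ₜ[k] qB (b₂ : A) = 0
      have : qB (b₂ : A) = 0 := by
        show (Subalgebra.toSubmodule B).mkQ (b₂ : A) = 0
        rw [Submodule.mkQ_apply, Submodule.Quotient.mk_eq_zero]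
        exact b₂.2
      rw [this, TensorProduct.tmul_zero]
    | add x y hx hy => simp only [map_add, hx, hy, add_zero]
  -- hence `gu b` dies under `K ⊗ κB`
  have h3 : LinearMap.lTensor K κB (d.gu b) = 0 := by
    have e1 : LinearMap.lTensor K κB (d.gu b) =
        LinearMap.lTensor K (LinearMap.lTensor C qB)
          (LinearMap.lTensor K d.κ.toLinearMap (d.gu b)) := by
      rw [← LinearMap.comp_apply, ← LinearMap.lTensor_comp]
    have e2 : ∀ w : (K ⊗[k] C) ⊗[k] A, LinearMap.lTensor K (LinearMap.lTensor C qB)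
        (TensorProduct.assoc k K C A w) =
        TensorProduct.assoc k K C (A ⧸ Subalgebra.toSubmodule B)
          (LinearMap.lTensor (K ⊗[k] C) qB w) := by
      intro w
      induction w using TensorProduct.induction_on with
      | zero => simp
      | tmul x a =>
        induction x using TensorProduct.induction_on with
        | zero => simp
        | tmul l c => rfl
        | add x y hx hy =>
          simp only [TensorProduct.add_tmul, map_add, hx, hy]
      | add x y hx hy => simp only [map_add, hx, hy]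
    have e3 : ∀ v : A ⊗[k] A, LinearMap.lTensor (K ⊗[k] C) qB
        (LinearMap.rTensor A d.gu.toLinearMap v) =
        LinearMap.rTensor (A ⧸ Subalgebra.toSubmodule B) d.gu.toLinearMap
          (LinearMap.lTensor A qB v) := by
      intro v
      induction v using TensorProduct.induction_on with
      | zero => simp
      | tmul a a' => rfl
      | add x y hx hy => simp only [map_add, hx, hy]
    rw [e1, d.colin, e2, e3, hΔ, map_zero, map_zero]
  -- exactness
  have hex : Function.Exact (LinearMap.ker κB).subtype κB := LinearMap.exact_subtype_ker_map κB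
  have hex' := Module.Flat.lTensor_exact K hex
  obtain ⟨t, ht⟩ := (hex' (d.gu b)).mp h3
  rw [← ht]
  clear ht
  induction t using TensorProduct.induction_on with
  | zero => rw [map_zero]; exact Subalgebra.zero_mem _
  | tmul l n => exact tmul_mem_BK K l (hN n.1 n.2)
  | add x y hx hy => rw [map_add]; exact Subalgebra.add_mem _ hx hy

end FP

end Groth.Agent.Lib.Helper28.TorsorPt
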