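/-
Helper28 library: rational points of torsors, part C: `K ⊗ C_B ≃ K ⊗ B`, descent of generation,
finite generation of `C_D`, and the extension step with values in `K`.
-/
import Groth.Agent.Lib.Helper28.TorsorPtB

set_option autoImplicit false
universe u
open TensorProduct

namespace Groth.Agent.Lib.Helper28.TorsorPt

open Groth.Agent.Lib.Helper28.TakSubalg Groth.Agent.Lib.Helper28.TakMain

section Equiv

variable {k : Type u} [Field k] {K : Type u} [Field K] [Algebra k K]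
  {A : Type u} [CommRing A] [HopfAlgebra k A] {C : Type u} [CommRing C] [Algebra k C]
  (d : Datum k K A C)

lemma Datum.Phi_gu' (a : A) : d.Phi (d.gu a) = (1 : K) ⊗ₜ[k] a := d.Phi_gu a

lemma Datum.Phi_one_tmul (c : C) : d.Phi ((1 : K) ⊗ₜ[k] c) = d.iota c := by
  rw [d.Phi_tmul]
  have : ((1 : K) ⊗ₜ[k] (1 : A) : K ⊗[k] A) = 1 := rfl
  rw [this, one_mul]

/-- `C_B → K ⊗ B` -/
noncomputable def Datum.iotaB (B : Subalgebra k A) : ↥(d.CB B) →ₐ[k] K ⊗[k] ↥B :=
  ((AlgEquiv.ofInjective (incB K B) (incB_injective K B)).symm :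
      (incB K B).range →ₐ[k] K ⊗[k] ↥B).comp
    ((d.iota.comp (d.CB B).val).codRestrict (incB K B).range (fun c => c.2))

lemma Datum.incB_iotaB (B : Subalgebra k A) (c : ↥(d.CB B)) :
    incB K B (d.iotaB B c) = d.iota c := by
  have := (AlgEquiv.ofInjective (incB K B) (incB_injective K B)).apply_symm_apply
    ⟨d.iota c, c.2⟩
  exact congrArg Subtype.val this

/-- `K ⊗ C_B → K ⊗ B` -/
noncomputable def Datum.PhiB (B : Subalgebra k A) : K ⊗[k] ↥(d.CB B) →ₐ[k] K ⊗[k] ↥B :=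
  Algebra.TensorProduct.productMap Algebra.TensorProduct.includeLeft (d.iotaB B)

lemma Datum.PhiB_tmul (B : Subalgebra k A) (l : K) (c : ↥(d.CB B)) :
    d.PhiB B (l ⊗ₜ[k] c) = (l ⊗ₜ[k] (1 : ↥B)) * d.iotaB B c := by
  show Algebra.TensorProduct.productMap _ _ (l ⊗ₜ[k] c) = _
  rw [Algebra.TensorProduct.productMap_apply_tmul]
  rfl

lemma Datum.incB_PhiB (B : Subalgebra k A) (t : K ⊗[k] ↥(d.CB B)) :
    incB K B (d.PhiB B t) = d.Phi (incB K (d.CB B) t) := by
  induction t using TensorProduct.induction_on with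
  | zero => simp
  | tmul l c =>
    rw [d.PhiB_tmul, map_mul, d.incB_iotaB, incB_tmul, incB_tmul, d.Phi_tmul]
    rfl
  | add x y hx hy => simp only [map_add, hx, hy]

lemma Datum.PhiB_injective (B : Subalgebra k A) : Function.Injective (d.PhiB B) := by
  intro x y hxy
  apply incB_injective K (d.CB B)
  apply d.Phi_inj
  show d.Phi _ = d.Phi _
  rw [← d.incB_PhiB, ← d.incB_PhiB, hxy]

lemma Datum.PhiB_surjective (B : Subalgebra k A) (hB : IsHopfSub B) :
    Function.Surjective (d.PhiB B) := by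
  intro t
  show t ∈ (d.PhiB B).range
  induction t using TensorProduct.induction_on with
  | zero => exact Subalgebra.zero_mem _
  | tmul l b =>
    have h1 : (l ⊗ₜ[k] (1 : ↥B) : K ⊗[k] ↥B) ∈ (d.PhiB B).range := by
      refine ⟨l ⊗ₜ[k] 1, ?_⟩
      show d.PhiB B (l ⊗ₜ[k] (1 : ↥(d.CB B))) = _
      rw [d.PhiB_tmul, map_one, mul_one]
    have h2 : ((1 : K) ⊗ₜ[k] b : K ⊗[k] ↥B) ∈ (d.PhiB B).range := by
      obtain ⟨t', ht'⟩ := d.gu_mem B hB b.2
      have ht'' : incB K (d.CB B) t' = d.gu b := ht'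
      refine ⟨t', ?_⟩
      apply incB_injective K B
      show incB K B (d.PhiB B t') = _
      rw [d.incB_PhiB, ht'', d.Phi_gu']
      rfl
    have := Subalgebra.mul_mem _ h1 h2
    rwa [Algebra.TensorProduct.tmul_mul_tmul, mul_one, one_mul] at this
  | add x y hx hy => exact Subalgebra.add_mem _ hx hy

/-- `K ⊗ C_B ≃ K ⊗ B` -/
noncomputable def Datum.PhiBEquiv (B : Subalgebra k A) (hB : IsHopfSub B) :
    K ⊗[k] ↥(d.CB B) ≃ₐ[k] K ⊗[k] ↥B :=
  AlgEquiv.ofBijective (d.PhiB B) ⟨d.PhiB_injective B, d.PhiB_surjective B hB⟩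

/-- descent: a subalgebra `V` of `C` with `gu B' ⊆ K ⊗ V` contains `C_{B'}` -/
lemma Datum.CB_le_of (V : Subalgebra k C) (B' : Subalgebra k A)
    (h : ∀ b ∈ B', d.gu b ∈ BK K V) : d.CB B' ≤ V := by
  intro c hc
  apply mem_of_one_tmul_mem_BK K V c
  obtain ⟨t, ht⟩ := hc
  have ht' : incB K B' t = d.iota c := ht
  have key : ∀ t : K ⊗[k] ↥B', ∃ v ∈ BK K V, d.Phi v = incB K B' t := by
    intro t
    induction t using TensorProduct.induction_on with
    | zero => exact ⟨0, Subalgebra.zero_mem _, by simp⟩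
    | tmul l b =>
      refine ⟨(l ⊗ₜ[k] (1 : C)) * d.gu b,
        Subalgebra.mul_mem _ (tmul_mem_BK K l (Subalgebra.one_mem V)) (h b b.2), ?_⟩
      rw [map_mul, d.Phi_gu', d.Phi_tmul, map_one, mul_one, incB_tmul,
        Algebra.TensorProduct.tmul_mul_tmul, mul_one, one_mul]
    | add x y hx hy =>
      obtain ⟨v, hv, e⟩ := hx
      obtain ⟨w, hw, e'⟩ := hy
      exact ⟨v + w, Subalgebra.add_mem _ hv hw, by rw [map_add, map_add, e, e']⟩
  obtain ⟨v, hv, e⟩ := key t
  have h1 : d.Phi ((1 : K) ⊗ₜ[k] c) = d.Phi v := by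
    rw [e, ht', d.Phi_one_tmul]
  rw [d.Phi_inj h1]
  exact hv

lemma Datum.CB_bot_le : d.CB (⊥ : Subalgebra k A) ≤ ⊥ := by
  apply d.CB_le_of
  intro b hb
  obtain ⟨μ, rfl⟩ := Algebra.mem_bot.mp hb
  rw [AlgHom.commutes]
  exact Subalgebra.algebraMap_mem _ _

lemma Datum.CB_sup_le (B D : Subalgebra k A) (hB : IsHopfSub B) (hD : IsHopfSub D) :
    d.CB (B ⊔ D) ≤ d.CB B ⊔ d.CB D := by
  apply d.CB_le_of
  intro b hb
  have hle : B ⊔ D ≤ (BK K (d.CB B ⊔ d.CB D)).comap d.gu := by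
    apply sup_le
    · intro b hb
      exact BK_mono K le_sup_left (d.gu_mem B hB hb)
    · intro b hb
      exact BK_mono K le_sup_right (d.gu_mem D hD hb)
  exact hle hb

lemma exists_finset_of_mem_BK (S : Subalgebra k C) {z : K ⊗[k] C} (hz : z ∈ BK K S) :
    ∃ F : Finset C, (F : Set C) ⊆ S ∧ z ∈ BK K (Algebra.adjoin k (F : Set C)) := by
  classical
  obtain ⟨t, rfl⟩ := hz
  induction t using TensorProduct.induction_on with
  | zero => exact ⟨∅, by simp, by rw [map_zero]; exact Subalgebra.zero_mem _⟩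
  | tmul l s =>
    refine ⟨{(s : C)}, by simpa using s.2, ?_⟩
    exact tmul_mem_BK K l (Algebra.subset_adjoin (by simp))
  | add x y hx hy =>
    obtain ⟨F, hF, h1⟩ := hx
    obtain ⟨F', hF', h2⟩ := hy
    refine ⟨F ∪ F', by
      intro c hc
      rw [Finset.coe_union] at hc
      rcases hc with hc | hc
      · exact hF hc
      · exact hF' hc, ?_⟩
    rw [map_add]
    refine Subalgebra.add_mem _ (BK_mono K (Algebra.adjoin_mono ?_) h1)
      (BK_mono K (Algebra.adjoin_mono ?_) h2)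
    · rw [Finset.coe_union]; exact Set.subset_union_left
    · rw [Finset.coe_union]; exact Set.subset_union_right

/-- `C_D` is finitely generated when `D` is -/
theorem Datum.CB_fg (D : Subalgebra k A) (hD : IsHopfSub D) (hfg : D.FG) : (d.CB D).FG := by
  classical
  obtain ⟨s, hs⟩ := hfg
  have h1 : ∀ a ∈ s, ∃ F : Finset C, (F : Set C) ⊆ d.CB D ∧
      d.gu a ∈ BK K (Algebra.adjoin k (F : Set C)) := fun a ha =>
    exists_finset_of_mem_BK (d.CB D) (d.gu_mem D hD (hs ▸ Algebra.subset_adjoin ha))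
  choose! F hF1 hF2 using h1
  let T : Finset C := s.biUnion F
  have hT : (T : Set C) ⊆ d.CB D := by
    intro c hc
    rw [Finset.mem_coe, Finset.mem_biUnion] at hc
    obtain ⟨a, ha, hca⟩ := hc
    exact hF1 a ha hca
  have hle : Algebra.adjoin k (T : Set C) ≤ d.CB D := Algebra.adjoin_le hT
  have hge : d.CB D ≤ Algebra.adjoin k (T : Set C) := by
    apply d.CB_le_of
    intro b hb
    have hD' : D ≤ (BK K (Algebra.adjoin k (T : Set C))).comap d.gu := by
      rw [← hs]
      apply Algebra.adjoin_le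
      intro a ha
      refine BK_mono K (Algebra.adjoin_mono ?_) (hF2 a ha)
      intro c hc
      rw [Finset.mem_coe, Finset.mem_biUnion]
      exact ⟨a, ha, hc⟩
    exact hD' hb
  rw [← le_antisymm hle hge]
  exact ⟨T, rfl⟩

end Equiv

end Groth.Agent.Lib.Helper28.TorsorPt
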