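/-
Helper28 library: rational points of torsors, part D: the extension step with values in `K`,
Zorn's lemma over Hopf subalgebras, and the algebraic core theorem.
-/
import Groth.Agent.Lib.Helper28.TorsorPtC

set_option autoImplicit false
universe u
open TensorProduct

namespace Groth.Agent.Lib.Helper28.TorsorPt

open Groth.Agent.Lib.Helper28.TakSubalg Groth.Agent.Lib.Helper28.TakMain
  Groth.Agent.Lib.Helper28.TakFGSub

section Step

variable {k : Type u} [Field k] {K : Type u} [Field K] [Algebra k K] [IsAlgClosed K]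
  {A : Type u} [CommRing A] [HopfAlgebra k A]

/-- one extension step with values in an algebraically closed extension `K` -/
theorem exists_step' (B : Subalgebra k A) (hB : IsHopfSub B) (x : ↥B →ₐ[k] K)
    (D : Subalgebra k A) (hD : D.FG) :
    ∃ x' : ↥(B ⊔ D) →ₐ[k] K, x'.comp (Subalgebra.inclusion le_sup_left) = x := by
  classical
  have hff : Module.FaithfullyFlat ↥B A := faithfullyFlat_of_isHopfSub B hB
  letI : Algebra ↥B K := x.toRingHom.toAlgebra
  haveI : IsScalarTower k ↥B K := IsScalarTower.of_algebraMap_eq (fun c => by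
    rw [RingHom.algebraMap_toAlgebra]
    exact (x.commutes c).symm)
  haveI : Nontrivial (K ⊗[↥B] A) :=
    (Module.FaithfullyFlat.nontrivial_tensorProduct_iff_left ↥B K).2 inferInstance
  let ρ0 : A →+* K ⊗[↥B] A :=
    (Algebra.TensorProduct.includeRight : A →ₐ[↥B] K ⊗[↥B] A).toRingHom
  have hρB : ∀ b : ↥B, ρ0 (b : A) = algebraMap K (K ⊗[↥B] A) (x b) := by
    intro b
    show ((1 : K) ⊗ₜ[↥B] (b : A) : K ⊗[↥B] A) = (x b) ⊗ₜ[↥B] (1 : A)
    have : (b : A) = b • (1 : A) := by rw [Algebra.smul_def, mul_one]; rfl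
    rw [this, ← TensorProduct.smul_tmul, Algebra.smul_def, mul_one]
    rfl
  have hρk : ∀ c : k, ρ0 (algebraMap k A c) = algebraMap K (K ⊗[↥B] A) (algebraMap k K c) := by
    intro c
    have h1 : algebraMap k A c = ((algebraMap k ↥B c : ↥B) : A) := rfl
    rw [h1, hρB, AlgHom.commutes]
  obtain ⟨s, hs⟩ := hD
  let DD : Subalgebra K (K ⊗[↥B] A) :=
    Algebra.adjoin K ((s.image ρ0 : Finset (K ⊗[↥B] A)) : Set (K ⊗[↥B] A))
  haveI : Algebra.FiniteType K ↥DD := (Subalgebra.fg_iff_finiteType _).mp ⟨s.image ρ0, rfl⟩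
  obtain ⟨M, hM⟩ := Ideal.exists_maximal ↥DD
  haveI := hM
  obtain ⟨w, -⟩ := TakTrans.exists_point_of_isMaximal (K := K) (S := ↥DD) M
  -- the `k`-subalgebra of elements mapping into `DD`
  let S0 : Subalgebra k A :=
    { carrier := {a | ρ0 a ∈ DD}
      mul_mem' := fun {a b} ha hb => by
        show ρ0 (a * b) ∈ DD
        rw [map_mul]
        exact DD.mul_mem ha hb
      one_mem' := by
        show ρ0 1 ∈ DD
        rw [map_one]
        exact DD.one_mem
      add_mem' := fun {a b} ha hb => by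
        show ρ0 (a + b) ∈ DD
        rw [map_add]
        exact DD.add_mem ha hb
      zero_mem' := by
        show ρ0 0 ∈ DD
        rw [map_zero]
        exact DD.zero_mem
      algebraMap_mem' := fun c => by
        show ρ0 (algebraMap k A c) ∈ DD
        rw [hρk]
        exact Subalgebra.algebraMap_mem _ _ }
  have hle : B ⊔ D ≤ S0 := by
    apply sup_le
    · intro b hb
      show ρ0 b ∈ DD
      rw [show ρ0 b = algebraMap K _ (x ⟨b, hb⟩) from hρB ⟨b, hb⟩]
      exact Subalgebra.algebraMap_mem _ _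
    · rw [← hs]
      apply Algebra.adjoin_le
      intro a ha
      show ρ0 a ∈ DD
      exact Algebra.subset_adjoin (Finset.mem_coe.mpr (Finset.mem_image_of_mem ρ0 ha))
  have hmem : ∀ e : ↥(B ⊔ D), ρ0 (e : A) ∈ DD := fun e => hle e.2
  let x' : ↥(B ⊔ D) →ₐ[k] K :=
    { toFun := fun e => w ⟨ρ0 (e : A), hmem e⟩
      map_one' := by
        have : (⟨ρ0 ((1 : ↥(B ⊔ D)) : A), hmem 1⟩ : ↥DD) = 1 := Subtype.ext (map_one ρ0)
        rw [this, map_one]
      map_mul' := fun e e' => by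
        have : (⟨ρ0 ((e * e' : ↥(B ⊔ D)) : A), hmem _⟩ : ↥DD) =
            ⟨ρ0 e, hmem e⟩ * ⟨ρ0 e', hmem e'⟩ := Subtype.ext (map_mul ρ0 _ _)
        rw [this, map_mul]
      map_zero' := by
        have : (⟨ρ0 ((0 : ↥(B ⊔ D)) : A), hmem 0⟩ : ↥DD) = 0 := Subtype.ext (map_zero ρ0)
        rw [this, map_zero]
      map_add' := fun e e' => by
        have : (⟨ρ0 ((e + e' : ↥(B ⊔ D)) : A), hmem _⟩ : ↥DD) =
            ⟨ρ0 e, hmem e⟩ + ⟨ρ0 e', hmem e'⟩ := Subtype.ext (map_add ρ0 _ _)
        rw [this, map_add]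
      commutes' := fun c => by
        have : (⟨ρ0 ((algebraMap k ↥(B ⊔ D) c : ↥(B ⊔ D)) : A), hmem _⟩ : ↥DD) =
            algebraMap K ↥DD (algebraMap k K c) := Subtype.ext (hρk c)
        show w ⟨ρ0 ((algebraMap k ↥(B ⊔ D) c : ↥(B ⊔ D)) : A), hmem _⟩ = algebraMap k K c
        rw [this, w.commutes]
        rfl }
  refine ⟨x', ?_⟩
  ext b
  show w ⟨ρ0 ((b : ↥B) : A), hmem (Subalgebra.inclusion le_sup_left b)⟩ = x b
  have : (⟨ρ0 ((b : ↥B) : A), hmem (Subalgebra.inclusion le_sup_left b)⟩ : ↥DD) =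
      algebraMap K ↥DD (x b) := Subtype.ext (hρB b)
  rw [this, w.commutes]
  rfl

end Step

end Groth.Agent.Lib.Helper28.TorsorPt
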