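/-
Helper28 library: rational points of torsors, part E: Zorn's lemma over Hopf subalgebras and the
algebraic core theorem.
-/
import Groth.Agent.Lib.Helper28.TorsorPtD

set_option autoImplicit false
universe u
open TensorProduct

namespace Groth.Agent.Lib.Helper28.TorsorPt

open Groth.Agent.Lib.Helper28.TakSubalg Groth.Agent.Lib.Helper28.TakMain
  Groth.Agent.Lib.Helper28.TakFGSub

section Zorn

variable {k : Type u} [Field k] {K : Type u} [Field K] [Algebra k K]
  {A : Type u} [CommRing A] [HopfAlgebra k A] {C : Type u} [CommRing C] [Algebra k C]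
  (d : Datum k K A C)

/-- the extension step at the level of the torsor -/
theorem exists_step_y [IsAlgClosed k] [IsAlgClosed K] (B : Subalgebra k A) (hB : IsHopfSub B)
    (y : ↥(d.CB B) →ₐ[k] k) (D : Subalgebra k A) (hD : IsHopfSub D) (hDfg : D.FG) :
    ∃ y' : ↥(d.CB (B ⊔ D)) →ₐ[k] k,
      y'.comp (Subalgebra.inclusion (d.CB_mono le_sup_left)) = y := by
  classical
  obtain ⟨e, he⟩ : ∃ e : K ⊗[k] ↥(d.CB B) ≃ₐ[k] K ⊗[k] ↥B, ∀ t, e t = d.PhiB B t :=
    ⟨d.PhiBEquiv B hB, fun t => rfl⟩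
  let Yy : K ⊗[k] ↥(d.CB B) →ₐ[k] K :=
    Algebra.TensorProduct.productMap (AlgHom.id k K) ((Algebra.ofId k K).comp y)
  let xh : K ⊗[k] ↥B →ₐ[k] K := Yy.comp (e.symm : K ⊗[k] ↥B →ₐ[k] K ⊗[k] ↥(d.CB B))
  let x : ↥B →ₐ[k] K := xh.comp Algebra.TensorProduct.includeRight
  obtain ⟨x', hx'⟩ := exists_step' B hB x D hDfg
  let xh' : K ⊗[k] ↥(B ⊔ D) →ₐ[k] K := Algebra.TensorProduct.productMap (AlgHom.id k K) x'
  let z : ↥(d.CB (B ⊔ D)) →ₐ[k] K := xh'.comp (d.iotaB (B ⊔ D))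
  have he1 : ∀ l : K, e (l ⊗ₜ[k] (1 : ↥(d.CB B))) = l ⊗ₜ[k] (1 : ↥B) := by
    intro l
    rw [he, d.PhiB_tmul, map_one, mul_one]
  have hxh1 : ∀ l : K, xh (l ⊗ₜ[k] (1 : ↥B)) = l := by
    intro l
    show Yy (e.symm (l ⊗ₜ[k] (1 : ↥B))) = l
    rw [← he1, e.symm_apply_apply]
    show Algebra.TensorProduct.productMap _ _ (l ⊗ₜ[k] (1 : ↥(d.CB B))) = l
    rw [Algebra.TensorProduct.productMap_apply_tmul, map_one, mul_one]
    rfl
  have hxh : ∀ t : K ⊗[k] ↥B, xh' (Algebra.TensorProduct.map (AlgHom.id k K)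
      (Subalgebra.inclusion (le_sup_left : B ≤ B ⊔ D)) t) = xh t := by
    intro t
    induction t using TensorProduct.induction_on with
    | zero => simp
    | tmul l b =>
      have h1 : xh' (Algebra.TensorProduct.map (AlgHom.id k K)
          (Subalgebra.inclusion (le_sup_left : B ≤ B ⊔ D)) (l ⊗ₜ[k] b)) =
          l * x' (Subalgebra.inclusion le_sup_left b) := by
        show Algebra.TensorProduct.productMap _ _ (l ⊗ₜ[k] _) = _
        rw [Algebra.TensorProduct.productMap_apply_tmul]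
        rfl
      have h2 : x' (Subalgebra.inclusion le_sup_left b) = x b := DFunLike.congr_fun hx' b
      have h3 : (l ⊗ₜ[k] b : K ⊗[k] ↥B) = (l ⊗ₜ[k] (1 : ↥B)) * ((1 : K) ⊗ₜ[k] b) := by
        rw [Algebra.TensorProduct.tmul_mul_tmul, mul_one, one_mul]
      rw [h1, h2, h3, map_mul, hxh1]
      rfl
    | add x y hx hy => simp only [map_add, hx, hy]
  have hinc : ∀ t : K ⊗[k] ↥B, incB K (B ⊔ D) (Algebra.TensorProduct.map (AlgHom.id k K)
      (Subalgebra.inclusion (le_sup_left : B ≤ B ⊔ D)) t) = incB K B t := by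
    intro t
    induction t using TensorProduct.induction_on with
    | zero => simp
    | tmul l b => rfl
    | add x y hx hy => simp only [map_add, hx, hy]
  have hz : ∀ c : ↥(d.CB B), z (Subalgebra.inclusion (d.CB_mono le_sup_left) c) =
      algebraMap k K (y c) := by
    intro c
    have h1 : d.iotaB (B ⊔ D) (Subalgebra.inclusion (d.CB_mono le_sup_left) c) =
        Algebra.TensorProduct.map (AlgHom.id k K)
          (Subalgebra.inclusion (le_sup_left : B ≤ B ⊔ D)) (d.iotaB B c) := by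
      apply incB_injective K (B ⊔ D)
      rw [d.incB_iotaB, hinc, d.incB_iotaB]
      rfl
    show xh' (d.iotaB (B ⊔ D) _) = _
    rw [h1, hxh]
    have h2 : e ((1 : K) ⊗ₜ[k] c) = d.iotaB B c := by
      rw [he, d.PhiB_tmul]
      have : ((1 : K) ⊗ₜ[k] (1 : ↥B) : K ⊗[k] ↥B) = 1 := rfl
      rw [this, one_mul]
    show Yy (e.symm (d.iotaB B c)) = _
    rw [← h2, e.symm_apply_apply]
    show Algebra.TensorProduct.productMap _ _ ((1 : K) ⊗ₜ[k] c) = _
    rw [Algebra.TensorProduct.productMap_apply_tmul, map_one, one_mul]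
    rfl
  -- the ideal generated by the kernel of `y`
  let incl : ↥(d.CB B) →ₐ[k] ↥(d.CB (B ⊔ D)) := Subalgebra.inclusion (d.CB_mono le_sup_left)
  let J : Ideal ↥(d.CB (B ⊔ D)) := Ideal.map incl (RingHom.ker y)
  have hJ : J ≤ RingHom.ker z := by
    rw [Ideal.map_le_iff_le_comap]
    intro m hm
    rw [Ideal.mem_comap, RingHom.mem_ker]
    show z (incl m) = 0
    rw [hz, (RingHom.mem_ker).mp hm, map_zero]
  have hJne : J ≠ ⊤ := by
    intro h
    have h1 : (1 : ↥(d.CB (B ⊔ D))) ∈ RingHom.ker z := hJ (h ▸ Submodule.mem_top)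
    rw [RingHom.mem_ker, map_one] at h1
    exact one_ne_zero h1
  haveI : Nontrivial (↥(d.CB (B ⊔ D)) ⧸ J) := Ideal.Quotient.nontrivial_iff.mpr hJne
  have hmk : ∀ c : ↥(d.CB B), Ideal.Quotient.mk J (incl c) =
      algebraMap k (↥(d.CB (B ⊔ D)) ⧸ J) (y c) := by
    intro c
    have hm : c - algebraMap k ↥(d.CB B) (y c) ∈ RingHom.ker y := by
      rw [RingHom.mem_ker, map_sub, AlgHom.commutes]
      simp
    have h0 := Ideal.Quotient.eq_zero_iff_mem.mpr (Ideal.mem_map_of_mem incl hm)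
    rw [map_sub, map_sub, sub_eq_zero, AlgHom.commutes] at h0
    rw [h0]
    rfl
  -- finite type
  haveI : Algebra.FiniteType k (↥(d.CB (B ⊔ D)) ⧸ J) := by
    have hfgD : (d.CB D).FG := d.CB_fg D hD hDfg
    haveI : Algebra.FiniteType k ↥(d.CB D) := (Subalgebra.fg_iff_finiteType _).mp hfgD
    let g : ↥(d.CB D) →ₐ[k] ↥(d.CB (B ⊔ D)) ⧸ J :=
      (Ideal.Quotient.mkₐ k J).comp (Subalgebra.inclusion (d.CB_mono le_sup_right))
    apply Algebra.FiniteType.of_surjective g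
    let T : Subalgebra k C := (g.range.comap (Ideal.Quotient.mkₐ k J)).map (d.CB (B ⊔ D)).val
    have hTB : d.CB B ≤ T := by
      intro c hc
      refine ⟨incl ⟨c, hc⟩, ?_, rfl⟩
      show Ideal.Quotient.mkₐ k J (incl ⟨c, hc⟩) ∈ g.range
      rw [show Ideal.Quotient.mkₐ k J (incl ⟨c, hc⟩) = algebraMap k _ (y ⟨c, hc⟩) from hmk ⟨c, hc⟩]
      exact Subalgebra.algebraMap_mem _ _
    have hTD : d.CB D ≤ T := by
      intro c hc
      refine ⟨Subalgebra.inclusion (d.CB_mono le_sup_right) ⟨c, hc⟩, ?_, rfl⟩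
      exact ⟨⟨c, hc⟩, rfl⟩
    have hT : d.CB (B ⊔ D) ≤ T := (d.CB_sup_le B D hB hD).trans (sup_le hTB hTD)
    intro r
    obtain ⟨c', rfl⟩ := Ideal.Quotient.mk_surjective r
    obtain ⟨c'', hc'', hval⟩ := hT c'.2
    have : c'' = c' := Subtype.ext hval
    rw [← this]
    exact hc''
  obtain ⟨M, hM⟩ := Ideal.exists_maximal (↥(d.CB (B ⊔ D)) ⧸ J)
  haveI := hM
  obtain ⟨w, -⟩ := TakTrans.exists_point_of_isMaximal (K := k) (S := ↥(d.CB (B ⊔ D)) ⧸ J) M
  refine ⟨w.comp (Ideal.Quotient.mkₐ k J), ?_⟩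
  ext c
  show w (Ideal.Quotient.mk J (incl c)) = y c
  rw [hmk, w.commutes]
  rfl

/-- partial rational points along Hopf subalgebras -/
structure PExt where
  B : Subalgebra k A
  hB : IsHopfSub B
  y : ↥(d.CB B) →ₐ[k] k

instance : Preorder (PExt d) where
  le E₁ E₂ := ∃ h : E₁.B ≤ E₂.B, E₂.y.comp (Subalgebra.inclusion (d.CB_mono h)) = E₁.y
  le_refl E := ⟨le_rfl, by ext c; rfl⟩
  le_trans E₁ E₂ E₃ := by
    rintro ⟨h₁, e₁⟩ ⟨h₂, e₂⟩
    refine ⟨h₁.trans h₂, ?_⟩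
    rw [← e₁, ← e₂]
    ext c
    rfl

theorem PExt.bddAbove (c : Set (PExt d)) (hc : IsChain (· ≤ ·) c) (hne : c.Nonempty) :
    BddAbove c := by
  classical
  obtain ⟨E₀, hE₀⟩ := hne
  haveI : Nonempty ↥c := ⟨⟨E₀, hE₀⟩⟩
  let Bs : ↥c → Subalgebra k A := fun i => i.1.B
  have dirB : Directed (· ≤ ·) Bs := by
    intro i j
    rcases hc.total i.2 j.2 with h | h
    · exact ⟨j, h.1, le_rfl⟩
    · exact ⟨i, le_rfl, h.1⟩
  let Ks : ↥c → Subalgebra k C := fun i => d.CB (Bs i)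
  have dir : Directed (· ≤ ·) Ks := by
    intro i j
    obtain ⟨l, hil, hjl⟩ := dirB i j
    exact ⟨l, d.CB_mono hil, d.CB_mono hjl⟩
  let f : ∀ i : ↥c, Ks i →ₐ[k] k := fun i => i.1.y
  have hf : ∀ (i j : ↥c) (h : Ks i ≤ Ks j), f i = (f j).comp (Subalgebra.inclusion h) := by
    intro i j h
    rcases hc.total i.2 j.2 with h' | h'
    · obtain ⟨h'', e⟩ := h'
      have e' : f i = (f j).comp (Subalgebra.inclusion (d.CB_mono h'')) := e.symm
      rw [e']
    · obtain ⟨h'', e⟩ := h'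
      have e' : f j = (f i).comp (Subalgebra.inclusion (d.CB_mono h'')) := e.symm
      rw [e']
      ext a
      rfl
  have hT : d.CB (iSup Bs) ≤ iSup Ks := by
    intro c' hc'
    obtain ⟨i, hi⟩ := mem_BK_iSup K Bs dirB hc'
    exact (le_iSup Ks i) hi
  let U : PExt d :=
    { B := iSup Bs
      hB := HopfPtExt.isHopfSub_iSup Bs (fun i => i.1.hB)
      y := Subalgebra.iSupLift Ks dir f hf (d.CB (iSup Bs)) hT }
  refine ⟨U, ?_⟩
  intro E hE
  refine ⟨le_iSup Bs ⟨E, hE⟩, ?_⟩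
  exact Subalgebra.iSupLift_comp_inclusion (K := Ks) (dir := dir) (f := f) (hf := hf)
    (T := d.CB (iSup Bs)) (hT := hT) (i := ⟨E, hE⟩) (d.CB_mono (le_iSup Bs ⟨E, hE⟩))

include d in
/-- **Algebraic core.** A torsor under an affine group scheme over an algebraically closed field
`k`, trivialised over an algebraically closed extension `K`, has a `k`-point. -/
theorem exists_point [IsAlgClosed k] [IsAlgClosed K] : Nonempty (C →ₐ[k] k) := by
  classical
  haveI : Nontrivial C := d.p0.toRingHom.domain_nontrivial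
  haveI : Nonempty (PExt d) := ⟨{
    B := ⊥
    hB := isHopfSub_bot
    y := (Algebra.botEquiv k C : (⊥ : Subalgebra k C) →ₐ[k] k).comp
      (Subalgebra.inclusion d.CB_bot_le) }⟩
  obtain ⟨m, hm⟩ := zorn_le_nonempty (α := PExt d) (fun c hc hne => PExt.bddAbove d c hc hne)
  have htop : m.B = ⊤ := by
    rw [eq_top_iff]
    intro a _
    obtain ⟨D, haD, hDfg, hDH⟩ := exists_fg_hopfSub_mem (k := k) a
    obtain ⟨y', hy'⟩ := exists_step_y d m.B m.hB m.y D hDH hDfg
    let m' : PExt d := { B := m.B ⊔ D, hB := isHopfSub_sup m.hB hDH, y := y' }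
    have h1 : m ≤ m' := ⟨le_sup_left, hy'⟩
    have h2 : m' ≤ m := hm h1
    exact h2.1 ((le_sup_right : D ≤ m.B ⊔ D) haD)
  have hCB : ∀ c : C, c ∈ d.CB m.B := by
    intro c
    show d.iota c ∈ BK K m.B
    rw [htop, BK_top]
    exact Algebra.mem_top
  exact ⟨m.y.comp ((AlgHom.id k C).codRestrict (d.CB m.B) hCB)⟩

end Zorn

end Groth.Agent.Lib.Helper28.TorsorPt
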