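/-
Helper28 library: rational points of torsors, part F: from a functorial simply transitive action
on points (of `Spec C` under `Spec A`) to the trivialisation datum, hence to a rational point.
-/
import Groth.Agent.Lib.Helper28.TorsorPtE

set_option autoImplicit false
universe u
open TensorProduct

namespace Groth.Agent.Lib.Helper28.TorsorPt

section CV

variable (k : Type u) [Field k] (A : Type u) [CommRing A] [HopfAlgebra k A]

/-- convolution product of `R`-points of `Spec A` -/
noncomputable def cv {R : Type u} [CommRing R] [Algebra k R] (g h : A →ₐ[k] R) : A →ₐ[k] R :=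
  (Algebra.TensorProduct.productMap g h).comp (Bialgebra.comulAlgHom k A)

variable {k}

lemma productMap_inclLeft_comp {K' C' : Type u} [CommRing K'] [Algebra k K'] [CommRing C']
    [Algebra k C'] (f : C' →ₐ[k] K') :
    Algebra.TensorProduct.productMap
      ((Algebra.TensorProduct.includeLeft : K' →ₐ[k] K' ⊗[k] A).comp f)
      (Algebra.TensorProduct.includeRight : A →ₐ[k] K' ⊗[k] A) =
    Algebra.TensorProduct.map f (AlgHom.id k A) := by
  apply Algebra.TensorProduct.ext'
  intro c a
  rw [Algebra.TensorProduct.productMap_apply_tmul]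
  show (f c ⊗ₜ[k] (1 : A)) * ((1 : K') ⊗ₜ[k] a) = f c ⊗ₜ[k] a
  rw [Algebra.TensorProduct.tmul_mul_tmul, mul_one, one_mul]

end CV

section PtAct

variable (k : Type u) [Field k] (A : Type u) [CommRing A] [HopfAlgebra k A]
  (C : Type u) [CommRing C] [Algebra k C]

/-- a functorial simply transitive right action of the points of `Spec A` on the points of
`Spec C` -/
structure PtAct where
  act : ∀ {R : Type u} [CommRing R] [Algebra k R], (C →ₐ[k] R) → (A →ₐ[k] R) → (C →ₐ[k] R)
  dv : ∀ {R : Type u} [CommRing R] [Algebra k R], (C →ₐ[k] R) → (C →ₐ[k] R) → (A →ₐ[k] R)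
  nat : ∀ {R R' : Type u} [CommRing R] [Algebra k R] [CommRing R'] [Algebra k R']
    (φ : R →ₐ[k] R') (y : C →ₐ[k] R) (g : A →ₐ[k] R),
    φ.comp (act y g) = act (φ.comp y) (φ.comp g)
  act_mul : ∀ {R : Type u} [CommRing R] [Algebra k R] (y : C →ₐ[k] R) (g h : A →ₐ[k] R),
    act y (cv k A g h) = act (act y g) h
  act_dv : ∀ {R : Type u} [CommRing R] [Algebra k R] (y y' : C →ₐ[k] R), act y (dv y y') = y'
  dv_unique : ∀ {R : Type u} [CommRing R] [Algebra k R] (y y' : C →ₐ[k] R) (g : A →ₐ[k] R),
    act y g = y' → g = dv y y'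

variable {k A C}
variable (pa : PtAct k A C)

lemma PtAct.dv_nat {R R' : Type u} [CommRing R] [Algebra k R] [CommRing R'] [Algebra k R']
    (φ : R →ₐ[k] R') (y y' : C →ₐ[k] R) :
    φ.comp (pa.dv y y') = pa.dv (φ.comp y) (φ.comp y') :=
  pa.dv_unique _ _ _ (by rw [← pa.nat, pa.act_dv])

lemma PtAct.dv_act {R : Type u} [CommRing R] [Algebra k R] (y y' : C →ₐ[k] R) (g : A →ₐ[k] R) :
    pa.dv y (pa.act y' g) = cv k A (pa.dv y y') g :=
  (pa.dv_unique _ _ _ (by rw [pa.act_mul, pa.act_dv])).symm

/-- the coaction -/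
noncomputable def PtAct.kappa : C →ₐ[k] C ⊗[k] A :=
  pa.act Algebra.TensorProduct.includeLeft Algebra.TensorProduct.includeRight

lemma PtAct.act_eq {R : Type u} [CommRing R] [Algebra k R] (y : C →ₐ[k] R) (g : A →ₐ[k] R) :
    pa.act y g = (Algebra.TensorProduct.productMap y g).comp pa.kappa := by
  unfold PtAct.kappa
  rw [pa.nat, Algebra.TensorProduct.productMap_left, Algebra.TensorProduct.productMap_right]

section WithPoint

variable {K : Type u} [Field K] [Algebra k K] (p0 : C →ₐ[k] K)

/-- the universal division map `y ↦ p0⁻¹ y` -/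
noncomputable def PtAct.gu : A →ₐ[k] K ⊗[k] C :=
  pa.dv ((Algebra.TensorProduct.includeLeft : K →ₐ[k] K ⊗[k] C).comp p0)
    Algebra.TensorProduct.includeRight

lemma PtAct.iota_eq : iotaOf k K A C p0 pa.kappa =
    pa.act ((Algebra.TensorProduct.includeLeft : K →ₐ[k] K ⊗[k] A).comp p0)
      Algebra.TensorProduct.includeRight := by
  unfold iotaOf
  rw [pa.act_eq, productMap_inclLeft_comp]

lemma Phi_comp_left (κ : C →ₐ[k] C ⊗[k] A) :
    (PhiOf k K A C p0 κ).comp Algebra.TensorProduct.includeLeft =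
      Algebra.TensorProduct.includeLeft :=
  Algebra.TensorProduct.productMap_left _ _

lemma Phi_comp_right (κ : C →ₐ[k] C ⊗[k] A) :
    (PhiOf k K A C p0 κ).comp Algebra.TensorProduct.includeRight = iotaOf k K A C p0 κ :=
  Algebra.TensorProduct.productMap_right _ _

lemma PtAct.Phi_comp_gu :
    (PhiOf k K A C p0 pa.kappa).comp (pa.gu p0) = Algebra.TensorProduct.includeRight := by
  unfold PtAct.gu
  rw [pa.dv_nat, ← AlgHom.comp_assoc, Phi_comp_left, Phi_comp_right]
  symm
  apply pa.dv_unique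
  rw [pa.iota_eq]

/-- the inverse comparison -/
noncomputable def PtAct.Psi : K ⊗[k] A →ₐ[k] K ⊗[k] C :=
  Algebra.TensorProduct.productMap Algebra.TensorProduct.includeLeft (pa.gu p0)

lemma PtAct.Psi_comp_iota : (pa.Psi p0).comp (iotaOf k K A C p0 pa.kappa) =
    Algebra.TensorProduct.includeRight := by
  rw [pa.iota_eq, pa.nat, ← AlgHom.comp_assoc]
  unfold PtAct.Psi
  rw [Algebra.TensorProduct.productMap_left, Algebra.TensorProduct.productMap_right]
  exact pa.act_dv _ _

lemma PtAct.Psi_Phi (w : K ⊗[k] C) : pa.Psi p0 (PhiOf k K A C p0 pa.kappa w) = w := by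
  induction w using TensorProduct.induction_on with
  | zero => simp
  | tmul l c =>
    have h1 : PhiOf k K A C p0 pa.kappa (l ⊗ₜ[k] c) =
        (l ⊗ₜ[k] (1 : A)) * iotaOf k K A C p0 pa.kappa c := rfl
    rw [h1, map_mul]
    have h2 : pa.Psi p0 (iotaOf k K A C p0 pa.kappa c) = (1 : K) ⊗ₜ[k] c :=
      AlgHom.congr_fun (pa.Psi_comp_iota p0) c
    have h3 : pa.Psi p0 (l ⊗ₜ[k] (1 : A)) = l ⊗ₜ[k] (1 : C) := by
      show Algebra.TensorProduct.productMap _ _ (l ⊗ₜ[k] (1 : A)) = _
      rw [Algebra.TensorProduct.productMap_apply_tmul, map_one, mul_one]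
      rfl
    rw [h2, h3, Algebra.TensorProduct.tmul_mul_tmul, mul_one, one_mul]
  | add x y hx hy => simp only [map_add, hx, hy]

lemma PtAct.Phi_injective : Function.Injective (PhiOf k K A C p0 pa.kappa) :=
  Function.LeftInverse.injective (g := pa.Psi p0) (pa.Psi_Phi p0)

/-- the coaction extended to `K ⊗ C` -/
noncomputable def PtAct.omega : K ⊗[k] C →ₐ[k] (K ⊗[k] C) ⊗[k] A :=
  Algebra.TensorProduct.productMap
    ((Algebra.TensorProduct.includeLeft : K ⊗[k] C →ₐ[k] (K ⊗[k] C) ⊗[k] A).comp
      (Algebra.TensorProduct.includeLeft : K →ₐ[k] K ⊗[k] C))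
    ((Algebra.TensorProduct.map (Algebra.TensorProduct.includeRight : C →ₐ[k] K ⊗[k] C)
      (AlgHom.id k A)).comp pa.kappa)

lemma PtAct.lTensor_kappa (w : K ⊗[k] C) :
    LinearMap.lTensor K pa.kappa.toLinearMap w = TensorProduct.assoc k K C A (pa.omega w) := by
  induction w using TensorProduct.induction_on with
  | zero => simp
  | tmul l c =>
    have h1 : pa.omega (K := K) (l ⊗ₜ[k] c) = ((l ⊗ₜ[k] (1 : C)) ⊗ₜ[k] (1 : A)) *
        (Algebra.TensorProduct.map (Algebra.TensorProduct.includeRight : C →ₐ[k] K ⊗[k] C)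
          (AlgHom.id k A)) (pa.kappa c) := rfl
    rw [h1]
    show l ⊗ₜ[k] (pa.kappa c) = _
    generalize pa.kappa c = v
    induction v using TensorProduct.induction_on with
    | zero => simp
    | tmul c' a =>
      rw [Algebra.TensorProduct.map_tmul]
      show _ = TensorProduct.assoc k K C A
        (((l ⊗ₜ[k] (1 : C)) ⊗ₜ[k] (1 : A)) * (((1 : K) ⊗ₜ[k] c') ⊗ₜ[k] a))
      rw [Algebra.TensorProduct.tmul_mul_tmul, Algebra.TensorProduct.tmul_mul_tmul, mul_one,
        one_mul, one_mul]
      rfl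
    | add x y hx hy =>
      rw [TensorProduct.tmul_add, hx, hy, map_add, mul_add, map_add]
  | add x y hx hy => simp only [map_add, hx, hy]

lemma PtAct.omega_comp_gu : (pa.omega (K := K)).comp (pa.gu p0) =
    (Algebra.TensorProduct.map (pa.gu p0) (AlgHom.id k A)).comp (Bialgebra.comulAlgHom k A) := by
  have e1 : (pa.omega (K := K)).comp
      ((Algebra.TensorProduct.includeLeft : K →ₐ[k] K ⊗[k] C).comp p0) =
      (Algebra.TensorProduct.includeLeft : K ⊗[k] C →ₐ[k] (K ⊗[k] C) ⊗[k] A).comp
        ((Algebra.TensorProduct.includeLeft : K →ₐ[k] K ⊗[k] C).comp p0) := by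
    rw [← AlgHom.comp_assoc]
    unfold PtAct.omega
    rw [Algebra.TensorProduct.productMap_left, AlgHom.comp_assoc]
  have e2 : (pa.omega (K := K)).comp (Algebra.TensorProduct.includeRight : C →ₐ[k] K ⊗[k] C) =
      pa.act ((Algebra.TensorProduct.includeLeft : K ⊗[k] C →ₐ[k] (K ⊗[k] C) ⊗[k] A).comp
        (Algebra.TensorProduct.includeRight : C →ₐ[k] K ⊗[k] C))
        Algebra.TensorProduct.includeRight := by
    unfold PtAct.omega
    rw [Algebra.TensorProduct.productMap_right, pa.act_eq, productMap_inclLeft_comp]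
  unfold PtAct.gu
  rw [pa.dv_nat, e1, e2, pa.dv_act, ← pa.dv_nat]
  unfold cv
  rw [productMap_inclLeft_comp]

lemma map_id_eq_rTensor {M N : Type u} [CommRing M] [Algebra k M] [CommRing N] [Algebra k N]
    (f : M →ₐ[k] N) (x : M ⊗[k] A) :
    Algebra.TensorProduct.map f (AlgHom.id k A) x = LinearMap.rTensor A f.toLinearMap x := by
  induction x using TensorProduct.induction_on with
  | zero => simp
  | tmul m a => rfl
  | add x y hx hy => simp only [map_add, hx, hy]

/-- the trivialisation datum attached to a `K`-point -/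
noncomputable def PtAct.datum : Datum k K A C where
  p0 := p0
  κ := pa.kappa
  gu := pa.gu p0
  Phi_gu := fun a => AlgHom.congr_fun (pa.Phi_comp_gu p0) a
  Phi_inj := pa.Phi_injective p0
  colin := fun a => by
    rw [pa.lTensor_kappa, ← map_id_eq_rTensor]
    have := AlgHom.congr_fun (pa.omega_comp_gu p0) a
    exact congrArg (TensorProduct.assoc k K C A) this

include pa p0 in
/-- **Rational points from a functorial simply transitive action.** -/
theorem PtAct.exists_point [IsAlgClosed k] [IsAlgClosed K] : Nonempty (C →ₐ[k] k) :=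
  TorsorPt.exists_point (pa.datum p0)

end WithPoint

end PtAct

end Groth.Agent.Lib.Helper28.TorsorPt
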