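/-
Helper28 library: rational points of torsors under affine group schemes over an algebraically
closed field: scheme-level plumbing for `TorsorPt.PtAct.exists_point`.
-/
import Groth.Agent.Lib.Helper28.TorsorPtF
import Groth.Agent.Lib.Helper28.AffGrpPts
import Groth.Agent.Lib.Helper29.TorsorPush
import Groth.Agent.Lib.Helper29.TorsorProps

set_option autoImplicit false
universe u
open CategoryTheory AlgebraicGeometry Opposite MonoidalCategory CartesianMonoidalCategory MonObj
  GrpObj TensorProduct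

namespace Groth.Agent.Lib.Helper28.TorsorPtGeom

open Groth.Agent.Lib.Helper22 Groth.Agent.Lib.Helper29.TorsorPush Groth.Agent.Lib.Helper28.TorsorPt

variable {k : Type u} [Field k]

section PtEquiv

open Scheme

set_option backward.defeqAttrib.useBackward true in
set_option backward.isDefEq.respectTransparency false in
/-- points of affine schemes over `k` -/
noncomputable def ptEquiv (S T : Type u) [CommRing S] [CommRing T] [Algebra k S] [Algebra k T] :
    (S →ₐ[k] T) ≃ ((Spec (.of T)).asOver (Spec (.of k)) ⟶ (Spec (.of S)).asOver (Spec (.of k))) where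
  toFun f := (Spec.map (CommRingCat.ofHom f.toRingHom)).asOver _
  invFun f := ⟨(Spec.preimage f.left).hom, by
    suffices CommRingCat.ofHom (algebraMap k S) ≫ Spec.preimage f.left =
      CommRingCat.ofHom (algebraMap k T) from fun r ↦ congr($this r)
    apply Spec.map_injective
    simpa [-comp_over] using! f.w⟩
  left_inv f := by
    apply AlgHom.coe_ringHom_injective
    simp
  right_inv f := by ext1; simp

lemma ptEquiv_left {S T : Type u} [CommRing S] [CommRing T] [Algebra k S] [Algebra k T]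
    (y : S →ₐ[k] T) : (ptEquiv S T y).left = Spec.map (CommRingCat.ofHom y.toRingHom) := rfl

lemma ptEquiv_comp {S T T' : Type u} [CommRing S] [CommRing T] [CommRing T'] [Algebra k S]
    [Algebra k T] [Algebra k T'] (φ : T →ₐ[k] T') (y : S →ₐ[k] T) :
    ptEquiv S T' (φ.comp y) = ptEquiv T T' φ ≫ ptEquiv S T y := by
  apply Over.OverMorphism.ext
  show Spec.map (CommRingCat.ofHom (φ.comp y).toRingHom) =
    Spec.map (CommRingCat.ofHom φ.toRingHom) ≫ Spec.map (CommRingCat.ofHom y.toRingHom)
  rw [← Spec.map_comp, ← CommRingCat.ofHom_comp]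
  rfl

lemma cv_eq {A R : Type u} [CommRing A] [HopfAlgebra k A] [CommRing R] [Algebra k R]
    (g h : A →ₐ[k] R) : cv k A g h = (WithConv.toConv g * WithConv.toConv h).ofConv := by
  rw [AlgHom.convMul_def]
  unfold cv
  rw [Algebra.TensorProduct.productMap_eq_comp_map, AlgHom.comp_assoc]

set_option backward.defeqAttrib.useBackward true in
set_option backward.isDefEq.respectTransparency false in
lemma ptEquiv_eq_mapMulEquiv {A R : Type u} [CommRing A] [HopfAlgebra k A] [CommRing R]
    [Algebra k R] (g : WithConv (A →ₐ[k] R)) :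
    ptEquiv A R g.ofConv = Spec.mapMulEquiv (R := k) (S := A) (T := R) g := rfl

lemma ptEquiv_cv {A R : Type u} [CommRing A] [HopfAlgebra k A] [CommRing R] [Algebra k R]
    (g h : A →ₐ[k] R) : ptEquiv A R (cv k A g h) = ptEquiv A R g * ptEquiv A R h := by
  rw [cv_eq, ptEquiv_eq_mapMulEquiv, map_mul, ← ptEquiv_eq_mapMulEquiv, ← ptEquiv_eq_mapMulEquiv]

end PtEquiv

section Core

variable {A C : Type u} [CommRing A] [HopfAlgebra k A] [CommRing C] [Algebra k C]
  {G P : Over (Spec (CommRingCat.of k))} [GrpObj G] (a : AlgGrp.Action G P)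
  (h : NonAbH1.IsPseudoTorsorSch a)
  (f : (Spec (CommRingCat.of A)).asOver (Spec (CommRingCat.of k)) ≅ G) [IsMonHom f.hom]
  (q : (Spec (CommRingCat.of C)).asOver (Spec (CommRingCat.of k)) ≅ P)

/-- the affine test objects -/
noncomputable abbrev TT (R : Type u) [CommRing R] [Algebra k R] : Over (Spec (CommRingCat.of k)) :=
  (Spec (CommRingCat.of R)).asOver (Spec (CommRingCat.of k))

/-- points of `P` -/
noncomputable def BE (R : Type u) [CommRing R] [Algebra k R] : (C →ₐ[k] R) ≃ (TT R ⟶ P) :=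
  (ptEquiv C R).trans q.homToEquiv

/-- points of `G` -/
noncomputable def GE (R : Type u) [CommRing R] [Algebra k R] : (A →ₐ[k] R) ≃ (TT R ⟶ G) :=
  (ptEquiv A R).trans f.homToEquiv

lemma BE_comp {R R' : Type u} [CommRing R] [Algebra k R] [CommRing R'] [Algebra k R']
    (φ : R →ₐ[k] R') (y : C →ₐ[k] R) :
    BE q R' (φ.comp y) = ptEquiv R R' φ ≫ BE q R y := by
  show ptEquiv C R' (φ.comp y) ≫ q.hom = ptEquiv R R' φ ≫ (ptEquiv C R y ≫ q.hom)
  rw [ptEquiv_comp, Category.assoc]

lemma GE_comp {R R' : Type u} [CommRing R] [Algebra k R] [CommRing R'] [Algebra k R']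
    (φ : R →ₐ[k] R') (g : A →ₐ[k] R) :
    GE f R' (φ.comp g) = ptEquiv R R' φ ≫ GE f R g := by
  show ptEquiv A R' (φ.comp g) ≫ f.hom = ptEquiv R R' φ ≫ (ptEquiv A R g ≫ f.hom)
  rw [ptEquiv_comp, Category.assoc]

lemma GE_cv {R : Type u} [CommRing R] [Algebra k R] (g g' : A →ₐ[k] R) :
    GE f R (cv k A g g') = GE f R g * GE f R g' := by
  show ptEquiv A R (cv k A g g') ≫ f.hom = (ptEquiv A R g ≫ f.hom) * (ptEquiv A R g' ≫ f.hom)
  rw [ptEquiv_cv, MonObj.mul_comp]

/-- the functorial simply transitive action on points -/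
noncomputable def ptAct : PtAct k A C where
  act := fun {R} [CommRing R] [Algebra k R] y g =>
    (BE q R).symm (smul a (GE f R g)⁻¹ (BE q R y))
  dv := fun {R} [CommRing R] [Algebra k R] y y' =>
    (GE f R).symm (dv a h (BE q R y) (BE q R y'))
  nat := by
    intro R R' _ _ _ _ φ y g
    apply (BE q R').injective
    rw [BE_comp, Equiv.apply_symm_apply, Equiv.apply_symm_apply, comp_smul, GrpObj.comp_inv,
      ← GE_comp, ← BE_comp]
  act_mul := by
    intro R _ _ y g g'
    apply (BE q R).injective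
    rw [Equiv.apply_symm_apply, Equiv.apply_symm_apply, Equiv.apply_symm_apply, GE_cv,
      _root_.mul_inv_rev, pt_mul_smul]
  act_dv := by
    intro R _ _ y y'
    rw [Equiv.symm_apply_eq, Equiv.apply_symm_apply]
    have e : smul a (dv a h (BE q R y) (BE q R y')) (BE q R y') = BE q R y :=
      dv_smul a h (BE q R y) (BE q R y')
    calc smul a (dv a h (BE q R y) (BE q R y'))⁻¹ (BE q R y)
        = smul a (dv a h (BE q R y) (BE q R y'))⁻¹
            (smul a (dv a h (BE q R y) (BE q R y')) (BE q R y')) := by rw [e]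
      _ = BE q R y' := pt_inv_smul_smul a _ _
  dv_unique := by
    intro R _ _ y y' g hg
    rw [Equiv.eq_symm_apply]
    apply eq_dv a h
    have h1 : smul a (GE f R g)⁻¹ (BE q R y) = BE q R y' := by
      rw [← hg, Equiv.apply_symm_apply]
    rw [← h1, pt_smul_inv_smul]

include a h f q in
theorem core [IsAlgClosed k] [Nontrivial C] :
    Nonempty (𝟙_ (Over (Spec (CommRingCat.of k))) ⟶ P) := by
  obtain ⟨𝔫, h𝔫⟩ := Ideal.exists_maximal C
  letI : Field (C ⧸ 𝔫) := Ideal.Quotient.field 𝔫
  let p0 : C →ₐ[k] AlgebraicClosure (C ⧸ 𝔫) :=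
    (IsScalarTower.toAlgHom k (C ⧸ 𝔫) (AlgebraicClosure (C ⧸ 𝔫))).comp (Ideal.Quotient.mkₐ k 𝔫)
  obtain ⟨y⟩ := (ptAct a h f q).exists_point p0
  exact ⟨AffGrpPts.ptOf y ≫ q.hom⟩

end Core

/-- **Torsors under affine group schemes over an algebraically closed field are trivial.** -/
theorem main (k : Type u) [Field k] [IsAlgClosed k]
    (G : Over (Spec (CommRingCat.of k))) [GrpObj G] [IsAffine G.left]
    (P : Over (Spec (CommRingCat.of k))) (a : AlgGrp.Action G P)
    (hP : NonAbH1.IsTorsorFor Scheme.fpqcPrecoverage a) :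
    Nonempty (𝟙_ (Over (Spec (CommRingCat.of k))) ⟶ P) := by
  -- `P` is affine
  haveI : IsAffineHom G.hom := inferInstance
  haveI : MorphismProperty.DescendsAlong @IsAffineHom
      (@Surjective ⊓ @Flat ⊓ @QuasiCompact : MorphismProperty Scheme.{u}) :=
    Groth.Agent.S0082.result
  haveI hPaff : IsAffineHom P.hom :=
    Groth.Agent.Lib.Helper29.TorsorDesc.hom_of_isTorsorFor_fpqc @IsAffineHom a hP inferInstance
  haveI : IsAffine P.left := isAffine_of_isAffineHom P.hom
  -- `P` is nonempty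
  have hne : Nonempty ↥P.left := by
    obtain ⟨c⟩ := exists_covSec hP.2
    have hmem := Scheme.propQCPrecoverage_le_precoverage (P := @Flat) _ c.mem
    rw [Scheme.ofArrows_mem_precoverage_iff] at hmem
    obtain ⟨l, v, -⟩ := hmem.1 (IsLocalRing.closedPoint k)
    exact ⟨(c.σ l).base v⟩
  obtain ⟨H, ⟨e⟩⟩ := (essImage_hopfSpec (G := Grp.mk G)).mpr ‹IsAffine G.left›
  obtain ⟨D, ⟨q⟩⟩ := (essImage_algSpec (G := P)).mpr ‹IsAffine P.left›
  let A : Type u := H.unop.X
  let C : Type u := D.unop
  let f : (Spec (CommRingCat.of A)).asOver (Spec (CommRingCat.of k)) ⟶ G := e.hom.hom.hom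
  let g' : G ⟶ (Spec (CommRingCat.of A)).asOver (Spec (CommRingCat.of k)) := e.inv.hom.hom
  have hfg : f ≫ g' = 𝟙 _ := congrArg (fun t => t.hom.hom) e.hom_inv_id
  have hgf : g' ≫ f = 𝟙 G := congrArg (fun t => t.hom.hom) e.inv_hom_id
  let fi : (Spec (CommRingCat.of A)).asOver (Spec (CommRingCat.of k)) ≅ G := ⟨f, g', hfg, hgf⟩
  haveI : IsMonHom fi.hom := e.hom.hom.isMonHom_hom
  let q' : (Spec (CommRingCat.of C)).asOver (Spec (CommRingCat.of k)) ≅ P := q
  haveI : Nontrivial C := by
    obtain ⟨x⟩ := hne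
    have hx : Nonempty ↥(Spec (CommRingCat.of C)) := ⟨q'.inv.left.base x⟩
    by_contra hC
    rw [not_nontrivial_iff_subsingleton] at hC
    obtain ⟨z⟩ := hx
    exact z.isPrime.ne_top (Subsingleton.elim _ _)
  exact core a hP.1 fi q'

end Groth.Agent.Lib.Helper28.TorsorPtGeom
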