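import Mathlib

/-!
# Tameness of a finite group action and surjectivity of the trace (helper28)

`B` a commutative ring with an action of a finite group `Γ`, `Q` a prime of `B`, `I` its inertia group.
* `mk_trace`: `tr(b) ≡ |I| · Σ_{s} s(b)` mod `Q`, the sum over the distinct characters `b ↦ γ b mod Q`.
* `card_inertia_ne_zero_of_trace_eq_one`, `exists_trace_not_mem`, `exists_trace_eq_one_iff`.
-/

set_option autoImplicit false
set_option linter.unusedSectionVars false
set_option linter.style.haveILetI false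
universe u v

open scoped BigOperators

namespace Groth.Agent.Lib.Helper28.TraceTame

variable {B : Type u} [CommRing B] {Γ : Type v} [Group Γ] [Fintype Γ] [MulSemiringAction Γ B]

/-- the character `b ↦ γ • b mod Q` -/
noncomputable def chi (Q : Ideal B) (γ : Γ) : B →* B ⧸ Q :=
  ((Ideal.Quotient.mk Q).comp (MulSemiringAction.toRingHom Γ B γ) : B →+* B ⧸ Q)

@[simp] lemma chi_apply (Q : Ideal B) (γ : Γ) (b : B) : chi Q γ b = Ideal.Quotient.mk Q (γ • b) := rfl

lemma chi_eq_iff (Q : Ideal B) (γ γ₀ : Γ) : chi Q γ = chi Q γ₀ ↔ γ * γ₀⁻¹ ∈ Q.inertia Γ := by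
  constructor
  · intro h x
    have h1 := DFunLike.congr_fun h (γ₀⁻¹ • x)
    rw [chi_apply, chi_apply, smul_inv_smul, Ideal.Quotient.eq] at h1
    rwa [mul_smul]
  · intro h
    apply MonoidHom.ext
    intro b
    rw [chi_apply, chi_apply, Ideal.Quotient.eq]
    have h1 := h (γ₀ • b)
    rwa [mul_smul, inv_smul_smul] at h1

open Classical in
lemma card_fiber (Q : Ideal B) (γ₀ : Γ) :
    (Finset.univ.filter (fun γ : Γ => chi Q γ = chi Q γ₀)).card = Nat.card (Q.inertia Γ) := by
  rw [Nat.card_eq_fintype_card, ← Fintype.card_subtype]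
  apply Fintype.card_congr
  refine ⟨fun γ => ⟨γ.1 * γ₀⁻¹, (chi_eq_iff Q γ.1 γ₀).mp γ.2⟩,
    fun i => ⟨i.1 * γ₀, (chi_eq_iff Q _ γ₀).mpr (by simp)⟩, ?_, ?_⟩
  · intro γ; simp
  · intro i; simp

open Classical in
/-- the trace mod `Q` -/
theorem mk_trace (Q : Ideal B) (b : B) :
    Ideal.Quotient.mk Q (∑ γ : Γ, γ • b) =
      ((Nat.card (Q.inertia Γ) : ℕ) : B ⧸ Q) *
        ∑ s ∈ (Finset.univ : Finset Γ).image (chi Q), s b := by
  rw [map_sum]
  have h1 : ∑ γ : Γ, Ideal.Quotient.mk Q (γ • b) =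
      ∑ s ∈ (Finset.univ : Finset Γ).image (chi Q),
        ∑ γ ∈ (Finset.univ : Finset Γ) with chi Q γ = s, Ideal.Quotient.mk Q (γ • b) :=
    (Finset.sum_fiberwise_of_maps_to (fun γ _ => Finset.mem_image_of_mem _ (Finset.mem_univ γ)) _).symm
  rw [h1, Finset.mul_sum]
  refine Finset.sum_congr rfl (fun s hs => ?_)
  obtain ⟨γ₀, -, rfl⟩ := Finset.mem_image.mp hs
  have h2 : ∀ γ ∈ (Finset.univ : Finset Γ).filter (fun γ => chi Q γ = chi Q γ₀),
      Ideal.Quotient.mk Q (γ • b) = chi Q γ₀ b := by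
    intro γ hγ
    rw [← (Finset.mem_filter.mp hγ).2, chi_apply]
  rw [Finset.sum_congr rfl h2, Finset.sum_const, card_fiber, nsmul_eq_mul]

/-- if some element has trace one then every prime is tame -/
theorem card_inertia_ne_zero_of_trace_eq_one (b : B) (hb : ∑ γ : Γ, γ • b = 1)
    (Q : Ideal B) [hQ : Q.IsPrime] : ((Nat.card (Q.inertia Γ) : ℕ) : B ⧸ Q) ≠ 0 := by
  intro h0
  have h1 := mk_trace (Γ := Γ) Q b
  rw [hb, h0, zero_mul, map_one] at h1
  exact one_ne_zero h1

open Classical in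
/-- at a tame prime some trace does not vanish -/
theorem exists_trace_not_mem (Q : Ideal B) [hQ : Q.IsPrime]
    (h : ((Nat.card (Q.inertia Γ) : ℕ) : B ⧸ Q) ≠ 0) : ∃ b : B, ∑ γ : Γ, γ • b ∉ Q := by
  by_contra hcon
  push Not at hcon
  have hli := linearIndependent_monoidHom B (B ⧸ Q)
  rw [linearIndependent_iff'] at hli
  have h1 := hli ((Finset.univ : Finset Γ).image (chi Q))
    (fun _ => ((Nat.card (Q.inertia Γ) : ℕ) : B ⧸ Q)) (by
      funext b
      have h2 := mk_trace (Γ := Γ) Q b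
      rw [Ideal.Quotient.eq_zero_iff_mem.mpr (hcon b), Finset.mul_sum] at h2
      simp only [Finset.sum_apply, Pi.smul_apply, smul_eq_mul, Pi.zero_apply]
      exact h2.symm) (chi Q 1) (Finset.mem_image_of_mem _ (Finset.mem_univ _))
  exact h h1

instance : Algebra.IsInvariant (FixedPoints.subring B Γ) B Γ :=
  ⟨fun b hb => ⟨⟨b, hb⟩, rfl⟩⟩

/-- the trace is onto the invariants iff every prime is tame -/
theorem exists_trace_eq_one_iff :
    (∃ b : B, ∑ γ : Γ, γ • b = 1) ↔
      ∀ P : Ideal B, P.IsPrime → ((Nat.card (P.inertia Γ) : ℕ) : B ⧸ P) ≠ 0 := by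
  constructor
  · rintro ⟨b, hb⟩ P hP
    exact card_inertia_ne_zero_of_trace_eq_one b hb P
  · intro h
    -- the trace as a map to the invariants
    have htr : ∀ b : B, ∑ γ : Γ, γ • b ∈ FixedPoints.subring B Γ := by
      intro b g
      rw [Finset.smul_sum]
      exact Fintype.sum_equiv (Equiv.mulLeft g) _ _ (fun γ => by simp [mul_smul])
    let T : Ideal (FixedPoints.subring B Γ) :=
      { carrier := {c | ∃ b : B, ∑ γ : Γ, γ • b = (c : B)}
        add_mem' := by
          rintro c c' ⟨b, hb⟩ ⟨b', hb'⟩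
          exact ⟨b + b', by simp [smul_add, Finset.sum_add_distrib, hb, hb']⟩
        zero_mem' := ⟨0, by simp⟩
        smul_mem' := by
          rintro c c' ⟨b, hb⟩
          refine ⟨(c : B) * b, ?_⟩
          have hc : ∀ γ : Γ, γ • (c : B) = c := fun γ => c.2 γ
          simp only [smul_mul', hc, ← Finset.mul_sum, hb]
          rfl }
    by_contra hne
    have hT : T ≠ ⊤ := by
      intro htop
      have h1 : (1 : FixedPoints.subring B Γ) ∈ T := by rw [htop]; exact Submodule.mem_top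
      obtain ⟨b, hb⟩ := h1
      exact hne ⟨b, hb⟩
    obtain ⟨m, hm, hTm⟩ := Ideal.exists_le_maximal T hT
    haveI := hm
    haveI : Algebra.IsIntegral (FixedPoints.subring B Γ) B :=
      Algebra.IsInvariant.isIntegral (FixedPoints.subring B Γ) B Γ
    obtain ⟨Q, -, hQprime, hQm⟩ := Ideal.exists_ideal_over_prime_of_isIntegral m (⊥ : Ideal B) (by
      rw [Ideal.comap_bot_of_injective _ Subtype.val_injective]
      exact bot_le)
    haveI := hQprime
    obtain ⟨b, hb⟩ := exists_trace_not_mem (Γ := Γ) Q (h Q hQprime)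
    apply hb
    have h1 : (⟨∑ γ : Γ, γ • b, htr b⟩ : FixedPoints.subring B Γ) ∈ T := ⟨b, rfl⟩
    have h2 := hTm h1
    rw [← hQm] at h2
    exact h2

end Groth.Agent.Lib.Helper28.TraceTame
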