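import Groth.Agent.Lib.Helper28.Reflexive
import Groth.Agent.Lib.Helper28.EvalLoc

/-!
# Reflexive modules as kernels of transposed presentation matrices; regular (split) maps (helper28)
-/

set_option autoImplicit false

universe u

namespace Groth.Agent.Lib.Helper28

section refl

variable {A : Type u} [CommRing A] [IsNoetherianRing A] (G : Type u) [AddCommGroup G] [Module A G]
  [Module.Finite A G] [Module.IsReflexive A G]

/-- A finite reflexive module `G` over a Noetherian ring: a presentation `A^m --M--> A^n --π--> G* → 0`
of the dual and the dual copresentation `0 → G --g--> A^n --Mᵀ--> A^m`. -/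
theorem exists_matrix_presentation_of_isReflexive :
    ∃ (n m : ℕ) (M : Matrix (Fin n) (Fin m) A) (g : G →ₗ[A] (Fin n → A))
      (π : (Fin n → A) →ₗ[A] Module.Dual A G),
      Function.Injective g ∧ Function.Exact g M.transpose.mulVecLin ∧ Function.Surjective π ∧
        Function.Exact M.mulVecLin π := by
  obtain ⟨n, π, hπ⟩ := Module.Finite.exists_fin' A (Module.Dual A G)
  obtain ⟨m, ρ, hρ⟩ := Module.Finite.exists_fin' A (LinearMap.ker π)
  let v : (Fin m → A) →ₗ[A] (Fin n → A) := (LinearMap.ker π).subtype ∘ₗ ρ
  have hv : LinearMap.range v = LinearMap.ker π := by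
    rw [LinearMap.range_comp, LinearMap.range_eq_top.mpr hρ, Submodule.map_top,
      Submodule.range_subtype]
  let M : Matrix (Fin n) (Fin m) A := LinearMap.toMatrix' v
  have hMv : M.mulVecLin = v := by
    rw [← Matrix.toLin'_apply', Matrix.toLin'_toMatrix']
  let en : (Fin n → A) ≃ₗ[A] Module.Dual A (Fin n → A) := dotProductEquiv A (Fin n)
  let em : (Fin m → A) ≃ₗ[A] Module.Dual A (Fin m → A) := dotProductEquiv A (Fin m)
  have hkey : ∀ x : Fin n → A, em (M.transpose.mulVec x) = v.dualMap (en x) := by
    intro x
    ext w
    simp only [LinearMap.coe_comp, Function.comp_apply, LinearMap.dualMap_apply]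
    change (M.transpose.mulVec x) ⬝ᵥ _ = x ⬝ᵥ v _
    rw [← hMv, Matrix.mulVecLin_apply, Matrix.dotProduct_mulVec, Matrix.mulVec_transpose]
  refine ⟨n, m, M, en.symm.toLinearMap ∘ₗ π.dualMap ∘ₗ (Module.evalEquiv A G).toLinearMap, π,
    ?_, ?_, hπ, ?_⟩
  · simp only [LinearMap.coe_comp, LinearEquiv.coe_coe]
    exact en.symm.injective.comp
      ((LinearMap.dualMap_injective_of_surjective hπ).comp (Module.evalEquiv A G).injective)
  · intro x
    simp only [LinearMap.coe_comp, LinearEquiv.coe_coe, Function.comp_apply, Set.mem_range,
      Matrix.mulVecLin_apply]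
    rw [← LinearEquiv.map_eq_zero_iff em, hkey]
    have key : v.dualMap (en x) = 0 ↔ en x ∈ LinearMap.range π.dualMap := by
      rw [LinearMap.range_dualMap_eq_dualAnnihilator_ker_of_surjective π hπ, ← hv,
        ← LinearMap.ker_dualMap_eq_dualAnnihilator_range, LinearMap.mem_ker]
    rw [key]
    constructor
    · rintro ⟨φ, hφ⟩
      refine ⟨(Module.evalEquiv A G).symm φ, ?_⟩
      rw [LinearEquiv.apply_symm_apply, hφ, LinearEquiv.symm_apply_apply]
    · rintro ⟨y, rfl⟩
      rw [LinearEquiv.apply_symm_apply]
      exact ⟨_, rfl⟩
  · rw [hMv]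
    exact LinearMap.exact_iff.mpr hv.symm

end refl

section regular

variable {R : Type u} [CommRing R] {P Q N : Type u} [AddCommGroup P] [Module R P]
  [AddCommGroup Q] [Module R Q] [AddCommGroup N] [Module R N]

/-- A map with projective cokernel (and projective target) is von Neumann regular. -/
theorem exists_regular_of_exact [Module.Projective R Q] [Module.Projective R N]
    (v : P →ₗ[R] Q) (π : Q →ₗ[R] N) (hπ : Function.Surjective π) (hex : Function.Exact v π) :
    ∃ v' : Q →ₗ[R] P, v ∘ₗ v' ∘ₗ v = v := by
  obtain ⟨s, hs⟩ := Module.projective_lifting_property π LinearMap.id hπ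
  have hτ : ∀ x, ((LinearMap.id : Q →ₗ[R] Q) - s ∘ₗ π) x ∈ LinearMap.range v := by
    intro x
    rw [← LinearMap.exact_iff.mp hex, LinearMap.mem_ker]
    have := LinearMap.congr_fun hs (π x)
    simp only [LinearMap.coe_comp, Function.comp_apply, LinearMap.id_coe, id_eq] at this
    simp [this]
  let τ' : Q →ₗ[R] LinearMap.range v :=
    ((LinearMap.id : Q →ₗ[R] Q) - s ∘ₗ π).codRestrict (LinearMap.range v) hτ
  obtain ⟨v', hv'⟩ := Module.projective_lifting_property v.rangeRestrict τ'
    v.surjective_rangeRestrict
  refine ⟨v', ?_⟩
  ext x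
  have := congrArg Subtype.val (LinearMap.congr_fun hv' (v x))
  simp only [LinearMap.coe_comp, Function.comp_apply, LinearMap.codRestrict_apply, τ',
    LinearMap.sub_apply, LinearMap.id_coe, id_eq, hex.apply_apply_eq_zero, map_zero, sub_zero]
    at this
  simpa using this

/-- The cokernel of a von Neumann regular map into a projective module is projective. -/
theorem projective_coker_of_regular [Module.Projective R Q] (h : P →ₗ[R] Q) (h' : Q →ₗ[R] P)
    (hreg : h ∘ₗ h' ∘ₗ h = h) : Module.Projective R (Q ⧸ LinearMap.range h) := by
  have hx : ∀ x, h (h' (h x)) = h x := fun x => LinearMap.congr_fun hreg x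
  let s : (Q ⧸ LinearMap.range h) →ₗ[R] Q :=
    (LinearMap.range h).liftQ ((LinearMap.id : Q →ₗ[R] Q) - h ∘ₗ h') (by
      rintro _ ⟨x, rfl⟩
      simp [LinearMap.mem_ker, hx])
  refine Module.Projective.of_split s (LinearMap.range h).mkQ ?_
  apply (LinearMap.range h).linearMap_qext
  ext x
  simp only [LinearMap.coe_comp, Function.comp_apply, Submodule.mkQ_apply, LinearMap.id_comp, s,
    Submodule.liftQ_apply, LinearMap.sub_apply, LinearMap.id_coe, id_eq,
    Submodule.Quotient.mk_sub]
  rw [sub_eq_self, Submodule.Quotient.mk_eq_zero]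
  exact ⟨h' x, rfl⟩

end regular

section matloc

variable {B : Type u} [CommRing B] (S : Submonoid B)

/-- the localization map of `Fin k → B` -/
noncomputable def piLoc (k : ℕ) : (Fin k → B) →ₗ[B] (Fin k → Localization S) :=
  LinearMap.pi fun i => Algebra.linearMap B (Localization S) ∘ₗ LinearMap.proj i

instance piLoc_isLocalizedModule (k : ℕ) : IsLocalizedModule S (piLoc S k) := by
  unfold piLoc
  infer_instance

theorem piLoc_apply (k : ℕ) (w : Fin k → B) (i : Fin k) :
    piLoc S k w i = algebraMap B (Localization S) (w i) := rfl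

theorem mapExtendScalars_mulVecLin {n m : ℕ} (M : Matrix (Fin n) (Fin m) B) :
    IsLocalizedModule.mapExtendScalars S (piLoc S m) (piLoc S n) (Localization S) M.mulVecLin =
      (M.map (algebraMap B (Localization S))).mulVecLin := by
  apply LinearMap.restrictScalars_injective B
  apply IsLocalizedModule.linearMap_ext S (piLoc S m) (piLoc S n)
  refine LinearMap.ext fun w => funext fun i => ?_
  simp only [LinearMap.coe_comp, LinearMap.coe_restrictScalars, Function.comp_apply,
    IsLocalizedModule.mapExtendScalars_apply_apply, IsLocalizedModule.map_apply, piLoc_apply,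
    Matrix.mulVecLin_apply]
  exact RingHom.map_mulVec _ _ _ _

end matloc

section main

variable {B : Type u} [CommRing B] [IsNoetherianRing B] (F : Type u) [AddCommGroup F] [Module B F]
  [Module.Finite B F]

/-- If `B^m --M--> B^n --π--> F* → 0` is a presentation of the dual of `F` and `F_q` is free, then
the cokernel of the transposed matrix is free at `q`. -/
theorem free_localized_coker_transpose (q : Ideal B) [q.IsPrime] {n m : ℕ}
    (M : Matrix (Fin n) (Fin m) B) (π : (Fin n → B) →ₗ[B] Module.Dual B F)
    (hπ : Function.Surjective π) (hex : Function.Exact M.mulVecLin π)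
    (hF : Module.Free (Localization.AtPrime q) (LocalizedModule q.primeCompl F)) :
    Module.Free (Localization.AtPrime q)
      (LocalizedModule q.primeCompl ((Fin m → B) ⧸ LinearMap.range M.transpose.mulVecLin)) := by
  set S := q.primeCompl with hS
  set Mq := M.map (algebraMap B (Localization S)) with hMq
  -- the localized presentation
  have hexq : Function.Exact
      (IsLocalizedModule.mapExtendScalars S (piLoc S m) (piLoc S n) (Localization S) M.mulVecLin)
      (IsLocalizedModule.mapExtendScalars S (piLoc S n) (dualLoc F S) (Localization S) π) := by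
    have := IsLocalizedModule.map_exact S (piLoc S m) (piLoc S n) (dualLoc F S) M.mulVecLin π hex
    intro y
    simpa using this y
  have hπq : Function.Surjective
      (IsLocalizedModule.mapExtendScalars S (piLoc S n) (dualLoc F S) (Localization S) π) := by
    have := IsLocalizedModule.map_surjective S (piLoc S n) (dualLoc F S) π hπ
    intro y
    obtain ⟨x, hx⟩ := this y
    exact ⟨x, by simpa using hx⟩
  obtain ⟨v', hv'⟩ := exists_regular_of_exact _ _ hπq hexq
  rw [mapExtendScalars_mulVecLin] at hv'
  -- matrices
  have hN : Mq * LinearMap.toMatrix' v' * Mq = Mq := by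
    apply Matrix.toLin'.injective
    rw [Matrix.toLin'_mul, Matrix.toLin'_mul, Matrix.toLin'_toMatrix', Matrix.toLin'_apply',
      LinearMap.comp_assoc]
    exact hv'
  have hNT : Mq.transpose * (LinearMap.toMatrix' v').transpose * Mq.transpose = Mq.transpose := by
    rw [← Matrix.transpose_mul, ← Matrix.transpose_mul, ← Matrix.mul_assoc, hN]
  have hreg : Mq.transpose.mulVecLin ∘ₗ (LinearMap.toMatrix' v').transpose.mulVecLin ∘ₗ
      Mq.transpose.mulVecLin = Mq.transpose.mulVecLin := by
    rw [← Matrix.mulVecLin_mul, ← Matrix.mulVecLin_mul, ← Matrix.mul_assoc, hNT]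
  have hproj := projective_coker_of_regular _ _ hreg
  -- identify with the localization of the cokernel
  have hrange : (LinearMap.range M.transpose.mulVecLin).localized' (Localization S) S (piLoc S m) =
      LinearMap.range Mq.transpose.mulVecLin := by
    rw [LinearMap.localized'_range_eq_range_localizedMap (Localization S) S (piLoc S n)
      (piLoc S m)]
    have := mapExtendScalars_mulVecLin S M.transpose
    rw [Matrix.transpose_map] at this
    rw [← this]
    rfl
  have hfree : Module.Free (Localization S) ((Fin m → Localization S) ⧸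
      (LinearMap.range M.transpose.mulVecLin).localized' (Localization S) S (piLoc S m)) := by
    rw [hrange]
    exact Module.free_of_flat_of_isLocalRing
  exact (Module.mem_freeLocus_of_isLocalization (⟨q, inferInstance⟩ : PrimeSpectrum B)
    (Localization S) _ ((LinearMap.range M.transpose.mulVecLin).toLocalizedQuotient'
      (Localization S) S (piLoc S m))).mpr hfree

end main

end Groth.Agent.Lib.Helper28
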