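import Mathlib

/-!
# Boxes in wide fibre powers are affine
-/

set_option autoImplicit false
universe u

open CategoryTheory Limits AlgebraicGeometry

namespace Groth.Agent.Lib.Helper28.WideAff

variable {X S : Scheme.{u}} (f : X ⟶ S) {J : Type} [Finite J]

/-- The box `U ×_{S₀} ⋯ ×_{S₀} U` inside the wide fibre power. -/
noncomputable def box (U : X.Opens) (S₀ : S.Opens) :
    Scheme.Opens (widePullback S (fun _ : J => X) (fun _ : J => f)) :=
  (⨅ i : J, (WidePullback.π (fun _ : J => f) i) ⁻¹ᵁ U) ⊓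
    (WidePullback.base (fun _ : J => f)) ⁻¹ᵁ S₀

lemma mem_box {U : X.Opens} {S₀ : S.Opens}
    (p : (widePullback S (fun _ : J => X) (fun _ : J => f) : Scheme.{u})) :
    p ∈ box f (J := J) U S₀ ↔ (∀ i : J, WidePullback.π (fun _ : J => f) i p ∈ U) ∧
      WidePullback.base (fun _ : J => f) p ∈ S₀ := by
  unfold box
  rw [TopologicalSpace.Opens.mem_inf]
  have h1 : p ∈ (⨅ i : J, (WidePullback.π (fun _ : J => f) i) ⁻¹ᵁ U) ↔
      ∀ i : J, WidePullback.π (fun _ : J => f) i p ∈ U := by
    rw [← SetLike.mem_coe, TopologicalSpace.Opens.coe_iInf, Set.mem_iInter]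
    rfl
  rw [h1]
  rfl

/-- **Boxes of affine opens over an affine open are affine.** -/
theorem isAffineOpen_box (U : X.Opens) (hU : IsAffineOpen U) (S₀ : S.Opens)
    (hS₀ : IsAffineOpen S₀) (hUS : U ≤ f ⁻¹ᵁ S₀) : IsAffineOpen (box f (J := J) U S₀) := by
  haveI : IsAffine U.toScheme := hU
  haveI : IsAffine S₀.toScheme := hS₀
  -- the restricted morphism
  have hr : Set.range (U.ι ≫ f) ⊆ Set.range S₀.ι := by
    rintro _ ⟨y, rfl⟩
    rw [Scheme.Opens.range_ι]
    exact hUS y.2
  let f' : U.toScheme ⟶ S₀.toScheme := IsOpenImmersion.lift S₀.ι (U.ι ≫ f) hr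
  have hf' : f' ≫ S₀.ι = U.ι ≫ f := IsOpenImmersion.lift_fac _ _ _
  let Q : Scheme.{u} := widePullback S₀.toScheme (fun _ : J => U.toScheme) (fun _ => f')
  haveI : ∀ i, IsAffine ((WidePullbackShape.wideCospan S₀.toScheme (fun _ : J => U.toScheme)
      (fun _ => f')).obj i) := by
    rintro (_ | j)
    · exact inferInstanceAs (IsAffine S₀.toScheme)
    · exact inferInstanceAs (IsAffine U.toScheme)
  haveI : IsAffine Q := Scheme.isAffine_of_isLimit _ (limit.isLimit
      (WidePullbackShape.wideCospan S₀.toScheme (fun _ : J => U.toScheme) (fun _ => f')))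
  let W := box f (J := J) U S₀
  -- the map `Q ⟶ P`
  let j : Q ⟶ widePullback S (fun _ : J => X) (fun _ => f) :=
    WidePullback.lift (WidePullback.base (fun _ : J => f') ≫ S₀.ι)
      (fun i => WidePullback.π (fun _ : J => f') i ≫ U.ι)
      (fun i => by rw [Category.assoc, ← hf', ← Category.assoc, WidePullback.π_arrow])
  have hjπ : ∀ i, j ≫ WidePullback.π (fun _ : J => f) i =
      WidePullback.π (fun _ : J => f') i ≫ U.ι := fun i => WidePullback.lift_π _ _ _ _ i
  have hjb : j ≫ WidePullback.base (fun _ : J => f) =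
      WidePullback.base (fun _ : J => f') ≫ S₀.ι := WidePullback.lift_base _ _ _ _
  have hjW : Set.range j ⊆ Set.range W.ι := by
    rintro _ ⟨q, rfl⟩
    rw [Scheme.Opens.range_ι]
    change j q ∈ W
    rw [mem_box]
    constructor
    · intro i
      rw [← Scheme.Hom.comp_apply, hjπ, Scheme.Hom.comp_apply]
      exact (WidePullback.π (fun _ : J => f') i q).2
    · rw [← Scheme.Hom.comp_apply, hjb, Scheme.Hom.comp_apply]
      exact (WidePullback.base (fun _ : J => f') q).2
  let j' : Q ⟶ W.toScheme := IsOpenImmersion.lift W.ι j hjW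
  have hj' : j' ≫ W.ι = j := IsOpenImmersion.lift_fac _ _ _
  -- the inverse
  have hrα : ∀ i, Set.range (W.ι ≫ WidePullback.π (fun _ : J => f) i) ⊆ Set.range U.ι := by
    rintro i _ ⟨w, rfl⟩
    rw [Scheme.Opens.range_ι]
    exact ((mem_box f w.1).mp w.2).1 i
  have hrβ : Set.range (W.ι ≫ WidePullback.base (fun _ : J => f)) ⊆ Set.range S₀.ι := by
    rintro _ ⟨w, rfl⟩
    rw [Scheme.Opens.range_ι]
    exact ((mem_box f w.1).mp w.2).2
  let α : ∀ i : J, W.toScheme ⟶ U.toScheme := fun i =>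
    IsOpenImmersion.lift U.ι (W.ι ≫ WidePullback.π (fun _ : J => f) i) (hrα i)
  let β : W.toScheme ⟶ S₀.toScheme :=
    IsOpenImmersion.lift S₀.ι (W.ι ≫ WidePullback.base (fun _ : J => f)) hrβ
  have hα : ∀ i, α i ≫ U.ι = W.ι ≫ WidePullback.π (fun _ : J => f) i :=
    fun i => IsOpenImmersion.lift_fac _ _ _
  have hβ : β ≫ S₀.ι = W.ι ≫ WidePullback.base (fun _ : J => f) :=
    IsOpenImmersion.lift_fac _ _ _
  let k : W.toScheme ⟶ Q := WidePullback.lift β α (fun i => by
    rw [← cancel_mono S₀.ι, Category.assoc, hf', reassoc_of% (hα i), hβ, WidePullback.π_arrow])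
  have hkπ : ∀ i, k ≫ WidePullback.π (fun _ : J => f') i = α i :=
    fun i => WidePullback.lift_π _ _ _ _ i
  have hkb : k ≫ WidePullback.base (fun _ : J => f') = β := WidePullback.lift_base _ _ _ _
  have h1 : k ≫ j' = 𝟙 _ := by
    rw [← cancel_mono W.ι, Category.assoc, hj', Category.id_comp]
    apply WidePullback.hom_ext
    · intro i
      rw [Category.assoc, hjπ, reassoc_of% (hkπ i), hα]
    · rw [Category.assoc, hjb, reassoc_of% hkb, hβ]
  have h2 : j' ≫ k = 𝟙 _ := by
    apply WidePullback.hom_ext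
    · intro i
      rw [Category.assoc, hkπ, Category.id_comp, ← cancel_mono U.ι, Category.assoc, hα,
        reassoc_of% hj', hjπ]
    · rw [Category.assoc, hkb, Category.id_comp, ← cancel_mono S₀.ι, Category.assoc, hβ,
        reassoc_of% hj', hjb]
  haveI : IsIso k := ⟨j', h1, h2⟩
  have : IsAffine W.toScheme := .of_isIso k
  exact this

end Groth.Agent.Lib.Helper28.WideAff
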